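import Cfsg.Agent.H14.X91

/-! Large extraspecial subgroups of order `2⁹`: enumeration of matrix groups. -/

set_option autoImplicit false
set_option linter.unusedSectionVars false
set_option maxRecDepth 100000

open Subgroup
namespace H4.X9
open H0 H19 H10.Y H14.X9
open H10.R (N8 n8 ext8 n8v BS st)

/-- the matrix of a map -/
def pk (c : ℕ → ℕ) : ℕ := c 1 + 2 ^ 8 * c 2 + 2 ^ 16 * c 4 + 2 ^ 24 * c 8 + 2 ^ 32 * c 16 + 2 ^ 40 * c 32 + 2 ^ 48 * c 64 + 2 ^ 56 * c 128
theorem ap_pk {c : ℕ → ℕ} (l : ∀ v < 256, c v < 256) (ad : ∀ u v, c (u ^^^ v) = c u ^^^ c v) {v : ℕ} (hv : v < 256) :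
    ap (pk c) v = c v := by
  refine congrArg Fin.val (ext8 (f := A (pk c)) (f' := AddMonoidHom.mk' (fun v : N8 => (⟨c v.1, l _ v.2⟩ : N8))
    fun _ _ => Fin.ext (ad _ _)) (fun v hv => Fin.ext ?_) ⟨v, hv⟩)
  have := l 1; have := l 2; have := l 4; have := l 8; have := l 16; have := l 32; have := l 64; have := l 128
  have k : ∀ n, n &&& 255 = n % 256 := fun n => Nat.and_two_pow_sub_one_eq_mod n 8
  simp only [BS, List.mem_cons, List.not_mem_nil, or_false] at hv
  rcases hv with rfl | rfl | rfl | rfl | rfl | rfl | rfl | rfl <;>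
    rw [H14.X9.A1, ap_eq] <;> refine (show _ = c (n8 _).1 from ?_) <;> rw [n81 (by decide)] <;>
    simp only [pk, cl, k, Nat.shiftRight_eq_div_pow] <;> norm_num <;> omega

/-- a list of matrices with words in generators -/
theorem clo {S : List (ℕ × ℕ)} {L : List ℕ} (h1 : (S.all fun s => s.1 == pk (ev L (dw 16 s.2))) = true)
    (h2 : ((ID :: L).all fun g => S.all fun s => (S.map (·.1)).elem (pk fun v => ap g (ap s.1 v))) = true) {a c : ℕ}
    (ha : a ∈ S.map (·.1)) (hc : c ∈ S.map (·.1)) : ∃ d ∈ S.map (·.1), ∀ v < 256, ap a (ap c v) = ap d v := by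
  obtain ⟨s, hs, rfl⟩ := List.mem_map.1 ha
  have : ∀ W c, c ∈ S.map (·.1) → ∃ d ∈ S.map (·.1), ∀ v < 256, ev L W (ap c v) = ap d v := fun W => by
    induction W with
    | nil => exact fun c hc => ⟨c, hc, fun _ _ => rfl⟩
    | cons k W ih =>
      intro c hc
      obtain ⟨t, ht, rfl⟩ := List.mem_map.1 hc
      obtain ⟨d, a, e⟩ := ih _ (List.mem_of_elem_eq_true (List.all_eq_true.1 (List.all_eq_true.1 h2 (L.getD k ID)
        (List.mem_cons.2 (getD_cases L k))) t ht))
      exact ⟨d, a, fun v hv => by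
        rw [← e v hv, ap_pk (fun _ _ => ap_lt _ _) (fun _ _ => by rw [ap_xor, ap_xor]) hv, ev_cons]⟩
  obtain ⟨d, a, e⟩ := this (dw 16 s.2) c hc
  exact ⟨d, a, fun v hv => by
    rw [← e v hv, beq_iff_eq.1 (List.all_eq_true.1 h1 s hs), ap_pk (fun _ => ev_lt) (ev_xor _ _) (ap_lt _ _)]⟩

/-- all words factor through a transversal -/
theorem enum {S T : List (ℕ × ℕ)} {L K : List ℕ} (i : H14.X9.Inv K = true) (h1 : (S.all fun s => s.1 == pk (ev L (dw 16 s.2))) = true)
    (h2 : ((ID :: L).all fun g => S.all fun s => (S.map (·.1)).elem (pk fun v => ap g (ap s.1 v))) = true)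
    (h3 : ((ID :: K).all fun g => T.all fun p => st (ap g p.1) fun x => T.any fun p' => p'.1 == x &&
      (S.map (·.1)).elem (pk fun v => ev K (dw 16 p'.2).reverse (ap g (ev K (dw 16 p.2) v)))) = true)
    (h4 : ID ∈ S.map (·.1)) (h5 : (1, 0) ∈ T) (W : List ℕ) :
    ∃ p ∈ T, ∃ s ∈ S.map (·.1), ∀ v < 256, ev K W v = ev K (dw 16 p.2) (ap s v) := by
  induction W using List.reverseRecOn with
  | nil => exact ⟨_, h5, _, h4, fun v hv => (ap_ID hv).symm⟩
  | append_singleton W k ih =>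
    obtain ⟨p, hp, s, hs, e⟩ := ih
    have := List.all_eq_true.1 (List.all_eq_true.1 h3 (K.getD k ID) (List.mem_cons.2 (getD_cases K k))) p hp
    simp only [H10.R.st_eq, List.any_eq_true, Bool.and_eq_true] at this
    obtain ⟨p', hp', -, m⟩ := this
    obtain ⟨d, a, e'⟩ := clo h1 h2 (List.mem_of_elem_eq_true m) hs
    exact ⟨p', hp', d, a, fun v hv => by
      rw [← e' v hv, ap_pk (fun _ _ => ev_lt (ap_lt _ _)) (fun _ _ => by rw [ev_xor, ap_xor, ev_xor]) (ap_lt _ _),
        ev_rev' i _ (ap_lt _ _), ← e v hv, ev_append]; rfl⟩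

end H4.X9
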