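import Cfsg.Agent.H4.MF0
import Cfsg.Agent.H28.GC1

/-! Minimal `2`-fusion systems: kit for root coordinates. -/

set_option autoImplicit false
set_option linter.unusedVariables false
set_option linter.unusedSectionVars false

namespace H4.MF
open Subgroup H25 H25.FS

universe u
variable {K : Type} [Field K] [CharP K 2] {Γ : Type u} [Group Γ] {ε : Bool} {ρ σ τ : K ≃+* K}
  {ev : Uc K →* Γ} {x y z g t w : Γ} {T Y P : Subgroup Γ} {u v : Uc K} {l m l' m' : K}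

theorem aa (a : K) : a + a = 0 := CharTwo.add_self_eq_zero a
theorem conj_sq (h : y * y = 1) : (MulAut.conj g).toMonoidHom y * (MulAut.conj g).toMonoidHom y = 1 := by
  rw [← map_mul, h, map_one]
/-- counting by a transversal -/
theorem card_of_tr {ι : Type} {H L : Subgroup Γ} (l : H ≤ L) (v : ι → Γ) (hv : ∀ i, v i ∈ L)
    (h : ∀ i j, (v i)⁻¹ * v j ∈ H → i = j) (k : ∀ a ∈ L, ∃ i, (v i)⁻¹ * a ∈ H) :
    Nat.card L = Nat.card ι * Nat.card H := by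
  have a := H28.GC.card_idx H L
  rw [inf_eq_left.2 l] at a
  rw [← a, Nat.card_congr (Equiv.ofBijective (fun i => (QuotientGroup.mk ⟨v i, hv i⟩ : L ⧸ H.subgroupOf L))
    ⟨fun i j e => h i j (QuotientGroup.eq (s := H.subgroupOf L).1 e), fun b => by
      obtain ⟨⟨a, ha⟩, rfl⟩ := QuotientGroup.mk_surjective b
      exact (k a ha).imp fun i e => QuotientGroup.eq.2 e⟩)]
  rfl
theorem Uc.pow4 (u : Uc K) : u * u * (u * u) = 1 := by
  ext <;> simp only [Uc.mul_a, Uc.mul_s, Uc.mul_c, Uc.mul_d, aa, Uc.one_a, Uc.one_s, Uc.one_c, Uc.one_d,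
    zero_mul, add_zero, zero_add]
theorem Uc.pg : IsPGroup 2 (Uc K) := fun u => ⟨2, by
  rw [show 2 ^ 2 = 2 + 2 by norm_num, pow_add, pow_two]; exact u.pow4⟩
theorem Uc.sq (u : Uc K) : u * u = ⟨0, 0, u.s * u.a, u.s * u.a ^ 2⟩ := by ext <;> simp [aa]
theorem Uc.conj (u v : Uc K) : u * v * u⁻¹ =
    ⟨v.a, v.s, v.c + u.s * v.a + v.s * u.a, v.d + u.s * v.a ^ 2 + v.s * u.a ^ 2⟩ := by
  ext <;> simp only [Uc.mul_a, Uc.mul_s, Uc.mul_c, Uc.mul_d, Uc.inv_a, Uc.inv_s, Uc.inv_c, Uc.inv_d]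
  · linear_combination u.a * Uc.two K
  · linear_combination u.s * Uc.two K
  · linear_combination (u.c + u.s * u.a) * Uc.two K
  · linear_combination (u.d + u.s * u.a ^ 2) * Uc.two K
theorem Uc.comm (u v : Uc K) : u * v * u⁻¹ * v⁻¹ =
    ⟨0, 0, u.s * v.a + v.s * u.a, u.s * v.a ^ 2 + v.s * u.a ^ 2⟩ := by
  rw [Uc.conj]
  ext <;> simp only [Uc.mul_a, Uc.mul_s, Uc.mul_c, Uc.mul_d, Uc.inv_a, Uc.inv_s, Uc.inv_c, Uc.inv_d, aa]
  · linear_combination (v.c + v.s * v.a) * Uc.two K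
  · linear_combination (v.d + v.s * v.a ^ 2) * Uc.two K
theorem Uc.dec (u : Uc K) : u = ⟨u.a, 0, u.c, u.d⟩ * ⟨0, u.s, 0, 0⟩ := by ext <;> simp

@[simp] theorem sw_a (u : Uc K) : (sw ε ρ u).a = ρ u.s := by cases ε <;> rfl
theorem sw_s (u : Uc K) : (sw ε ρ u).s = if ε then ρ u.a ^ 2 else ρ u.a := by cases ε <;> rfl
theorem sw_s0 : (sw ε ρ u).s = 0 ↔ u.a = 0 := by cases ε <;> simp [sw]
theorem sw_s_eq (h : u.a = v.a) : (sw ε ρ u).s = (sw ε ρ v).s := by rw [sw_s, sw_s, h]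
@[simp] theorem dg_a (u : Uc K) : (dg σ l m u).a = l * σ u.a := rfl
@[simp] theorem dg_s (u : Uc K) : (dg σ l m u).s = m * σ u.s := rfl
@[simp] theorem dg_c (u : Uc K) : (dg σ l m u).c = l * m * σ u.c := rfl
@[simp] theorem dg_d (u : Uc K) : (dg σ l m u).d = l ^ 2 * m * σ u.d := rfl
theorem dg_dg (u : Uc K) : dg σ l m (dg τ l' m' u) = dg (τ.trans σ) (l * σ l') (m * σ m') u := by
  ext <;> simp <;> ring
theorem dg_one (u : Uc K) : dg (.refl K) 1 1 u = u := by ext <;> simp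
theorem dg_mul (u v : Uc K) : dg σ l m (u * v) = dg σ l m u * dg σ l m v := by ext <;> simp <;> ring

theorem mA_le (ev : Uc K →* Γ) (U : Subgroup (Uc K)) : U.map ev ≤ ev.range := map_le_range _ _
theorem C_le_A (ev : Uc K →* Γ) : (UC K).map ev ≤ (UA K).map ev := map_mono inf_le_left
theorem C_le_B (ev : Uc K →* Γ) : (UC K).map ev ≤ (UB K).map ev := map_mono inf_le_right
theorem C_le_E (ev : Uc K →* Γ) : (UC K).map ev ≤ (UE ε ρ).map ev :=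
  map_mono fun u h => by rw [mem_UE, h.1, sw_s0.2 h.2]
theorem pgB (ev : Uc K →* Γ) : IsPGroup 2 ev.range := Uc.pg.of_surjective _ ev.rangeRestrict_surjective
theorem AB_sup (ev : Uc K →* Γ) : (UA K).map ev ⊔ (UB K).map ev = ev.range :=
  le_antisymm (sup_le (mA_le _ _) (mA_le _ _)) (by
    rintro _ ⟨u, rfl⟩
    rw [u.dec, map_mul]
    exact mul_mem_sup (mem_map_of_mem _ rfl) (mem_map_of_mem _ rfl))
theorem eaA (ev : Uc K →* Γ) : Cfsg.IsElementaryAbelian 2 ((UA K).map ev) := H28.GC.ea_of_sq (by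
  rintro _ ⟨u, h, rfl⟩
  rw [← map_mul, Uc.sq, show u.s = 0 from h, zero_mul, zero_mul]; exact ev.map_one)
theorem eaB (ev : Uc K →* Γ) : Cfsg.IsElementaryAbelian 2 ((UB K).map ev) := H28.GC.ea_of_sq (by
  rintro _ ⟨u, h, rfl⟩
  rw [← map_mul, Uc.sq, show u.a = 0 from h, zero_pow two_ne_zero, mul_zero]; exact ev.map_one)
/-- subgroups of `B` containing `C` are normal in `B` -/
theorem B_nz_of (h₁ : (UC K).map ev ≤ P) (h₂ : P ≤ ev.range) : ev.range ≤ nz P := le_nz_iff.2 (by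
  rintro _ ⟨u, rfl⟩ p hp
  obtain ⟨v, rfl⟩ := h₂ hp
  have : ev u * ev v * (ev u)⁻¹ = ev (u * v * u⁻¹ * v⁻¹) * ev v := by simp
  rw [this, Uc.comm]
  exact mul_mem (h₁ (mem_map_of_mem _ ⟨rfl, rfl⟩)) hp)
theorem B_nzA (ev : Uc K →* Γ) : ev.range ≤ nz ((UA K).map ev) := B_nz_of (C_le_A ev) (mA_le _ _)
theorem B_nzB (ev : Uc K →* Γ) : ev.range ≤ nz ((UB K).map ev) := B_nz_of (C_le_B ev) (mA_le _ _)
theorem B_nzE (ev : Uc K →* Γ) : ev.range ≤ nz ((UE ε ρ).map ev) := B_nz_of (C_le_E ev) (mA_le _ _)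
theorem B_czC (ev : Uc K →* Γ) : ev.range ≤ cz ((UC K).map ev) := by
  rintro _ ⟨u, rfl⟩
  refine mem_cz.2 ?_
  rintro _ ⟨v, h, rfl⟩
  rw [← map_inv, ← map_mul, ← map_mul, Uc.conj, show v.s = 0 from h.1, show v.a = 0 from h.2]
  congr 1; ext <;> simp [show v.s = 0 from h.1, show v.a = 0 from h.2]
theorem ev_conj (ev : Uc K →* Γ) (u v : Uc K) : ev u * ev v * (ev u)⁻¹ =
    ev ⟨v.a, v.s, v.c + u.s * v.a + v.s * u.a, v.d + u.s * v.a ^ 2 + v.s * u.a ^ 2⟩ := by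
  rw [← Uc.conj]; simp

namespace Dg
theorem l0 (h : Dg ev y σ l m) : l ≠ 0 := h.1
theorem m0 (h : Dg ev y σ l m) : m ≠ 0 := h.2.1
theorem act (h : Dg ev y σ l m) (u : Uc K) : y * ev u * y⁻¹ = ev (dg σ l m u) := h.2.2 u
theorem one (ev : Uc K →* Γ) : Dg ev 1 (.refl K) 1 1 := ⟨one_ne_zero, one_ne_zero, fun u => by simp [dg_one]⟩
theorem mul (h : Dg ev y σ l m) (k : Dg ev z τ l' m') : Dg ev (y * z) (τ.trans σ) (l * σ l') (m * σ m') :=
  ⟨mul_ne_zero h.l0 (by simpa using k.l0), mul_ne_zero h.m0 (by simpa using k.m0), fun u => by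
    rw [← dg_dg, ← h.act, ← k.act]; group⟩
theorem inv (h : Dg ev y σ l m) : Dg ev y⁻¹ σ.symm (σ.symm l)⁻¹ (σ.symm m)⁻¹ := by
  have a : σ.symm l ≠ 0 := by simpa using h.l0
  have b : σ.symm m ≠ 0 := by simpa using h.m0
  refine ⟨inv_ne_zero a, inv_ne_zero b, fun u => ?_⟩
  have := h.act (dg σ.symm (σ.symm l)⁻¹ (σ.symm m)⁻¹ u)
  rw [dg_dg] at this
  simp only [map_inv₀, RingEquiv.apply_symm_apply, mul_inv_cancel₀ h.l0, mul_inv_cancel₀ h.m0,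
    RingEquiv.symm_trans_self, dg_one] at this
  rw [← this]; group
theorem cen (h : Dg ev y (.refl K) 1 1) : y ∈ cz ev.range := mem_cz.2 (by
  rintro _ ⟨u, rfl⟩; rw [h.act, dg_one])
theorem congr (h : Dg ev y σ l m) (e : Agree ev.range g y) : Dg ev g σ l m :=
  ⟨h.l0, h.m0, fun u => (e _ ⟨u, rfl⟩).trans (h.act u)⟩
theorem agree (h : Dg ev y σ l m) (k : Dg ev g σ l m) : Agree ev.range g y := by
  rintro _ ⟨u, rfl⟩; rw [h.act, k.act]
theorem nz_of (h : Dg ev y σ l m) {U : Subgroup (Uc K)}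
    (k : ∀ (σ : K ≃+* K) l m, ∀ u ∈ U, dg σ l m u ∈ U) : y ∈ nz (U.map ev) := by
  refine mem_nz.2 (le_antisymm (cj_le.2 ?_) (le_cj.2 ?_)) <;> rintro _ ⟨u, hu, rfl⟩
  · rw [h.act]; exact mem_map_of_mem _ (k _ _ _ u hu)
  · have := h.inv.act u
    rw [inv_inv] at this
    rw [this]; exact mem_map_of_mem _ (k _ _ _ u hu)
theorem nzA (h : Dg ev y σ l m) : y ∈ nz ((UA K).map ev) :=
  h.nz_of fun σ l m u (hu : u.s = 0) => by simp [mem_UA, hu]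
theorem nzB (h : Dg ev y σ l m) : y ∈ nz ((UB K).map ev) :=
  h.nz_of fun σ l m u (hu : u.a = 0) => by simp [mem_UB, hu]
theorem nzC (h : Dg ev y σ l m) : y ∈ nz ((UC K).map ev) :=
  h.nz_of fun σ l m u hu => by simp [mem_UC, show u.a = 0 from hu.2, show u.s = 0 from hu.1]
theorem nzR (h : Dg ev y σ l m) : y ∈ nz ev.range := AB_sup ev ▸ mem_nz_sup h.nzA h.nzB
end Dg

theorem Wa.nzA (h : Wa ev w) : w ∈ nz ((UA K).map ev) := by
  refine mem_nz.2 (le_antisymm (cj_le.2 ?_) (le_cj.2 ?_)) <;> rintro _ ⟨⟨a, s, c, d⟩, (hu : s = 0), rfl⟩ <;>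
    subst hu
  · rw [h]; exact mem_map_of_mem _ rfl
  · rw [← h c a d]; simpa [mul_assoc] using mem_map_of_mem ev (K := UA K) (x := ⟨c, 0, a, d⟩) rfl

namespace Cb
variable (h : Cb ε ρ ev x)
include h

theorem eq_iff : ev u = ev v ↔ u.a = v.a ∧ u.s = v.s ∧ u.c = v.c ∧ (ε = true → u.d = v.d) := by
  rw [← mul_inv_eq_one, ← map_inv, ← map_mul, h.ker]
  simp only [Uc.mul_a, Uc.mul_s, Uc.mul_c, Uc.mul_d, Uc.inv_a, Uc.inv_s, Uc.inv_c, Uc.inv_d,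
    CharTwo.add_eq_zero]
  refine and_congr_right fun a => and_congr_right fun s => ?_
  rw [s]
  exact and_congr ⟨fun e => by linear_combination e - v.c * Uc.two K, fun e => by
    linear_combination e + v.c * Uc.two K⟩ (imp_congr_right fun _ => ⟨fun e => by
    linear_combination e - v.d * Uc.two K, fun e => by linear_combination e + v.d * Uc.two K⟩)
theorem eq_a (e : ev u = ev v) : u.a = v.a := (h.eq_iff.1 e).1
theorem eq_s (e : ev u = ev v) : u.s = v.s := (h.eq_iff.1 e).2.1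
theorem eq_c (e : ev u = ev v) : u.c = v.c := (h.eq_iff.1 e).2.2.1
theorem memA : ev u ∈ (UA K).map ev ↔ u.s = 0 :=
  ⟨fun ⟨v, k, e⟩ => (h.eq_s e).symm.trans k, fun k => mem_map_of_mem _ k⟩
theorem memB : ev u ∈ (UB K).map ev ↔ u.a = 0 :=
  ⟨fun ⟨v, k, e⟩ => (h.eq_a e).symm.trans k, fun k => mem_map_of_mem _ k⟩
theorem memC : ev u ∈ (UC K).map ev ↔ u.s = 0 ∧ u.a = 0 :=
  ⟨fun ⟨v, k, e⟩ => ⟨(h.eq_s e).symm.trans k.1, (h.eq_a e).symm.trans k.2⟩, fun k => mem_map_of_mem _ k⟩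
theorem memE : ev u ∈ (UE ε ρ).map ev ↔ u ∈ UE ε ρ :=
  ⟨fun ⟨v, k, e⟩ => (h.eq_s e).symm.trans ((mem_UE.1 k).trans (sw_s_eq (h.eq_a e))), fun k => mem_map_of_mem _ k⟩
theorem AB_inf : (UA K).map ev ⊓ (UB K).map ev = (UC K).map ev :=
  le_antisymm (by rintro _ ⟨⟨u, k, rfl⟩, k'⟩; exact h.memC.2 ⟨k, h.memB.1 k'⟩) (le_inf (C_le_A _) (C_le_B _))
theorem sq_iff : ev u * ev u = 1 ↔ u.s = 0 ∨ u.a = 0 := by
  rw [← map_mul, Uc.sq, h.ker]
  exact ⟨fun k => mul_eq_zero.1 k.2.2.1, fun k => by rcases k with k | k <;> simp [k]⟩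
theorem inv_or (hb : t ∈ ev.range) (k : t * t = 1) : t ∈ (UA K).map ev ∨ t ∈ (UB K).map ev := by
  obtain ⟨u, rfl⟩ := hb
  exact (h.sq_iff.1 k).imp h.memA.2 h.memB.2
theorem comm_iff : ev u * ev v * (ev u)⁻¹ = ev v ↔
    u.s * v.a = v.s * u.a ∧ (ε = true → u.s * v.a ^ 2 = v.s * u.a ^ 2) := by
  rw [ev_conj, h.eq_iff]
  simp [add_assoc, CharTwo.add_eq_zero]
theorem xinv : x⁻¹ = x := inv_eq_of_mul_eq_one_right h.xx
theorem sw' (u : Uc K) : x * ev u * x = ev (H4.MF.sw ε ρ u) := by rw [← h.sw, h.xinv]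
theorem x_mul (u : Uc K) : x * ev u = ev (H4.MF.sw ε ρ u) * x := by rw [← h.sw]; simp
theorem sws (u : Uc K) : ev (H4.MF.sw ε ρ (H4.MF.sw ε ρ u)) = ev u := by
  rw [← h.sw', ← h.sw', ← mul_assoc, ← mul_assoc, h.xx, one_mul, mul_assoc, h.xx, mul_one]
theorem ρs (u : Uc K) : ρ (H4.MF.sw ε ρ u).s = u.a := by simpa using h.eq_a (h.sws u)
theorem cj_cj' (P : Subgroup Γ) : cj x (cj x P) = P := by rw [cj_cj, h.xx, cj_one]
theorem cj_of {U V : Subgroup (Uc K)} (k : ∀ u ∈ U, H4.MF.sw ε ρ u ∈ V) (k' : ∀ u ∈ V, H4.MF.sw ε ρ u ∈ U) :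
    cj x (U.map ev) = V.map ev := by
  refine le_antisymm (cj_le.2 ?_) (le_cj.2 ?_) <;> rintro _ ⟨u, hu, rfl⟩
  · rw [h.sw]; exact mem_map_of_mem _ (k u hu)
  · rw [h.xinv, h.sw']; exact mem_map_of_mem _ (k' u hu)
theorem cjA : cj x ((UA K).map ev) = (UB K).map ev :=
  h.cj_of (fun u (k : u.s = 0) => by simp [mem_UB, k]) fun u k => sw_s0.2 k
theorem cjB : cj x ((UB K).map ev) = (UA K).map ev := by rw [← h.cjA, h.cj_cj']
theorem xR : x ∈ nz ev.range := mem_nz.2 (by rw [← AB_sup, cj_sup, h.cjA, h.cjB, sup_comm])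
theorem xC : x ∈ nz ((UC K).map ev) := mem_nz.2 (by rw [← h.AB_inf, cj_inf, h.cjA, h.cjB, inf_comm])
theorem sw_memE (k : u ∈ UE ε ρ) : H4.MF.sw ε ρ u ∈ UE ε ρ := by
  rw [mem_UE, h.eq_s (h.sws u)]; exact (mem_UE.1 k).symm
theorem xE : x ∈ nz ((UE ε ρ).map ev) := mem_nz.2 (h.cj_of (fun _ => h.sw_memE) fun _ => h.sw_memE)
theorem A_not_le : ¬ (UA K).map ev ≤ (UB K).map ev := fun e => by
  simpa using h.memB.1 (e (mem_map_of_mem ev (K := UA K) (x := ⟨1, 0, 0, 0⟩) rfl))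
theorem B_not_le : ¬ (UB K).map ev ≤ (UA K).map ev := fun e => by
  simpa using h.memA.1 (e (mem_map_of_mem ev (K := UB K) (x := ⟨0, 1, 0, 0⟩) rfl))
theorem A_ne : (UA K).map ev ≠ (UB K).map ev := fun e => h.A_not_le e.le
theorem x_nA : x ∉ nz ((UA K).map ev) := fun k => h.A_ne (by rw [← h.cjA, mem_nz.1 k])
theorem xB : x ∉ ev.range := fun k => h.x_nA (B_nzA ev k)
theorem not_mem (u : Uc K) : ev u * x ∉ ev.range := fun k => h.xB ((mul_mem_cancel_left (MonoidHom.mem_range.2 ⟨u, rfl⟩)).1 k)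
theorem C_ne : (UC K).map ev ≠ ⊥ := fun e => by
  exact one_ne_zero ((h.ker _).1 (mem_bot.1 (e ▸ mem_map_of_mem ev (K := UC K) (x := ⟨0, 0, 1, 0⟩)
    ⟨rfl, rfl⟩))).2.2.1
theorem out_conj (u v : Uc K) : ev u * x * ev v * (ev u * x)⁻¹ = ev (u * H4.MF.sw ε ρ v * u⁻¹) := by
  rw [map_mul, map_mul, map_inv, ← h.sw]; group
theorem out_sq (u : Uc K) : ev u * x * (ev u * x) = ev (u * H4.MF.sw ε ρ u) := by
  rw [map_mul, ← h.sw']; group
theorem out_mul (u v : Uc K) : ev u * x * (ev v * x) = ev (u * H4.MF.sw ε ρ v) := by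
  rw [map_mul, ← h.sw']; group
/-- an element of `B` centralized by an outer element -/
theorem fix_out (e : ev u * x * ev v * (ev u * x)⁻¹ = ev v) : v ∈ UE ε ρ ∧ v.a = ρ v.s := by
  rw [h.out_conj, Uc.conj] at e
  exact ⟨(h.eq_s e).symm, by simpa using (h.eq_a e).symm⟩
theorem E_a (k : u ∈ UE ε ρ) : u.a = ρ u.s := by rw [mem_UE.1 k, h.ρs]
theorem E_a0 (k : u ∈ UE ε ρ) : u.a = 0 ↔ u.s = 0 := by rw [h.E_a k]; simp
theorem E_inv (k : u ∈ UE ε ρ) (e : ev u * ev u = 1) : u ∈ UC K :=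
  (h.sq_iff.1 e).elim (fun s => ⟨s, (h.E_a0 k).2 s⟩) fun a => ⟨(h.E_a0 k).1 a, a⟩
theorem mem_R0 : t ∈ R0 ε ρ ev x ↔ ∃ u ∈ UE ε ρ, t = ev u ∨ t = ev u * x := by
  rw [R0, mem_sup_of_le_nz_left (zpowers_le.2 h.xE)]
  constructor
  · rintro ⟨_, ⟨u, hu, rfl⟩, _, ⟨n, rfl⟩, rfl⟩
    refine ⟨u, hu, ?_⟩
    have e : x ^ (2 : ℤ) = 1 := by rw [zpow_two, h.xx]
    rcases Int.even_or_odd' n with ⟨k, rfl | rfl⟩
    · left; simp [zpow_mul, e]
    · right; simp [zpow_add, zpow_mul, e]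
  · rintro ⟨u, hu, rfl | rfl⟩
    · exact ⟨_, mem_map_of_mem _ hu, 1, one_mem _, mul_one _⟩
    · exact ⟨_, mem_map_of_mem _ hu, x, mem_zpowers x, rfl⟩
theorem E_le_R0 : (UE ε ρ).map ev ≤ R0 ε ρ ev x := le_sup_left
theorem x_R0 : x ∈ R0 ε ρ ev x := mem_sup_right (mem_zpowers x)
theorem ev_R0 : ev u ∈ R0 ε ρ ev x ↔ u ∈ UE ε ρ := by
  rw [h.mem_R0]
  refine ⟨?_, fun k => ⟨u, k, .inl rfl⟩⟩
  rintro ⟨v, k, e | e⟩
  · exact h.memE.1 (e ▸ mem_map_of_mem _ k)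
  · exact absurd (e ▸ ⟨u, rfl⟩) (h.not_mem v)
theorem comm_x (u : Uc K) : u * H4.MF.sw ε ρ u⁻¹ ∈ UE ε ρ := by
  have a := h.ρs u
  have b := h.eq_s (h.sws u)
  have c : (H4.MF.sw ε ρ u⁻¹).s = (H4.MF.sw ε ρ u).s := sw_s_eq rfl
  rw [mem_UE, Uc.mul_s, c, ← b, sw_s (u * _), sw_s (H4.MF.sw ε ρ u), sw_s u]
  cases ε <;> simp [CharTwo.add_sq, add_comm]
theorem B_nzR0 : ev.range ≤ nz (R0 ε ρ ev x) := le_nz_iff.2 (by
  rintro _ ⟨u, rfl⟩ p hp
  obtain ⟨v, k, rfl | rfl⟩ := h.mem_R0.1 hp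
  · exact h.E_le_R0 (conj_mem_of_mem_nz (B_nzE ev ⟨u, rfl⟩) (mem_map_of_mem _ k))
  · have : ev u * (ev v * x) * (ev u)⁻¹ = ev u * ev v * (ev u)⁻¹ * ev (u * H4.MF.sw ε ρ u⁻¹) * x := by
      rw [map_mul, ← h.sw', map_inv]; simp [mul_assoc, h.xx]
    rw [this]
    exact mul_mem (h.E_le_R0 (mul_mem (conj_mem_of_mem_nz (B_nzE ev ⟨u, rfl⟩) (mem_map_of_mem _ k))
      (mem_map_of_mem _ (h.comm_x u)))) h.x_R0)
theorem ea_le (k : P ≤ ev.range) (e : ∀ p ∈ P, p * p = 1) : P ≤ (UA K).map ev ∨ P ≤ (UB K).map ev :=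
  H28.GC.le_of_two fun p hp => h.inv_or (k hp) (e p hp)
theorem czA : ev.range ⊓ cz ((UA K).map ev) ≤ (UA K).map ev := by
  rintro _ ⟨⟨u, rfl⟩, k⟩
  simpa [h.memA] using (h.comm_iff.1 (mem_cz.1 k _ (mem_map_of_mem ev (K := UA K) (x := ⟨1, 0, 0, 0⟩) rfl))).1
theorem czB : ev.range ⊓ cz ((UB K).map ev) ≤ (UB K).map ev := by
  rintro _ ⟨⟨u, rfl⟩, k⟩
  simpa [h.memB, eq_comm] using
    (h.comm_iff.1 (mem_cz.1 k _ (mem_map_of_mem ev (K := UB K) (x := ⟨0, 1, 0, 0⟩) rfl))).1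
theorem ZB : ev.range ⊓ cz ev.range = (UC K).map ev :=
  le_antisymm (h.AB_inf ▸ le_inf ((inf_le_inf_left _ (cz_anti (mA_le _ _))).trans h.czA)
    ((inf_le_inf_left _ (cz_anti (mA_le _ _))).trans h.czB)) (le_inf (mA_le _ _) (le_cz_comm.1 (B_czC ev)))
theorem nz_C : nz ev.range ≤ nz ((UC K).map ev) := fun g k => h.ZB ▸ mem_nz_inf k (mem_nz_cz k)
/-- the datum of a diagonal-field action is determined modulo `C` -/
theorem dg_uniq (k : Dg ev y σ l m) (k' : Dg ev z τ l' m') (hb : t ∈ ev.range) (e : Agree ev.range y (t * z)) :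
    σ = τ ∧ l = l' ∧ m = m' := by
  obtain ⟨v, rfl⟩ := hb
  have f : ∀ u, ev (dg σ l m u) = ev (v * dg τ l' m' u * v⁻¹) := fun u => by
    rw [← k.act, e _ ⟨u, rfl⟩, map_mul, map_mul, map_inv, ← k'.act]; group
  have a : ∀ a, l * σ a = l' * τ a := fun a => by simpa [Uc.conj] using h.eq_a (f ⟨a, 0, 0, 0⟩)
  have b : m = m' := by simpa [Uc.conj] using h.eq_s (f ⟨0, 1, 0, 0⟩)
  have c : l = l' := by simpa using a 1
  exact ⟨RingEquiv.ext fun i => mul_left_cancel₀ k.l0 (by rw [a, c]), c, b⟩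
theorem dg_x (k : Dg ev (x * y) σ l m) : y ∉ nz ((UA K).map ev) := fun e =>
  h.x_nA ((mul_mem_cancel_right e).1 k.nzA)

variable [Finite Γ]
theorem finK : Finite K := Finite.of_injective (fun a : K => ev ⟨a, 0, 0, 0⟩) fun a b e => h.eq_a e
theorem cardA : Nat.card ((UA K).map ev) = Nat.card K * Nat.card ((UC K).map ev) :=
  card_of_tr (C_le_A ev) (fun a : K => ev ⟨a, 0, 0, 0⟩) (fun _ => mem_map_of_mem _ rfl) (fun a b e => by
    rw [← map_inv, ← map_mul, h.memC] at e; simpa [CharTwo.add_eq_zero] using e.2) (by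
    rintro _ ⟨u, hu, rfl⟩
    exact ⟨u.a, by rw [← map_inv, ← map_mul, h.memC]; simpa [aa] using mem_UA.1 hu⟩)
theorem cardR : Nat.card ev.range = Nat.card K * Nat.card ((UA K).map ev) :=
  card_of_tr (mA_le ev _) (fun a : K => ev ⟨0, a, 0, 0⟩) (fun _ => ⟨_, rfl⟩) (fun a b e => by
    rw [← map_inv, ← map_mul, h.memA] at e; simpa [CharTwo.add_eq_zero] using e) (by
    rintro _ ⟨u, rfl⟩
    exact ⟨u.s, by rw [← map_inv, ← map_mul, h.memA]; simp [aa]⟩)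
theorem cardE : Nat.card ((UE ε ρ).map ev) = Nat.card K * Nat.card ((UC K).map ev) :=
  card_of_tr (C_le_E ev) (fun a : K => ev ⟨a, (H4.MF.sw ε ρ ⟨a, 0, 0, 0⟩).s, 0, 0⟩)
    (fun _ => mem_map_of_mem _ (sw_s_eq rfl)) (fun a b e => by
    rw [← map_inv, ← map_mul, h.memC] at e; simpa [CharTwo.add_eq_zero] using e.2) (by
    rintro _ ⟨u, hu, rfl⟩
    refine ⟨u.a, ?_⟩
    rw [← map_inv, ← map_mul, h.memC, Uc.mul_s, Uc.inv_s, mem_UE.1 hu, sw_s_eq (u := u) (v := ⟨u.a, 0, 0, 0⟩) rfl]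
    simp [aa])
theorem cardC : Nat.card ((UC K).map ev) = if ε then Nat.card K * Nat.card K else Nat.card K := by
  cases ε
  · simpa using card_of_tr (bot_le (a := (UC K).map ev)) (fun a : K => ev ⟨0, 0, a, 0⟩)
      (fun _ => mem_map_of_mem _ ⟨rfl, rfl⟩) (fun a b e => h.eq_c (inv_mul_eq_one.1 e)) (by
      rintro _ ⟨u, hu, rfl⟩
      exact ⟨u.c, inv_mul_eq_one.2 (h.eq_iff.2 ⟨(mem_UC.1 hu).2.symm, (mem_UC.1 hu).1.symm, rfl, by simp⟩)⟩)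
  · simpa [Nat.card_prod] using card_of_tr (bot_le (a := (UC K).map ev)) (fun a : K × K => ev ⟨0, 0, a.1, a.2⟩)
      (fun _ => mem_map_of_mem _ ⟨rfl, rfl⟩) (fun a b e => Prod.ext (h.eq_c (inv_mul_eq_one.1 e))
        ((h.eq_iff.1 (inv_mul_eq_one.1 e)).2.2.2 rfl)) (by
      rintro _ ⟨u, hu, rfl⟩
      exact ⟨(u.c, u.d), inv_mul_eq_one.2 (h.eq_iff.2 ⟨(mem_UC.1 hu).2.symm, (mem_UC.1 hu).1.symm, rfl, by simp⟩)⟩)
theorem cardAB : Nat.card ((UB K).map ev) = Nat.card ((UA K).map ev) := by rw [← h.cjA, card_cj]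
theorem swap (k : g ∈ nz ev.range) : g ∈ nz ((UA K).map ev) ∧ g ∈ nz ((UB K).map ev) ∨
    cj g ((UA K).map ev) = (UB K).map ev ∧ cj g ((UB K).map ev) = (UA K).map ev := by
  have f : ∀ P, P ≤ ev.range → Cfsg.IsElementaryAbelian 2 P → Nat.card P = Nat.card ((UA K).map ev) →
      cj g P = (UA K).map ev ∨ cj g P = (UB K).map ev := fun P a b c =>
    (h.ea_le ((cj_mono g a).trans (mem_nz.1 k).le) (by
      rintro _ ⟨p, hp, rfl⟩; exact conj_sq (H28.GC.sq_of_ea b hp))).imp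
      (fun e => eq_of_le_of_card_ge e (by rw [card_cj, c])) fun e =>
        eq_of_le_of_card_ge e (by rw [card_cj, c, h.cardAB])
  rcases f _ (mA_le _ _) (eaA ev) rfl with a | a <;> rcases f _ (mA_le _ _) (eaB ev) h.cardAB with b | b
  · exact absurd (cj_inj.1 (a.trans b.symm)) h.A_ne
  · exact .inl ⟨mem_nz.2 a, mem_nz.2 b⟩
  · exact .inr ⟨a, b⟩
  · exact absurd (cj_inj.1 (a.trans b.symm)) h.A_ne
end Cb

namespace Co
variable (h : Co ε ρ T ev x)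
include h
theorem ev_mem (u : Uc K) : ev u ∈ T := (h.mem _).2 ⟨u, .inl rfl⟩
theorem BT : ev.range ≤ T := by rintro _ ⟨u, rfl⟩; exact h.ev_mem u
theorem xT : x ∈ T := (h.mem _).2 ⟨1, .inr (by simp)⟩
theorem le_of (a : ev.range ≤ P) (b : x ∈ P) : T ≤ P := fun t k => by
  obtain ⟨u, rfl | rfl⟩ := (h.mem t).1 k
  exacts [a ⟨u, rfl⟩, mul_mem (a ⟨u, rfl⟩) b]
theorem eq_sup : T = ev.range ⊔ zpowers x :=
  le_antisymm (h.le_of le_sup_left (mem_sup_right (mem_zpowers x))) (sup_le h.BT (zpowers_le.2 h.xT))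
theorem out (a : t ∈ T) (b : t ∉ ev.range) : ∃ u, t = ev u * x :=
  ((h.mem t).1 a).imp fun u k => k.resolve_left fun e => b ⟨u, e.symm⟩
theorem tw : Tw T ev.range := fun a ha b hb a' b' => by
  obtain ⟨u, rfl⟩ := h.out ha a'
  obtain ⟨v, rfl⟩ := h.out hb b'
  exact ⟨_, (h.out_mul u v).symm⟩
theorem pg : IsPGroup 2 T := h.eq_sup ▸ (sup_comm _ ev.range ▸
  isPGroup_sup_of_le_nz (H28.GC.pg_z h.xx) (pgB ev) (zpowers_le.2 h.xR))
theorem nzR : T ≤ nz ev.range := h.le_of le_normalizer h.xR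
theorem nzC : T ≤ nz ((UC K).map ev) := h.nzR.trans h.nz_C
theorem nzE : T ≤ nz ((UE ε ρ).map ev) := h.le_of (B_nzE ev) h.xE
theorem nzR0 : T ≤ nz (R0 ε ρ ev x) := h.le_of h.B_nzR0 (le_normalizer h.x_R0)
theorem R0_le : R0 ε ρ ev x ≤ T := sup_le ((mA_le _ _).trans h.BT) (zpowers_le.2 h.xT)
theorem NA : T ⊓ nz ((UA K).map ev) = ev.range := le_antisymm (fun t ⟨a, b⟩ => by_contra fun c => by
  obtain ⟨u, rfl⟩ := h.out a c
  exact h.x_nA ((mul_mem_cancel_left (B_nzA ev ⟨u, rfl⟩)).1 b)) (le_inf h.BT (B_nzA ev))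
theorem CA : T ⊓ cz ((UA K).map ev) ≤ (UA K).map ev :=
  (le_inf ((inf_le_inf_left _ (cz_le_nz _)).trans h.NA.le) inf_le_right).trans h.czA
theorem CB : T ⊓ cz ev.range = (UC K).map ev := by
  rw [← h.ZB]
  exact le_antisymm (le_inf ((inf_le_inf_left _ (cz_anti (mA_le _ _))).trans (h.CA.trans (mA_le _ _)))
    inf_le_right) (inf_le_inf_right _ h.BT)

variable [Finite Γ]
theorem card : Nat.card T = 2 * Nat.card ev.range := by
  have a := H28.GC.card_idx ev.range T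
  rw [inf_eq_left.2 h.BT] at a
  rw [← a, le_antisymm (H28.GC.two_idx h.tw) (H28.GC.two_le fun e => h.xB (e h.xT))]
/-- large elementary abelian subgroups lie in `B` -/
theorem ea_le_B (a : P ≤ T) (e : ∀ p ∈ P, p * p = 1) (c : Nat.card ((UA K).map ev) ≤ Nat.card P) :
    P ≤ ev.range := fun t ht => by_contra fun n => by
  obtain ⟨u, rfl⟩ := h.out (a ht) n
  have k : ev.range ⊓ P ≤ (UC K).map ev ⊓ cz (zpowers x) := by
    rintro _ ⟨⟨v, rfl⟩, hv⟩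
    have f : ev u * x * ev v * (ev u * x)⁻¹ = ev v := by
      rw [H28.GC.comm_of_ea (H28.GC.ea_of_sq e) ht hv, mul_inv_cancel_right]
    have m : ev v ∈ (UC K).map ev := mem_map_of_mem _ (h.E_inv (h.fix_out f).1 (e _ hv))
    refine ⟨m, le_cz_comm.1 (zpowers_le.2 (mem_cz_zpowers.2 ?_)) (mem_zpowers _)⟩
    rw [← mem_cz.1 (B_czC ev (inv_mem ⟨u, rfl⟩)) _ m]
    conv_rhs => rw [← f]
    rw [mem_cz.1 (B_czC ev (inv_mem ⟨u, rfl⟩)) _ m]; group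
  have c1 := H28.GC.card_idx ev.range P
  have c2 := H28.GC.two_idx (H := P) (K := ev.range) fun a ha b hb => h.tw a (‹P ≤ T› ha) b (‹P ≤ T› hb)
  have c3 := card_le_of_le k
  have c4 := h.cardA
  have c5 : Nat.card P ≤ 2 * Nat.card ↥(ev.range ⊓ P) := c1 ▸ Nat.mul_le_mul_right _ c2
  have c6 : 0 < Nat.card ((UC K).map ev) := Nat.card_pos
  have := h.finK
  have c7 : 2 ≤ Nat.card K := Finite.one_lt_card
  rcases h.q with q | rfl
  · have := card_le_of_le (inf_le_left : (UC K).map ev ⊓ cz (zpowers x) ≤ _)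
    nlinarith
  · have : Nat.card ↥((UC K).map ev ⊓ cz (zpowers x)) < Nat.card ((UC K).map ev) := by
      refine lt_of_not_ge fun e => ?_
      have m := (eq_of_le_of_card_ge inf_le_left e).ge (mem_map_of_mem ev (K := UC K) (x := ⟨0, 0, 1, 0⟩) ⟨rfl, rfl⟩)
      have := mem_cz_zpowers.1 (le_cz_comm.1 (zpowers_le.2 m.2) (mem_zpowers x))
      rw [h.sw] at this
      simpa [H4.MF.sw] using h.eq_c this
    nlinarith
theorem ea_eq (a : P ≤ T) (e : ∀ p ∈ P, p * p = 1) (c : Nat.card ((UA K).map ev) ≤ Nat.card P) :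
    P = (UA K).map ev ∨ P = (UB K).map ev :=
  (h.ea_le (h.ea_le_B a e c) e).imp (fun k => eq_of_le_of_card_ge k c) fun k =>
    eq_of_le_of_card_ge k (h.cardAB ▸ c)
theorem cjA_eq (a : cj g ((UA K).map ev) ≤ T) :
    cj g ((UA K).map ev) = (UA K).map ev ∨ cj g ((UA K).map ev) = (UB K).map ev :=
  h.ea_eq a (by rintro _ ⟨p, hp, rfl⟩; exact conj_sq (H28.GC.sq_of_ea (eaA ev) hp)) (card_cj _ _).ge
/-- `B` is weakly closed in `T` with respect to any group -/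
theorem wc (a : cj g ev.range ≤ T) : cj g ev.range = ev.range := cj_eq_of_le (by
  rw [← AB_sup, cj_sup] at a ⊢
  rw [AB_sup]
  exact sup_le (h.ea_le_B (le_sup_left.trans a) (by
      rintro _ ⟨p, hp, rfl⟩; exact conj_sq (H28.GC.sq_of_ea (eaA ev) hp)) (card_cj _ _).ge)
    (h.ea_le_B (le_sup_right.trans a) (by
      rintro _ ⟨p, hp, rfl⟩; exact conj_sq (H28.GC.sq_of_ea (eaB ev) hp))
      (by rw [card_cj, h.cardAB])))
theorem nzT : nz T ≤ nz ev.range := fun g k => mem_nz.2 (h.wc ((cj_mono g h.BT).trans (mem_nz.1 k).le))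
end Co

namespace Cy
variable (k : Cy ev x Y) (h : Cb ε ρ ev x)
include k h
theorem nzR : Y ≤ nz ev.range := fun y hy => (k.dg y hy).elim (fun ⟨_, _, _, d⟩ => d.nzR)
  fun ⟨_, _, _, d⟩ => (mul_mem_cancel_left h.xR).1 d.nzR
theorem dg_of (hy : y ∈ Y) (a : y ∈ nz ((UA K).map ev)) : ∃ σ l m, Dg ev y σ l m :=
  (k.dg y hy).resolve_right fun ⟨_, _, _, d⟩ => h.dg_x d a
/-- an element of `Y` acting on `B` as an inner automorphism is trivial -/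
theorem eq_one (hy : y ∈ Y) (ht : t ∈ ev.range) (e : Agree ev.range y t) : y = 1 := by
  obtain ⟨σ, l, m, d⟩ := k.dg_of h hy ((e.mono (mA_le _ _)).mem_nz (B_nzA ev ht))
  obtain ⟨rfl, rfl, rfl⟩ := h.dg_uniq d (.one ev) ht (by simpa using e)
  exact k.fth y hy d.cen
theorem inf_B (hy : y ∈ Y) (ht : y ∈ ev.range) : y = 1 := k.eq_one h hy ht (.refl _ _)
theorem eq_of_agree (hy : y ∈ Y) (hz : z ∈ Y) (e : Agree ev.range y z) : y = z :=
  (inv_mul_eq_one.1 (k.fth _ (mul_mem (inv_mem hz) hy) (agree_iff.1 e))).symm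
end Cy

theorem Cy.inf_T (k : Cy ev x Y) (h : Co ε ρ T ev x) (hy : y ∈ Y) (ht : y ∈ T) : y = 1 ∨ y = x := by
  obtain ⟨u, rfl | rfl⟩ := (h.mem y).1 ht
  · exact .inl (k.inf_B h.toCb hy ⟨u, rfl⟩)
  · exact .inr (by rw [k.inf_B h.toCb ((mul_mem_cancel_right k.xY).1 hy) ⟨u, rfl⟩, one_mul])

end H4.MF
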