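/-
Groups whose Sylow 2-subgroup is that of a subgroup `X × X`, `X` like `L₄(2)`: both factors are
strongly closed.
-/
import Cfsg.Agent.H25.PF6
import Cfsg.Agent.H17.GG7
import Cfsg.Agent.H28.CY1

set_option autoImplicit false
set_option linter.unusedSectionVars false

namespace H4.AE
open Cfsg Subgroup H17.GS
open H19 hiding eq_bot_mono
open scoped commutatorElement

universe u
variable {X : Type} [Group X] [Finite X] {G : Type u} [Group G] [Finite G] {Θ : X × X →* G} {H S M W : Subgroup G}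
  {r g n m c : G} {A B A' B' T V : Subgroup X} {x y x' y' a b e : X}

theorem wcj (hS : Syl 2 S H) (h : ∀ g ∈ H, cj g W ≤ S → g ∈ N(W)) (hW : PG 2 W) (hM : M ≤ H) (h1 : W ≤ M) (hg : g ∈ H)
    (h2 : cj g W ≤ M) : ∃ c ∈ M, c * g ∈ N(W) := by
  obtain ⟨P, sP, lP⟩ := hW.exists_syl h1
  obtain ⟨c, hc, l⟩ := sP.scj_le h2 (hW.J g)
  obtain ⟨k, hk, l'⟩ := hS.scj_le (sP.le.trans hM) sP.pi
  have := h _ (mul_mem hk (mul_mem (hM hc) hg)) (by rw [← cj_cj, ← cj_cj]; exact (cj_mono k l).trans l')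
  exact ⟨c, hc, (mul_mem_cancel_left (h k hk ((cj_mono k lP).trans l'))).1 this⟩
theorem cc' (a b x : G) : a * (b * x * b⁻¹) * a⁻¹ = a * b * x * (a * b)⁻¹ := by group

/-- the product subgroups -/
def PP (Θ : X × X →* G) (A B : Subgroup X) : Subgroup G := (A.prod B).map Θ
theorem mem_PP : g ∈ PP Θ A B ↔ ∃ x ∈ A, ∃ y ∈ B, Θ (x, y) = g :=
  ⟨fun ⟨_, h, e⟩ => ⟨_, h.1, _, h.2, e⟩, fun ⟨_, h1, _, h2, e⟩ => ⟨_, ⟨h1, h2⟩, e⟩⟩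
theorem pm (h1 : x ∈ A) (h2 : y ∈ B) : Θ (x, y) ∈ PP Θ A B := mem_PP.2 ⟨x, h1, y, h2, rfl⟩
theorem tm : Θ (x, y) * Θ (x', y') = Θ (x * x', y * y') := (map_mul Θ _ _).symm
theorem ti : (Θ (x, y))⁻¹ = Θ (x⁻¹, y⁻¹) := (map_inv Θ _).symm
theorem tc : Θ (x, y) * Θ (x', y') * (Θ (x, y))⁻¹ = Θ (x * x' * x⁻¹, y * y' * y⁻¹) := by rw [ti, tm, tm]
theorem t1 : Θ (1, 1) = 1 := map_one Θ
theorem PP_mono (h1 : A ≤ A') (h2 : B ≤ B') : PP Θ A B ≤ PP Θ A' B' := map_mono (prod_mono h1 h2)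
theorem PP_N (h1 : x ∈ N(A)) (h2 : y ∈ N(B)) : Θ (x, y) ∈ N(PP Θ A B) := mem_norm_of_cj_le fun _ hx => by
  obtain ⟨_, hv, rfl⟩ := mem_cj'.1 hx
  obtain ⟨a, h3, b, hy, rfl⟩ := mem_PP.1 hv
  rw [tc]; exact pm (conj_mem_of_norm h1 h3) (conj_mem_of_norm h2 hy)
/-- interchange of the factors -/
def sw' (Θ : X × X →* G) : X × X →* G := Θ.comp (MulEquiv.prodComm : X × X ≃* X × X).toMonoidHom
theorem PP_sw : PP (sw' Θ) A B = PP Θ B A := Subgroup.ext fun _ => by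
  simp only [mem_PP]
  exact ⟨fun ⟨x, h1, y, h2, e⟩ => ⟨y, h2, x, h1, e⟩, fun ⟨x, h1, y, h2, e⟩ => ⟨y, h2, x, h1, e⟩⟩
theorem card_pr (A B : Subgroup X) : #(A.prod B) = #A * #B :=
  (Nat.card_congr (prodEquiv A B).toEquiv).trans (Nat.card_prod _ _)
theorem cnt (hn : n ∈ N(W)) (r : G) : #(W ⊓ C[n * r * n⁻¹]) = #(W ⊓ C[r]) := by
  rw [← card_cj n (W ⊓ C[r]), cj_inf, cj_of_mem_norm hn, cj_cent1]

/-- the properties of `L₄(2)` that are used -/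
structure Ax (V T : Subgroup X) : Prop where
  pT : PG 2 T
  VT : V ≤ T
  sq : ∀ x ∈ V, x * x = 1
  cV : #V = 16
  uq : ∀ A ≤ T, (∀ x ∈ A, x * x = 1) → 16 ≤ #A → A = V
  CV : ∀ x, (∀ v ∈ V, v * x = x * v) → x ∈ V
  ex : ∀ x : X, x * x = 1 → ∃ g, g * x * g⁻¹ ∈ V
  pf : commutator X = ⊤
  f1 : ∀ a ∈ T, a ∉ V → #(V ⊓ C[a]) = 4 ∧ ∀ w ∈ V, a * w = w * a → ∃ v ∈ V, w = v * a * v⁻¹ * a⁻¹
  f2 : ∀ e ∈ V, ∃ l ∈ N(V), ∃ b ∈ T, b ∉ V ∧ b * (l * e * l⁻¹) = l * e * l⁻¹ * b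

namespace Ax
variable (h : Ax V T)
include h
theorem cm (hx : x ∈ V) (hy : y ∈ V) : x * y = y * x := by
  rw [← inv_eq_of_mul_eq_one_right (h.sq _ (mul_mem hx hy)), mul_inv_rev, inv_eq_of_mul_eq_one_right (h.sq _ hx),
    inv_eq_of_mul_eq_one_right (h.sq _ hy)]
theorem le16 (l : A ≤ T) (s : ∀ x ∈ A, x * x = 1) : #A ≤ 16 := by_contra fun k => by
  have := h.uq A l s (by omega); rw [this, h.cV] at k; omega
theorem TN : T ≤ N(V) := fun g hg => mem_norm_of_cj_le (h.uq _ (cj_le_of_mem hg h.VT) (fun x hx => by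
  obtain ⟨y, hy, rfl⟩ := mem_cj'.1 hx
  rw [conj_mul, h.sq y hy]; simp) (by rw [card_cj, h.cV])).le
theorem cc (hx : x ∈ T) : (x ∈ V ∧ #(V ⊓ C[x]) = 16) ∨ (x ∉ V ∧ #(V ⊓ C[x]) = 4) := by
  by_cases k : x ∈ V
  · exact .inl ⟨k, by rw [inf_eq_left.2 fun y hy => mem_cent1.2 (h.cm hy k), h.cV]⟩
  · exact .inr ⟨k, (h.f1 x hx k).1⟩
theorem ne : ∃ x ∈ V, x ≠ 1 := by
  by_contra! k
  have := h.cV
  rw [show V = ⊥ from eq_bot_iff.2 k, card_bot] at this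
  omega
theorem Us (k : g ∈ PP Θ V V) : g * g = 1 := by
  obtain ⟨x, hx, y, hy, rfl⟩ := mem_PP.1 k
  rw [tm, h.sq _ hx, h.sq _ hy, t1]
end Ax

/-- the standing hypotheses -/
structure T5 (Θ : X × X →* G) (H : Subgroup G) (V T : Subgroup X) : Prop where
  inj : Function.Injective Θ
  syl : Syl 2 (PP Θ T T) H
  rH : ∀ x, Θ x ∈ H
  ax : Ax V T

namespace T5
variable (h : T5 Θ H V T)
include h

theorem sym : T5 (sw' Θ) H V T := ⟨h.inj.comp (MulEquiv.injective _), PP_sw (Θ := Θ) ▸ h.syl, fun _ => h.rH _, h.ax⟩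
theorem eq (e : Θ (x, y) = Θ (x', y')) : x = x' ∧ y = y' := Prod.ext_iff.1 (h.inj e)
theorem mm : Θ (x, y) ∈ PP Θ A B ↔ x ∈ A ∧ y ∈ B := mem_map_iff_mem h.inj
theorem card : #(PP Θ A B) = #A * #B := (card_map_of_injective h.inj).trans (card_pr A B)
theorem sq (e : Θ (x, y) * Θ (x, y) = 1) : x * x = 1 ∧ y * y = 1 := h.eq (tm.symm.trans (e.trans t1.symm))
theorem US : PP Θ V V ≤ PP Θ T T := PP_mono h.ax.VT h.ax.VT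
theorem UH : PP Θ V V ≤ H := h.US.trans h.syl.le
theorem fix : PP Θ A B ⊓ C[Θ (x, y)] = PP Θ (A ⊓ C[x]) (B ⊓ C[y]) := le_antisymm (fun l hl => by
  obtain ⟨a, ha, b, hb, rfl⟩ := mem_PP.1 hl.1
  have := mem_cent1.1 hl.2
  rw [tm, tm] at this
  exact pm ⟨ha, mem_cent1.2 (h.eq this).1⟩ ⟨hb, mem_cent1.2 (h.eq this).2⟩) fun l hl => by
  obtain ⟨a, ha, b, hb, rfl⟩ := mem_PP.1 hl
  exact ⟨pm ha.1 hb.1, mem_cent1.2 (by rw [tm, tm, mem_cent1.1 ha.2, mem_cent1.1 hb.2])⟩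
theorem SN : PP Θ T T ≤ H ⊓ N(PP Θ V V) := le_inf h.syl.le fun l hl => by
  obtain ⟨a, ha, b, hb, rfl⟩ := mem_PP.1 hl
  exact PP_N (h.ax.TN ha) (h.ax.TN hb)

theorem wc (g : G) (_ : g ∈ H) (k : cj g (PP Θ V V) ≤ PP Θ T T) : g ∈ N(PP Θ V V) := by
  set K := (cj g (PP Θ V V)).comap Θ
  have s : ∀ x ∈ K, x.1 * x.1 = 1 ∧ x.2 * x.2 = 1 := fun x hx => h.sq (by
    obtain ⟨y, hy, e⟩ := mem_cj'.1 (mem_comap.1 hx)
    rw [show Θ (x.1, x.2) = _ from e.symm, conj_mul, h.ax.Us hy]; simp)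
  have s1 : ∀ x ∈ K.map (MonoidHom.fst X X), x * x = 1 := by rintro _ ⟨x, hx, rfl⟩; exact (s x hx).1
  have s2 : ∀ x ∈ K.map (MonoidHom.snd X X), x * x = 1 := by rintro _ ⟨x, hx, rfl⟩; exact (s x hx).2
  have l : cj g (PP Θ V V) ≤ PP Θ (K.map (MonoidHom.fst X X)) (K.map (MonoidHom.snd X X)) := fun x hx => by
    obtain ⟨a, -, b, -, rfl⟩ := mem_PP.1 (k hx)
    exact pm (mem_map_of_mem _ (show (a, b) ∈ K from hx)) (mem_map_of_mem _ (show (a, b) ∈ K from hx))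
  have l1 : K.map (MonoidHom.fst X X) ≤ T := by rintro _ ⟨x, hx, rfl⟩; exact (h.mm.1 (k hx)).1
  have l2 : K.map (MonoidHom.snd X X) ≤ T := by rintro _ ⟨x, hx, rfl⟩; exact (h.mm.1 (k hx)).2
  have c1 := card_le_of_le l
  have c2 := h.ax.le16 l1 s1
  have c3 := h.ax.le16 l2 s2
  rw [card_cj, h.card, h.card, h.ax.cV] at c1
  rw [h.ax.uq _ l1 s1 (by nlinarith), h.ax.uq _ l2 s2 (by nlinarith)] at l
  exact mem_norm_of_cj_le l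

theorem core {w1 w2 b1 b2 : X} (hn : n ∈ H ⊓ N(PP Θ V V)) (he : e ∈ V) (hb : b ∈ T) (nb : b ∉ V) (cb : b * e = e * b)
    (h1 : w1 ∈ V) (h2 : w2 ∈ V) (hb1 : b1 ∈ T) (nb1 : b1 ∉ V) (cb1 : b1 * w1 = w1 * b1) (hb2 : b2 ∈ T) (nb2 : b2 ∉ V)
    (cb2 : b2 * w2 = w2 * b2) (k : n * Θ (e, 1) * n⁻¹ = Θ (w1, w2)) : w1 = 1 ∨ w2 = 1 := by
  have sN := h.syl.inf (h.SN.trans inf_le_right)
  obtain ⟨P, sP, lP⟩ := (h.syl.pi.of_le (inf_le_left : PP Θ T T ⊓ C[Θ (w1, w2)] ≤ _)).exists_syl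
    (inf_le_inf_right C[Θ (w1, w2)] h.SN)
  have bS : Θ (b, 1) ∈ PP Θ T T := pm hb (one_mem _)
  obtain ⟨c, hc, l⟩ := sP.scj_le (zpowers_le.2 (show n * Θ (b, 1) * n⁻¹ ∈ _ from ⟨Subgroup.mul_mem _ (mul_mem hn (h.SN bS)) (inv_mem hn),
    mem_cent1.2 (by rw [← k, conj_mul, conj_mul, tm, tm, cb])⟩)) (piG_zpowers.2 ((h.syl.pi.elt bS).e_conj n))
  obtain ⟨m, hm, l'⟩ := sN.scj_le (sP.le.trans inf_le_left) sP.pi
  obtain ⟨x, hx, y, hy, er⟩ := mem_PP.1 (l' (conj_mem_cj.2 (l (conj_mem_cj.2 (mem_zpowers _)))))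
  obtain ⟨p1, hp1, q1, hq1, e1⟩ := mem_PP.1 (l' (conj_mem_cj.2 (lP (x := Θ (b1, 1)) ⟨pm hb1 (one_mem _), mem_cent1.2 (by
    rw [tm, tm, cb1, one_mul, mul_one])⟩)))
  obtain ⟨p2, hp2, q2, hq2, e2⟩ := mem_PP.1 (l' (conj_mem_cj.2 (lP (x := Θ (1, b2)) ⟨pm (one_mem _) hb2, mem_cent1.2 (by
    rw [tm, tm, cb2, one_mul, mul_one])⟩)))
  obtain ⟨u1, hu1, u2, hu2, ew⟩ := mem_PP.1 (conj_mem_of_norm hm.2 (pm (Θ := Θ) h1 h2))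
  obtain ⟨v, hv, ev⟩ := (h.ax.f1 b hb nb).2 e he cb
  have mN := mul_mem hm.2 (mul_mem hc.1.2 hn.2)
  obtain ⟨v1, hv1, v2, hv2, ev'⟩ := mem_PP.1 (conj_mem_of_norm mN (pm (Θ := Θ) hv (one_mem _)))
  rw [cc', cc', mul_assoc m] at er
  have ew2 := h.eq (x := u1) (y := u2) (x' := v1 * x * v1⁻¹ * x⁻¹) (y' := v2 * y * v2⁻¹ * y⁻¹) (by
    rw [← tm, ← tc, ← ti, ev', er, ew, conj_inv, conj_inv, conj_mul, conj_mul, conj_mul, ← mul_inv_cancel_right (Θ (w1, w2)) c,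
      ← mem_cent1.1 hc.2, ← k, cc', cc', mul_assoc m, tc, ti, tm, ← ev]; simp)
  have c1 := cnt mN (Θ (b, 1))
  have c2 := cnt hm.2 (Θ (b1, 1) * Θ (1, b2))
  rw [← er, h.fix, h.fix, h.card, h.card, (h.ax.f1 b hb nb).1, ((h.ax.cc (one_mem _)).resolve_right fun k => k.1 (one_mem _)).2] at c1
  rw [← conj_mul, ← e1, ← e2, tm, tm, h.fix, h.fix, h.card, h.card, mul_one, one_mul, (h.ax.f1 _ hb1 nb1).1, (h.ax.f1 _ hb2 nb2).1] at c2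
  have c3 : p1 * p2 ∉ V ∧ q1 * q2 ∉ V := by
    rcases h.ax.cc (mul_mem hp1 hp2) with ⟨f, f'⟩ | ⟨f, f'⟩ <;> rcases h.ax.cc (mul_mem hq1 hq2) with ⟨g, g'⟩ | ⟨g, g'⟩ <;>
      rw [f', g'] at c2 <;> first | omega | exact ⟨f, g⟩
  have k1 : ∀ {p q}, Θ (p, q) = m * Θ (b1, 1) * m⁻¹ ∨ Θ (p, q) = m * Θ (1, b2) * m⁻¹ → (p * u1 = u1 * p ∧ q * u2 = u2 * q) ∧
      ∀ v1 ∈ V, ∀ v2 ∈ V, u1 = v1 * p * v1⁻¹ * p⁻¹ → u2 = v2 * q * v2⁻¹ * q⁻¹ → w1 = 1 ∨ w2 = 1 := fun {p q} f => ⟨h.eq (by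
      rw [← tm, ← tm, ew]
      rcases f with f | f <;> rw [f, conj_mul, conj_mul, tm, tm] <;> simp only [cb1, cb2, one_mul, mul_one]),
    fun v1 hv1 v2 hv2 f1 f2 => by
      obtain ⟨s1, -, s2, -, es⟩ := mem_PP.1 (conj_mem_of_norm (inv_mem hm.2) (pm (Θ := Θ) hv1 hv2))
      have f3 : Θ (v1, v2) = m * Θ (s1, s2) * m⁻¹ := by rw [es]; group
      rw [f1, f2, ← tm, ← tc, ← ti, f3] at ew
      refine f.symm.imp (fun f => ?_) fun f => ?_ <;> rw [f, conj_inv, conj_inv, conj_mul, conj_mul, conj_mul, tc, ti, tm] at ew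
      · simpa using (h.eq (mul_left_cancel (mul_right_cancel ew))).1.symm
      · simpa using (h.eq (mul_left_cancel (mul_right_cancel ew))).2.symm⟩
  rcases h.ax.cc hy with ⟨f, -⟩ | ⟨-, f'⟩
  · obtain ⟨p, hp, np, q, f⟩ : ∃ p ∈ T, p ∉ V ∧ ∃ q, Θ (p, q) = m * Θ (b1, 1) * m⁻¹ ∨ Θ (p, q) = m * Θ (1, b2) * m⁻¹ := by
      by_cases k : p1 ∈ V
      exacts [⟨p2, hp2, fun k' => c3.1 (mul_mem k k'), q2, .inr e2⟩, ⟨p1, hp1, k, q1, .inl e1⟩]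
    obtain ⟨s, hs, es⟩ := (h.ax.f1 p hp np).2 u1 hu1 (k1 f).1.1
    exact (k1 f).2 s hs 1 (one_mem _) es (by rw [ew2.2, h.ax.cm hv2 ‹_›]; simp)
  have f : x ∈ V := ((h.ax.cc hx).resolve_right fun k => by rw [k.2, f'] at c1; omega).1
  obtain ⟨q, hq, nq, p, f⟩ : ∃ q ∈ T, q ∉ V ∧ ∃ p, Θ (p, q) = m * Θ (b1, 1) * m⁻¹ ∨ Θ (p, q) = m * Θ (1, b2) * m⁻¹ := by
    by_cases k : q1 ∈ V
    exacts [⟨q2, hq2, fun k' => c3.2 (mul_mem k k'), p2, .inr e2⟩, ⟨q1, hq1, k, p1, .inl e1⟩]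
  obtain ⟨s, hs, es⟩ := (h.ax.f1 q hq nq).2 u2 hu2 (k1 f).1.2
  exact (k1 f).2 1 (one_mem _) s hs (by rw [ew2.1, h.ax.cm hv1 ‹_›]; simp) es

theorem one (hn : n ∈ H ⊓ N(PP Θ V V)) (he : e ∈ V) : n * Θ (e, 1) * n⁻¹ ∈ PP Θ V ⊥ ∨ n * Θ (e, 1) * n⁻¹ ∈ PP Θ ⊥ V := by
  obtain ⟨w1, h1, w2, h2, k⟩ := mem_PP.1 (conj_mem_of_norm hn.2 (pm (Θ := Θ) he (one_mem _)))
  obtain ⟨l, hl, b, hb, nb, cb⟩ := h.ax.f2 e he
  obtain ⟨l1, hl1, b1, hb1, nb1, cb1⟩ := h.ax.f2 w1 h1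
  obtain ⟨l2, hl2, b2, hb2, nb2, cb2⟩ := h.ax.f2 w2 h2
  have := h.core (n := Θ (l1, l2) * n * (Θ (l, 1))⁻¹) (mul_mem (mul_mem ⟨h.rH _, PP_N hl1 hl2⟩ hn)
    (inv_mem ⟨h.rH _, PP_N hl (one_mem _)⟩)) (conj_mem_of_norm hl he) hb nb cb (conj_mem_of_norm hl1 h1) (conj_mem_of_norm hl2 h2)
    hb1 nb1 cb1 hb2 nb2 cb2 (by
      rw [← tc, k, show Θ (l * e * l⁻¹, 1) = Θ (l, 1) * Θ (e, 1) * (Θ (l, 1))⁻¹ by rw [tc]; simp]; group)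
  rw [← k]
  exact this.symm.imp (fun f => pm h1 (conj_eq_one_iff.1 f)) fun f => pm (conj_eq_one_iff.1 f) h2

theorem two (hn : n ∈ H ⊓ N(PP Θ V V)) : n ∈ N(PP Θ V ⊥) ∨ cj n (PP Θ V ⊥) = PP Θ ⊥ V := by
  have k : ∀ x ∈ cj n (PP Θ V ⊥), x ∈ PP Θ V ⊥ ∨ x ∈ PP Θ ⊥ V := fun x hx => by
    obtain ⟨_, hv, rfl⟩ := mem_cj'.1 hx
    obtain ⟨e, he, _, rfl, rfl⟩ := mem_PP.1 hv
    exact h.one hn he
  by_cases l : cj n (PP Θ V ⊥) ≤ PP Θ V ⊥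
  · exact .inl (mem_norm_of_cj_le l)
  obtain ⟨a, ha, na⟩ := SetLike.not_le_iff_exists.1 l
  refine .inr (eq_of_le_of_card_eq (fun b hb => (k b hb).elim (fun f => ?_) id) (by rw [card_cj, h.card, h.card, mul_comm]))
  exact (mul_mem_cancel_left ((k a ha).resolve_left na)).1 ((k _ (mul_mem ha hb)).resolve_left fun g =>
    na ((mul_mem_cancel_right f).1 g))

theorem nB (hn : n ∈ H ⊓ N(PP Θ V V)) : n ∈ N(PP Θ V ⊥) := by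
  refine le_of_exists_syl (fun p hp _ => ?_) hn
  by_cases p2 : p = 2
  · refine ⟨_, p2 ▸ h.syl.inf (h.SN.trans inf_le_right), fun l hl => ?_⟩
    obtain ⟨a, ha, b, -, rfl⟩ := mem_PP.1 hl
    exact PP_N (h.ax.TN ha) (norm_bot (G := X) ▸ mem_top _)
  obtain ⟨P, hP⟩ := exists_syl p (H ⊓ N(PP Θ V V))
  refine ⟨P, hP, fun x hx => H28.CY.mem_of_odd ((hP.pi.elt hx).mono (by simpa using Ne.symm p2)) ?_⟩
  refine (h.two (hP.le hx)).elim (fun f => mul_mem f f) fun f => ?_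
  have := h.sym.two (n := x) (PP_sw (Θ := Θ) ▸ hP.le hx)
  rw [PP_sw, PP_sw] at this
  refine this.elim (fun g => ?_) fun g => mem_norm_of_cj_le (by rw [← cj_cj, f, g])
  obtain ⟨v, hv, v1⟩ := h.ax.ne
  rw [← cj_of_mem_norm g, cj_inj] at f
  exact absurd (h.mm.1 (f.le (pm hv (one_mem _)))).1 v1

theorem nB' (hn : n ∈ H ⊓ N(PP Θ V V)) : n ∈ N(PP Θ ⊥ V) := PP_sw (Θ := Θ) ▸ h.sym.nB (PP_sw (Θ := Θ) ▸ hn)

theorem ic (hg : g ∈ H) (hy : y ∈ V) (e : g * Θ (1, y) * g⁻¹ = Θ (a, b)) : a = 1 := by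
  have s := h.sq (x := a) (y := b) (by rw [← e, conj_mul, tm, h.ax.sq _ hy, mul_one, t1]; simp)
  obtain ⟨c, ha⟩ := h.ax.ex _ s.1
  obtain ⟨d, hb⟩ := h.ax.ex _ s.2
  have e4 : Θ (c, d) * g * Θ (1, y) * (Θ (c, d) * g)⁻¹ = Θ (c * a * c⁻¹, d * b * d⁻¹) := by rw [← cc', e, tc]
  have m := mul_mem (h.rH (c, d)) hg
  generalize Θ (c, d) * g = g at e4 m
  have f : ∀ {x y}, x ∈ V → y ∈ V → PP Θ V V ≤ C[Θ (x, y)] := fun hx hy l hl => by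
    obtain ⟨a, ha, b, hb, rfl⟩ := mem_PP.1 hl
    exact mem_cent1.2 (by rw [tm, tm, h.ax.cm ha hx, h.ax.cm hb hy])
  obtain ⟨k, hc, k'⟩ := wcj h.syl h.wc (h.syl.pi.of_le h.US) (M := H ⊓ C[Θ (c * a * c⁻¹, d * b * d⁻¹)]) inf_le_left
    (le_inf h.UH (f ha hb)) m (le_inf (cj_le_of_mem m h.UH) (by
      rw [← e4, ← cj_cent1]; exact cj_mono g (f (one_mem _) hy)))
  have := conj_mem_of_norm (h.nB' ⟨mul_mem hc.1 m, k'⟩) (pm (one_mem _) hy)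
  rw [← cc', e4, mem_cent1.1 hc.2, mul_inv_cancel_right] at this
  exact conj_eq_one_iff.1 (h.mm.1 this).1

theorem wB (g : G) (hg : g ∈ H) (k : cj g (PP Θ ⊥ V) ≤ PP Θ T T) : g ∈ N(PP Θ ⊥ V) := by
  set B := (cj g (PP Θ ⊥ V)).comap (Θ.comp (MonoidHom.inr X X))
  have l : cj g (PP Θ ⊥ V) ≤ PP Θ ⊥ B := fun l hl => by
    obtain ⟨a, -, b, -, rfl⟩ := mem_PP.1 (k hl)
    obtain ⟨_, hv, e⟩ := mem_cj'.1 hl
    obtain ⟨_, rfl, y, hy, rfl⟩ := mem_PP.1 hv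
    obtain rfl := h.ic hg hy e
    exact pm (one_mem _) hl
  have c := card_le_of_le l
  rw [card_cj, h.card, h.card, h.ax.cV, card_bot, one_mul, one_mul] at c
  rw [h.ax.uq B (fun x hx => (h.mm.1 (k hx)).2) (fun x hx => by
    obtain ⟨y, hv, e⟩ := mem_cj'.1 (mem_comap.1 hx)
    refine (h.sq (x := 1) ?_).2
    rw [show Θ (1, x) = _ from e.symm, conj_mul, h.ax.Us (PP_mono bot_le le_rfl hv)]; simp) c] at l
  exact mem_norm_of_cj_le l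

theorem c1 (x : X) : Θ (x, 1) ∈ H ⊓ C(PP Θ ⊥ V) := ⟨h.rH _, fun l hl => by
  obtain ⟨_, rfl, y, -, rfl⟩ := mem_PP.1 hl
  simp [tm]⟩

theorem dC (x : X) : Θ (x, 1) ∈ ⁅H ⊓ C(PP Θ ⊥ V), H ⊓ C(PP Θ ⊥ V)⁆ :=
  (h.ax.pf.ge.trans (commutator_le.2 fun a _ b _ => by
    simpa [mem_comap] using commutator_mem_commutator (h.c1 a) (h.c1 b) :
      commutator X ≤ comap (Θ.comp (MonoidHom.inl X X)) ⁅H ⊓ C(PP Θ ⊥ V), H ⊓ C(PP Θ ⊥ V)⁆)) (mem_top x)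

theorem sc (k : ℕ) : ∀ x : X, x ^ 2 ^ k = 1 → ∀ g ∈ H, ∀ a b, g * Θ (x, 1) * g⁻¹ = Θ (a, b) → b = 1 := by
  induction k with
  | zero => exact fun x hx g _ a b e =>
      (h.eq (e.symm.trans (by simp [show x = 1 by simpa using hx, Prod.mk_one_one] : _ = Θ (1, 1)))).2
  | succ k ih =>
  intro x hx g hg a b e
  obtain ⟨n, hb⟩ := h.ax.ex _ (ih (x * x) (by rw [← pow_two, ← pow_mul, ← pow_succ', hx]) g hg (a * a) (b * b)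
    (by rw [← tm, ← e, conj_mul, tm, mul_one]))
  have e2 : Θ (1, n) * g * Θ (x, 1) * (Θ (1, n) * g)⁻¹ = Θ (a, n * b * n⁻¹) := by rw [← cc', e, tc]; simp
  have m := mul_mem (h.rH (1, n)) hg
  refine conj_eq_one_iff.1 (?_ : n * b * n⁻¹ = 1)
  generalize Θ (1, n) * g = g at e2 m
  generalize n * b * n⁻¹ = b at e2 hb
  have l : PP Θ ⊥ V ≤ PP Θ T T := PP_mono bot_le h.ax.VT
  obtain ⟨c, hc, k⟩ := wcj h.syl h.wB (h.syl.pi.of_le l) (M := H ⊓ C[Θ (a, b)]) inf_le_left (le_inf (l.trans h.syl.le)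
    fun l hl => by
      obtain ⟨_, rfl, y, hy, rfl⟩ := mem_PP.1 hl
      exact mem_cent1.2 (by rw [tm, tm, h.ax.cm hy hb]; simp)) m (le_inf (cj_le_of_mem m (l.trans h.syl.le)) (by
      rw [← e2, ← cj_cent1]; exact cj_mono g (le_cent1_iff.2 (h.c1 x).2)))
  have nC : H ⊓ N(PP Θ ⊥ V) ≤ N(H ⊓ C(PP Θ ⊥ V)) := norms_inf (norms_of_le inf_le_left) (norms_cent inf_le_right)
  have d := conj_mem_of_norm (norms_der nC ⟨mul_mem hc.1 m, k⟩) (h.dC x)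
  rw [← cc', e2, mem_cent1.1 hc.2, mul_inv_cancel_right] at d
  have d' := mul_mem (inv_mem (h.dC a)) d
  rw [ti, tm, inv_mul_cancel, inv_one, one_mul] at d'
  have := syl_inf_der (h.syl.inf_of_norm inf_le_left ((le_inf h.syl.le fun g hg => h.wB g (h.syl.le hg)
    (cj_le_of_mem hg l)).trans nC)) ⟨⟨⟨l (pm (one_mem _) hb), der_le _ d'⟩, d'⟩,
      fun c hc => (hc.2 _ (pm (one_mem _) hb)).symm⟩
  have q : ∀ p ∈ PP Θ T T ⊓ (H ⊓ C(PP Θ ⊥ V)), ∃ a, ∃ b ∈ V, Θ (a, b) = p := fun p ⟨hp, _, k⟩ => by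
    obtain ⟨a, -, b, -, rfl⟩ := mem_PP.1 hp
    refine ⟨a, b, h.ax.CV b fun c hc => ?_, rfl⟩
    have := k _ (pm (one_mem _) hc)
    rw [tm, tm] at this
    exact (h.eq this).2
  refine (h.mm.1 (commg_le_iff (M := PP Θ ⊤ ⊥).2 (fun p hp p' hp' => ?_) this)).2
  obtain ⟨a, b, hb, rfl⟩ := q p hp
  obtain ⟨a', b', hb', rfl⟩ := q p' hp'
  rw [ti, ti, tm, tm, tm, h.ax.cm hb hb']
  exact pm trivial (by simp)

theorem scl : SCl (PP Θ T ⊥) H := .of_syl h.syl (PP_mono le_rfl bot_le) fun l hl g hg m => by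
  obtain ⟨x, hx, _, rfl, rfl⟩ := mem_PP.1 hl
  obtain ⟨a, ha, b, -, e⟩ := mem_PP.1 m
  obtain ⟨k, hk⟩ := H28.CY.pow_of_two (h.ax.pT.elt hx)
  exact e ▸ pm ha (h.sc k x hk g hg a b e.symm)

theorem fin (hH : IsSimpleGroup H) : False := by
  obtain ⟨v, hv, v1⟩ := h.ax.ne
  have hD : Sim H := ⟨hH, fun k => v1 (h.eq (x := v) (y := 1) (((commutator_le.2 fun a ha b hb =>
    commutatorElement_eq_one_iff_mul_comm.2 (mem_cent.1 (comm_iff_le_cent.1 k hb.1) a ha.1) :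
      ⁅H ⊓ C(PP Θ ⊥ V), H ⊓ C(PP Θ ⊥ V)⁆ ≤ ⊥) (h.dC v)).trans t1.symm)).1⟩
  have l1 : PP Θ T ⊥ ≤ PP Θ T T := PP_mono le_rfl bot_le
  have l2 : PP Θ ⊥ T ≤ PP Θ T T := PP_mono bot_le le_rfl
  have := H25.PF.scl_main h.scl (PP_sw (Θ := Θ) ▸ h.sym.scl) h.syl l1 l2 (fun p hp q hq => by
    obtain ⟨x, -, _, rfl, rfl⟩ := mem_PP.1 hp
    obtain ⟨_, rfl, y, -, rfl⟩ := mem_PP.1 hq
    simp [tm])
  have k : ∀ {K : Subgroup G}, K ⊴ H → K = ⊥ ∨ K = H := fun hK => hD.cases hK.le hK.norm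
  have k' : ∀ {A B x y}, PP Θ A B ≤ PP Θ T T → x ∈ A → y ∈ B → (x, y) ≠ (1, 1) → Kc (PP Θ A B) H = H :=
    fun l hx hy e => (k (Kc_normal (l.trans h.syl.le))).resolve_left fun e' =>
      e (h.inj ((e'.le (le_Kc (pm hx hy))).trans (map_one Θ).symm))
  rw [show PP Θ T ⊥ ⊓ PP Θ ⊥ T = ⊥ from eq_bot_iff.2 fun p hp => by
      obtain ⟨x, -, _, rfl, rfl⟩ := mem_PP.1 hp.1
      rw [mem_bot.1 (h.mm.1 hp.2).1, t1]; exact one_mem _, show Kc ⊥ H = ⊥ by simp [Kc], bot_sup_eq,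
    (k (Oc_normal _ H)).resolve_right fun e => hD.nsol (sol_mono (O_og H).sol e.ge), k' l1 (h.ax.VT hv) (one_mem _) (by simp [v1]),
    k' l2 (one_mem _) (h.ax.VT hv) (by simp [v1]), hD.perfect] at this
  exact hD.ne (le_bot_iff.1 this)

end T5

end H4.AE
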