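import Cfsg.Agent.H4.Hy3

/-!
# Hayden's hypothesis: Sylow `p`-subgroups and fusion
-/

set_option autoImplicit false

namespace H4.Hy

open Subgroup H19 Jac
open scoped MatrixGroups

variable {F : Type*} [Field F] [Finite F] {G : Type*} [Group G] [Finite G]
  {φ : Jac F →* G} {g : G} {a b c a' b' c' : F} {R S : Subgroup G}

theorem one_lt_q : 1 < Nat.card F := Finite.one_lt_card

theorem card_jac : Nat.card (Jac F) = Nat.card F ^ 4 * (Nat.card F ^ 2 - 1) := by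
  have := Fintype.ofFinite F
  rw [Nat.card_congr equivProd, Nat.card_prod, H11.card_sl_two, Nat.card_prod, Nat.card_prod]
  simp only [Nat.card_eq_fintype_card]; ring

section
variable (p : ℕ) [hp : Fact p.Prime] [CharP F p]

theorem exists_q : ∃ k, 0 < k ∧ Nat.card F = p ^ k := by
  have := Fintype.ofFinite F
  simpa using H11.exists_card_eq_pow F p

theorem pq (k : ℕ) : PiN {p} (Nat.card F ^ k) := by
  obtain ⟨n, -, e⟩ := exists_q (F := F) p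
  rw [e]; exact (PiN.prime_pow hp.out n).pow k

theorem p_dvd_q : p ∣ Nat.card F := by
  obtain ⟨n, h, e⟩ := exists_q (F := F) p
  rw [e]; exact dvd_pow_self _ h.ne'

theorem not_dvd_q {j : ℕ} (hj : 0 < j) : ¬ p ∣ Nat.card F ^ j - 1 := by
  have := Fintype.ofFinite F
  simpa using H11.not_dvd_card_pow_sub_one F p hj

omit [Finite F] in
theorem eq_one_of_pow {x : F} {k : ℕ} (h : x ^ p ^ k = 1) : x = 1 := by
  have := sub_pow_char_pow (p := p) (n := k) (x := x) (y := 1)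
  rw [h, one_pow, sub_self] at this
  exact sub_eq_zero.1 (pow_eq_zero_iff (pow_pos hp.out.pos k).ne' |>.1 this)

end

omit [Finite F] in
theorem pow_p_of_r {j : Jac F} (h : j.r = 0) (k : ℕ) : (j ^ k).r = 0 ∧ (j ^ k).p = j.p ^ k := by
  induction k with
  | zero => simp
  | succ k ih => simp [pow_succ, ih, h]

namespace HH
variable {p : ℕ} (h : HH p φ)
include h

omit [Finite G] in
theorem pq (k : ℕ) : PiN {p} (Nat.card F ^ k) := have := h.ch; have := Fact.mk h.pp; Hy.pq p k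
omit [Finite G] in
theorem p_dvd_q : p ∣ Nat.card F := have := h.ch; have := Fact.mk h.pp; Hy.p_dvd_q p
omit [Finite G] in
theorem not_dvd_q {j : ℕ} (hj : 0 < j) : ¬ p ∣ Nat.card F ^ j - 1 :=
  have := h.ch; have := Fact.mk h.pp; Hy.not_dvd_q p hj

theorem pg_P : PG p (Ps φ) := by rw [PG, PiG, h.card_Ps]; exact h.pq 4
theorem pg_M : PG p (Ms φ) := h.pg_P.of_le M_le_P
theorem pg_Q : PG p (Qs φ) := h.pg_P.of_le Q_le_P
theorem pg_A : PG p (As φ) := h.pg_M.of_le A_le_M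
theorem pg_Z : PG p (Zs φ) := h.pg_M.of_le Z_le_M
theorem pg_W : PG p (Ws φ) := h.pg_M.of_le W_le_M
theorem pg_U : PG p (Us φ) := h.pg_A.of_le U_le_A
omit [Finite F] [Finite G] in
theorem Z_ne : Zs φ ≠ ⊥ := ne_bot_of_mem (mu_Z 1) fun e => one_ne_zero (h.mu_one.1 e).1
omit [Finite G] in
theorem card_C : #φ.range = Nat.card F ^ 4 * (Nat.card F ^ 2 - 1) := by
  rw [φ.range_eq_map, card_map_of_injective h.inj, card_top, card_jac]

theorem ple (hR : PG p R) (hN : R ≤ N(Zs φ)) : R ≤ φ.range := by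
  obtain ⟨z, ⟨h1, h2⟩, h3⟩ := exists_ne_one (h.pg_Z.meet_cent hR hN h.Z_ne)
  exact h.cent_of_mem h1 h3 ▸ le_cent1_iff.2 h2
theorem pmem (hR : PiE {p} g) (hN : g ∈ N(Zs φ)) : g ∈ φ.range :=
  h.ple (piG_zpowers.2 hR) (zpowers_le.2 hN) (mem_zpowers g)

theorem syl_C : Syl p (Ps φ) φ.range := by
  refine syl_mk P_le_C h.pg_P fun k => h.not_dvd_q two_pos ?_
  have := card_mul_relIndex (P_le_C (φ := φ))
  rw [h.card_Ps, h.card_C] at this
  exact Nat.eq_of_mul_eq_mul_left (pow_pos Nat.card_pos 4) this ▸ k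

theorem syl_P : Syl p (Ps φ) ⊤ := by
  by_contra k
  obtain ⟨Q, h1, h2, -, h3⟩ := h.pg_P.exists_lt_norm le_top k
  exact h1.ne' (h.syl_C.max h1.le (h.ple h2 (h3.trans h.NP_le)) h2)

theorem syl_N2 : Syl p (Ps φ) N(Ms φ) := h.syl_P.of_le P_le_NM le_top

omit [Finite F] in
theorem mem_P_of {j : Jac F} (hr : j.r = 0) (hj : PiE {p} (φ j)) : φ j ∈ Ps φ := by
  obtain ⟨k, e⟩ := hj.exists_pow (orderOf_pos _).ne'
  have e1 : j ^ p ^ k = 1 := h.inj (by rw [map_pow, ← e, pow_orderOf_eq_one, map_one])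
  have := h.ch; have := Fact.mk h.pp
  have e2 : j.p = 1 := eq_one_of_pow p (k := k) (by rw [← (pow_p_of_r hr _).2, e1, one_p])
  exact ⟨j, ⟨hr, e2, by linear_combination j.det + j.q * hr - j.s * e2⟩, rfl⟩

theorem le_P_of (hR : PG p R) (h1 : R ≤ N(Zs φ)) (h2 : R ≤ N(Ms φ)) : R ≤ Ps φ := fun x hx => by
  obtain ⟨j, rfl⟩ := h.ple hR h1 hx
  exact h.mem_P_of (h.r_of_NM (h2 hx)) (hR.elt hx)

theorem B_le_NP : N(Zs φ) ⊓ N(Ms φ) ≤ N(Ps φ) := fun g hg => mem_norm_of_cj_le (h.le_P_of (h.pg_P.J g)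
  (cj_le_of_mem hg.1 (P_le_C.trans C_le_N)) (cj_le_of_mem hg.2 P_le_NM))

theorem N_le_NQ : N(Zs φ) ≤ N(Qs φ) := fun g hg => mem_norm_of_cj_le (by
  have k : cj g (Qs φ) ⊴ φ.range := by
    have := (NormalIn.mk (Q_le_P.trans P_le_C) C_le_NQ : Qs φ ⊴ φ.range).J g
    rwa [cj_of_mem_norm (h.norm_C.ge hg)] at this
  have k1 := h.syl_C.le_of_norm' k.le (h.pg_Q.J g) (P_le_C.trans k.norm)
  have k2 := (h.syl_C.Jmem (g := φ n⁻¹) ⟨_, rfl⟩).le_of_norm' k.le (h.pg_Q.J g)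
    ((cj_le_of_mem (K := φ.range) ⟨_, rfl⟩ P_le_C).trans k.norm)
  intro x hx
  obtain ⟨j, ⟨h1, h2, h3⟩, rfl⟩ := k1 hx
  obtain ⟨i, ⟨h4, -⟩, e⟩ := mem_cj.1 (k2 hx)
  rw [← map_inv, ← map_mul, ← map_mul] at e
  rw [h.inj e] at h4
  simp at h4
  exact mem_Q.2 ⟨j.a, j.x, j.y, congrArg φ (by ext <;> simp [*])⟩)

omit [Finite F] [Finite G] in
theorem Z_of_cent (h1 : g ∈ Ps φ) (h2 : g ∉ Ms φ) {z : G} (h3 : z ∈ Ms φ) (h4 : z ∈ C[g]) : z ∈ Zs φ := by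
  obtain ⟨a, b, c, s, rfl⟩ := mem_P'.1 h1
  obtain ⟨a', b', c', rfl⟩ := mem_M.1 h3
  have hs : s ≠ 0 := by rintro rfl; exact h2 (by rw [ys_zero, mul_one]; exact mu_M ..)
  rw [mem_cent1, ← mul_assoc, mu_comm, mul_assoc, mul_assoc, mul_right_inj, eq_comm, ← mul_inv_eq_iff_eq_mul,
    ys_mu, h.mu_inj] at h4
  have e1 : c' = 0 := mul_right_cancel₀ hs (by linear_combination -h4.2.1)
  exact h.mu_in_Z.2 ⟨mul_right_cancel₀ (mul_ne_zero h.two hs) (by linear_combination -h4.1 + s ^ 2 * e1), e1⟩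

theorem uniq_M (h1 : R ≤ Ps φ) (h2 : Ab R) (h3 : #R = Nat.card F ^ 3) : R = Ms φ := by
  refine eq_of_le_of_card_eq ?_ (h3.trans h.card_M.symm)
  by_contra k
  obtain ⟨g, hg, k⟩ := SetLike.not_le_iff_exists.1 k
  have e1 : #(Ms φ ⊓ R) ≤ Nat.card F := h.card_Z ▸ card_le fun z hz =>
    h.Z_of_cent (h1 hg) k hz.1 (mem_cent1.2 (mul_comm_of_comm h2 hz.2 hg))
  have e2 := card_mul_relIndex (M_le_P (φ := φ))
  rw [h.card_M, h.card_Ps, pow_succ _ 3] at e2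
  have e3 := Nat.eq_of_mul_eq_mul_left (pow_pos Nat.card_pos 3) e2
  have e4 : (Ms φ).relIndex R ≤ Nat.card F := e3 ▸ Nat.le_of_dvd (relIndex_pos _ _)
    (relIndex_dvd_of_norm (h1.trans P_le_NM) M_le_P h1)
  have e5 := Nat.mul_le_mul e1 e4
  rw [H19.card_inf_mul_relIndex, h3, ← sq] at e5
  exact absurd e5 (not_le.2 (Nat.pow_lt_pow_right one_lt_q (by norm_num)))

theorem wc {g' : G} (hS : PG p S) (h1 : cj g (Ms φ) ≤ S) (h2 : cj g' (Ms φ) ≤ S) : cj g (Ms φ) = cj g' (Ms φ) := by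
  obtain ⟨x, -, hx⟩ := h.syl_P.scj_le le_top hS
  have k : ∀ g, cj g (Ms φ) ≤ S → cj x (cj g (Ms φ)) = Ms φ := fun g k =>
    h.uniq_M ((cj_mono x k).trans hx) (by simp [M_ab]) (by simp [h.card_M])
  exact cj_inj.1 ((k g h1).trans (k g' h2).symm)

theorem NP_le_NM : N(Ps φ) ≤ N(Ms φ) := fun g hg => mem_norm_iff_cj.2
  (h.uniq_M (cj_le_of_mem_norm hg M_le_P) (by simp [M_ab]) (by simp [h.card_M]))

/-- `N(M)` controls fusion of subgroups of `M` -/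
theorem fus' (h1 : R ≤ Ms φ) (h2 : cj g R ≤ Ms φ) : ∃ n ∈ N(Ms φ), ∀ x ∈ R, n * x * n⁻¹ = g * x * g⁻¹ := by
  have k1 : Ms φ ≤ C(cj g R) := cents_of_comm M_ab le_rfl h2
  have k2 : cj g (Ms φ) ≤ C(cj g R) := cj_cent g R ▸ cj_mono g (cents_of_comm M_ab le_rfl h1)
  obtain ⟨S, hS, k3⟩ := h.pg_M.exists_syl k1
  obtain ⟨c, hc, k4⟩ := hS.scj_le k2 (h.pg_M.J g)
  rw [cj_cj] at k4
  refine ⟨c * g, mem_norm_iff_cj.2 ((h.wc hS.pi k4 (by rwa [cj_one])).trans (cj_one _)), fun x hx => ?_⟩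
  have := hc _ (conj_mem_cj.2 hx)
  calc _ = c * (g * x * g⁻¹) * c⁻¹ := by group
    _ = _ := by rw [← this]; group

theorem fus {x : G} (h1 : x ∈ Ms φ) (h2 : g * x * g⁻¹ ∈ Ms φ) : ∃ n ∈ N(Ms φ), n * x * n⁻¹ = g * x * g⁻¹ :=
  let ⟨n, k1, k2⟩ := h.fus' (zpowers_le.2 h1) (g := g) (by rw [cj_zpowers]; exact zpowers_le.2 h2)
  ⟨n, k1, k2 x (mem_zpowers x)⟩

theorem fusZ (h2 : cj g (Zs φ) ≤ Ms φ) : ∃ n ∈ N(Ms φ), cj n (Zs φ) = cj g (Zs φ) := by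
  obtain ⟨n, k1, k2⟩ := h.fus' Z_le_M h2
  refine ⟨n, k1, Subgroup.ext fun x => ?_⟩
  rw [mem_cj', mem_cj']
  exact exists_congr fun y => and_congr_right fun hy => by rw [k2 y hy]

theorem NA_le : N(As φ) ≤ N(Ms φ) := fun g hg => mem_norm_of_cj_le fun x hx => by
  have h1 : cj g (Ms φ) ≤ C(As φ) := cj_le_of_mem_norm (norm_le_norm_cent _ hg) (cents_of_comm M_ab le_rfl A_le_M)
  refine (h.cent_A (h1 hx)).resolve_right fun k => ?_
  have k1 : x ∈ N(Ms φ) := by simpa [mul_assoc, tt_sq] using mul_mem (le_normalizer k) (tt_NM (φ := φ))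
  have k2 := h.le_P_of (piG_zpowers.2 ((h.pg_M.J g).elt hx))
    (zpowers_le.2 (cent_le_norm _ (cent_mono Z_le_A (h1 hx)))) (zpowers_le.2 k1) (mem_zpowers x)
  obtain ⟨j, ⟨-, hj, -⟩, e⟩ := mul_mem (inv_mem k2) (M_le_P k)
  rw [inv_mul_cancel_left] at e
  rw [h.inj e] at hj
  exact h.two (by simp at hj; linear_combination -hj)

omit [Finite F] in
theorem K1_le_NA : C[tt φ] ⊓ N(Ms φ) ≤ N(As φ) :=
  h.A_eq ▸ norms_inf inf_le_right (inf_le_left.trans le_normalizer)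

omit [Finite F] in
theorem K1_le_NW : C[tt φ] ⊓ N(Ms φ) ≤ N(Ws φ) := fun g hg => mem_norm_of_cj_le fun x hx => by
  obtain ⟨y, hy, rfl⟩ := mem_cj'.1 hx
  refine h.mem_W_of (conj_mem_of_norm hg.2 (W_le_M hy)) ?_
  obtain ⟨b, rfl⟩ := mem_W.1 hy
  have e := mem_cent1.1 hg.1
  calc _ = (tt φ * g) * mu φ 0 b 0 * (tt φ * g)⁻¹ := by group
    _ = g * (tt φ * mu φ 0 b 0 * (tt φ)⁻¹) * g⁻¹ := by rw [← e]; group
    _ = _ := by rw [tt_mu, conj_inv, mu_inv, neg_zero]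

end HH

variable (φ) in
/-- no element of `W` is conjugate into `Z` -/
def NW : Prop := ∀ (g : G) (a b : F), b ≠ 0 → g * mu φ 0 b 0 * g⁻¹ ≠ mu φ a 0 0

theorem HH.syl_A {p : ℕ} (h : HH p φ) (w : NW φ) : Syl p (As φ) C[tt φ] := by
  by_contra k
  obtain ⟨R, h1, h2, h3, h4⟩ := h.pg_A.exists_lt_norm A_le_K k
  have h5 := h4.trans h.NA_le
  obtain ⟨r, hr, k⟩ := SetLike.exists_of_lt h1
  obtain ⟨z, ⟨z1, z2⟩, z3⟩ := exists_ne_one (h.pg_W.meet_cent h2 ((le_inf h3 h5).trans h.K1_le_NW)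
    (ne_bot_of_mem (mu_W 1) fun e => one_ne_zero (h.mu_one.1 e).2.1))
  obtain ⟨g, hg, e⟩ := h.syl_N2.scj_le h5 h2
  obtain ⟨b, rfl⟩ := mem_W.1 z1
  obtain ⟨a, ha⟩ := mem_Z.1 (h.Z_of_cent (e (conj_mem_cj.2 hr))
    (fun e => k (h.mem_A_of (by simpa [mul_assoc] using conj_mem_of_norm' hg e) (h3 hr)))
    (conj_mem_of_norm hg (mu_M 0 b 0)) (cj_cent1 g r ▸ conj_mem_cj.2 (cent_le_cent1 hr z2)))
  exact w g a b (fun e => z3 (by rw [e, mu_zero])) ha.symm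

end H4.Hy
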