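import Cfsg.Agent.H4.Meta3
import Cfsg.Agent.H4.TwoCyclic
import Cfsg.Agent.H4.Extra

/-!
# Noncyclic abelian groups of odd automorphisms of `2`-groups whose fixed points have one involution
-/

set_option autoImplicit false

namespace H4.OI

open Subgroup H2
open scoped commutatorElement

theorem aut_cyc {H : Type*} [Group H] [Finite H] (hH : IsPGroup 2 H) [IsCyclic H] {α : MulAut H}
    (ha : (orderOf α).Coprime 2) : α = 1 := by
  obtain ⟨n, hn⟩ := IsPGroup.iff_card.1 hH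
  have h := orderOf_dvd_natCard α
  rw [IsCyclic.card_mulAut, hn] at h
  rw [← orderOf_eq_one_iff]
  rcases n with _ | n
  · simpa using h
  · rw [Nat.totient_prime_pow_succ Nat.prime_two] at h
    exact Nat.Coprime.eq_one_of_dvd (ha.pow_right n) (by simpa using h)

theorem eight {H : Type*} [Group H] [Finite H] (hH : IsPGroup 2 H)
    (h1 : ∀ x y : H, orderOf x = 2 → orderOf y = 2 → x = y) {α : MulAut H}
    (ha : (orderOf α).Coprime 2) (h : α ≠ 1) : Nat.card H = 8 ∧ ¬ IsMulCommutative H := by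
  have hc := isCyclic_of_unique hH fun x y hx hy => by rw [h1 x y hx hy]
  have hnc : ¬ IsCyclic H := fun _ => h (aut_cyc hH ha)
  have hna : ¬ IsMulCommutative H := fun _ =>
    hnc (isCyclic_of_surjective _ (topEquiv (G := H)).surjective (hH := hc ⊤ inferInstance))
  refine ⟨?_, hna⟩
  obtain ⟨a, h2, -⟩ := exists_cyclic_index_two hH (fun A _ => hc A) hnc
  have := normal_of_index_eq_two h2
  rcases meta_odd hH ⟨_, this, inferInstance, isCyclic_of_prime_card h2⟩ ha h with ⟨⟨e⟩⟩ | ⟨n, ⟨e⟩⟩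
  · rw [Nat.card_congr e.toEquiv, Nat.card_eq_fintype_card, QuaternionGroup.card]
  · exact (hna ⟨⟨fun x y => e.injective (by rw [map_mul, map_mul, mul_comm])⟩⟩).elim

variable {W A : Type*} [Group W] [Group A] [Finite W] [Finite A] {φ : A →* MulAut W} {p : ℕ}
  [hp : Fact p.Prime] {a b : A} {x y : W} {K : Subgroup W}

/-- Fixed points of a single automorphism. -/
def Fx (φ : A →* MulAut W) (a : A) : Subgroup W := (φ a).toMonoidHom.eqLocus (MonoidHom.id W)

omit [Finite W] [Finite A] in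
theorem mem_Fx : x ∈ Fx φ a ↔ φ a x = x := Iff.rfl

structure Hy (p : ℕ) (φ : A →* MulAut W) : Prop where
  two : IsPGroup 2 W
  odd : p ≠ 2
  pg : IsPGroup p A
  ab : IsMulCommutative A
  nc : ¬ IsCyclic A
  inj : Function.Injective φ
  one : ∀ a : A, a ≠ 1 → ∀ x y : W, orderOf x = 2 → orderOf y = 2 → φ a x = x → φ a y = y → x = y

namespace Hy
variable (h : Hy p φ)
include h

omit [Finite W] [Finite A] hp in
theorem inv (a : A) : AInv φ (Fx φ a) := fun b x hx => by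
  have := h.ab
  rw [mem_Fx] at hx ⊢
  rw [← MulAut.mul_apply, ← map_mul, mul_comm' a b, map_mul, MulAut.mul_apply, hx]

theorem cop (K : Subgroup W) : (Nat.card A).Coprime (Nat.card K) := by
  obtain ⟨m, hm⟩ := IsPGroup.iff_card.1 h.pg
  obtain ⟨n, hn⟩ := exists_card_eq_pow h.two K
  rw [hm, hn]
  exact Nat.coprime_pow_primes _ _ hp.out Nat.prime_two h.odd

omit [Finite W] in
theorem ord {B : Type*} [Group B] (f : A →* B) (a : A) : (orderOf (f a)).Coprime 2 := by
  obtain ⟨m, hm⟩ := IsPGroup.iff_card.1 h.pg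
  exact ((Nat.coprime_pow_primes m 1 hp.out Nat.prime_two h.odd).coprime_dvd_left
    ((orderOf_map_dvd f a).trans (hm ▸ orderOf_dvd_natCard a)))

theorem dich (ha : a ≠ 1) (hK : AInv φ K) (h1 : K ≤ Fx φ a) :
    K ≤ autFixed φ ∨ (Nat.card K = 8 ∧ ¬ IsMulCommutative K) := by
  rw [or_iff_not_imp_left]
  intro h2
  obtain ⟨x, hx, h3⟩ := SetLike.not_le_iff_exists.1 h2
  obtain ⟨b, hb⟩ := not_forall.1 (mt mem_autFixed.2 h3)
  refine eight (h.two.to_subgroup K) (fun x y hx hy => Subtype.ext (h.one a ha _ _ (by simpa)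
    (by simpa) (h1 x.2) (h1 y.2))) (h.ord (restrictAut φ K hK) b) fun e => hb ?_
  exact congrArg Subtype.val (DFunLike.congr_fun e ⟨x, hx⟩)

theorem gen (hK : AInv φ K) {J : Subgroup W} (hJ : ∀ a ≠ 1, K ⊓ Fx φ a ≤ J) : K ≤ J :=
  have := h.ab
  aut_le_of_fixed_le h.nc hK (h.cop K) fun a ha _ hk e => hJ a ha ⟨hk, e⟩

theorem ab_le (hK : AInv φ K) [IsMulCommutative K] : K ≤ autFixed φ :=
  h.gen hK fun a ha => (h.dich ha (hK.inf (h.inv a)) inf_le_right).resolve_right fun e =>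
    e.2 (isMulCommutative_of_le inf_le_left inferInstance)

omit h in
theorem modEq {B : Type*} [Group B] (hB : IsPGroup p B) (ψ : B →* MulAut W) (hK : AInv ψ K) :
    Nat.card K ≡ Nat.card (K ⊓ autFixed ψ : Subgroup W) [MOD p] := by
  letI := MulAction.compHom K (restrictAut ψ K hK)
  convert hB.card_modEq_card_fixedPoints K using 1
  exact Nat.card_congr ⟨fun x => ⟨⟨x, x.2.1⟩, fun b => Subtype.ext (x.2.2 b)⟩,
    fun x => ⟨x.1, x.1.2, fun b => congrArg Subtype.val (x.2 b)⟩, fun _ => rfl, fun _ => rfl⟩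

theorem exists_nf : ∃ a ≠ 1, ¬ Fx φ a ≤ autFixed φ := by
  by_contra! H
  have h1 := h.gen aInv_top fun a ha => inf_le_right.trans (H a ha)
  have : Subsingleton A := ⟨fun a b => h.inj (MulEquiv.ext fun x =>
    (h1 (mem_top x) a).trans (h1 (mem_top x) b).symm)⟩
  exact h.nc inferInstance

theorem nf8 (ha : a ≠ 1) (H : ¬ Fx φ a ≤ autFixed φ) :
    Nat.card (Fx φ a) = 8 ∧ ¬ IsMulCommutative (Fx φ a) :=
  (h.dich ha (h.inv a) le_rfl).resolve_left H

omit h [Finite A] hp in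
theorem dvd8 {F : Subgroup W} (h8 : Nat.card K = 8) (hF : F ≤ K) :
    Nat.card F = 1 ∨ Nat.card F = 2 ∨ Nat.card F = 4 ∨ F = K := by
  have h1 : Nat.card F ∣ 2 ^ 3 := (h8 ▸ card_dvd_of_le hF :)
  obtain ⟨k, hk, e⟩ := (Nat.dvd_prime_pow Nat.prime_two).1 h1
  interval_cases k
  exacts [.inl e, .inr (.inl e), .inr (.inr (.inl e)),
    .inr (.inr (.inr (eq_of_le_of_card_ge hF (by rw [h8, e]; rfl))))]

theorem fixed : p = 3 ∧ autFixed φ = center W ∧ Nat.card (center W) = 2 := by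
  obtain ⟨a, ha, H⟩ := h.exists_nf
  obtain ⟨h8, -⟩ := h.nf8 ha H
  have h1 : autFixed φ ≤ Fx φ a := fun x hx => hx a
  have h2 := modEq h.pg φ (h.inv a)
  rw [inf_eq_right.2 h1, h8] at h2
  have h3 : center W ≤ autFixed φ := h.ab_le (aInv_of_characteristic _)
  have : Nontrivial W := by
    rw [← Finite.one_lt_card_iff_nontrivial]
    have := card_le_card_group (Fx φ a)
    omega
  have h4 : 1 < Nat.card (center W) := Finite.one_lt_card_iff_nontrivial.2 h.two.center_nontrivial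
  have h5 := card_le_of_le h3
  have h6 := h.odd
  have h7 : ¬ p ∣ 2 := fun e => h6 ((Nat.prime_dvd_prime_iff_eq hp.out Nat.prime_two).1 e)
  rcases dvd8 h8 h1 with e | e | e | e
  · omega
  · rw [e] at h2
    have h9 : p ∣ 2 * 3 := (Nat.modEq_iff_dvd' (by omega)).1 h2.symm
    exact ⟨(Nat.prime_dvd_prime_iff_eq hp.out Nat.prime_three).1
      (((Nat.Prime.dvd_mul hp.out).1 h9).resolve_left h7),
      (eq_of_le_of_card_ge h3 (by omega)).symm, by omega⟩
  · rw [e] at h2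
    have h9 : p ∣ 2 * 2 := (Nat.modEq_iff_dvd' (by omega)).1 h2.symm
    exact (((Nat.Prime.dvd_mul hp.out).1 h9).elim h7 h7).elim
  · exact (H e.ge).elim

theorem cen_le (a : A) : center W ≤ Fx φ a := fun _ hx => (h.fixed.2.1.ge hx) a

theorem card_Fx (ha : a ≠ 1) : Nat.card (Fx φ a) ≤ 8 := by
  by_cases H : Fx φ a ≤ autFixed φ
  · have := card_le_of_le H
    rw [h.fixed.2.1, h.fixed.2.2] at this
    omega
  · exact (h.nf8 ha H).1.le

theorem frat : frattini W ≤ center W := by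
  obtain ⟨-, h1, h2⟩ := h.fixed
  have m : ∀ x, x ∈ Subgroup.upperCentralSeries W 2 ↔ ∀ y, ⁅x, y⁆ ∈ center W := fun x => by
    rw [Subgroup.mem_upperCentralSeries_succ_iff, Subgroup.upperCentralSeries_one]
  have h3 : ∀ w : W, w ^ 2 ∈ centralizer (Subgroup.upperCentralSeries W 2 : Set W) := fun w u hu => by
    have h4 := (m u).1 hu w
    rw [← commutatorElement_eq_one_iff_mul_comm, commutator_pow_right (commute_of_mem_center h4 w),
      ← h2]
    exact congrArg Subtype.val (pow_card_eq_one' (G := center W) (x := ⟨_, h4⟩))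
  have h4 : frattini W ≤ centralizer (Subgroup.upperCentralSeries W 2 : Set W) :=
    frattini_le (p := 2) (commutator_le.2 fun x _ y _ => by
      rw [show ⁅x, y⁆ = x ^ 2 * (x⁻¹ * y) ^ 2 * y⁻¹ ^ 2 by simp only [commutatorElement_def, sq]; group]
      exact mul_mem (mul_mem (h3 _) (h3 _)) (h3 _)) h3
  have : IsMulCommutative (frattini W ⊓ Subgroup.upperCentralSeries W 2 : Subgroup W) :=
    ⟨⟨fun x y => Subtype.ext (h4 y.2.1 x x.2.2)⟩⟩
  have h5 := h.ab_le ((aInv_of_characteristic (frattini W)).inf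
    (aInv_of_characteristic (Subgroup.upperCentralSeries W 2)))
  by_contra H
  obtain ⟨x, a1, a2, -, a3⟩ := exists_central_mod h.two H
  exact a2 (h1.le (h5 ⟨a1, (m x).2 a3⟩))

theorem es : Cfsg.IsExtraspecial 2 W := by
  obtain ⟨-, -, h2⟩ := h.fixed
  have h3 := (commutator_le_frattini h.two).trans h.frat
  have h4 : commutator W = center W := by
    refine eq_of_le_of_card_ge h3 (h2 ▸ (one_lt_card_iff_ne_bot _).2 fun e => ?_)
    obtain ⟨a, ha, H⟩ := h.exists_nf
    rw [commutator_eq_bot_iff_center_eq_top] at e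
    exact (h.nf8 ha H).2 (isMulCommutative_of_le (le_top.trans e.ge) inferInstance)
  exact ⟨⟨h.two, le_antisymm h.frat (h4 ▸ commutator_le_frattini h.two), h4⟩, h2⟩

/-- Stabiliser of an element. -/
def St (φ : A →* MulAut W) (x : W) : Subgroup A := (MulAction.stabilizer (MulAut W) x).comap φ

theorem st (ha : a ≠ 1) (hx : x ∈ Fx φ a) (hx' : x ∉ center W) :
    (St φ x).index ≤ 3 ∧ ∀ b ∈ St φ x, b ≠ 1 → Fx φ b = Fx φ a := by
  obtain ⟨rfl, h1, h2⟩ := h.fixed
  have h8 := (h.nf8 ha fun e => hx' (h1.le (e hx))).1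
  constructor
  · have h3 := card_range_eq_index (St φ x) (fun b => φ b x) fun b c => by
      change _ ↔ φ (b⁻¹ * c) x = x
      rw [map_mul, map_inv, MulAut.mul_apply, MulAut.inv_apply, MulEquiv.symm_apply_eq, eq_comm]
    have h4 : Nat.card (Set.range fun b => φ b x) ≤ Nat.card (Fx φ a) :=
      Nat.card_mono (Set.toFinite _) (by rintro _ ⟨b, rfl⟩; exact h.inv a b x hx)
    obtain ⟨k, hk⟩ := h.pg.index (St φ x)
    rw [h3, h8, hk] at h4
    rw [hk]
    match k with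
    | 0 => norm_num
    | 1 => norm_num
    | k + 2 => rw [pow_add] at h4; have := Nat.one_le_pow k 3 (by omega); omega
  · intro b hb hb1
    let ψ := φ.comp (St φ x).subtype
    have h3 := modEq (h.pg.to_subgroup (St φ x)) ψ (K := Fx φ a) fun c => h.inv a c
    have h4 : center W < Fx φ a ⊓ autFixed ψ :=
      lt_of_le_not_ge (le_inf (h.cen_le a) fun y hy c => h.cen_le c hy) fun e =>
        hx' (e ⟨hx, fun c => c.2⟩)
    have h5 := card_lt_of_lt h4
    rw [h8] at h3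
    rcases dvd8 h8 (inf_le_left (b := autFixed ψ)) with e | e | e | e
    · omega
    · omega
    · rw [e] at h3; exact absurd h3 (by decide)
    · exact (eq_of_le_of_card_ge (fun y hy => (e.ge hy).2 ⟨b, hb⟩) (h8 ▸ h.card_Fx hb1)).symm

theorem ne_top (ha : a ≠ 1) : Fx φ a ≠ ⊤ := fun e =>
  ha (h.inj (MulEquiv.ext fun x => (e.ge (mem_top x)).trans (by simp)))

theorem nine : Nat.card A = 9 := by
  obtain ⟨a, ha, H⟩ := h.exists_nf
  obtain ⟨rfl, h1, h2⟩ := h.fixed
  obtain ⟨x, hx, hx'⟩ := SetLike.not_le_iff_exists.1 (h1 ▸ H)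
  obtain ⟨b, hb, H'⟩ : ∃ b ≠ 1, ¬ Fx φ b ≤ Fx φ a := by
    by_contra! H'
    exact h.ne_top ha (top_le_iff.1 (h.gen aInv_top fun b hb => inf_le_right.trans (H' b hb)))
  obtain ⟨y, hy, hy'⟩ := SetLike.not_le_iff_exists.1 H'
  obtain ⟨a1, a2⟩ := h.st ha hx hx'
  obtain ⟨b1, b2⟩ := h.st hb hy fun e => hy' (h.cen_le a e)
  have h3 : St φ x ⊓ St φ y = ⊥ := eq_bot_iff.2 fun c hc => by_contra fun e =>
    H' ((b2 c hc.2 e).symm.trans (a2 c hc.1 e)).le
  have h4 := (index_inf_le (H := St φ x) (K := St φ y)).trans (Nat.mul_le_mul a1 b1)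
  rw [h3, index_bot] at h4
  obtain ⟨k, hk⟩ := IsPGroup.iff_card.1 h.pg
  rw [hk] at h4 ⊢
  match k with
  | 0 => exact (h.nc (isCyclic_of_card_dvd_prime (p := 3) (by rw [hk]; norm_num))).elim
  | 1 => exact (h.nc (isCyclic_of_prime_card hk)).elim
  | 2 => rfl
  | k + 3 => rw [pow_add] at h4; have := Nat.one_le_pow k 3 (by omega); omega

theorem chain (k : ℕ) : ∃ (s : Finset A) (J : Subgroup W), (∀ a ∈ s, a ≠ 1 ∧ a⁻¹ ∈ s ∧ Fx φ a ≤ J) ∧
    center W ≤ J ∧ Nat.card J ≤ 2 * 4 ^ k ∧ (J = ⊤ ∨ s.card = 2 * k) := by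
  classical
  induction k with
  | zero => exact ⟨∅, center W, by simp, le_rfl, h.fixed.2.2.le, .inr rfl⟩
  | succ k ih =>
  obtain ⟨s, J, h1, h2, h3, h4⟩ := ih
  by_cases e : J = ⊤
  · exact ⟨s, J, h1, h2, by rw [pow_succ]; omega, .inl e⟩
  obtain ⟨a, ha, H⟩ : ∃ a ≠ 1, ¬ Fx φ a ≤ J := by
    by_contra! H'
    exact e (top_le_iff.1 (h.gen aInv_top fun b hb => inf_le_right.trans (H' b hb)))
  have h5 : a ∉ s := fun e => H (h1 a e).2.2
  have h6 : a⁻¹ ∉ s := fun e => h5 (inv_inv a ▸ (h1 _ e).2.1)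
  have h7 : a ≠ a⁻¹ := fun e => ha (orderOf_eq_one_iff.1 (Nat.Coprime.eq_one_of_dvd
    (h.ord (MonoidHom.id A) a) (orderOf_dvd_of_pow_eq_one (by rw [sq]; exact mul_eq_one_iff_eq_inv.2 e))))
  have h8 : Fx φ a⁻¹ ≤ Fx φ a := fun x hx => by
    rw [mem_Fx, map_inv, MulAut.inv_apply, MulEquiv.symm_apply_eq] at hx
    exact hx.symm
  have := normal_of_commutator_le fun x _ g =>
    h.cen_le a (h.frat (commutatorElement_mem_frattini h.two x g))
  refine ⟨insert a (insert a⁻¹ s), J ⊔ Fx φ a, ?_, le_sup_of_le_left h2, ?_, .inr ?_⟩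
  · simp only [Finset.forall_mem_insert]
    exact ⟨⟨ha, by simp, le_sup_right⟩, ⟨inv_ne_one.2 ha, by simp, le_sup_of_le_right h8⟩,
      fun b hb => ⟨(h1 b hb).1, by simp [(h1 b hb).2.1], le_sup_of_le_left (h1 b hb).2.2⟩⟩
  · have a1 := H4.card_sup_mul_card_inf J (Fx φ a)
    have a2 := card_le_of_le (le_inf h2 (h.cen_le a))
    rw [h.fixed.2.2] at a2
    have a3 := Nat.mul_le_mul h3 (h.card_Fx ha)
    have a4 := Nat.mul_le_mul_left (Nat.card (J ⊔ Fx φ a : Subgroup W)) a2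
    rw [pow_succ]; omega
  · rw [Finset.card_insert_of_notMem (by simp [h5, h7]), Finset.card_insert_of_notMem h6,
      h4.resolve_left e]; ring

theorem card_W : Nat.card W = 2 ^ 5 ∨ Nat.card W = 2 ^ 7 ∨ Nat.card W = 2 ^ 9 := by
  classical
  obtain ⟨n, hn, h1⟩ := extraspecial_card h.es
  obtain ⟨s, J, h2, -, h3, h4⟩ := h.chain 4
  have := Fintype.ofFinite A
  have h5 : J = ⊤ := h4.elim id fun e => top_le_iff.1 (h.gen aInv_top fun a ha => by
    have : s = Finset.univ.erase 1 := Finset.eq_of_subset_of_card_le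
      (fun b hb => by simp [(h2 b hb).1]) (by
        rw [Finset.card_erase_of_mem (Finset.mem_univ _), Finset.card_univ, ← Nat.card_eq_fintype_card,
          h.nine, e])
    exact inf_le_right.trans (h2 a (by simp [this, ha])).2.2)
  rw [h5, card_top, h1] at h3
  have h6 : 2 * n + 1 ≤ 9 := (Nat.pow_le_pow_iff_right one_lt_two).1 h3
  obtain ⟨a, ha, H⟩ := h.exists_nf
  have h7 : n ≠ 1 := by
    rintro rfl
    exact h.ne_top ha (eq_top_of_card_eq _ ((h.nf8 ha H).1.trans h1.symm))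
  rw [h1]
  obtain rfl | rfl | rfl : n = 2 ∨ n = 3 ∨ n = 4 := by omega
  all_goals simp

end Hy
end H4.OI
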