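import Cfsg.Agent.H27.MS1

/-! S5899, chunk `HD`: the heads of `Q` when an involution lifts. -/

set_option autoImplicit false
set_option linter.unusedVariables false

namespace H4
namespace MZ
open Cfsg Subgroup H18 H17.GS H28.S H2.GW
open H19 hiding eq_bot_mono
open H28.NG hiding Hyp Uniq Ch
open H27.MS
open scoped MatrixGroups

universe u

/-- a subgroup given by the list of its elements -/
def sb {X : Type} [Group X] (l : List X) (h1 : 1 ∈ l) (hm : ∀ x ∈ l, ∀ y ∈ l, x * y ∈ l)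
    (hi : ∀ x ∈ l, ∃ y ∈ l, x * y = 1) : Subgroup X where
  carrier := {x | x ∈ l}
  one_mem' := h1
  mul_mem' {x y} a b := hm x a y b
  inv_mem' {x} a := by obtain ⟨y, b, e⟩ := hi x a; rwa [inv_eq_of_mul_eq_one_right e]

theorem card_sb {X : Type} [Group X] (l : List X) (h1 hm hi) (n : l.Nodup) : Nat.card (sb l h1 hm hi) = l.length := by
  classical
  rw [← List.toFinset_card_of_nodup n, ← Nat.card_eq_finsetCard]
  exact Nat.card_congr (Equiv.subtypeEquivRight fun x => List.mem_toFinset.symm)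

def mz : SL(3, ZMod 2) := ⟨!![1,0,1;0,1,0;0,0,1], by decide⟩
def mv : SL(3, ZMod 2) := ⟨!![1,1,0;0,1,0;0,0,1], by decide⟩
def mw : SL(3, ZMod 2) := ⟨!![1,0,0;0,1,1;0,0,1], by decide⟩
def lV : List SL(3, ZMod 2) := [1, mz, mv, mz * mv]
def lU : List SL(3, ZMod 2) := [1, mz, mv, mz * mv, mw, mz * mw, mv * mw, mz * mv * mw]
def V4 : Subgroup SL(3, ZMod 2) := sb lV (by decide +kernel) (by decide +kernel) (by decide +kernel)
def U8 : Subgroup SL(3, ZMod 2) := sb lU (by decide +kernel) (by decide +kernel) (by decide +kernel)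
theorem cV : Nat.card V4 = 4 := card_sb _ _ _ _ (by decide +kernel)
theorem cU : Nat.card U8 = 8 := card_sb _ _ _ _ (by decide +kernel)
theorem VU : ∀ x ∈ lV, x ∈ lU ∧ x * x = 1 := by decide +kernel
theorem nV : ∀ g ∈ lU, ∀ x ∈ lV, ∃ y ∈ lV, g * x = y * g := by decide +kernel

variable {G : Type u} [Group G] [Finite G] {N Q T Q₀ : Subgroup G} {X : Type} [Group X]

/-- preimage in `G` -/
def pre (π : N →* X) (Y : Subgroup X) : Subgroup G := (Y.comap π).map N.subtype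

theorem mem_pre {π : N →* X} {Y : Subgroup X} {x : G} : x ∈ pre π Y ↔ ∃ h : x ∈ N, π ⟨x, h⟩ ∈ Y :=
  ⟨fun ⟨y, a, b⟩ => ⟨b ▸ y.2, by subst b; exact a⟩, fun ⟨h, a⟩ => ⟨⟨x, h⟩, a, rfl⟩⟩

theorem pre_le (π : N →* X) (Y : Subgroup X) : pre π Y ≤ N := map_subtype_le _

theorem card_pre {π : N →* X} (s : Function.Surjective π) (k : ∀ g : N, π g = 1 ↔ (g : G) ∈ Q) (q : Q ≤ N)
    (Y : Subgroup X) : #(pre π Y) = Nat.card Y * #Q := by
  rw [pre, card_map_of_injective N.subtype_injective, H1.card_comap_of_surjective s,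
    show π.ker = Q.subgroupOf N from Subgroup.ext fun g => k g, Nat.card_congr (subgroupOfEquivOfLe q).toEquiv]

theorem le_pre {π : N →* X} (k : ∀ g : N, π g = 1 ↔ (g : G) ∈ Q) (q : Q ≤ N) (Y : Subgroup X) : Q ≤ pre π Y :=
  fun x hx => mem_pre.2 ⟨q hx, by rw [(k ⟨x, q hx⟩).2 hx]; exact one_mem _⟩

theorem pre_top (π : N →* X) : pre π ⊤ = N := le_antisymm (pre_le _ _) fun x hx => mem_pre.2 ⟨hx, trivial⟩

/-- a Sylow subgroup of order `8 |Q|` with a normal four-group modulo `Q` -/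
theorem l7_kit (h : Fr N Q T) (l : L7 N Q) : ∃ T' E, Fr N Q T' ∧ #T' = 8 * #Q ∧ E ⊴ T' ∧ Q ≤ E ∧ #E = 4 * #Q ∧
    ∀ e ∈ E, e * e ∈ Q := by
  obtain ⟨π, s, k⟩ := l
  have q := h.nq.le
  have cT : #(pre π U8) = 8 * #Q := by rw [card_pre s k q, cU]
  have cN : #N = 168 * #Q := by
    rw [← pre_top π, card_pre s k q, card_top, H11.card_sl3_two]
  have ix : (pre π U8).relIndex N = 21 := by
    have := H19.card_mul_relIndex (pre_le π U8)
    rw [cT, cN] at this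
    have p := card_pos Q
    refine Nat.eq_of_mul_eq_mul_left (show 0 < 8 * #Q by omega) (this.trans ?_)
    ring
  refine ⟨pre π U8, pre π V4, ⟨h.pg, h.nq, ⟨pre_le _ _, ?_, ?_⟩, h.ns, h.sol, h.smp⟩, cT, ⟨?_, ?_⟩, le_pre k q _,
    by rw [card_pre s k q, cV], fun e he => ?_⟩
  · unfold PiG
    rw [cT]
    exact (PiN.prime_pow Nat.prime_two 3).mul h.pg
  · rw [ix]; exact PiN.of_not_dvd (by decide)
  · exact map_mono (comap_mono fun x hx => (VU x hx).1)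
  · intro g hg
    obtain ⟨g1, g2⟩ := mem_pre.1 hg
    refine mem_norm_of_cj_le fun y hy => ?_
    obtain ⟨x, hx, rfl⟩ := mem_cj'.1 hy
    obtain ⟨x1, x2⟩ := mem_pre.1 hx
    obtain ⟨y, y1, y2⟩ := nV _ g2 _ x2
    refine mem_pre.2 ⟨mul_mem (mul_mem g1 x1) (inv_mem g1), ?_⟩
    have : π ⟨g * x * g⁻¹, mul_mem (mul_mem g1 x1) (inv_mem g1)⟩ = y := by
      rw [show (⟨g * x * g⁻¹, mul_mem (mul_mem g1 x1) (inv_mem g1)⟩ : N) = ⟨g, g1⟩ * ⟨x, x1⟩ * (⟨g, g1⟩ : N)⁻¹ from rfl,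
        map_mul, map_mul, map_inv, y2, mul_inv_cancel_right]
    rw [this]; exact y1
  · obtain ⟨e1, e2⟩ := mem_pre.1 he
    exact (k (⟨e, e1⟩ * ⟨e, e1⟩)).1 (by rw [map_mul]; exact (VU _ e2).2)

/-- a head of `Q` is elementary abelian -/
theorem ea_head (p : H19.PG 2 Q) (nq : Q ⊴ N) (n0 : Q₀ ⊴ N) (lt : Q₀ < Q)
    (mx : ∀ X, X ⊴ N → Q₀ ≤ X → X ≤ Q → X = Q₀ ∨ X = Q) : EA Q₀ Q := by
  have f : Phi Q ≤ Q₀ := by
    rcases mx (Q₀ ⊔ Phi Q) (n0.sup ⟨(H4.Phi_le Q).trans nq.le, H4.norms_Phi nq.norm⟩) le_sup_left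
      (sup_le lt.le (H4.Phi_le Q)) with e | e
    · exact le_sup_right.trans e.le
    · exact absurd (H1.eq_of_sup_of_le_frattiniOf lt.le le_rfl e.ge) lt.ne
  exact ⟨lt.le, (H4.der_le_Phi p).trans f, fun v hv => f (sq v ▸ H4.pow_mem_Phi p hv), p.of_le lt.le⟩

theorem hd (ty : Ty.{u}) (lf : LF.{u}) (el : EL.{u}) (fr : FR.{u}) (ir : IR.{u}) : HD.{u} := by
  intro G _ _ N Q T₀ Q₀ a h₀ l n0 lt mx aN aQ a2
  obtain ⟨T, E, h, cT, nE, qE, cE, sE⟩ := l7_kit h₀ l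
  have ea := ea_head h.pg h.nq n0 lt mx
  have one := (ty h).1
  have QT : Q ≤ T := qE.trans nE.le
  have nc : ¬ N ≤ H28.NG.Cm Q₀ Q := fun c => by
    have EN : E ≤ N := nE.le.trans h.syl.le
    have s2 : ∀ e ∈ E, e * e ∈ Q₀ := fun e he => by
      by_cases eq : e ∈ Q
      · exact ea.sq e eq
      obtain ⟨g, gN, hg⟩ := one a e ⟨aN, aQ, lt.le a2⟩ ⟨EN he, eq, sE e he⟩
      have bN : g * a * g⁻¹ ∈ N := mul_mem (mul_mem gN aN) (inv_mem gN)
      have b2 : g * a * g⁻¹ * (g * a * g⁻¹) ∈ Q₀ := by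
        rw [show g * a * g⁻¹ * (g * a * g⁻¹) = g * (a * a) * g⁻¹ by group]; exact n0.conj_mem gN a2
      generalize g * a * g⁻¹ = b at hg bN b2
      obtain ⟨q, hq, rfl⟩ : ∃ q ∈ Q, e = q * b := ⟨(b * e⁻¹)⁻¹, inv_mem hg, by group⟩
      rw [show q * b * (q * b) = q * (b * q * b⁻¹ * q⁻¹) * q⁻¹ * (q * q) * (b * b) by group]
      exact mul_mem (mul_mem (n0.conj_mem (h.nq.le hq) ((c bN).2 q hq)) (ea.sq q hq)) b2
    refine el (n := 0) h (.inl l) one n0 lt nE (commutator_le.2 fun x hx y hy => ?_) s2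
      (by rw [sup_eq_left.2 qE, cE]) aN aQ a2
    rw [commutatorElement_def, show x * y * x⁻¹ * y⁻¹ = x * x * (x⁻¹ * y * (x⁻¹ * y)) * (y⁻¹ * y⁻¹) by group]
    exact mul_mem (mul_mem (s2 x hx) (s2 _ (mul_mem (inv_mem hx) hy))) (s2 _ (inv_mem hy))
  have sec : Sec N Q Q₀ Q := ⟨ea, h.nq.norm, n0.norm, ea.cm, nc⟩
  refine ⟨sec, ?_⟩
  rcases ir h l sec (fun X x1 x2 x3 => mx X ⟨x2.trans h.nq.le, x3⟩ x1 x2) with c | ⟨-, w, wQ, R, r1, r2, r3, r4, r5⟩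
  · exact c
  obtain ⟨X, x1, x2, x3⟩ := fr R h.syl.pi (h.nq.of_le QT h.syl.le) (n0.of_le (lt.le.trans QT) h.syl.le) ea wQ r1 r2
    (by rw [r3, cT]) r4 r5
  exact absurd x3 (lf h n0 lt x2 x1)

end MZ
end H4
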