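import Cfsg.Agent.H4.Fa2
import Cfsg.Agent.H3.ThompsonNPC
import Cfsg.Agent.H3.Frobenius

/-! Frobenius groups of automorphisms: nilpotency from the fixed points of the complement. -/

namespace H4.Fa

open Subgroup H2 Cfsg
open scoped Pointwise IsMulCommutative commutatorElement

universe u v

variable {A : Type v} [Group A] [Finite A] {G : Type u} [Group G] [Finite G]
  {φ : A →* MulAut G}

omit [Finite A] in
theorem core_of_nil {X : Subgroup G} (hX : Group.IsNilpotent X) (hi : AInv φ X) (q : ℕ)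
    [Fact q.Prime] : ∃ Q : Subgroup G, Q ≤ X ∧ IsPGroup q Q ∧ AInv φ Q ∧
      normalizer (X : Set G) ≤ normalizer (Q : Set G) ∧ ¬ q ∣ Q.relIndex X := by
  refine ⟨(pCore q X).map X.subtype, map_subtype_le _, H1.pCore_isPGroup.map _,
    hi.map_characteristic _, normalizer_le_normalizer_map_of_characteristic X _, ?_⟩
  rw [relIndex, subgroupOf, comap_map_eq_self_of_injective X.subtype_injective]
  exact H1.isNilpotent_iff_pCore.1 hX q Fact.out

omit [Finite A] in
theorem pgroup_of_nil {X : Subgroup G} (hX : Group.IsNilpotent X) (hi : AInv φ X) {p : ℕ}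
    [Fact p.Prime] (h : ∀ (q : ℕ) [Fact q.Prime], q ≠ p → ∀ Q : Subgroup G, Q ≤ X →
      IsPGroup q Q → AInv φ Q → normalizer (X : Set G) ≤ normalizer (Q : Set G) → Q = ⊥) :
    IsPGroup p X := by
  refine IsPGroup.iff_card.2 ⟨_, Nat.eq_prime_pow_of_unique_prime_dvd Nat.card_pos.ne'
    fun {q} hq hd => ?_⟩
  by_contra hne
  haveI := Fact.mk hq
  obtain ⟨Q, h1, h2, h3, h4, h5⟩ := core_of_nil hX hi q
  rw [h q hne Q h1 h2 h3 h4, relIndex_bot_left] at h5
  exact h5 hd

omit [Finite A] in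
theorem exists_min {N : Subgroup G} [N.Normal] (hN : AInv φ N) (h0 : N ≠ ⊥) {p : ℕ}
    [Fact p.Prime] (hp : IsPGroup p N) : ∃ V : Subgroup G, V ≤ N ∧ V.Normal ∧ AInv φ V ∧
      V ≠ ⊥ ∧ IsMulCommutative V ∧ ∀ W : Subgroup G, W ≤ V → W.Normal → AInv φ W → W ≠ ⊥ →
        W = V := by
  obtain ⟨V, hV⟩ := Set.Finite.exists_minimal
    (s := {V : Subgroup G | V ≤ N ∧ V.Normal ∧ AInv φ V ∧ V ≠ ⊥}) (Set.toFinite _)
    ⟨N, le_rfl, inferInstance, hN, h0⟩
  obtain ⟨h1, h2, h3, h4⟩ := hV.1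
  have hm : ∀ W : Subgroup G, W ≤ V → W.Normal → AInv φ W → W ≠ ⊥ → W = V :=
    fun W a b c d => le_antisymm a (hV.2 ⟨a.trans h1, b, c, d⟩ a)
  refine ⟨V, h1, h2, h3, h4, ?_, hm⟩
  have h5 : ⁅V, V⁆ < V := H1.commutator_lt_of_isNilpotent (hp.to_le h1).isNilpotent le_rfl
    le_normalizer h4
  have h6 : ⁅V, V⁆ = ⊥ := by
    by_contra h
    exact h5.ne (hm _ h5.le inferInstance (h3.commutator h3) h)
  rw [commutator_eq_bot_iff_le_centralizer] at h6
  exact le_centralizer_iff_isMulCommutative.1 h6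

variable {F H : Subgroup A}

theorem case_normal [F.Normal] (hF : Group.IsNilpotent F) (hf : Fpf F H) (h0 : fx φ F = ⊥)
    (hH : Group.IsNilpotent (fx φ H))
    (sub : ∀ X : Subgroup G, X ≠ ⊤ → AInv φ X → Group.IsNilpotent X)
    (quo : ∀ (p : ℕ) [Fact p.Prime] (V : Subgroup G) [V.Normal], AInv φ V → IsPGroup p V →
      IsMulCommutative V → V ≠ ⊥ → Group.IsNilpotent (G ⧸ V))
    {p : ℕ} [Fact p.Prime] {N : Subgroup G} [N.Normal] (hN : AInv φ N) (hN0 : N ≠ ⊥)
    (hp : IsPGroup p N) : Group.IsNilpotent G := by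
  have hn : H ≤ normalizer (F : Set A) := by rw [normalizer_eq_top]; exact le_top
  by_contra hG
  obtain ⟨V, hVN, _, hV, hV0, _, hm⟩ := exists_min hN hN0 hp
  have hVp : IsPGroup p V := hp.to_le hVN
  haveI hq := quo p V hV hVp inferInstance hV0
  have prop : ∀ X : Subgroup G, X.Normal → X ≠ ⊤ → AInv φ X → IsPGroup p X := by
    intro X _ h1 h2
    refine pgroup_of_nil (sub X h1 h2) h2 fun q _ hqp Q _ h4 h5 h6 => ?_
    by_contra h7
    haveI : Q.Normal := by
      rw [normalizer_eq_top, top_le_iff, normalizer_eq_top_iff] at h6; exact h6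
    obtain ⟨W, hWQ, _, hW, hW0, _, -⟩ := exists_min h5 h7 h4
    haveI := quo q W hW (h4.to_le hWQ) inferInstance hW0
    have hd : Disjoint V W := IsPGroup.disjoint_of_ne p q hqp.symm _ _ hVp (h4.to_le hWQ)
    refine hG (Group.nilpotent_of_mulEquiv (MonoidHom.ofInjective
      (f := (QuotientGroup.mk' V).prod (QuotientGroup.mk' W)) ?_).symm)
    rw [← MonoidHom.ker_eq_bot_iff, MonoidHom.ker_prod, QuotientGroup.ker_mk',
      QuotientGroup.ker_mk']
    exact hd.eq_bot
  have hC : centralizer (V : Set G) ≠ ⊤ := fun e => hG (Subgroup.isNilpotent_of_ker_le_center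
    (QuotientGroup.mk' V) (by
      rw [QuotientGroup.ker_mk']
      intro v hv
      exact mem_center_iff.2 fun g => (mem_centralizer_iff.1 (e ▸ mem_top g) v hv).symm))
  have hCp := prop _ inferInstance hC hV.centralizer
  have hZ : V ⊓ center G = ⊥ := by
    by_contra h
    have := hm _ inf_le_left inferInstance (hV.inf (aInv_of_characteristic _)) h
    refine hC (eq_top_iff.2 fun g _ => mem_centralizer_iff.2 fun v hv => ?_)
    rw [← this] at hv
    exact (mem_center_iff.1 hv.2 g).symm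
  -- a prime `q ≠ p`
  have hGp : ¬ IsPGroup p (G ⧸ V) := fun h => hG (by
    have := (IsPGroup.comap_of_ker_isPGroup (h.to_subgroup ⊤) (QuotientGroup.mk' V)
      (by rwa [QuotientGroup.ker_mk']))
    rw [comap_top] at this
    exact (this.of_equiv topEquiv).isNilpotent)
  obtain ⟨q, hqp, hq1, hqd⟩ : ∃ q : ℕ, q ≠ p ∧ q.Prime ∧ q ∣ Nat.card (G ⧸ V) := by
    by_contra h
    push Not at h
    exact hGp (IsPGroup.iff_card.2 ⟨_, Nat.eq_prime_pow_of_unique_prime_dvd Nat.card_pos.ne'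
      fun {q} h1 h2 => by_contra fun h3 => h q h3 h1 h2⟩)
  haveI := Fact.mk hq1
  let φ' := quotAut φ V hV
  let U : Subgroup (G ⧸ V) :=
    { carrier := {z | z ∈ center (G ⧸ V) ∧ z ^ q = 1}
      one_mem' := ⟨one_mem _, one_pow _⟩
      mul_mem' := fun {a b} ha hb => ⟨mul_mem ha.1 hb.1, by
        rw [(show Commute a b from (mem_center_iff.1 hb.1 a)).mul_pow, ha.2, hb.2, one_mul]⟩
      inv_mem' := fun {a} ha => ⟨inv_mem ha.1, by rw [inv_pow, ha.2, inv_one]⟩ }
  have hUi : AInv φ' U := fun a z hz =>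
    ⟨aInv_of_characteristic (φ := φ') _ a z hz.1, by rw [← map_pow, hz.2, map_one]⟩
  haveI hUn : U.Normal := ⟨fun z hz g => by
    rw [mem_center_iff.1 hz.1 g, mul_inv_cancel_right]; exact hz⟩
  obtain ⟨z, hz, z1⟩ : ∃ z ∈ U, z ≠ 1 := by
    obtain ⟨Q⟩ : Nonempty (Sylow q (G ⧸ V)) := inferInstance
    haveI := H1.isNilpotent_iff_sylow_normal.1 hq q inferInstance Q
    have h1 := H1.inf_center_ne_bot_of_isNilpotent hq Q (Q.ne_bot_of_dvd_card hqd)
    have h2 : IsPGroup q ((Q : Subgroup (G ⧸ V)) ⊓ center (G ⧸ V) : Subgroup _) :=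
      Q.isPGroup'.to_le inf_le_left
    obtain ⟨n, hn⟩ := IsPGroup.iff_card.1 h2
    obtain ⟨y, hy⟩ := exists_prime_orderOf_dvd_card' (G := ((Q : Subgroup (G ⧸ V)) ⊓
      center (G ⧸ V) : Subgroup _)) q (by
        rw [hn]
        exact dvd_pow_self _ fun e => h1 (card_eq_one.1 (by rw [hn, e, pow_zero])))
    refine ⟨y, ⟨y.2.2, ?_⟩, fun e => hq1.one_lt.ne' ?_⟩
    · have := pow_orderOf_eq_one y
      rw [hy] at this
      exact congrArg Subtype.val this
    · rw [← orderOf_coe, e, orderOf_one] at hy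
      exact hy.symm
  have hpq : p.Coprime q := (Nat.coprime_primes Fact.out hq1).2 hqp.symm
  have triv : ∀ {K : Type u} [Group K] (y : K) (n : ℕ), y ^ p ^ n = 1 → y ^ q = 1 → y = 1 := by
    intro K _ y n a b
    have h2 : orderOf y ∣ Nat.gcd (p ^ n) q :=
      Nat.dvd_gcd (orderOf_dvd_of_pow_eq_one a) (orderOf_dvd_of_pow_eq_one b)
    rw [Nat.Coprime.pow_left _ hpq, Nat.dvd_one] at h2
    exact orderOf_eq_one_iff.1 h2
  have hU : U = ⊤ := by
    by_contra h
    have h1 := prop (U.comap (QuotientGroup.mk' V)) inferInstance (fun e => h (by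
      rw [← map_comap_eq_self_of_surjective (QuotientGroup.mk'_surjective V) U, e,
        map_top_of_surjective _ (QuotientGroup.mk'_surjective V)]))
      (AInv.comap_quotAut V hV hUi)
    obtain ⟨g, rfl⟩ := QuotientGroup.mk_surjective z
    obtain ⟨n, hn⟩ := h1 ⟨g, hz⟩
    have h2 : g ^ p ^ n = 1 := congrArg Subtype.val hn
    exact z1 (triv _ n (by rw [← QuotientGroup.mk_pow, h2, QuotientGroup.mk_one]) hz.2)
  have hU' : ∀ u : G ⧸ V, u ∈ center (G ⧸ V) ∧ u ^ q = 1 := fun u => (hU ▸ mem_top u : u ∈ U)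
  haveI : IsMulCommutative (G ⧸ V) := ⟨⟨fun a b => mem_center_iff.1 (hU' b).1 a⟩⟩
  have h0' := fx_quot hF h0 V hV hVp
  have h1 : (⊤ : Subgroup (G ⧸ V)) ⊓ fx φ' H ≠ ⊥ := fun e => z1 (by
    have := inf_fx_ne_bot (p := q) (φ := φ') hF hn hf (W := ⊤)
      (fun u => ⟨1, Subtype.ext (by rw [pow_one, coe_pow, (hU' _).2, coe_one])⟩)
      (iv_of_ainv _ aInv_top) (iv_of_ainv _ aInv_top) (by rw [h0', inf_bot_eq]) e
    exact mem_bot.1 (this ▸ mem_top z))
  obtain ⟨⟨y, hy0, hy⟩, y1⟩ := ne_bot_iff_exists_ne_one.1 h1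
  obtain ⟨g, rfl⟩ := QuotientGroup.mk_surjective y
  obtain ⟨v, hv, hx⟩ := cover hn hf V hV (by rw [h0, inf_bot_eq]) (g := g) fun h hh =>
    QuotientGroup.eq.1 ((mem_fx.1 hy h hh).symm.trans (quotAut_mk φ V hV h g))
  have x1 : ((g * v : G) : G ⧸ V) ≠ 1 := fun e => y1 (Subtype.ext (by
    rw [QuotientGroup.mk_mul, (QuotientGroup.eq_one_iff v).2 hv, mul_one] at e
    exact e))
  generalize g * v = x at hx x1
  obtain ⟨n, hn'⟩ := hVp ⟨x ^ q, (QuotientGroup.eq_one_iff _).1 (hU' (x : G ⧸ V)).2⟩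
  have h2 : (x ^ p ^ n) ^ q = 1 := by
    rw [← pow_mul, mul_comm, pow_mul]; exact congrArg Subtype.val hn'
  have x2 : x ^ p ^ n ≠ 1 := fun e => x1 (triv _ n
    (by rw [← QuotientGroup.mk_pow, e, QuotientGroup.mk_one]) (hU' _).2)
  have hx2 := pow_mem hx (p ^ n)
  generalize x ^ p ^ n = t at h2 x2 hx2
  let ρ : G ⧸ V →* MulAut V := QuotientGroup.lift V MulAut.conjNormal fun k hk => by
    ext w
    have := congrArg Subtype.val (mul_comm (⟨k, hk⟩ : V) w)
    simp only [coe_mul] at this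
    simp [this]
  have hρ : ∀ (g : G) (w : V), (ρ (g : G ⧸ V) w : G) = g * w * g⁻¹ := fun _ _ => rfl
  have h3 := clifford (p := p) (q := q) hqp.symm hVp (fun u => (hU' u).2) ρ φ'
    (restrictAut φ V hV) (fun a u w => by
      obtain ⟨u, rfl⟩ := QuotientGroup.mk_surjective u
      apply Subtype.ext
      show φ a (u * w * u⁻¹) = φ a u * φ a w * (φ a u)⁻¹
      simp) hF hn hf
    (eq_bot_iff.2 fun w hw => by
      have : (w : G) ∈ fx φ F := mem_fx.2 fun b hb => congrArg Subtype.val (mem_fx.1 hw b hb)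
      rw [h0] at this
      exact Subtype.ext this)
    (eq_bot_iff.2 fun w hw => by
      have : (w : G) ∈ V ⊓ center G := mem_inf.2 ⟨w.2, mem_center_iff.2 fun g => by
        have := congrArg Subtype.val (mem_fx.1 hw (g : G ⧸ V) (mem_top _))
        rw [hρ] at this
        exact mul_inv_eq_iff_eq_mul.1 this⟩
      rw [hZ] at this
      exact Subtype.ext this)
    (x := (t : G ⧸ V)) fun w hw => by
      have h4 : (w : G) ∈ fx φ H := mem_fx.2 fun b hb => congrArg Subtype.val (mem_fx.1 hw b hb)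
      obtain ⟨m, hm⟩ := hVp w
      have h5 := H1.commute_of_isNilpotent_of_coprime hH (x := ⟨t, hx2⟩) (y := ⟨w, h4⟩) (by
        rw [← orderOf_coe, ← orderOf_coe]
        refine Nat.Coprime.coprime_dvd_left (orderOf_dvd_of_pow_eq_one h2)
          (Nat.Coprime.coprime_dvd_right (orderOf_dvd_of_pow_eq_one (n := p ^ m)
            (congrArg Subtype.val hm)) (Nat.Coprime.pow_right _ hpq.symm)))
      apply Subtype.ext
      rw [hρ]
      exact mul_inv_eq_iff_eq_mul.2 (congrArg Subtype.val h5)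
  have h4 : t ∈ centralizer (V : Set G) := mem_centralizer_iff.2 fun w hw => by
    have := congrArg Subtype.val (h3 ⟨w, hw⟩)
    rw [hρ] at this
    exact (mul_inv_eq_iff_eq_mul.1 this).symm
  obtain ⟨m, hm⟩ := hCp ⟨t, h4⟩
  exact x2 (triv t m (congrArg Subtype.val hm) h2)

omit [Finite A] in
/-- without normal invariant `p`-subgroups, invariant subgroups of odd prime power order vanish -/
theorem odd_bot (sub : ∀ X : Subgroup G, X ≠ ⊤ → AInv φ X → Group.IsNilpotent X)
    (hno : ∀ (p : ℕ) [Fact p.Prime] (N : Subgroup G), N.Normal → AInv φ N → IsPGroup p N →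
      N = ⊥) {p : ℕ} [Fact p.Prime] (hp : p ≠ 2) {P : Subgroup G} (hP : IsPGroup p P)
    (hi : AInv φ P) : P = ⊥ := by
  by_contra h0
  obtain ⟨M, hM⟩ := Set.Finite.exists_maximal
    (s := {M : Subgroup G | IsPGroup p M ∧ AInv φ M ∧ M ≠ ⊥}) (Set.toFinite _) ⟨P, hP, hi, h0⟩
  obtain ⟨h1, h2, h3⟩ := hM.1
  have key : ∀ W : Subgroup G, W ≠ ⊥ → W ≤ M → AInv φ W →
      Group.IsNilpotent (normalizer (W : Set G)) := fun W a b c =>
    sub _ (fun e => a (hno p W (normalizer_eq_top_iff.1 e) c (h1.to_le b))) c.normalizer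
  obtain ⟨Q, hQ⟩ := h1.exists_le_sylow
  have hMQ : M = Q := by
    by_contra hne
    have hlt := H1.lt_normalizer_inf_of_isNilpotent Q.isPGroup'.isNilpotent
      (lt_of_le_of_ne hQ hne)
    obtain ⟨R, r1, r2, r3, r4, r5⟩ := core_of_nil (key M h3 le_rfl h2) h2.normalizer p
    have hle : ∀ Y : Subgroup G, Y ≤ normalizer (M : Set G) → IsPGroup p Y → Y ≤ R := by
      intro Y y1 y2
      have h4 : IsPGroup p (R ⊔ Y : Subgroup G) :=
        IsPGroup.to_sup_of_normal_left' r2 y2 (y1.trans (le_normalizer.trans r4))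
      obtain ⟨n, hn⟩ := IsPGroup.iff_card.1 h4
      have h5 : R.relIndex (R ⊔ Y) ∣ p ^ n := hn ▸ relIndex_dvd_card _ _
      obtain ⟨k, -, hk⟩ := (Nat.dvd_prime_pow Fact.out).1 h5
      have h6 : R.relIndex (R ⊔ Y) ∣ R.relIndex (normalizer (M : Set G)) :=
        Dvd.intro _ (relIndex_mul_relIndex R (R ⊔ Y) _ le_sup_left (sup_le r1 y1))
      have h7 : k = 0 := by
        by_contra h
        exact r5 ((dvd_pow_self p h).trans (hk ▸ h6))
      rw [h7, pow_zero, relIndex_eq_one] at hk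
      exact le_sup_right.trans hk
    have h8 : M ≤ R := hle M le_normalizer h1
    have h9 : R ≤ M := hM.2 ⟨r2, r3, fun e => h3 (le_bot_iff.1 (e ▸ h8))⟩ h8
    exact hlt.not_ge ((hle _ inf_le_left (Q.isPGroup'.to_le inf_le_right)).trans h9)
  subst hMQ
  have hJ : AInv φ (H9.JJ p (Q : Subgroup G)) := by
    rw [aInv_iff_map_eq]
    intro a
    rw [H9.map_JJ (f := (φ a).toMonoidHom) (φ a).injective, h2.map_eq]
  have hnpc : HasNormalPComplement p G := by
    refine H3.thompson_npc (dvd_refl p) (Or.inl hp) Q ?_ ?_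
    · haveI := key _ (H9.JJ_ne_bot_of_isPGroup Q.isPGroup' h3) (H9.JJ_le _ _) hJ
      exact H3.hasNPC_of_isNilpotent
    · haveI := key ((Q : Subgroup G) ⊓ centralizer ((Q : Subgroup G) : Set G))
        (H1.inf_centralizer_ne_bot_of_isPGroup Q.isPGroup' Q.isPGroup' le_normalizer h3)
        inf_le_left (h2.inf h2.centralizer)
      exact H3.hasNPC_of_le H3.hasNPC_of_isNilpotent (centralizer_le_normalizer _)
  have h4 := H3.hasNPC_iff_not_dvd.mp hnpc
  have h5 : pResidual p G ≠ ⊤ := fun e => h4 (by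
    rw [e, card_top]
    obtain ⟨n, hn⟩ := IsPGroup.iff_card.1 h1
    refine (dvd_pow_self p (n := n) fun e => h3 (card_eq_one.1 (by rw [hn, e, pow_zero]))).trans ?_
    exact hn ▸ card_subgroup_dvd_card _)
  have h6 : IsPGroup p (pResidual p G) :=
    pgroup_of_nil (sub _ h5 (aInv_of_characteristic _)) (aInv_of_characteristic (φ := φ) _)
      fun q _ _ R _ b c d => hno q R (by
        rw [normalizer_eq_top, top_le_iff, normalizer_eq_top_iff] at d; exact d) c b
  have h7 := H3.pResidual_sup_sylow Q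
  rw [hno p _ inferInstance (aInv_of_characteristic _) h6, bot_sup_eq] at h7
  exact h3 (hno p Q (h7 ▸ inferInstance) h2 h1)

theorem case_simple [F.Normal] (hF : Group.IsNilpotent F) (h0 : fx φ F = ⊥)
    (sub : ∀ X : Subgroup G, X ≠ ⊤ → AInv φ X → Group.IsNilpotent X)
    (hno : ∀ (p : ℕ) [Fact p.Prime] (N : Subgroup G), N.Normal → AInv φ N → IsPGroup p N →
      N = ⊥) : Group.IsNilpotent G := by
  by_contra hG
  have two : ∀ X : Subgroup G, X ≠ ⊤ → AInv φ X → IsPGroup 2 X := fun X a b =>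
    pgroup_of_nil (sub X a b) b fun q _ hq Q _ c d _ => odd_bot sub hno hq c d
  obtain ⟨p, hp2, hp, hpd⟩ : ∃ q : ℕ, q ≠ 2 ∧ q.Prime ∧ q ∣ Nat.card G := by
    by_contra h
    push Not at h
    exact hG (IsPGroup.isNilpotent (p := 2) (IsPGroup.iff_card.2
      ⟨_, Nat.eq_prime_pow_of_unique_prime_dvd Nat.card_pos.ne'
      fun {q} h1 h2 => by_contra fun h3 => h q h3 h1 h2⟩))
  haveI := Fact.mk hp
  -- odd primes dividing `|G|` do not divide the order of the image of `F`
  have hodd : ∀ r : ℕ, r.Prime → r ≠ 2 → r ∣ Nat.card G → ¬ r ∣ Nat.card (F.map φ) := by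
    intro r hr hr2 hrd
    haveI := Fact.mk hr
    let R := (pCore r F).map F.subtype
    haveI : R.Normal := inferInstance
    have h1 : fx φ R = ⊤ := by
      by_contra h
      have h2 := two _ h (ainv_fx R)
      obtain ⟨n, hn⟩ := IsPGroup.iff_card.1 h2
      have h3 : r ∣ Nat.card (fx φ R) := by
        letI : MulAction R G := MulAction.compHom G (φ.comp R.subtype)
        have h4 := IsPGroup.card_modEq_card_fixedPoints (H1.pCore_isPGroup.map F.subtype :
          IsPGroup r R) G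
        exact (Nat.modEq_zero_iff_dvd.1 (h4.symm.trans (Nat.modEq_zero_iff_dvd.2 hrd)))
      rw [hn] at h3
      exact hr2 ((Nat.prime_dvd_prime_iff_eq hr Nat.prime_two).1 (hr.dvd_of_dvd_pow h3))
    have h2 : pCore r F ≤ (φ.comp F.subtype).ker := fun a ha => by
      rw [MonoidHom.mem_ker]
      ext g
      exact mem_fx.1 (h1 ▸ mem_top g : g ∈ fx φ R) a ⟨a, ha, rfl⟩
    have h3 : Nat.card (F.map φ) = (φ.comp F.subtype).ker.index := by
      rw [index_ker, MonoidHom.range_comp, range_subtype]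
    rw [h3]
    exact fun h => H1.isNilpotent_iff_pCore.1 hF r hr (h.trans (index_dvd_of_le h2))
  have fin : ∀ B : Subgroup A, B.Normal → B ≤ F → fx φ B = ⊥ →
      (2 ∣ Nat.card G → ¬ 2 ∣ Nat.card B) → False := by
    intro B _ hBF hB h2
    have hcop : (Nat.card (B.map φ)).Coprime (Nat.card G) := by
      refine Nat.coprime_of_dvd fun r hr h3 h4 => ?_
      by_cases hr2 : r = 2
      · subst hr2
        exact h2 h4 (h3.trans (card_map_dvd _ _))
      · exact hodd r hr hr2 h4 (h3.trans (card_dvd_of_le (map_mono hBF)))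
    have hs : Group.IsSolvable (B.map φ) := by
      haveI := H1.isNilpotent_map (H1.isNilpotent_of_le hBF hF) φ
      infer_instance
    obtain ⟨P, hP⟩ := aut_exists_inv_Sylow (φ := (B.map φ).subtype) hcop (Or.inl hs) p
    have hP' : AInv φ P := by
      rw [aInv_iff_map_eq]
      intro a
      let Q : Sylow p G := P.mapSurjective (f := (φ a).toMonoidHom) (φ a).surjective
      have hQ : AInv (B.map φ).subtype Q := by
        rintro ⟨_, b, hb, rfl⟩ _ ⟨x, hx, rfl⟩
        refine ⟨φ (a⁻¹ * b * a) x, hP ⟨_, a⁻¹ * b * a, ?_, rfl⟩ x hx, by simp⟩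
        simpa using Normal.conj_mem inferInstance b hb a⁻¹
      obtain ⟨c, hc, e⟩ := aut_inv_Sylow_conj hcop (Or.inl hs) hP hQ
      have h3 : c ∈ fx φ B := mem_fx.2 fun b hb => hc ⟨_, b, hb, rfl⟩
      rw [hB, mem_bot] at h3
      rw [h3, one_smul] at e
      exact (congrArg (fun S : Sylow p G => (S : Subgroup G)) e).symm
    exact P.ne_bot_of_dvd_card hpd (odd_bot sub hno hp2 P.isPGroup' hP')
  by_cases he : 2 ∣ Nat.card G
  · refine fin (pc 2 F) inferInstance (pc_le 2 F) ?_ fun _ => not_dvd_pc 2 hF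
    have h1 : ¬ 2 ∣ Nat.card (fx φ (pc 2 F)) := fun h => by
      obtain ⟨x, -, x1, hx⟩ := exists_fixed_of_pc (φ := φ) (F := F) (X := fx φ (pc 2 F))
        (iv_of_ainv _ (ainv_fx _)) le_rfl h
      exact x1 (mem_bot.1 (h0 ▸ hx))
    obtain ⟨n, hn⟩ := IsPGroup.iff_card.1 (two _ (fun e => h1 (by rwa [e, card_top]))
      (ainv_fx (pc 2 F)))
    refine card_eq_one.1 ?_
    rw [hn] at h1 ⊢
    rw [show n = 0 from by_contra fun h => h1 (dvd_pow_self 2 h), pow_zero]
  · exact fin F inferInstance le_rfl h0 fun h => absurd h he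

theorem main [F.Normal] (hF : Group.IsNilpotent F) (hf : Fpf F H) (n : ℕ) :
    ∀ (G : Type u) [Group G] [Finite G] (φ : A →* MulAut G), Nat.card G = n → fx φ F = ⊥ →
      Group.IsNilpotent (fx φ H) → Group.IsNilpotent G := by
  have hn : H ≤ normalizer (F : Set A) := by rw [normalizer_eq_top]; exact le_top
  induction n using Nat.strong_induction_on with
  | _ n ih =>
  intro G _ _ φ hc h0 hH
  have sub : ∀ X : Subgroup G, X ≠ ⊤ → AInv φ X → Group.IsNilpotent X := by
    intro X h1 h2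
    refine ih _ (by
      rw [← hc, ← card_top (G := G)]
      exact card_lt_of_lt (lt_top_iff_ne_top.2 h1)) X (restrictAut φ X h2) rfl
      (eq_bot_iff.2 fun w hw => ?_) ?_
    · have : (w : G) ∈ fx φ F := mem_fx.2 fun b hb => congrArg Subtype.val (mem_fx.1 hw b hb)
      rw [h0] at this
      exact Subtype.ext this
    · refine (H1.isNilpotent_map_iff X.subtype_injective).1 (H1.isNilpotent_of_le ?_ hH)
      rintro _ ⟨w, hw, rfl⟩
      exact mem_fx.2 fun b hb => congrArg Subtype.val (mem_fx.1 hw b hb)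
  by_cases hno : ∀ (p : ℕ) [Fact p.Prime] (N : Subgroup G), N.Normal → AInv φ N →
      IsPGroup p N → N = ⊥
  · exact case_simple hF h0 sub hno
  push Not at hno
  obtain ⟨p, _, N, _, h1, h2, h3⟩ := hno
  refine case_normal hF hf h0 hH sub (fun q _ V _ a b c d => ?_) h1 h3 h2
  have hlt : Nat.card (G ⧸ V) < n := by
    rw [← hc, card_eq_card_quotient_mul_card_subgroup V]
    have h2 : 1 < Nat.card V := (one_lt_card_iff_ne_bot V).mpr d
    have h3 : 0 < Nat.card (G ⧸ V) := Nat.card_pos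
    nlinarith
  refine ih _ hlt (G ⧸ V) (quotAut φ V a) rfl (fx_quot hF h0 V a b)
    (H1.isNilpotent_of_le ?_ (H1.isNilpotent_map hH (QuotientGroup.mk' V)))
  intro y hy
  obtain ⟨g, rfl⟩ := QuotientGroup.mk_surjective y
  obtain ⟨v, hv, hx⟩ := cover hn hf V a (by rw [h0, inf_bot_eq]) (g := g) fun h hh =>
    QuotientGroup.eq.1 ((mem_fx.1 hy h hh).symm.trans (quotAut_mk φ V a h g))
  exact ⟨g * v, hx, by simp [hv]⟩

end H4.Fa
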