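import Cfsg.Agent.H4.Mx3

/-! No elementary abelian essential subgroup of order `p ^ 3` over a group of maximal class. -/

set_option autoImplicit false
set_option linter.unusedSectionVars false

namespace H4
namespace Mx
open Subgroup H25 H25.FS P5 G3
open scoped commutatorElement

variable {Γ : Type*} [Group Γ] [Finite Γ] {p n i j m : ℕ} [hp : Fact p.Prime]
variable {S A B E K N P Q U V W X Y : Subgroup Γ} {a b c g h k s t u v w x y z e : Γ} {F : FS Γ}

abbrev QQ (S : Subgroup Γ) (e : Γ) (i : ℕ) : Subgroup Γ := DD S i ⊔ zpowers e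

theorem D_nle (M : MaxC p n S) (h1 : 1 ≤ i) (hi : i + 2 ≤ n) : ¬ DD S i ≤ DD S (i + 1) := fun h => by
  have := card_le_of_le h
  rw [card_D M h1, card_D M (by omega), Nat.pow_le_pow_iff_right hp.out.one_lt] at this
  omega

/-- an element of order `p` outside the two-step centralizer -/
structure Out (p n : ℕ) (S : Subgroup Γ) (e : Γ) : Prop where
  mc : MaxC p n S
  four : 4 ≤ n
  mem : e ∈ S
  nT : e ∉ T1 S
  pow : e ^ p = 1

namespace Out
variable (o : Out p n S e)
include o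

theorem le (i : ℕ) : QQ S e i ≤ S := sup_le D_le (zpowers_le.2 o.mem)

theorem inf (h1 : 1 ≤ i) (hx : x ∈ QQ S e i) (h : x ∈ T1 S) : x ∈ DD S i := by
  obtain ⟨y, hy, j, rfl⟩ := (mem_sup_zpowers' (D_nz o.mem)).1 hx
  by_cases hj : p ∣ j
  · obtain ⟨j, rfl⟩ := hj
    rwa [pow_mul, o.pow, one_pow, mul_one]
  · exact absurd (mem_of_pow_mem_of_coprime ((mul_mem_cancel_left (D_le_T1 h1 hy)).1 h)
      (((Nat.coprime_comm.1 ((Nat.Prime.coprime_iff_not_dvd hp.out).2 hj))).coprime_dvd_right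
        (orderOf_dvd_of_pow_eq_one o.pow))) o.nT

theorem card' (h1 : 1 ≤ i) : Nat.card (QQ S e i) = Nat.card (DD S i) * p :=
  card_sup_zpowers_prime hp.out (D_nz o.mem) (fun h => o.nT (D_le_T1 h1 h)) (o.pow ▸ one_mem _)

theorem comm (hx : x ∈ QQ S e i) (hy : y ∈ QQ S e i) : ⁅x, y⁆ ∈ DD S (i + 1) :=
  comm_gen ((o.le i).trans D_nz) (fun _ hu _ hv => D_act hu (D_le hv)) (fun _ hu => D_act hu o.mem)
    x hx y hy

theorem N_eq (h1 : 1 ≤ i) (hi : i + 3 ≤ n) : S ⊓ nz (QQ S e (i + 1)) = QQ S e i := by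
  have hle : QQ S e (i + 1) ≤ QQ S e i := sup_le_sup_right (D_anti i.le_succ) _
  refine le_antisymm (fun g hg => ?_) (le_inf (o.le i) fun g hg =>
    nz_of_comm fun y hy => mem_sup_left (o.comm hg (hle hy)))
  obtain ⟨a, ha, j, rfl⟩ := (mem_sup_zpowers' (T1_nz o.mem)).1
    ((eq_sup_of_card o.mc.pg T1_le (card_T1 o.mc o.four).le o.mem o.nT).ge hg.1)
  have he : e ∈ QQ S e (i + 1) := mem_sup_right (mem_zpowers e)
  have h2 : a ∈ nz (QQ S e (i + 1)) := (mul_mem_cancel_right (pow_mem (le_nz_self _ he) j)).1 hg.2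
  exact mul_mem (mem_sup_left (down' o.mc o.mem o.nT ha hi (o.inf (by omega) (comm_mem_r h2 he)
    (comm_mem_l ha (T1_nz o.mem))))) (pow_mem (hle he) j)

theorem D_eq (h1 : 1 ≤ i) (h2 : 1 ≤ j) (hj : j + 4 ≤ n) (hK : ∀ x ∈ DD S i, x ∈ K)
    (h : ∀ x ∈ K, ∀ y ∈ DD S j, ⁅y, x⁆ ∈ DD S (j + 2)) : DD S i = QQ S e i ⊓ K :=
  le_antisymm (le_inf le_sup_left hK) fun x hx => o.inf h1 hx.1 (by_contra fun hn =>
    D_nle o.mc h2 (by omega) fun y hy => down' o.mc (o.le i hx.1) hn (D_le_T1 h2 hy) hj (h x hx.2 y hy))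

end Out

/-- the normalizer chain -/
def ch (F : FS Γ) (E : Subgroup Γ) : ℕ → Subgroup Γ
  | 0 => E
  | j + 1 => F.N (ch F E j)

theorem ch_le (hE : E ≤ F.S) (j : ℕ) : ch F E j ≤ F.S := by
  cases j with
  | zero => exact hE
  | succ j => exact inf_le_left

theorem ch_mono (hE : E ≤ F.S) (h : i ≤ j) : ch F E i ≤ ch F E j :=
  monotone_nat_of_le_succ (fun j => le_N (ch_le hE j)) h

namespace Bad
variable (r : Bad F p E) (M : MaxC p n F.S) (h5 : 5 ≤ p)
include r M h5

theorem PS : F.N (F.N E) ≠ F.S := fun e => by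
  have h3 := M.three
  have := card_le_of_le ((le_inf (r.XE.trans r.ess.le) (e ▸ r.cen h5)).trans (cen_eq M).le)
  rw [r.cX, card_D M (by omega), Nat.pow_le_pow_iff_right hp.out.one_lt] at this
  omega

theorem six : 6 ≤ n := by
  have := H25.card_lt_of_lt (lt_of_le_of_ne inf_le_left (r.PS M h5))
  rw [r.cP, M.card, Nat.pow_lt_pow_iff_right hp.out.one_lt] at this
  omega

theorem nT : ¬ E ≤ T1 F.S := fun h => by
  have h6 := r.six M h5
  have key : ∀ i, 1 ≤ i → i + 4 ≤ n → DD F.S (i + 2) ≤ E → DD F.S i ≤ F.N E := fun i h1 h2 h3 x hx =>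
    ⟨D_le hx, nz_of_comm fun y hy =>
      h3 (bl' (j := 0) M h2 (D_le_T1 h1 hx) hx (h hy) (r.ess.le hy))⟩
  have h1 := key (n - 4) (by omega) (by omega) (by
    rw [show n - 4 + 2 = n - 2 by omega, ← cen_eq M]
    exact (inf_le_inf_left _ (cz_anti r.ess.le)).trans r.ess.centric.C_le)
  obtain ⟨y, hy, hy'⟩ := SetLike.not_le_iff_exists.1 fun h' : DD F.S (n - 4) ≤ E => r.ne (inf_eq_left.2 (by
    rw [← eq_of_le_of_card_le h' (by
      rw [r.card, card_D M (by omega)]; exact le_of_eq (by congr 1; omega))]; exact D_nz))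
  have h2 : F.N E ≤ T1 F.S := (eq_sup_of_card r.pN r.lt.le r.cN' (h1 hy) hy').ge.trans
    (sup_le h (zpowers_le.2 (D_le_T1 (by omega) hy)))
  have h3 : T1 F.S ⊓ DD F.S (n - 6) = F.N (F.N E) := eq_of_le_of_card_le (fun x hx =>
    ⟨D_le hx.2, nz_of_comm fun y hy => h1 (by
      have := bl' (j := 0) M (by omega) hx.1 hx.2 (h2 hy) hy.1
      rwa [show n - 6 + 0 + 2 = n - 4 by omega] at this)⟩) (by
    rw [r.cP]
    rcases h6.eq_or_lt with rfl | h7
    · have := card_T1 M (by omega)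
      rw [M.card, pow_succ] at this
      rw [Nat.eq_of_mul_eq_mul_right hp.out.pos this]
      exact card_le_of_le (le_inf le_rfl T1_le)
    · rw [inf_eq_right.2 (D_le_T1 (by omega)), card_D M (by omega), show n - 1 - (n - 6) = 5 by omega])
  have h4 : F.S ≤ nz (F.N (F.N E)) := fun s hs => h3 ▸ mem_nz_inf (T1_nz hs) (D_nz hs)
  have NQ : F.N E ≤ F.N (F.N E) := le_N inf_le_left
  have h7 : XX F E = F.N (F.N E) ⊓ cz (F.N (F.N E)) := le_antisymm
    (le_inf (inf_le_left.trans NQ) (r.cen h5)) (le_inf (((inf_le_inf inf_le_left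
      (cz_anti (r.lt.le.trans NQ))).trans r.ess.centric.C_le).trans r.lt.le)
      (inf_le_right.trans (cz_anti NQ)))
  have h8 := eq_D M (r.XE.trans r.ess.le) (fun s hs => h7 ▸ mem_nz_inf (h4 hs) (mem_nz_cz (h4 hs)))
    (by omega) r.cX
  have h9 := key (n - 5) (by omega) (by omega) (by
    rw [show n - 5 + 2 = n - 1 - 2 by omega, ← h8]; exact r.XE)
  refine r.PS M h5 (inf_eq_left.2 ?_)
  rw [← eq_of_le_of_card_le h9 (by rw [r.cN, card_D M (by omega)]; exact le_of_eq (by congr 1; omega))]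
  exact D_nz

theorem out (he : e ∈ E) (he' : e ∉ T1 F.S) : Out p n F.S e :=
  ⟨M, by have := r.six M h5; omega, r.ess.le he, he', r.pw e he⟩

theorem two_le : DD F.S (n - 3) ≤ E := by
  have h6 := r.six M h5
  obtain ⟨e, he, he'⟩ := SetLike.not_le_iff_exists.1 (r.nT M h5)
  have h1 : E ⊓ T1 F.S ≤ DD F.S (n - 3) := fun g hg => down' M (r.ess.le he) he' hg.2 (by omega)
    (by rw [commutatorElement_eq_one_iff_mul_comm.2 (r.cm g hg.1 e he)]; exact one_mem _)
  have h2 := card_le_inf r.ess.le T1_le (card_T1 M (by omega)).le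
  rw [r.card, pow_succ] at h2
  rw [← eq_of_le_of_card_le h1 (by
    rw [card_D M (by omega), show n - 1 - (n - 3) = 2 by omega]
    exact Nat.le_of_mul_le_mul_right h2 hp.out.pos)]
  exact inf_le_left

theorem ch_eq (he : e ∈ E) (he' : e ∉ T1 F.S) (hj : j + 4 ≤ n) : ch F E j = QQ F.S e (n - 3 - j) := by
  have o := r.out M h5 he he'
  induction j with
  | zero =>
    exact (eq_of_le_of_card_le (sup_le (r.two_le M h5) (zpowers_le.2 he)) (by
      rw [o.card' (by omega), card_D M (by omega), r.card, ← pow_succ]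
      exact le_of_eq (by congr 1; omega))).symm
  | succ j ih =>
    rw [ch, ih (by omega), show n - 3 - j = n - 3 - (j + 1) + 1 by omega]
    exact o.N_eq (by omega) (by omega)

theorem card_ch (hj : j + 4 ≤ n) : Nat.card (ch F E j) = p ^ (j + 3) := by
  obtain ⟨e, he, he'⟩ := SetLike.not_le_iff_exists.1 (r.nT M h5)
  rw [r.ch_eq M h5 he he' hj, (r.out M h5 he he').card' (by omega), card_D M (by omega), ← pow_succ]
  congr 1; omega

theorem fn_ch (hj : j + 5 ≤ n) : F.FN (ch F E j) := fn_of r.sat (ch_le r.ess.le j) fun g H => by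
  have r' := r.cj (H.mono (ch_mono (i := 1) (j := j + 1) r.ess.le (by omega)))
  have key : ∀ i ≤ j, ch F (H25.cj g E) i = H25.cj g (ch F E i) := fun i => by
    induction i with
    | zero => exact fun _ => rfl
    | succ i ih =>
      intro hi
      refine (eq_of_le_of_card_le ?_ (by
        rw [card_cj, r'.card_ch M h5 (by omega), r.card_ch M h5 (by omega)])).symm
      rw [ch, ch, ih (by omega)]
      exact (H.mono (ch_mono (i := i + 1) (j := j + 1) r.ess.le (by omega))).cj_N_le inf_le_right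
  rw [← key j le_rfl]
  exact ((r'.card_ch M h5 (j := j + 1) hj).trans (r.card_ch M h5 (j := j + 1) hj).symm).le

theorem X_eq : DD F.S (n - 3) = XX F E := by
  have h6 := r.six M h5
  obtain ⟨e, he, he'⟩ := SetLike.not_le_iff_exists.1 (r.nT M h5)
  refine eq_of_le_of_card_le (le_inf ((r.two_le M h5).trans r.lt.le) ?_) (by
    rw [r.cX, card_D M (by omega)]; exact le_of_eq (by congr 1; omega))
  rw [show F.N E = _ from r.ch_eq M h5 he he' (j := 1) (by omega), cz_sup]
  exact fun x hx => ⟨mem_cz'.2 fun y hy => commutatorElement_eq_one_iff_mul_comm.1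
    (D_one M (by omega) (D_comm hy hx)), mem_cz_zpowers.2
      (mul_inv_eq_of_eq_mul (r.cm x (r.two_le M h5 hx) e he))⟩

theorem false : False := by
  have h6 := r.six M h5
  obtain ⟨z, hz, -⟩ := r.zi
  have eX := r.X_eq M h5
  have q : AA F p E (DD F.S (n - 4)) := by
    obtain ⟨e, he, he'⟩ := SetLike.not_le_iff_exists.1 (r.nT M h5)
    exact ⟨eX ▸ D_anti (by omega), le_sup_left.trans (r.ch_eq M h5 he he' (j := 1) (by omega)).ge,
      by rw [card_D M (by omega)]; congr 1; omega, inf_le_left.trans D_nz⟩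
  obtain ⟨e, he, heX, k0, hk0, kN, kA, -, k2, k3, k4⟩ :=
    r.torus q hz (l := -1) (m := -1) (by simp)
  have he' : e ∉ T1 F.S := fun h => heX (by
    obtain ⟨e', he, he'⟩ := SetLike.not_le_iff_exists.1 (r.nT M h5)
    exact eX ▸ (r.out M h5 he he').inf (by omega) ((r.ch_eq M h5 he he' (j := 0) (by omega)).le ‹e ∈ E›) h)
  have o := r.out M h5 he he'
  have eN : F.N E = QQ F.S e (n - 4) := r.ch_eq M h5 he he' (j := 1) (by omega)
  have eQ : ∀ i, e ∈ QQ F.S e i := fun _ => mem_sup_right (mem_zpowers e)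
  have hec : e ∈ cz (DD F.S (n - 3)) := mem_cz'.2 fun x hx => r.cm x (r.two_le M h5 hx) e he
  obtain ⟨m, hn, hm, y, hy, x, hx, hyx⟩ := exc' M (by omega) o.mem he' hec
  have ab : ∀ i, m + 1 ≤ i → ∀ a ∈ DD F.S i, ∀ b ∈ DD F.S i, ⁅a, b⁆ = 1 := fun i hi a ha b hb =>
    D_one M (by omega) (self' M (by omega) ha hb)
  have Qc : ∀ i, 1 ≤ i → QQ F.S e i ≤ cz (DD F.S (n - 3)) := fun i hi => sup_le (fun a ha => mem_cz'.2
    fun b hb => commutatorElement_eq_one_iff_mul_comm.1 (D_one M (by omega) (D_comm hb ha)))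
    (zpowers_le.2 hec)
  have ext : ∀ d i, i + d = n - 5 → m ≤ i → ∃ k ∈ F.A (QQ F.S e i), Agree (F.N E) k k0 ∧
      ∀ j, i + 1 ≤ j → j ≤ n - 3 → k ∈ nz (DD F.S j) := fun d => by
    induction d with
    | zero =>
      intro i hi _
      refine ⟨k0, ?_, .refl _ _, fun j h1 h2 => ?_⟩
      · rw [show i = n - 3 - 2 by omega, ← r.ch_eq M h5 he he' (by omega)]; exact hk0
      · obtain rfl | rfl : j = n - 4 ∨ j = n - 3 := by omega
        exacts [kA, eX ▸ r.nX kN]
    | succ d ih =>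
      intro i hi hmi
      obtain ⟨k, hk, ag, h1⟩ := ih (i + 1) (by omega) (by omega)
      have h2 : ∀ j, i + 1 ≤ j → j ≤ n - 3 → k ∈ nz (DD F.S j) := fun j a1 a2 => by
        rcases a1.eq_or_lt with rfl | a1
        · rw [o.D_eq (K := cz (DD F.S (i + 2))) (j := n - 4) (by omega) (by omega) (by omega)
            (fun a ha => mem_cz'.2 fun b hb => commutatorElement_eq_one_iff_mul_comm.1
              (ab (i + 1) (by omega) b (D_anti (by omega) hb) a ha))
            fun a ha b hb => comm_symm (by rw [comm_one ha (D_anti (by omega) hb)]; exact one_mem _)]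
          exact mem_nz_inf (F.A_le_nz _ hk) (mem_nz_cz (h1 _ le_rfl (by omega)))
        · exact h1 j a1 a2
      have eP : F.N (QQ F.S e (i + 1)) = QQ F.S e i := o.N_eq (by omega) (by omega)
      have fn := r.fn_ch M h5 (j := n - 4 - i) (by omega)
      rw [r.ch_eq M h5 he he' (by omega), show n - 3 - (n - 4 - i) = i + 1 by omega] at fn
      obtain ⟨h, hh, ag'⟩ := ext_chain r.sat fn
        (fun a => match a with | 0 => QQ F.S e (i + 1) | a + 1 => DD F.S (i + 1 + a)) (n - 4 - i + 1) rfl hk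
        (fun a ha => by
          cases a with
          | zero => exact F.A_le_nz _ hk
          | succ a => exact h2 _ (by omega) (by omega))
        (fun a _ => by
          cases a with
          | zero => exact le_sup_left
          | succ a => exact D_anti (by omega))
        (fun a _ s hs => by
          cases a with
          | zero => exact (stab_iff le_sup_left).2 fun x hx =>
              o.comm (eP ▸ hs) (sup_le_sup_right (D_anti i.le_succ) _ hx)
          | succ a => exact (stab_iff (D_anti (Nat.le_succ _))).2 fun x hx => comm_symm (D_act hx hs.1))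
        (by rw [eP]; show _ ≤ cz (DD F.S _)
            rw [show i + 1 + (n - 4 - i) = n - 3 by omega]; exact Qc i (by omega))
      exact ⟨h, eP ▸ hh, (ag'.mono (eN ▸ sup_le_sup_right (D_anti (by omega)) _)).trans ag,
        fun j a1 a2 => (ag'.mono (le_sup_left.trans' (D_anti a1))).mem_nz (h2 j a1 a2)⟩
  obtain ⟨k, hk, ag, h1⟩ := ext (n - 5 - m) m (by omega) le_rfl
  have hQ := F.A_le_nz _ hk
  have pQ := r.sat.pg' (o.le m)
  have DQ : ∀ j, m ≤ j → DD F.S j ≤ QQ F.S e m := fun j h => (D_anti h).trans le_sup_left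
  have nD : ∀ j, QQ F.S e m ≤ nz (DD F.S j) := fun j => (o.le m).trans D_nz
  have ke : k * e * k⁻¹ = e ^ (-1 : ℤ) := (ag e (r.lt.le he)).trans k2
  have step : ∀ j U y (w w' : ℤ), m ≤ j → j + 5 ≤ n → y ∈ DD F.S j → y ∉ DD F.S (j + 1) →
      U ≤ QQ F.S e (j + 1) → Wa k U y w → (∀ x ∈ DD F.S (j + 1), Wa k (DD F.S (j + 2)) x w') →
      (w : ZMod p) = -w' := fun j U y w w' a1 a2 a3 a4 a5 a6 a7 => by
    have b1 := D_act a3 o.mem
    have := (a6.comm hQ (DQ _ (by omega)) (nD _) (DQ _ a1 a3) (eQ m) (wa_of_eq ke)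
      (fun g hg => D_act b1 (o.le m hg)) (fun u hu => o.comm (a5 hu) (ke ▸ zpow_mem (eQ _) _))
      fun v hv => by simp [mem_bot.1 hv]).eq hQ (DQ _ (by omega)) (nD _) (DQ _ (by omega) b1) (a7 _ b1)
      (fun h => a4 (down' M o.mem he' (D_le_T1 (by omega) a3) (by omega) h))
      (pow_mem_of_card (r.sat.pg' D_le) (D_anti (Nat.le_succ _)) (card_D_le M (by omega)) b1)
    push_cast at this
    rw [← this]; ring
  have wt : ∀ d j, j + d = n - 4 → m + 1 ≤ j → ∃ w : ℤ, (w : ZMod p) ^ 2 = 1 ∧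
      ∀ x ∈ DD F.S j, Wa k (DD F.S (j + 1)) x w := fun d => by
    induction d with
    | zero =>
      intro j hj _
      obtain rfl : j = n - 4 := by omega
      refine ⟨-1 * -1, by simp, fun x hx => ?_⟩
      rw [show n - 4 + 1 = n - 3 by omega, eX, Wa, ag x (q.AN hx)]
      exact k4 x hx
    | succ d ih =>
      intro j hj hmj
      obtain ⟨w', b1, b2⟩ := ih (j + 1) (by omega) (by omega)
      obtain ⟨y, hy, hy'⟩ := SetLike.not_le_iff_exists.1 (D_nle M (i := j) (by omega) (by omega))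
      obtain ⟨w, hw⟩ := exists_wa pQ hQ (nD _) (D_anti j.le_succ) (DQ j (by omega))
        (card_D_le M (by omega)) hy hy' (conj_mem_of_mem_nz (h1 j hmj (by omega)) hy)
      exact ⟨w, by rw [step j _ y w w' (by omega) (by omega) hy hy' le_sup_left hw b2, neg_sq, b1],
        fun x hx => hw.gen pQ hQ (nD _) (h1 _ (by omega) (by omega)) (D_anti j.le_succ) (DQ j (by omega))
          (card_D_le M (by omega)) hy hy' hx⟩
  obtain ⟨w', b1, b2⟩ := wt (n - 4 - (m + 1)) (m + 1) (by omega) le_rfl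
  have hy' : y ∉ DD F.S (m + 1) := fun h => hyx (ab _ le_rfl y h x hx)
  have hW : zpowers z ≤ DD F.S (n - 3) := eX ▸ zpowers_le.2 hz.mem
  obtain ⟨U, w, c1, c2, c3⟩ : ∃ U w, Wa k U y w ∧ U ≤ QQ F.S e (m + 1) ∧
      ∀ u ∈ U, ∀ x ∈ DD F.S (m + 1), ⁅u, x⁆ ∈ zpowers z := by
    rcases hm.eq_or_lt with rfl | hm2
    · have e1 : n - 4 = 1 + 1 := by omega
      obtain ⟨w, hw⟩ := exists_wa (W := QQ F.S e (1 + 1)) pQ hQ
        ((o.N_eq le_rfl (by omega)).ge.trans inf_le_right) (sup_le_sup_right (D_anti (by omega)) _) le_rfl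
        (by rw [o.card' le_rfl, o.card' (by omega)]
            exact Nat.mul_le_mul_right p (card_D_le M le_rfl)) (mem_sup_left hy)
        (fun h => hy' (o.inf (by omega) h (D_le_T1 le_rfl hy))) (conj_mem_of_mem_nz hQ (mem_sup_left hy))
      exact ⟨_, w, hw, le_rfl, fun u hu x hx => hz.comm u (eN ▸ e1 ▸ hu) x (eN ▸ e1 ▸ mem_sup_left hx)⟩
    · have : k ∈ nz (DD F.S m) := by
        rw [o.D_eq (K := stab (DD F.S (m + 1)) (DD F.S (m + 3))) (j := m + 1) hm (by omega) (by omega)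
          (fun a ha => (stab_iff (D_anti (by omega))).2 fun b hb => D_anti (by omega) (D_comm ha hb))
          fun a ha b hb => comm_symm (comm_of_stab ha hb)]
        exact mem_nz_inf hQ (nz_stab (h1 _ le_rfl (by omega)) (h1 _ (by omega) (by omega)))
      obtain ⟨w, hw⟩ := exists_wa pQ hQ (nD _) (D_anti m.le_succ) (DQ m le_rfl)
        (card_D_le M hm) hy hy' (conj_mem_of_mem_nz this hy)
      exact ⟨_, w, hw, le_sup_left, fun u hu x hx => ab _ le_rfl u hu x hx ▸ one_mem _⟩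
  have c4 := step m U y w w' le_rfl (by omega) hy hy' c2 c1 b2
  have c5 : ⁅y, x⁆ ∈ DD F.S (n - 2) := D_anti (by omega) (D_comm hy hx)
  have c6 : ⁅y, x⁆ ∈ XX F E := eX ▸ D_anti (by omega) c5
  have WQ := hW.trans (DQ _ (by omega))
  have nW : QQ F.S e m ≤ nz (zpowers z) := ((Qc m hm).trans (cz_anti hW)).trans (cz_le_nz _)
  have c7 : ⁅y, x⁆ ∉ zpowers z := fun h => by
    have e1 : zpowers z ≤ DD F.S (n - 2) := le_of_inf (isPGroup_zpowers_of_orderOf (k := 1)
      (by rw [pow_one]; exact orderOf_eq_prime hz.pow hz.z1))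
      (card_zpowers_of_pow hp.out hz.pow hz.z1).le fun e => hyx (mem_bot.1 (e.le ⟨c5, h⟩))
    refine D_nle M (i := n - 4) (by omega) (by omega) fun t ht => down' M o.mem he'
      (D_le_T1 (by omega) ht) (by omega) ?_
    rw [show n - 4 + 1 + 1 = n - 2 by omega]
    exact e1 (hz.comm t (q.AN ht) e (r.lt.le he))
  have c8 := (c1.comm hQ WQ nW (DQ _ le_rfl hy) (DQ _ (by omega) hx) (b2 x hx)
    (fun g hg => by rw [D_one M (by omega) (D_act c5 (o.le m hg))]; exact one_mem _)
    (fun u hu => c3 u hu _ (conj_mem_of_mem_nz (h1 _ le_rfl (by omega)) hx))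
    fun v hv => by rw [D_one M (by omega) (D_comm hy hv)]; exact one_mem _).eq (j := 1) hQ WQ nW
      (DQ _ (by omega) c5) (by rw [Wa, ag _ c6.1]; exact k3 _ c6) c7
      (by rw [r.pw _ (r.XE c6)]; exact one_mem _)
  push_cast at c8
  have : ((2 : ℕ) : ZMod p) = 0 := by
    push_cast
    rw [c4] at c8
    linear_combination -c8 - b1
  have := Nat.le_of_dvd two_pos ((ZMod.natCast_eq_zero_iff 2 p).1 this)
  omega

end Bad
end Mx
end H4
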