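import Cfsg.Agent.H18.G0
import Cfsg.Agent.H18.G1b

/-! Standard `U₄(2)`: the elements `w_β` and the chunk BO. -/

set_option autoImplicit false
set_option linter.unusedSectionVars false

namespace H4.G38
open Cfsg Subgroup H19 H28.CY H18.U2 H18.G38 Matrix
open H15.GC (ω ν)
universe u
variable {G : Type u} [Group G] [Finite G] {ι : Γ4 →* G} {c d g h k o r s t u w x y : G} {X : Subgroup G} {l l' : Γ4}
  {a b : Hm 𝔽} {β : 𝔽}

theorem k01 (c : K 𝔽) : c = 0 ∨ c = 1 := by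
  obtain ⟨c, h⟩ := c
  rcases H15.GC.cases4 c with rfl | rfl | rfl | rfl
  exacts [.inl rfl, .inr rfl, absurd (show star ω = ω from h) (by decide), absurd (show star ν = ν from h) (by decide)]
theorem two (H : Sr ι t X) (hk : k ∈ C(ι.range)) (kt : k * t = t * k) {m : ℕ} (h : k ^ 2 ^ m = 1) : k = 1 ∨ k = t := by
  induction m generalizing k with
  | zero => exact .inl (by simpa using h)
  | succ m ih => exact H.rk k hk ((ih (mul_mem hk hk) (by rw [mul_assoc, kt, ← mul_assoc, kt, mul_assoc])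
      (by rw [← pow_two, ← pow_mul, ← pow_succ', h])).resolve_right (H.r2 k hk kt)) kt
theorem oL (ho : o ∈ Oo ι t) (l : Γ4) : ι l * o = o * ι l := mem_cent.1 (Oc_le _ _ ho).1 _ ⟨l, rfl⟩
theorem ot (ho : o ∈ Oo ι t) : t * o = o * t := (mem_cent1.1 (Oc_le _ _ ho).2).symm
theorem oo (ho : o ∈ Oo ι t) : PiE {2}ᶜ o := (Oc_pi _ _).elt ho
theorem dec (H : Sr ι t X) (hk : k ∈ C(ι.range)) (kt : k * t = t * k) : ∃ o ∈ Oo ι t, k = o ∨ k = t * o := by
  have z : ∀ y ∈ C(ι.range) ⊓ C[t], PiE {2} y → y = 1 ∨ y = t := fun y hy p =>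
    let ⟨_, e⟩ := pow_of_two p; two H hy.1 (mem_cent1.1 hy.2) e
  have hk' : k ∈ C(ι.range) ⊓ C[t] := ⟨hk, mem_cent1.2 kt⟩
  obtain ⟨y, o, e, -, p, q, m, n⟩ := parts k
  refine ⟨o, (H18.Burnside_normal_complement (S := zpowers t) (M := C(ι.range) ⊓ C[t]) (syl_of_max (zpowers_le.2 ⟨H.tK, mem_cent1_self t⟩)
    (piG_zpowers.2 (two_of_sq H.tt)) fun Q l p l' => le_antisymm (fun y hy => (mem_zp H.tt).2 (z y (l hy) (p.elt hy))) l')
    fun g hg => mem_cent.2 fun y hy => ?_).mem_of_normal (Oc_norm _ _) (zpowers_le.2 hk' n) q, ?_⟩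
  · rcases (mem_zp H.tt).1 hy with rfl | rfl
    exacts [by simp, (mem_cent1.1 hg.1.2).symm]
  · exact (z y (zpowers_le.2 hk' m) p).imp (fun h => by rw [e, h, one_mul]) fun h => by rw [e, h]
theorem inv1 (yy : y * y = 1) (c : y * o = o * y) (p : PiE {2}ᶜ o) (q : PiE {2}ᶜ (y * o)) : y = 1 :=
  (two_of_sq yy).e_eq_one (by simpa using q.e_mul p.e_inv (by rw [mul_inv_cancel_right, c, inv_mul_cancel_left]))
theorem z1 (H : Hyp ι t) : ι zz ≠ 1 := fun h => absurd (H.inj (h.trans (map_one ι).symm)) (by decide +kernel)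
theorem at2 (H : Hyp ι t) (a : Hm 𝔽) : ι (up 0 a) * t * (ι (up 0 a) * t) = 1 := by
  rw [mul_assoc, ← mul_assoc t, H.cen, mul_assoc, H.tt, mul_one, ia2]
theorem ato (ho : o ∈ Oo ι t) (l : Γ4) : ι l * t * o = o * (ι l * t) := by rw [mul_assoc, ot ho, ← mul_assoc, oL ho, mul_assoc]
theorem cQ1 (H : Sr ι t X) (hg : g * t = t * g) (h : g ∈ C(Qm ι)) :
    ∃ d, ∃ o ∈ Oo ι t, g = ι (z d) * o ∨ g = ι (z d) * t * o := by
  obtain ⟨d, k, hk, e⟩ := H.cP (mem_cent1.2 hg) fun v α => mem_cent.1 h _ (mem_map_of_mem ι (qQ ..))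
  obtain ⟨o, ho, p⟩ := dec H hk (H.Kt (e ▸ mem_cent1.2 hg))
  exact ⟨d, o, ho, p.imp (fun p => by rw [e, p]) fun p => by rw [e, p, mul_assoc]⟩

variable (ι t) in
/-- `g` centralizes `V` and moves `t` by `a` -/
def Mv (g : G) (a : Hm 𝔽) : Prop := (∀ y, ι (up 0 y) * g = g * ι (up 0 y)) ∧ g * t * g⁻¹ = t * ι (up 0 a)
theorem Mv.mul (p : Mv ι t g a) (q : Mv ι t h b) : Mv ι t (g * h) (a + b) :=
  ⟨fun y => by rw [← mul_assoc, p.1, mul_assoc, q.1, mul_assoc], by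
    rw [cj2, q.2, ← conj_mul, p.2, ← p.1, mul_inv_cancel_right, mul_assoc, iam]⟩
theorem Mv.inv (p : Mv ι t g a) : Mv ι t g⁻¹ a :=
  ⟨fun y => by rw [eq_inv_mul_iff_mul_eq, ← mul_assoc, ← p.1, mul_inv_cancel_right], by
    rw [inv_inv, mul_assoc, inv_mul_eq_iff_eq_mul, ← mul_assoc, mul_inv_eq_iff_eq_mul.1 p.2, mul_assoc, ← p.1, mul_assoc,
      ← mul_assoc (ι _), ia2, one_mul]⟩
theorem Mv.tt (H : Hyp ι t) : Mv ι t t 0 := ⟨fun y => (H.cen _).symm, by simp [up_0]⟩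
theorem Mv.cj (H : Hyp ι t) (p : Mv ι t g a) (hl : l ∈ N(As 𝔽)) (e : l * up 0 a = up 0 b * l) : Mv ι t (ι l * g * (ι l)⁻¹) b :=
  ⟨fun y => by
    obtain ⟨y', e⟩ := conj_mem_of_norm (inv_mem hl) (aA y)
    rw [show up 0 y = l * up 0 y' * l⁻¹ by rw [← e]; group, ← ι_cj, conj_mul, conj_mul, p.1],
    by rw [H.cct p.2, e, mul_inv_cancel_right]⟩
theorem Mv.zero (H : Sr ι t X) (p : Mv ι t g a) (e : a = 0) :
    ∃ a, ∃ o ∈ Oo ι t, g = ι (up 0 a) * o ∨ g = ι (up 0 a) * t * o := by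
  have hg : g * t = t * g := by simpa [e, up_0, mul_inv_eq_iff_eq_mul] using p.2
  obtain ⟨d, k, hk, e⟩ := H.cV hg p.1
  obtain ⟨o, ho, p⟩ := dec H hk (H.Kt (e ▸ mem_cent1.2 hg))
  exact ⟨d, o, ho, p.imp (fun p => by rw [e, p]) fun p => by rw [e, p, mul_assoc]⟩
theorem Mv.wb (H : Hyp ι t) (p : Mv ι t w (1, 0, 0)) (β : 𝔽) : Mv ι t (wb ι w β) (nm β, β, 1) :=
  p.cj H (mul_mem (uA β) nnA) (by revert β; decide +kernel)
theorem Mv.five (H : Hyp ι t) (p : Mv ι t w (1, 0, 0)) :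
    Mv ι t (w * (H18.G38.wb ι w 0 * H18.G38.wb ι w 1 * H18.G38.wb ι w ω * H18.G38.wb ι w ν)) 0 := by
  simpa only [show ((1, 0, 0) + ((nm 0, 0, 1) + (nm 1, 1, 1) + (nm ω, ω, 1) + (nm ν, ν, 1)) : Hm 𝔽) = 0 by decide +kernel]
    using p.mul ((((p.wb H 0).mul (p.wb H 1)).mul (p.wb H ω)).mul (p.wb H ν))

theorem wO (H : Sr ι t X) (B : Bd ι t w) (ho : o ∈ Oo ι t) : w * o * w⁻¹ ∈ Oo ι t := by
  have zq : ι zz ∈ Qm ι := mem_map_of_mem ι ⟨0, 1, rfl⟩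
  have m : w * o * w⁻¹ ∈ C(Qm ι) := mul_mem (mul_mem B.wq (cent_mono (map_le_range _ _) (Oc_le _ _ ho).1)) (inv_mem B.wq)
  obtain ⟨d, o', ho', e | e⟩ := cQ1 H (mem_cent1.1 (mem_cent1_symm.1 ((mul_mem_cancel_right (mem_cent1.2 (mem_cent.1 m _ zq))).1
    (by rw [← B.wt H.toHyp, ← cj_cent1, conj_mem_cj, mem_cent1, ot ho])))) m
  · rwa [e, inv1 (ia2 _) (oL ho' _) (oo ho') (e ▸ (oo ho).e_conj w), one_mul]
  · rwa [e, inv1 (at2 H.toHyp _) (ato ho' _) (oo ho') (e ▸ (oo ho).e_conj w), one_mul]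
theorem wT (B : Bd ι t w) (e : w * ι e0 * w⁻¹ = ι e0) (hl : l ∈ U 𝔽) : ι l * w = w * ι l := by
  obtain ⟨β, ⟨α, b, c⟩, rfl⟩ := hl
  have q := fun α => mem_cent.1 B.wq _ (mem_map_of_mem ι (qQ (β, b) α))
  rcases k01 c with rfl | rfl
  · exact q α
  · rw [show up β (α, b, 1) = H18.U2.q (β, b) (α + 1) * e0 by simp [H18.U2.q, e0, up_mul, add_assoc, aa (1 : K 𝔽)], map_mul, mul_assoc,
      ← mul_inv_eq_iff_eq_mul.1 e, ← mul_assoc, q, mul_assoc]
theorem w4 (H : Hyp ι t) (B : Bd ι t w) : w⁻¹ = w * ι zz := by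
  rw [inv_eq_iff_mul_eq_one, ← mul_assoc, B.ww, ia2]
theorem wtn (H : Hyp ι t) (B : Bd ι t w) : w * t ≠ t * w := fun e => by
  have := B.wt H
  rw [e, mul_inv_cancel_right, left_eq_mul] at this
  exact z1 H this

theorem bo1 (H : Sr ι t X) (B : Bd ι t w) (p : Mv ι t w (1, 0, 0)) : w ∈ C(Oo ι t) := by
  have f : ∀ β, ∀ o ∈ Oo ι t, wb ι w β * o * (wb ι w β)⁻¹ = w * o * w⁻¹ := fun β o ho => by
    rw [wb, cj2, cj2, inv_inv, ← map_inv, oL ho, mul_assoc o, ← map_mul, inv_mul_cancel, map_one, mul_one, oL (wO H B ho), map_inv,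
      mul_inv_cancel_right]
  have f2 : ∀ o ∈ Oo ι t, w * (w * o * w⁻¹) * w⁻¹ = o := fun o ho => by rw [← cj2, B.ww, oL ho, mul_inv_cancel_right]
  obtain ⟨a, o0, h0, e⟩ := (p.five H.toHyp).zero H rfl
  have f3 : ∀ o ∈ Oo ι t, w * o * w⁻¹ = o0 * o * o0⁻¹ := fun o ho => by
    have m := mul_mem (mul_mem h0 ho) (inv_mem h0)
    have : ∀ y, y * (o0 * o * o0⁻¹) = o0 * o * o0⁻¹ * y → y * o0 * o * (y * o0)⁻¹ = o0 * o * o0⁻¹ := fun y e => by
      rw [cj2, e, mul_inv_cancel_right]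
    refine .trans ?_ (e.elim (fun e => (congrArg (fun g => g * o * g⁻¹) e).trans (this _ (oL m _))) fun e =>
      (congrArg (fun g => g * o * g⁻¹) e).trans (this _ (ato m _)))
    rw [cj2, cj2, cj2, cj2, f _ _ ho, f _ _ (wO H B ho), f2 _ ho, f _ _ ho, f _ _ (wO H B ho), f2 _ ho]
  refine mem_cent.2 fun o ho => ?_
  have := mem_cent1.1 (mem_of_odd (H := C[o]) (oo h0) (mem_cent1.2 (mul_inv_eq_iff_eq_mul.1 (by
    rw [cj2, ← f3 _ ho, ← f3 _ (wO H B ho), f2 _ ho]))))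
  rw [← mul_inv_eq_iff_eq_mul.1 ((f3 o ho).trans (by rw [this, mul_inv_cancel_right]))]

theorem bo2 (H : Sr ι t X) (B : Bd ι t w) (c : w ∈ C(Oo ι t)) (e : l * zz = zz * l) (l3 : l * l * l = 1) : ι l * w = w * ι l := by
  have e' : l * zz * l⁻¹ = zz := mul_inv_eq_iff_eq_mul.2 e
  have m : ι l * w * (ι l)⁻¹ ∈ C(Qm ι) := conj_mem_of_norm (norm_le_norm_cent _ (map_norm (XQ e'))) B.wq
  have w2 : ι l * w * (ι l)⁻¹ * (ι l * w * (ι l)⁻¹) = ι zz := by rw [conj_mul, B.ww, ι_cj, e']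
  have co : ∀ o ∈ Oo ι t, o * (ι l * w * (ι l)⁻¹) = ι l * w * (ι l)⁻¹ * o := fun o ho => by
    rw [← mul_assoc, ← mul_assoc, ← oL ho, mul_assoc (ι l), mem_cent.1 c o ho, ← map_inv, mul_assoc, mul_assoc, ← oL ho]; group
  have zw : ∀ d, ι (z d) * w = w * ι (z d) := fun d => mem_cent.1 B.wq _ (mem_map_of_mem ι ⟨0, d, rfl⟩)
  obtain ⟨d, o, ho, p⟩ := cQ1 H (g := w⁻¹ * (ι l * w * (ι l)⁻¹)) (mul_inv_eq_iff_eq_mul.1 (by
    rw [cj2, H.cct (B.wt H.toHyp), e', ← B.wt H.toHyp]; group)) (mul_mem (inv_mem B.wq) m)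
  generalize hw : ι l * w * (ι l)⁻¹ = w' at *
  have wo := mem_cent.1 c o ho
  have k : ∀ y, y * y = 1 ∨ y * y = ι zz → w' = y * o → w' = y := fun y yy e => by
    have c : y * o = o * y := by have := co o ho; rwa [e, ← mul_assoc, mul_left_inj, eq_comm] at this
    rw [e, odd_eq_one (two_of_sq_two (yy.elim (fun h => h ▸ PiN.e_one) fun h => h ▸ two_of_sq (ia2 _))) (oo ho) c
      (e ▸ two_of_sq_two (w2 ▸ two_of_sq (ia2 _))), mul_one]
  rcases p with p | p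
  · have := k (w * ι (z d)) (.inr (by rw [mul_assoc, ← mul_assoc (ι _), zw, mul_assoc, ia2, mul_one, B.ww]))
      (by rw [mul_assoc, ← p, mul_inv_cancel_left])
    rcases k01 d with rfl | rfl
    · rw [← mul_inv_eq_iff_eq_mul, hw, this, z_0, map_one, mul_one]
    rw [← w4 H.toHyp B, ← hw] at this
    have h3 : ι (l * l * l) * w * (ι (l * l * l))⁻¹ = w⁻¹ := by
      rw [map_mul, map_mul, cj2, cj2, this, ← conj_inv, this, inv_inv, this]
    rw [l3, map_one, one_mul, inv_one, mul_one, w4 H.toHyp B, left_eq_mul] at h3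
    exact (z1 H.toHyp h3).elim
  · have q : w * ι (z d) * t * (w * ι (z d) * t) = 1 := by
      have := B.tw
      rw [H.tinv] at this
      rw [← zw, mul_assoc _ w, mul_assoc, ← mul_assoc (w * t), mul_assoc w t, H.cen, ← mul_assoc w, ← zw,
        show ∀ x : G, x * (x * w * t * (w * t)) = x * x * (w * (t * w * t)) by intros; group, ia2, this]
      group
    rw [k _ (.inl q) (by rw [mul_assoc, mul_assoc, ← mul_assoc (ι _), ← p, mul_inv_cancel_left]), q] at w2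
    exact (z1 H.toHyp w2.symm).elim

theorem h3 (h : T 𝔽) : hh h * hh h * hh h = 1 ∧ hh h * zz = zz * hh h := by
  have e : ∀ a : 𝔽, a ≠ 0 → a * a * a = 1 ∧ nm a = 1 := by decide +kernel
  refine ⟨?_, mul_inv_eq_iff_eq_mul.1 (by rw [hh_z, (e _ (ta0 h)).2, one_mul])⟩
  rw [← map_mul, ← map_mul, show h * h * h = 1 from text (by simp [e _ (ta0 h)]) (by simp [e _ (td0 h)]), map_one]

theorem bo : BO.{u} := fun G _ _ ι t X H w B e => by
  have p : Mv ι t w (1, 0, 0) := ⟨fun y => wT B e (upU ..), B.wt H.toHyp⟩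
  have c := bo1 H B p
  have cz : ∀ l : Γ4, l * zz = zz * l → ι l * w = w * ι l := fun l el => by
    have f : ∀ β y (h : T 𝔽), ι (up β y * hh h) ∈ C[w] := fun β y h => map_mul ι .. ▸
      mul_mem (mem_cent1.2 (wT B e (upU ..))) (mem_cent1.2 (bo2 H B c (h3 h).2 (h3 h).1))
    have m : ι mm ∈ C[w] := (mul_mem_cancel_right (mem_cent1.2 (wT B e (upU 0 (nm 0, 0, 1))))).1
      (map_mul ι .. ▸ mem_cent1.2 (bo2 (l := η0) H B c (by decide +kernel) (by decide +kernel)))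
    rcases stabZ (c := 1) (mul_inv_eq_iff_eq_mul.2 el) with ⟨β, y, h, rfl⟩ | ⟨c, β, y, h, rfl⟩
    · exact mem_cent1.1 (f _ _ _)
    · exact mem_cent1.1 (by rw [map_mul, map_mul]; exact mul_mem (mul_mem (mem_cent1.2 (wT B e (upU ..))) m) (f _ _ _))
  refine ⟨⟨B, cz, c⟩, ?_⟩
  have p0 := p.wb H.toHyp 0
  have e0' : wb ι w 0 = ι nn * w * (ι nn)⁻¹ := by rw [wb, up_0, one_mul]
  have n2 : ι nn * wb ι w 0 * (ι nn)⁻¹ = w := by rw [e0', ← cj2, ← map_mul, nn2]; simp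
  have c0 : ι θ0 * wb ι w 0 * (ι θ0)⁻¹ = wb ι w 0 := by
    rw [e0', ← cj2, ← map_mul, show θ0 * nn = nn * (nn * θ0 * nn) by decide +kernel, map_mul, cj2, cz _ (by decide +kernel),
      mul_inv_cancel_right]
  have o0 : wb ι w 0 ∈ C(Oo ι t) := mem_cent.2 fun o ho => by
    rw [e0', ← mul_assoc, ← mul_assoc, ← oL ho, mul_assoc (ι nn), mem_cent.1 c o ho, ← map_inv, mul_assoc, mul_assoc, ← oL ho]; group
  generalize wb ι w 0 = w0 at *
  obtain ⟨a, o, ho, q⟩ := (((p.mul p0).mul p.inv).mul p0.inv).zero H (by decide +kernel)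
  have r : w * (w * w0 * w⁻¹ * w0⁻¹) * w⁻¹ * (w * w0 * w⁻¹ * w0⁻¹) = 1 := by
    rw [show w * (w * w0 * w⁻¹ * w0⁻¹) * w⁻¹ * (w * w0 * w⁻¹ * w0⁻¹) = w * w * w0 * (w * w)⁻¹ * w0⁻¹ by group, B.ww, p0.1]; group
  have wo := mem_cent.1 c o ho
  rcases q with q | q
  · rw [q, ← conj_mul, ← p.1, ← wo, mul_inv_cancel_right, mul_inv_cancel_right, mul_assoc, ← mul_assoc o, ← oL ho, mul_assoc, ← mul_assoc,
      ia2, one_mul] at r
    rw [(two_of_sq r).e_eq_one (oo ho), mul_one] at q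
    have f1 : θ0 * up 0 a * θ0⁻¹ = up 0 a := H.inj (by
      rw [← ι_cj, ← q, ← conj_mul, ← conj_mul, ← conj_mul, ← conj_inv, ← conj_inv, c0, cz _ (by decide +kernel), mul_inv_cancel_right])
    have f2 : nn * up 0 a * nn⁻¹ = up 0 a := H.inj (by
      rw [← ι_cj]; nth_rw 2 [← iai]; rw [← q, ← conj_mul, ← conj_mul, ← conj_mul, ← conj_inv, ← conj_inv, n2, ← e0']; group)
    obtain ⟨α, b, c⟩ := a
    have f3 : b = 0 := by
      have : ω * star ν * b = b := congrArg (·.2.1) (up_inj ((hh_a ..).symm.trans f1)).2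
      exact (by decide +kernel : ∀ b : 𝔽, ω * star ν * b = b → b = 0) b this
    obtain rfl : c = α := congrArg (·.1) (up_inj ((nn_up _).symm.trans f2)).2
    subst f3
    rcases k01 c with rfl | rfl
    · exact .inl (by rw [z0, up_0, map_one] at q; simpa [mul_inv_eq_iff_eq_mul] using q)
    · exact .inr (by rw [e0, ← q]; group)
  · rw [q, ← conj_mul, ← conj_mul, ← p.1, ← wo, mul_inv_cancel_right, mul_inv_cancel_right, p.2, mul_assoc, ← mul_assoc o, ← ato ho,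
      H.cen, ← mul_assoc (ι _), iam, add_comm, ← iam, 
      show ∀ x y : G, x * y * t * (y * t * o * o) = x * (y * t * (y * t) * (o * o)) by intros; group, at2 H.toHyp, one_mul] at r
    exact (z1 H.toHyp (inv1 (ia2 _) (oL (mul_mem ho ho) _) (oo (mul_mem ho ho)) (r ▸ PiN.e_one))).elim

end H4.G38
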