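import Cfsg.Agent.H4.MF2
import Cfsg.Agent.H25.KL1
import Cfsg.Agent.H25.Gen

/-! Minimal `2`-fusion systems: kit for the local configuration `Cg`. -/

set_option autoImplicit false
set_option linter.unusedVariables false
set_option linter.unusedSectionVars false

namespace H4.MF
open Subgroup H25 H25.FS
open scoped MatrixGroups Matrix

universe u
variable {K : Type} [Field K] {Γ : Type u} [Group Γ] {F E : FS Γ} {B A D H P Q U V W : Subgroup Γ}
  {x y a b d e f g h k t : Γ} {σ σ' : K ≃+* K} {p q r s p' q' r' s' : K}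

theorem cjs_ofSub (a : Γ) (H S : Subgroup Γ) : cjs a (ofSub H S) = ofSub (cj a H) (cj a S) := by
  have k : ∀ (a : Γ) (H S : Subgroup Γ), cjs a (ofSub H S) ≤ ofSub (cj a H) (cj a S) := fun a H S =>
    cjs_le_iff.2 fun P g ⟨h1, h2, s, hs, e⟩ => ⟨cj_mono a h1, cj_conj_cj a g P ▸ cj_mono a h2, _,
      cj_sup a H S ▸ conj_mem_cj a hs, e.conj a⟩
  exact le_antisymm (k a H S) (cjs_le_cjs (a := a⁻¹).1 (by simpa [cjs_inv_cjs] using k a⁻¹ (cj a H) (cj a S)))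
theorem mdl_cjs [Finite Γ] (m : E.Mdl 2 H) (a : Γ) : (cjs a E).Mdl 2 (cj a H) := by
  have := m.cj a
  rwa [← cjs_ofSub, ← m.eq] at this
theorem mdl_NF_cj [Finite Γ] (m : (F.NF A).Mdl 2 H) (ht : t ∈ F.S) : (F.NF (cj t A)).Mdl 2 (cj t H) := by
  have := mdl_cjs m t
  rwa [← cjs_NF, cjs_eq_of_mem_A (F.N_le_A _ ⟨ht, le_normalizer ht⟩)] at this
theorem vx {u v : Fin 2 → K} (h0 : u 0 = v 0) (h1 : u 1 = v 1) : u = v := by
  funext i; fin_cases i; exacts [h0, h1]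
theorem mem_cz_z : a ∈ cz (zpowers g) ↔ g * a * g⁻¹ = a := by
  rw [← zpowers_le, le_cz_comm, zpowers_le, mem_cz_zpowers]
theorem two_card [Finite Γ] (h : P ≤ Q) (n : ¬ Q ≤ P) : 2 * Nat.card P ≤ Nat.card Q := by
  have a := H28.GC.card_idx P Q
  rw [inf_eq_left.2 h] at a
  exact a ▸ Nat.mul_le_mul_right _ (H28.GC.two_le n)
/-- counting along an additive coordinate -/
theorem card_le_add [Finite Γ] [Finite K] (φ : Γ → K) (X : AddSubgroup K) (m : ∀ a ∈ V, ∀ b ∈ V, φ (a * b) = φ a + φ b)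
    (k : ∀ a ∈ V, φ a = 0 → a ∈ W) (i : ∀ a ∈ V, φ a ∈ X) : Nat.card V ≤ Nat.card X * Nat.card ↥(W ⊓ V) := by
  rw [← H28.GC.card_idx W V]
  refine Nat.mul_le_mul_right _ (Nat.card_le_card_of_surjective (fun z : X => (QuotientGroup.mk (open Classical in
    if h : ∃ a : V, φ a = z then h.choose else 1) : V ⧸ W.subgroupOf V)) fun z => ?_)
  obtain ⟨a, rfl⟩ := QuotientGroup.mk_surjective z
  have h : ∃ b : V, φ b = φ a := ⟨a, rfl⟩
  refine ⟨⟨φ a, i a a.2⟩, ?_⟩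
  simp only [dif_pos h]
  refine QuotientGroup.eq.2 (k _ (h.choose⁻¹ * a).2 ?_)
  have := m _ h.choose.2 _ (h.choose⁻¹ * a).2
  rw [h.choose_spec] at this
  simpa using this.symm
/-- an involutory action on an elementary abelian group -/
theorem exists_img [Finite Γ] (ea : Cfsg.IsElementaryAbelian 2 V) (n : g ∈ nz V) (c : g * g ∈ cz V) :
    ∃ I, I ≤ V ⊓ cz (zpowers g) ∧ Nat.card V = Nat.card ↥(V ⊓ cz (zpowers g)) * Nat.card I ∧
      ∀ i ∈ I, ∃ v ∈ V, i = g * v * g⁻¹ * v := by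
  let φ : V →* Γ := MonoidHom.mk' (fun v => g * v * g⁻¹ * v) fun v w => by
    have := H28.GC.comm_of_ea ea v.2 (conj_mem_of_mem_nz n w.2)
    simp only [coe_mul]
    calc _ = g * v * g⁻¹ * (g * w * g⁻¹ * v) * w := by group
      _ = _ := by rw [← this]; group
  have k : φ.ker = (cz (zpowers g)).subgroupOf V := by
    ext v
    rw [MonoidHom.mem_ker, mem_subgroupOf, mem_cz_z]
    show g * v * g⁻¹ * v = 1 ↔ _
    rw [mul_eq_one_iff_eq_inv, H28.GC.inv_of_ea ea v.2]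
  refine ⟨φ.range, ?_, ?_, ?_⟩
  · rintro _ ⟨v, rfl⟩
    refine ⟨mul_mem (conj_mem_of_mem_nz n v.2) v.2, mem_cz_z.2 ?_⟩
    show g * (g * v * g⁻¹ * v) * g⁻¹ = g * v * g⁻¹ * v
    calc _ = g * g * v * (g * g)⁻¹ * (g * v * g⁻¹) := by simp only [mul_inv_rev, mul_assoc, inv_mul_cancel_left]
      _ = _ := by rw [mem_cz.1 c v v.2, H28.GC.comm_of_ea ea v.2 (conj_mem_of_mem_nz n v.2)]
  · rw [← index_ker, k, ← card_mul_index ((cz (zpowers g)).subgroupOf V), ← inf_subgroupOf_right, inf_comm,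
      Nat.card_congr (subgroupOfEquivOfLe inf_le_left).toEquiv]
  · rintro _ ⟨v, rfl⟩; exact ⟨v, v.2, rfl⟩

namespace Cg
variable (c : Cg K F B A D H x)

/-- `h` acts on `A / D` by the semilinear map with matrix `(p q; r s)` and field automorphism `σ` -/
def M (h : Γ) (σ : K ≃+* K) (p q r s : K) : Prop := ∀ a ∈ A, c.ψ (h * a * h⁻¹) =
  ![p * σ (c.ψ a 0) + q * σ (c.ψ a 1), r * σ (c.ψ a 0) + s * σ (c.ψ a 1)]
/-- the coordinate on `B / A` -/
noncomputable def τ (b : Γ) : K := open Classical in if h : b ∈ B then (c.up b h).choose else 0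

include c
theorem sq (ha : a ∈ A) : a * a = 1 := H28.GC.sq_of_ea c.ea ha
theorem inv (ha : a ∈ A) : a⁻¹ = a := H28.GC.inv_of_ea c.ea ha
theorem comm (ha : a ∈ A) (hb : b ∈ A) : a * b = b * a := H28.GC.comm_of_ea c.ea ha hb
theorem ψ_one : c.ψ 1 = 0 := by simpa using c.mul 1 (one_mem _) 1 (one_mem _)
theorem ch : CharP K 2 := CharTwo.of_one_ne_zero_of_two_eq_zero one_ne_zero (by
  obtain ⟨a, ha, e⟩ := c.onto 1
  have := congrFun (c.mul a ha a ha) 0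
  rw [c.sq ha, c.ψ_one, e] at this
  rw [← one_add_one_eq_two]; exact this.symm)
theorem DA : D ≤ A := fun a h => ((c.ker a).1 h).1
theorem ψD (h : d ∈ D) : c.ψ d = 0 := ((c.ker d).1 h).2
theorem memD (ha : a ∈ A) (h : c.ψ a = 0) : a ∈ D := (c.ker a).2 ⟨ha, h⟩
theorem eq_iff (ha : a ∈ A) (hb : b ∈ A) : c.ψ a = c.ψ b ↔ a * b ∈ D := by
  haveI := c.ch
  rw [c.ker, c.mul a ha b hb]
  exact ⟨fun e => ⟨mul_mem ha hb, e ▸ funext fun i => aa _⟩, fun e => funext fun i =>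
    CharTwo.add_eq_zero.1 (congrFun e.2 i)⟩
theorem AB : A ≤ B := c.eB ▸ le_sup_left
theorem A₂B : cj x A ≤ B := c.eB ▸ le_sup_right
theorem AT : A ≤ F.S := c.AB.trans c.BT
theorem BN : B ≤ F.N A := le_inf c.BT c.nA
theorem xB : x ∈ nz B := mem_nz.2 (by rw [← c.eB, cj_sup, c.xx, sup_comm])
theorem nA₂ : B ≤ nz (cj x A) := by rw [← cj_nz, ← mem_nz.1 c.xB]; exact cj_mono x c.nA
theorem ea₂ : Cfsg.IsElementaryAbelian 2 (cj x A) := H28.GC.ea_of_sq (by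
  rintro _ ⟨a, ha, rfl⟩; exact conj_sq (c.sq ha))
theorem DA₂ : D ≤ cj x A := fun d h => (c.memC d (c.DA h)).1 (by rw [c.ψD h]; rfl)
theorem D₂A : cj x D ≤ A := c.xx ▸ cj_mono x c.DA₂
theorem D₂A₂ : cj x D ≤ cj x A := cj_mono x c.DA
theorem DC : D ≤ A ⊓ cj x A := le_inf c.DA c.DA₂
theorem D₂C : cj x D ≤ A ⊓ cj x A := le_inf c.D₂A c.D₂A₂
theorem czA : A ≤ cz A := fun a ha => mem_cz'.2 fun b hb => c.comm hb ha
theorem czA₂ : cj x A ≤ cz (cj x A) := cj_cz x A ▸ cj_mono x c.czA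
theorem B_czC : B ≤ cz (A ⊓ cj x A) :=
  c.eB ▸ sup_le (c.czA.trans (cz_anti inf_le_left)) (c.czA₂.trans (cz_anti inf_le_right))
theorem cjC : cj x (A ⊓ cj x A) = A ⊓ cj x A := by rw [cj_inf, c.xx, inf_comm]
theorem dec (hb : b ∈ B) : ∃ a ∈ A, ∃ a' ∈ cj x A, a * a' = b :=
  (mem_sup_of_le_nz_left (c.A₂B.trans c.nA)).1 (c.eB.ge hb)
theorem exists_nC : ∃ a ∈ A, a ∉ cj x A :=
  let ⟨a, ha, e⟩ := c.onto 1; ⟨a, ha, fun h => one_ne_zero (e ▸ (c.memC a ha).2 h)⟩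
theorem not_le : ¬ A ≤ cj x A := let ⟨a, ha, e⟩ := c.exists_nC; fun h => e (h ha)
theorem x_nA : x ∉ nz A := fun h => c.not_le (mem_nz.1 h).ge
theorem xnB : x ∉ B := fun h => c.x_nA (c.nA h)
theorem CT : F.C A ≤ A := c.cen.C_le
theorem pgT : IsPGroup 2 F.S := c.sat.pg
theorem pgB : IsPGroup 2 B := c.pgT.to_le c.BT

theorem τ_spec (hb : b ∈ B) (ha : a ∈ A) : c.ψ (b * a * b⁻¹) = ![c.ψ a 0 + c.τ b * c.ψ a 1, c.ψ a 1] := by
  rw [τ, dif_pos hb]; exact (c.up b hb).choose_spec a ha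
theorem M_B (hb : b ∈ B) : c.M b (.refl K) 1 (c.τ b) 0 1 := fun a ha => by rw [c.τ_spec hb ha]; simp
variable {c} in
theorem M.uniq (m : c.M h σ p q r s) (m' : c.M h σ' p' q' r' s') : p = p' ∧ q = q' ∧ r = r' ∧ s = s' := by
  obtain ⟨a, ha, e⟩ := c.onto ![1, 0]
  obtain ⟨b, hb, e'⟩ := c.onto ![0, 1]
  have i := (m a ha).symm.trans (m' a ha)
  have j := (m b hb).symm.trans (m' b hb)
  rw [e] at i; rw [e'] at j
  exact ⟨by simpa using congrFun i 0, by simpa using congrFun j 0, by simpa using congrFun i 1,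
    by simpa using congrFun j 1⟩
variable {c} in
theorem M.mul (m : c.M h σ p q r s) (m' : c.M k σ' p' q' r' s') (hk : k ∈ nz A) : c.M (h * k) (σ'.trans σ)
    (p * σ p' + q * σ r') (p * σ q' + q * σ s') (r * σ p' + s * σ r') (r * σ q' + s * σ s') := fun a ha => by
  rw [show h * k * a * (h * k)⁻¹ = h * (k * a * k⁻¹) * h⁻¹ by group, m _ (conj_mem_of_mem_nz hk ha), m' a ha]
  refine vx ?_ ?_ <;> simp <;> ring
variable {c} in
theorem M.congr (m : c.M h σ p q r s) (e : Agree A g h) : c.M g σ p q r s := fun a ha => by rw [e a ha, m a ha]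
variable {c} in
theorem M.memA (m : c.M h (.refl K) 1 0 0 1) (hh : h ∈ H) : h ∈ A :=
  c.fth h hh fun a ha => by rw [m a ha]; exact vx (by simp) (by simp)
theorem M_A (ha : a ∈ A) : c.M a (.refl K) 1 0 0 1 := fun b hb => by
  rw [c.comm ha hb, mul_inv_cancel_right]; exact vx (by simp) (by simp)
theorem τ_eq (hb : b ∈ B) (m : c.M b σ p q r s) : c.τ b = q := ((c.M_B hb).uniq m).2.1
theorem τ_mul (ha : a ∈ B) (hb : b ∈ B) : c.τ (a * b) = c.τ a + c.τ b := by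
  simpa [add_comm] using c.τ_eq (mul_mem ha hb) ((c.M_B ha).mul (c.M_B hb) (c.nA hb))
theorem τ_onto (t : K) : ∃ b ∈ cj x A, c.τ b = t := by
  obtain ⟨b, hb, e⟩ := c.up2 t
  obtain ⟨a, ha, a', ha', rfl⟩ := c.dec hb
  refine ⟨a', ha', ?_⟩
  rw [← c.τ_eq hb (σ := .refl K) (p := 1) (q := t) (r := 0) (s := 1) fun a ha => by rw [e a ha]; simp,
    c.τ_mul (c.AB ha) (c.A₂B ha'), c.τ_eq (c.AB ha) (c.M_A ha), zero_add]
theorem sl' (h : p * s - q * r = 1) : ∃ e ∈ H, e ∈ cz D ∧ c.M e (.refl K) p q r s := by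
  obtain ⟨e, e1, e2, e3⟩ := c.sl ⟨!![p, q; r, s], by rwa [Matrix.det_fin_two_of]⟩
  exact ⟨e, e1, e2, fun a ha => by
    rw [e3 a ha]; exact vx (by simp [Matrix.mulVec, dotProduct]) (by simp [Matrix.mulVec, dotProduct])⟩
variable [Finite Γ]
theorem NH : F.N A ≤ H := c.mdl.le
theorem BH : B ≤ H := c.BN.trans c.NH
theorem nH : H ≤ nz A := (c.mdl.nm_iff.1 (nm_NF c.AT)).2
theorem exM (hh : h ∈ H) : ∃ σ p q r s, c.M h σ p q r s := by
  obtain ⟨σ, k⟩ := c.semi h hh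
  obtain ⟨a, ha, e⟩ := c.onto ![1, 0]
  obtain ⟨b, hb, e'⟩ := c.onto ![0, 1]
  refine ⟨σ, c.ψ (h * a * h⁻¹) 0, c.ψ (h * b * h⁻¹) 0, c.ψ (h * a * h⁻¹) 1, c.ψ (h * b * h⁻¹) 1, fun v hv => ?_⟩
  obtain ⟨a', ha', f⟩ := c.onto ![c.ψ v 0, 0]
  obtain ⟨b', hb', f'⟩ := c.onto ![0, c.ψ v 1]
  have i := k a ha a' ha' (c.ψ v 0) (by rw [f, e]; exact vx (by simp) (by simp))
  have j := k b hb b' hb' (c.ψ v 1) (by rw [f', e']; exact vx (by simp) (by simp))
  have l := k _ (mul_mem ha' hb') v hv 1 (by rw [c.mul _ ha' _ hb', f, f']; exact vx (by simp) (by simp))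
  rw [l, show h * (a' * b') * h⁻¹ = h * a' * h⁻¹ * (h * b' * h⁻¹) by group, c.mul _ (conj_mem_of_mem_nz (c.nH hh) ha')
    _ (conj_mem_of_mem_nz (c.nH hh) hb'), i, j]
  exact vx (by simp [mul_comm]) (by simp [mul_comm])
/-- elements of the model induce morphisms -/
theorem T_of (hh : h ∈ H) (hP : P ≤ F.N A) (h' : cj h P ≤ F.N A) : F.T P h :=
  (c.mdl.T_of_mem hP hh h').of_le (F.NF_le A)
/-- morphisms normalizing `A` are induced by the model -/
theorem real (t : F.T P g) (h₁ : A ≤ P) (h₂ : P ≤ nz A) (hg : g ∈ nz A) : ∃ h ∈ H, Agree P g h :=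
  (c.mdl.T_iff.1 (t.toNK hg le_rfl h₁ h₂)).2.2
/-- the configuration conjugated by `x` -/
def symm : Cg K F B (cj x A) (cj x D) (cj x H) x where
  ψ a := c.ψ (x⁻¹ * a * x)
  sat := c.sat
  solv := c.solv
  BT := c.BT
  xT := c.xT
  xx := by rw [c.xx]
  ea := c.ea₂
  eB := by rw [c.xx, sup_comm, c.eB]
  nA := c.nA₂
  fn := c.fn.cj_mem c.xT
  cen := c.cen.cj (F.of_mem c.AT c.xT)
  mdl := mdl_NF_cj c.mdl c.xT
  SB := by
    rw [← c.fn.cj_eq (F.of_mem inf_le_left c.xT), ← mem_nz.1 c.xB, ← cj_nz]; exact cj_mono x c.SB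
  mul a ha b hb := by rw [← c.mul _ (mem_cj.1 ha) _ (mem_cj.1 hb)]; congr 1; group
  onto m := let ⟨a, ha, e⟩ := c.onto m; ⟨_, conj_mem_cj x ha, by rw [← e]; congr 1; group⟩
  ker a := by rw [mem_cj, mem_cj, c.ker]
  nD := cj_nz x D ▸ cj_mono x c.nD
  d0 := by rw [← cj_inf, c.d0, cj_bot]
  memC a ha := by rw [c.memC _ (mem_cj.1 ha), mem_cj (P := cj x A)]
  up b hb := (c.up _ (conj_mem_of_mem_nz' c.xB hb)).imp fun t e a ha => by
    rw [← e _ (mem_cj.1 ha)]; congr 1; group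
  up2 t := let ⟨b, hb, e⟩ := c.up2 t
    ⟨_, conj_mem_of_mem_nz c.xB hb, fun a ha => by rw [← e _ (mem_cj.1 ha)]; congr 1; group⟩
  sl g := let ⟨e, e1, e2, e3⟩ := c.sl g
    ⟨_, conj_mem_cj x e1, cj_cz x D ▸ conj_mem_cj x e2, fun a ha => by rw [← e3 _ (mem_cj.1 ha)]; congr 1; group⟩
  semi h hh := (c.semi _ (mem_cj.1 hh)).imp fun σ e a ha b hb k m => by
    have := e _ (mem_cj.1 ha) _ (mem_cj.1 hb) k m
    convert this using 2
    · group
    · congr 1; group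
  fth h hh e := mem_cj.2 (c.fth _ (mem_cj.1 hh) fun a ha => by
    have := e _ (conj_mem_cj x ha)
    convert this using 2 <;> group)
variable {c} in
theorem M.memB (m : c.M h (.refl K) 1 q 0 1) (hh : h ∈ H) : h ∈ B := by
  haveI := c.ch
  obtain ⟨b, hb, e⟩ := c.τ_onto q
  have := (c.M_B (c.A₂B hb)).mul m (c.nH hh)
  simp only [e, RingEquiv.refl_apply, mul_one, mul_zero, add_zero, one_mul, zero_mul, zero_add, aa] at this
  exact (mul_mem_cancel_left (c.A₂B hb)).1 (c.AB (M.memA this (mul_mem (c.BH (c.A₂B hb)) hh)))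
theorem τ_zero (hb : b ∈ B) : c.τ b = 0 ↔ b ∈ A :=
  ⟨fun e => M.memA (e ▸ c.M_B hb) (c.BH hb), fun h => c.τ_eq hb (c.M_A h)⟩
theorem cA : H ⊓ cz A ≤ A := fun h k => c.fth h k.1 fun a ha => by rw [mem_cz.1 k.2 a ha]
/-- elements outside `C` on both sides have commutator outside `D` -/
theorem fx (ha : a ∈ A) (hb : b ∈ B) (h : b * a * b⁻¹ * a ∈ D) : a ∈ cj x A ∨ b ∈ A := by
  have := congrFun ((c.eq_iff (conj_mem_of_mem_nz (c.nA hb) ha) ha).2 h) 0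
  rw [c.τ_spec hb ha] at this
  exact (mul_eq_zero.1 (by simpa using this)).symm.imp (c.memC a ha).1 (c.τ_zero hb).1
theorem comm_C (ha : a ∈ A) (hb : b ∈ B) : b * a * b⁻¹ * a ∈ A ⊓ cj x A := by
  haveI := c.ch
  have m := mul_mem (conj_mem_of_mem_nz (c.nA hb) ha) ha
  refine ⟨m, (c.memC _ m).1 ?_⟩
  rw [c.mul _ (conj_mem_of_mem_nz (c.nA hb) ha) _ ha, c.τ_spec hb ha]; simp [aa]
theorem inv_or (hb : b ∈ B) (h : b * b = 1) : b ∈ A ∨ b ∈ cj x A := by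
  obtain ⟨a, ha, a', ha', rfl⟩ := c.dec hb
  have : a' * a * a'⁻¹ * a = 1 := by
    rw [H28.GC.inv_of_ea c.ea₂ ha']
    calc _ = a⁻¹ * (a * a' * (a * a')) * a := by group
      _ = 1 := by rw [h]; simp
  exact (c.fx ha (c.A₂B ha') (this ▸ one_mem _)).symm.imp (mul_mem ha) fun k => mul_mem k ha'
theorem ea_le (k : P ≤ B) (e : ∀ p ∈ P, p * p = 1) : P ≤ A ∨ P ≤ cj x A :=
  H28.GC.le_of_two fun p hp => c.inv_or (k hp) (e p hp)
theorem swap (k : g ∈ nz B) : g ∈ nz A ∧ g ∈ nz (cj x A) ∨ cj g A = cj x A ∧ cj g (cj x A) = A := by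
  have f : ∀ P, P ≤ B → Cfsg.IsElementaryAbelian 2 P → Nat.card P = Nat.card A → cj g P = A ∨ cj g P = cj x A :=
    fun P a b e => (c.ea_le ((cj_mono g a).trans (mem_nz.1 k).le) (by
      rintro _ ⟨p, hp, rfl⟩; exact conj_sq (H28.GC.sq_of_ea b hp))).imp
      (fun i => eq_of_le_of_card_ge i (by rw [card_cj, e])) fun i =>
        eq_of_le_of_card_ge i (by rw [card_cj, card_cj, e])
  rcases f _ c.AB c.ea rfl with a | a <;> rcases f _ c.A₂B c.ea₂ (card_cj _ _) with b | b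
  · exact absurd (cj_inj.1 (a.trans b.symm)).le c.not_le
  · exact .inl ⟨mem_nz.2 a, mem_nz.2 b⟩
  · exact .inr ⟨a, b⟩
  · exact absurd (cj_inj.1 (a.trans b.symm)).le c.not_le
theorem n₂_of (k : g ∈ nz B) (h : g ∈ nz A) : g ∈ nz (cj x A) :=
  (c.swap k).elim (·.2) fun e => absurd ((mem_nz.1 h).symm.trans e.1).le c.not_le
theorem n₁_of (k : g ∈ nz B) (h : g ∈ nz (cj x A)) : g ∈ nz A :=
  (c.swap k).elim (·.1) fun e => absurd (e.2.symm.trans (mem_nz.1 h)).le c.not_le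
theorem nz_C : nz B ≤ nz (A ⊓ cj x A) := fun g k => (c.swap k).elim (fun e => mem_nz_inf e.1 e.2) fun e =>
  mem_nz.2 (by rw [cj_inf, e.1, e.2, inf_comm])
theorem ZB : B ⊓ cz B = A ⊓ cj x A := le_antisymm (le_inf (fun b h => c.cA ⟨c.BH h.1, cz_anti c.AB h.2⟩)
  fun b h => c.symm.cA ⟨c.symm.BH h.1, cz_anti c.A₂B h.2⟩) (le_inf (inf_le_left.trans c.AB) (le_cz_comm.1 c.B_czC))
variable {c} in
theorem M.det (m : c.M h σ p q r s) (hh : h ∈ H) : p * s - q * r ≠ 0 := fun e => by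
  have k : ∀ u v : K, p * u + q * v = 0 → r * u + s * v = 0 → u = 0 ∧ v = 0 := fun u v i j => by
    obtain ⟨a, ha, f⟩ := c.onto ![σ.symm u, σ.symm v]
    have := m a ha
    rw [f] at this
    have := c.ψD (conj_mem_of_mem_nz' (c.nD hh) (c.memD (conj_mem_of_mem_nz (c.nH hh) ha)
      (this.trans (vx (by simpa using i) (by simpa using j)))))
    rw [show h⁻¹ * (h * a * h⁻¹) * h = a by group, f] at this
    exact ⟨by simpa using congrFun this 0, by simpa using congrFun this 1⟩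
  have i := k s (-r) (by linear_combination e) (by ring)
  have j := k q (-p) (by ring) (by linear_combination -e)
  exact one_ne_zero (k 1 0 (by simpa using j.2) (by simpa using i.2)).1
variable {c} in
theorem M.r_zero (m : c.M h σ p q r s) (n : h ∈ nz (A ⊓ cj x A)) : r = 0 := by
  obtain ⟨a, ha, e⟩ := c.onto ![1, 0]
  have k := conj_mem_of_mem_nz n ⟨ha, (c.memC a ha).1 (by rw [e]; rfl)⟩
  simpa [m a ha, e] using (c.memC _ k.1).2 k.2
variable {c} in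
theorem M.inv (m : c.M h σ p q r s) (hh : h ∈ H) : c.M h⁻¹ σ.symm (σ.symm (s / (p * s - q * r)))
    (σ.symm (-q / (p * s - q * r))) (σ.symm (-r / (p * s - q * r))) (σ.symm (p / (p * s - q * r))) := fun a ha => by
  have d := m.det hh
  have := m _ (conj_mem_of_mem_nz (c.nH (inv_mem hh)) ha)
  rw [show h * (h⁻¹ * a * h⁻¹⁻¹) * h⁻¹ = a by group] at this
  rw [this]
  have e := mul_inv_cancel₀ d
  refine vx ?_ ?_ <;> apply σ.injective <;> simp only [inv_inv, Matrix.cons_val_zero, Matrix.cons_val_one, map_add,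
    map_mul, RingEquiv.apply_symm_apply, div_eq_mul_inv]
  · linear_combination (-σ (c.ψ (h⁻¹ * a * h) 0)) * e
  · linear_combination (-σ (c.ψ (h⁻¹ * a * h) 1)) * e
variable {c} in
/-- upper triangular elements normalize `B` -/
theorem M.nzB (m : c.M h σ p q 0 s) (hh : h ∈ H) : h ∈ nz B := mem_nz_of_conj_mem fun b hb => by
  have d := m.det hh
  have := (m.mul (c.M_B hb) (c.nA hb)).mul (m.inv hh) (c.nH (inv_mem hh))
  simp only [mul_zero, sub_zero, ne_eq, mul_eq_zero, not_or] at d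
  rw [show (RingEquiv.refl K).trans σ = σ from rfl] at this
  simp only [RingEquiv.symm_trans_self, map_one, map_zero, mul_zero, add_zero, mul_one,
    zero_add, sub_zero, RingEquiv.apply_symm_apply, neg_zero, zero_div, zero_mul] at this
  rw [show p * (s / (p * s)) = 1 by field_simp [d.1, d.2], show s * (p / (p * s)) = 1 by field_simp [d.1, d.2]] at this
  exact this.memB (mul_mem (mul_mem hh (c.BH hb)) (inv_mem hh))
theorem nC_le : H ⊓ nz (A ⊓ cj x A) ≤ nz B := fun h k => by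
  obtain ⟨σ, p, q, r, s, m⟩ := c.exM k.1
  obtain rfl := m.r_zero k.2
  exact m.nzB k.1
/-- `F`-automorphisms of `B` normalizing `A` normalize `D` -/
theorem nD_of (t : F.T B g) (hg : g ∈ nz A) : g ∈ nz D :=
  let ⟨h, hh, e⟩ := c.real t c.AB c.nA hg; (e.mono (c.DA.trans c.AB)).mem_nz (c.nD hh)
theorem finK : Finite K := by
  choose v hv e using fun t : K => c.onto ![t, 0]
  exact Finite.of_injective v fun a b i => congrFun ((e a).symm.trans ((congrArg c.ψ i).trans (e b))) 0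
theorem cardA : Nat.card A = Nat.card K * Nat.card ↥(A ⊓ cj x A) := by
  haveI := c.ch
  choose v hv e using fun t : K => c.onto ![0, t]
  refine card_of_tr inf_le_left v hv (fun i j k => ?_) fun a ha => ⟨c.ψ a 1, A.mul_mem (inv_mem (hv _)) ha,
    (c.memC _ (mul_mem (inv_mem (hv _)) ha)).1 (by rw [c.inv (hv _), c.mul _ (hv _) _ ha, e]; simp [aa])⟩
  have := (c.memC _ k.1).2 k.2
  rw [c.inv (hv _), c.mul _ (hv _) _ (hv _), e, e] at this
  simpa [CharTwo.add_eq_zero] using this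
theorem cardC : Nat.card ↥(A ⊓ cj x A) = Nat.card K * Nat.card D := by
  haveI := c.ch
  choose v hv e using fun t : K => c.onto ![t, 0]
  refine card_of_tr c.DC v (fun t => ⟨hv t, (c.memC _ (hv t)).1 (by rw [e]; rfl)⟩) (fun i j k => ?_) fun a ha =>
    ⟨c.ψ a 0, by rw [c.inv (hv _), ← c.eq_iff (hv _) ha.1, e]; exact vx rfl ((c.memC a ha.1).2 ha.2).symm⟩
  rw [c.inv (hv _), ← c.eq_iff (hv _) (hv _), e, e] at k
  simpa using congrFun k 0
theorem cardB : Nat.card B = Nat.card K * Nat.card A := by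
  haveI := c.ch
  choose v hv e using c.τ_onto
  have i : ∀ t, ∀ b ∈ B, (v t)⁻¹ * b ∈ A ↔ t = c.τ b := fun t b hb => by
    rw [H28.GC.inv_of_ea c.ea₂ (hv t), ← c.τ_zero (mul_mem (c.A₂B (hv t)) hb), c.τ_mul (c.A₂B (hv t)) hb, e,
      CharTwo.add_eq_zero]
  exact card_of_tr c.AB v (fun t => c.A₂B (hv t)) (fun s t k => (e t) ▸ (i _ _ (c.A₂B (hv t))).1 k) fun b hb =>
    ⟨_, (i _ b hb).2 rfl⟩
theorem d2_eq (h : d ∈ cj x D) (e : c.ψ d 0 = 0) : d = 1 :=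
  mem_bot.1 (c.d0 ▸ ⟨c.memD (c.D₂A h) (vx e ((c.memC d (c.D₂A h)).2 (c.D₂A₂ h))), h⟩)
/-- `D^x` is trivial or covers `C / D` -/
theorem dq (h : D ≠ ⊥) (t : K) : ∃ d ∈ cj x D, c.ψ d = ![t, 0] := by
  obtain ⟨⟨d, hd⟩, n⟩ := ne_bot_iff_exists_ne_one.1 (cj_eq_bot (g := x).not.2 h)
  have d0 : c.ψ d 0 ≠ 0 := fun e => n (Subtype.ext (c.d2_eq hd e))
  rcases eq_or_ne t 0 with rfl | t0
  · exact ⟨1, one_mem _, c.ψ_one.trans (vx rfl rfl)⟩
  obtain ⟨e, e1, -, m⟩ := c.sl' (p := t / c.ψ d 0) (q := 0) (r := 0) (s := c.ψ d 0 / t) (by field_simp; ring)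
  have n := m.nzB e1
  refine ⟨_, conj_mem_of_mem_nz (c.symm.nD_of (c.T_of e1 c.BN ((mem_nz.1 n).le.trans c.BN))
    (c.n₂_of n (c.nH e1))) hd, ?_⟩
  rw [m d (c.D₂A hd), (c.memC d (c.D₂A hd)).2 (c.D₂A₂ hd)]
  exact vx (by simp [d0]) (by simp)
theorem cardD (h : D ≠ ⊥) : Nat.card D = Nat.card K := by
  haveI := c.ch
  choose v hv e using c.dq h
  simpa [card_cj] using card_of_tr (bot_le (a := cj x D)) v hv (fun i j k =>
    congrFun ((e i).symm.trans ((congrArg c.ψ (inv_mul_eq_one.1 k)).trans (e j))) 0) fun d hd => ⟨c.ψ d 0, c.d2_eq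
      (mul_mem (inv_mem (hv _)) hd) (by
        rw [c.inv (c.D₂A (hv _)), c.mul _ (c.D₂A (hv _)) _ (c.D₂A hd), e]; simp [aa])⟩
end Cg

end H4.MF
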