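import Cfsg.Agent.H28.GC10

/-! Baumann's theorem on `2`-central involutions with `2`-closed centralizer: basic lemmas. -/

set_option autoImplicit false
set_option linter.unusedVariables false
set_option linter.unusedSectionVars false

namespace H4.Bm
open H9 hiding zj
open Matrix hiding mul_inv_rev
open Cfsg Subgroup H28 H28.GC MatrixGroups H29 H29.PU H29.BB Equiv
open scoped commutatorElement

universe u
variable {X : Type u} [Group X] [Finite X] {A B B' C E E' H K L L' M N P Q R S S' T T' U V W Y : Subgroup X}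
  {a b c d e g l n s t u v w x y z : X}

/-- a `2`-central involution with `2`-closed centralizer -/
structure Hy (d : X) (S : Subgroup X) : Prop where
  sq : d * d = 1
  ne : d ≠ 1
  syl : IsSylowIn 2 S ⊤
  le : S ≤ 𝐜 d
  nrm : 𝐜 d ≤ 𝐍 S

/-- moreover no odd order element centralizes the Sylow subgroup -/
structure Ho (d : X) (S : Subgroup X) : Prop extends Hy d S where
  odd : ∀ x ∈ 𝐂 S, (orderOf x).Coprime 2 → x = 1

theorem p2' (h : IsPGroup 2 R) (hx : x ∈ R) : ∃ k, x ^ 2 ^ k = 1 := isPGroup_iff_mem.1 h x hx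

theorem p2 (h : y * y = 1) : ∃ k, y ^ 2 ^ k = 1 := ⟨1, by rw [pow_one, sq, h]⟩

theorem ord_conj (g x : X) : orderOf (g * x * g⁻¹) = orderOf x :=
  orderOf_injective (MulAut.conj g).toMonoidHom (MulAut.conj g).injective x

theorem sq_pow (h : x * x = 1) : x ^ 2 = 1 := by rw [sq, h]

namespace Hy
variable (h : Hy d S)
include h

theorem pg : IsPGroup 2 S := h.syl.isPGroup
theorem pg_le (hR : IsPGroup 2 R) (l : R ≤ 𝐜 d) : R ≤ S := h.syl.le_of_le_normalizer hR le_top (l.trans h.nrm)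
theorem mem_of (hx : ∃ k, x ^ 2 ^ k = 1) (l : x ∈ 𝐜 d) : x ∈ S :=
  let ⟨k, e⟩ := hx; h.pg_le (isPGroup_zpowers e) (zpowers_le.2 l) (mem_zpowers x)
theorem mem_inv (hx : x * x = 1) (l : x ∈ 𝐜 d) : x ∈ S := h.mem_of (p2 hx) l
theorem mem : d ∈ S := h.mem_inv h.sq (self_mem_c d)
theorem cen : d ∈ 𝐂 S := le_c_iff.1 h.le
theorem inv : d⁻¹ = d := inv_eq_of_mul_eq_one_right h.sq
theorem conj (g : X) : Hy (g * d * g⁻¹) (cj g S) :=
  ⟨conj_sq h.sq, conj_ne h.ne, cj_top g ▸ h.syl.conj g, cj_c g d ▸ cj_mono g h.le,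
    cj_c g d ▸ cj_normalizer g S ▸ cj_mono g h.nrm⟩
theorem uniq (h' : Hy d S') : S = S' := le_antisymm (h'.pg_le h.pg h.le) (h.pg_le h'.pg h'.le)
theorem eq_of_le (hS : IsSylowIn 2 S' ⊤) (l : S' ≤ 𝐜 d) : S' = S :=
  (hS.max _ h.pg (h.pg_le hS.isPGroup l) le_top).symm
theorem mem_Ω (l : B ≤ S) (hd : d ∈ B) : d ∈ Ω₂ B :=
  mem_omegaOneCenter.2 ⟨hd, centralizer_anti l h.cen, sq_pow h.sq⟩
theorem mem_zj (l : B ≤ S) (hd : d ∈ B) : d ∈ zj 2 B := Ω_le_zj dvd_rfl (h.mem_Ω l hd)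
theorem le_cen (hd : d ∈ U) (hR : IsPGroup 2 R) (l : R ≤ 𝐂 U) : R ≤ S := h.pg_le hR (l.trans (cen_le_c hd))
theorem nrmC (hd : d ∈ U) : 𝐍 U ≤ 𝐍 (S ⊓ 𝐂 U : Subgroup X) := le_normalizer_of_cj_le fun g hg => by
  have : cj g (S ⊓ 𝐂 U) ≤ 𝐂 U := cj_le_of_mem_normalizer inf_le_right (normalizer_le_normalizer_centralizer U hg)
  exact le_inf (h.le_cen hd (isPGroup_cj g (h.pg.to_le inf_le_left)) this) this
theorem core (hd : d ∈ U) : S ⊓ 𝐂 U ≤ O₂ (𝐍 U) :=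
  le_pCoreOf (h.pg.to_le inf_le_left) (inf_le_right.trans (centralizer_le_normalizer _)) (h.nrmC hd)
theorem nzj : 𝐍 (zj 2 S) ≤ 𝐍 (bm 2 S) := h.nrmC (h.mem_zj le_rfl h.mem)
theorem nJ : 𝐍 (JJ 2 S) ≤ 𝐍 (bm 2 S) := (normalizer_le_normalizer_omegaOneCenter 2 _).trans h.nzj
theorem cN : 𝐜 d ≤ 𝐍 (bm 2 S) := h.nrm.trans (nrm_bm le_rfl)
theorem mem_bm : d ∈ bm 2 S := ⟨h.mem, centralizer_anti zj_le h.cen⟩
theorem not_rk (r : Rk1 2 L) : ¬ L ≤ 𝐜 d := fun l => by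
  obtain ⟨R, hR⟩ := exists_isSylowIn 2 L
  have e : R = L ⊓ S := (hR.max _ (h.pg.to_le inf_le_right) (le_inf hR.le (h.pg_le hR.isPGroup (hR.le.trans l)))
    inf_le_left).symm
  exact r.not_le_normalizer hR (e ▸ le_normalizer_inf le_normalizer (l.trans h.nrm))
theorem not_cen (r : Rk1 2 L) : d ∉ 𝐂 L := fun e => h.not_rk r (le_c_iff.2 e)

end Hy

namespace Ho
variable (h : Ho d S)
include h

theorem conj (g : X) : Ho (g * d * g⁻¹) (cj g S) := ⟨h.toHy.conj g, fun x hx k => by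
  have := h.odd (g⁻¹ * x * g) (by rwa [← cj_centralizer, mem_cj] at hx) (by
    have := ord_conj g⁻¹ x
    rw [inv_inv] at this; rwa [this])
  by_contra e; exact conj_ne' e this⟩

theorem cen_le (l : Q ≤ S) (c : S ⊓ 𝐂 Q ≤ Q) : 𝐂 Q ≤ Q := by
  have hd : d ∈ Q := c ⟨h.mem, centralizer_anti l h.cen⟩
  have : IsPGroup 2 (𝐂 Q) := isPGroup_of_pResidualOf_eq_bot (le_bot_iff.1 (pResidualOf_le_iff.2 fun x hx k =>
    h.odd x (pq_lemma_elem k (h.pg.to_le l) h.pg (le_normalizer_of_le l) (h.nrm (cen_le_c hd hx)) hx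
      (centralizer_anti c hx)) k))
  exact (le_inf (h.le_cen hd this le_rfl) le_rfl).trans c

theorem cp (l : U ≤ S) (hd : d ∈ U) : IsCharP 2 (𝐍 U) := by
  have l1 : U ⊔ S ⊓ 𝐂 U ≤ O₂ (𝐍 U) := sup_le (le_pCoreOf (h.pg.to_le l) le_normalizer le_rfl) (h.core hd)
  refine isCharP_of_isPGroup_centralizer l1 ((h.pg.to_le (sup_le l inf_le_left)).to_le (inf_le_right.trans
    (h.cen_le (sup_le l inf_le_left) (le_sup_of_le_right (inf_le_inf_left _ (centralizer_anti le_sup_left))))))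

theorem cp' (hU : IsPGroup 2 U) (hd : d ∈ U) (c : U ≤ 𝐜 d) : IsCharP 2 (𝐍 U) := h.cp (h.pg_le hU c) hd

theorem cen_bm : 𝐂 (bm 2 S) ≤ bm 2 S :=
  h.cen_le bm_le (inf_le_inf_left _ (centralizer_anti (le_inf zj_le zj_comm : zj 2 S ≤ bm 2 S)))

end Ho

/-- good vertices -/
structure Gd (B L : Subgroup X) : Prop where
  vx : Vx 2 L
  syl : IsSylowIn 2 B L
  amb : ∀ K, IsCharP 2 K → L ≤ K → Amb 2 K B
  cen : 𝐂 B ≤ B

theorem Gd.conj (k : Gd B L) (g : X) : Gd (cj g B) (cj g L) :=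
  ⟨k.vx.conj g, k.syl.conj g, fun K a b => by
    simpa only [cj_cj_inv] using (k.amb _ (a.conj g⁻¹) (cj_le_iff.1 b)).conj g,
    cj_centralizer g B ▸ cj_mono g k.cen⟩

theorem Ho.gd (h : Ho t T) (v : Vx 2 L) (s : IsSylowIn 2 (bm 2 T) L) : Gd (bm 2 T) L :=
  ⟨v, s, fun K a b => by
    obtain ⟨S, hS, l⟩ := exists_isSylowIn_ge s.isPGroup (s.le.trans b)
    obtain ⟨g, -, l'⟩ := h.syl.exists_le_conj hS.isPGroup le_top
    have : cj g⁻¹ (bm 2 T) ≤ T := le_cj_iff.1 (l.trans l')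
    have e : bm 2 (cj g T) = bm 2 T := by rw [← cj_bm, cj_eq_self (inv_mem_iff.1 (weak_bm this))]
    exact ⟨a, S, hS, by rw [bm_eq_of_le (e ▸ l) l', e]⟩, h.cen_bm⟩

theorem step1 (h : Ho t T) (hM : 𝐍 (bm 2 T) ≤ M) (hg : g ∉ M) (hd : g * t * g⁻¹ ∈ T) :
    ∃ B L, t ∈ B ∧ B ≤ T ∧ Gd B L ∧ ¬ L ≤ M := by
  have NT : 𝐍 T ≤ M := (nrm_bm le_rfl).trans hM
  have TM : T ≤ M := le_normalizer.trans NT
  have sM := h.syl.mono TM le_top
  let 𝓟 : Set (Subgroup X) := {P | IsPGroup 2 P ∧ P ≤ M ∧ 𝐂 P ≤ P ∧ ∃ K, IsCharP 2 K ∧ P ≤ K ∧ ¬ K ≤ M}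
  have cjP : ∀ m ∈ M, ∀ P ∈ 𝓟, cj m P ∈ 𝓟 := fun m hm P ⟨a, b, c, K, k1, k2, k3⟩ => ⟨isPGroup_cj m a,
    cj_le_of_mem b hm, cj_centralizer m P ▸ cj_mono m c, _, k1.conj m, cj_mono m k2, fun e => k3 (by
      rwa [← cj_eq_self_of_mem hm, cj_le_cj] at e)⟩
  have ne : 𝓟.Nonempty := by
    obtain ⟨⟨g1, g2⟩, ⟨a1, a2, a3⟩, m⟩ := Set.exists_max_image
      {p : X × X | cj p.1 T ≤ M ∧ ¬ cj p.2 T ≤ M ∧ p.2 * t * p.2⁻¹ ∈ cj p.1 T}
      (fun p => # ↥(cj p.1 T ⊓ cj p.2 T)) (Set.toFinite _) ⟨(1, g), by simpa only [cj_one] using TM, fun e => by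
        obtain ⟨m, hm, e'⟩ := sM.exists_conj ((h.conj g).syl.mono e le_top)
        refine hg ?_
        have : m⁻¹ * g ∈ 𝐍 T := mem_normalizer_iff_cj.2 (by rw [← cj_cj, ← e', cj_inv_cj])
        simpa using mul_mem hm (NT this), by simpa only [cj_one] using hd⟩
    dsimp only at a1 a2 a3 m
    have h1 := h.conj g1
    have h2 := h.conj g2
    have d2 : g2 * t * g2⁻¹ ∈ cj g1 T ⊓ cj g2 T := ⟨a3, h2.mem⟩
    have d1 : g1 * t * g1⁻¹ ∈ cj g1 T ⊓ cj g2 T := ⟨h1.mem, h2.mem_inv h1.sq (mem_c_symm.1 (h1.le a3))⟩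
    refine ⟨_, h1.pg.to_le inf_le_left, inf_le_left.trans a1, h1.cen_le inf_le_left (le_inf inf_le_left
      (h2.le_cen d2 (h1.pg.to_le inf_le_left) inf_le_right)), _, h1.cp inf_le_left d1, le_normalizer, fun c => ?_⟩
    have lt := lt_inf_normalizer h2.pg (lt_of_le_of_ne (inf_le_right : cj g1 T ⊓ cj g2 T ≤ _) fun e =>
      a2 ((e.ge.trans inf_le_left).trans a1))
    obtain ⟨n, hm, l⟩ := sM.exists_le_conj (h2.pg.to_le inf_le_left) (inf_le_right.trans c : _ ≤ M)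
    exact (m (n, g2) ⟨cj_le_of_mem TM hm, a2, l (lt.le d2)⟩).not_gt ((card_lt_of_lt lt).trans_le
      (card_le_of_le' (le_inf l inf_le_left)))
  obtain ⟨P, hP, m⟩ := Set.exists_max_image 𝓟 (fun P => toLex (# (exists_maxAb 2 P).choose,
    toLex (# (JJ 2 P), # (bm 2 P)))) (Set.toFinite _) ne
  have key : ∀ S ∈ 𝓟, bm 2 P ≤ S → bm 2 S = bm 2 P := fun S hS l => by
    have h1 := (exists_maxAb 2 P).choose_spec
    have h2 := (exists_maxAb 2 S).choose_spec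
    have h3 := h2.card_le (h1.le_JJ.trans (JJ_le_bm.trans l)) h1.abE
    have h4 := m S hS
    simp only [Prod.Lex.toLex_le_toLex] at h4
    obtain ⟨h5, h4⟩ := h4.resolve_left h3.not_gt
    have h6 := JJ_mono_of_mem (JJ_le_bm.trans l) (h2.of_card_le (h1.le_JJ.trans (JJ_le_bm.trans l)) h1.abE h5.le)
      h1.le_JJ
    rw [JJ_JJ] at h6
    obtain ⟨h7, h4⟩ := h4.resolve_left (card_le_of_le' h6).not_gt
    refine (eq_of_le_of_card_le (le_inf l ?_) h4).symm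
    rw [zj, ← eq_of_le_of_card_le h6 h7.le]; exact inf_le_right
  obtain ⟨g, hg, l⟩ := sM.exists_conj_le hP.1 hP.2.1
  replace key : ∀ S ∈ 𝓟, bm 2 (cj g P) ≤ S → bm 2 S = bm 2 (cj g P) := fun S hS l => by
    rw [← cj_bm, cj_le_iff] at l
    rw [← cj_bm, ← key _ (cjP _ (inv_mem hg) S hS) l, cj_bm, cj_cj_inv]
  replace hP := cjP g hg P hP
  generalize cj g P = P at l key hP
  clear m hd
  set B := bm 2 P with eB
  have BT : B ≤ T := bm_le.trans l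
  have pB := h.pg.to_le BT
  have tP : t ∈ P := hP.2.2.1 (centralizer_anti l h.cen)
  have tB : t ∈ B := ⟨tP, centralizer_anti (zj_le.trans l) h.cen⟩
  have eZ : ∀ S, bm 2 S = B → zj 2 S = zj 2 P := fun S e => by
    rw [zj, zj, ← JJ_eq_of_le JJ_le_bm bm_le, e, JJ_eq_of_le JJ_le_bm bm_le]
  have nZ : 𝐍 (zj 2 P) ≤ M := by_contra fun c => by
    have tZ := h.mem_zj l tP
    have e := key (T ⊓ 𝐍 (zj 2 P)) ⟨h.pg.to_le inf_le_left, inf_le_left.trans TM, h.cen_le inf_le_left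
      (inf_le_inf_left _ ((centralizer_anti (le_inf (zj_le.trans l) le_normalizer)).trans
        (centralizer_le_normalizer _))), _, h.cp (zj_le.trans l) tZ, inf_le_right, c⟩
      (le_inf BT (bm_le.trans (nrm_zj le_normalizer)))
    have e' := eZ _ e
    rw [eq_of_inf_normalizer_le h.pg inf_le_left (inf_le_inf_left _ ((nrm_zj le_rfl).trans_eq
      (congrArg (fun H : Subgroup X => 𝐍 H) e')))] at e'
    exact c (e' ▸ h.nzj.trans hM)
  have bB : bm 2 B = B := bm_eq_of_le le_rfl bm_le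
  have nJ : 𝐍 (JJ 2 B) ≤ M := (normalizer_le_normalizer_omegaOneCenter 2 _).trans ((eZ B bB).symm ▸ nZ :)
  have nB : 𝐍 B ≤ M := (normalizer_le_normalizer_JJ 2 B).trans nJ
  have k2 : ∀ K R Q : Subgroup X, IsCharP 2 K → ¬ K ≤ M → IsPGroup 2 R → B ≤ Q → 𝐂 Q ≤ Q → Q ≤ M → Q ≤ R →
      R ≤ K → R ≤ M ∧ bm 2 R = B := fun K R Q a b c d d' d'' e f => by
    have k1 : ∀ S, Q ≤ S → S ≤ R → S ≤ M → bm 2 S = B := fun S x y z =>
      key S ⟨c.to_le y, z, ((centralizer_anti x).trans d').trans x, K, a, y.trans f, b⟩ (d.trans x)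
    have : R ≤ M := (eq_of_inf_normalizer_le c (inf_le_left : R ⊓ M ≤ R) (inf_le_inf_left _ (le_trans
      (k1 _ (le_inf e d'') inf_le_left inf_le_right ▸ nrm_bm le_rfl) nB))).ge.trans inf_le_right
    exact ⟨this, k1 R e le_rfl this⟩
  obtain ⟨p1, p2, p3, K, k1, k3, k4⟩ := hP
  obtain ⟨S, hS, lS⟩ := exists_isSylowIn_ge p1 k3
  obtain ⟨SM, eS⟩ := k2 K S P k1 k4 hS.isPGroup bm_le p3 p2 lS hS.le
  have am : Amb 2 K B := ⟨k1, S, hS, eS⟩
  obtain ⟨L, n, -, v, s⟩ := WM.exists_vx (M := M) ⟨am, nB, nJ, fun R r1 r2 r3 => by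
    obtain ⟨k, hk, lk⟩ := hS.exists_le_conj r1 r3
    have s' := hS.conj_of_mem hk
    have kM : k ∈ M := nB (mem_normalizer_iff_cj.2 (by
      rw [← eS, cj_bm, eS]; exact am.bm_eq s'.isPGroup (r2.trans lk) s'.le))
    obtain ⟨m, hm, lm⟩ := sM.exists_le_conj s'.isPGroup (cj_le_of_mem SM kM)
    have hm' := h.conj m
    have c1 : m * t * m⁻¹ ∈ cj k S := by
      have : 𝐂 (cj k S) ≤ cj k S := cj_centralizer k S ▸ cj_mono k (((centralizer_anti lS).trans p3).trans lS)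
      exact this (centralizer_anti lm hm'.cen)
    have c2 : m * t * m⁻¹ ∈ B := am.bm_eq s'.isPGroup (r2.trans lk) s'.le ▸
      (⟨c1, centralizer_anti (zj_le.trans lm) hm'.cen⟩ : _ ∈ bm 2 (cj k S))
    refine (cen_le_c (hm'.mem_Ω (lk.trans lm) (r2 c2))).trans (hm'.nrm.trans ?_)
    rw [← cj_normalizer]; exact cj_le_of_mem NT hm⟩ k4
  have tZ : t ∈ Z₂ L := s.omegaOneCenter_le_Z (h.mem_Ω BT tB)
  have ZB := v.Z_le_S s
  have cB : 𝐂 B ≤ B := h.cen_le BT (by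
    have l1 : B ⊔ T ⊓ 𝐂 (Z₂ L) ≤ T := sup_le BT inf_le_left
    have e := (k2 _ _ _ (h.cp (ZB.trans BT) tZ) (fun c => n ((le_normalizer_Z 2 L).trans c)) (h.pg.to_le l1)
      le_sup_left (h.cen_le l1 (le_sup_of_le_right (inf_le_inf_left _ (centralizer_anti (ZB.trans le_sup_left)))))
      (l1.trans TM) le_rfl (sup_le (s.le.trans (le_normalizer_Z 2 L))
        (inf_le_right.trans (centralizer_le_normalizer _)))).2
    refine le_trans (le_inf (le_sup_of_le_right (inf_le_inf_left _ (centralizer_anti ZB))) ?_) e.le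
    rw [eZ _ e, ← eZ B bB]; exact inf_le_right.trans (centralizer_anti zj_le))
  refine ⟨B, L, tB, BT, ⟨v, s, fun K a b => ?_, cB⟩, n⟩
  obtain ⟨S, hS, lS⟩ := exists_isSylowIn_ge pB (s.le.trans b)
  exact ⟨a, S, hS, (k2 K S B a (fun c => n (b.trans c)) hS.isPGroup le_rfl cB (BT.trans TM) lS hS.le).2⟩

end H4.Bm
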