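import Cfsg.Agent.H4.Bm9

/-! Different classes of blocks commute; unpaired vertices. -/

set_option autoImplicit false
set_option linter.unusedVariables false
set_option linter.unusedSectionVars false

namespace H4.Bm
open H9 hiding zj
open Matrix hiding mul_inv_rev
open Cfsg Subgroup H28 H28.GC MatrixGroups H29 H29.PU H29.BB Equiv
open scoped commutatorElement

universe u
variable {X : Type u} [Group X] [Finite X] {A A' B B' C D E E' H J K L L' L₀ L₁ L₂ B₀ M N P Q R S S' T T' U V W Y : Subgroup X}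
  {a b c d e f g l m n t u v w x y z : X}
variable {ρ ρ' μ l' a' z' t' : X} {L₁' L₂' : Subgroup X}

theorem off_idx' (hA : MaxAb 2 S A) (h : V ≤ S) (hV : IsElementaryAbelian 2 V) (h1 : B ≤ A) (h2 : V ≤ 𝐂 B) :
    B.relIndex V ≤ B.relIndex A := by
  have h1 := hA.card_mul_le h (abE_iff_ea.2 hV) h1
  rw [inf_of_le_left h2, ← card_idx B A, ← card_idx B V, inf_of_le_left ‹B ≤ A›, mul_comm, mul_assoc,
    mul_assoc, mul_comm (# ↥(B ⊓ V)), inf_comm V] at h1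
  exact Nat.le_of_mul_le_mul_right h1 (Nat.mul_pos Nat.card_pos Nat.card_pos)

theorem JJ_bm : JJ 2 (bm 2 T) = JJ 2 T := JJ_eq_of_le JJ_le_bm bm_le
theorem zj_bm : zj 2 (bm 2 T) = zj 2 T := by rw [zj, JJ_bm, zj]

/-- unpaired vertices -/
def Un (B L : Subgroup X) : Prop := ∀ L', Gd B L' → Z₂ L' ≤ O₂ L

theorem Un.conj (h : Un B L) (g : X) : Un (cj g B) (cj g L) := fun L' k => by
  have := h _ (by simpa only [cj_inv_cj] using k.conj g⁻¹)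
  rwa [← cj_Z, cj_le_iff, inv_inv, cj_pCoreOf] at this

theorem Un.of_syl (h : Un B L) (k : Gd B L) (s : IsSylowIn 2 S L) : Un S L := by
  obtain ⟨l, hl, rfl⟩ := k.syl.exists_conj s
  simpa only [cj_eq_self_of_mem hl] using h.conj l

theorem Gt.bm_of (k : Gt t T B L) (h : Un B L) : B = bm 2 T := by_contra fun n =>
  let ⟨L', a, b⟩ := k.partner n; b (h L' a)

theorem Gt.pa (k : Gt t T B L) (h : ¬ Un B L) : ∃ L', Pa t T B L L' := by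
  simp only [Un, not_forall] at h
  obtain ⟨L', a, b⟩ := h
  exact ⟨L', Pa.symm ⟨⟨a, k.ho, k.tΩ⟩, k, b⟩⟩

namespace Pa
variable (r : Pa t T B L₁ L₂)
include r

theorem eW : ⁅Z₂ L₁, B⁆ ≤ ⁅𝐖ᵥ L₁, 𝐖ᵥ L₂⁆ := by
  rw [r.k₁.comm_of_sup r.supW]
  refine commutator_le.2 fun u hu v hv => ?_
  obtain ⟨w, hw, c, hc, rfl⟩ := r.k₁.decZ hu
  rw [comm_mul_left, mem_c_comm'.1 (cen_le_c (r.k₁.le (r.k₂.ZB (r.k₂.WZ hv))) hc.2), mul_one, mul_inv_cancel, one_mul]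
  exact commutator_mem_commutator hw hv

theorem WT : 𝐖ᵥ L₁ ≤ T := (r.k₁.WZ.trans r.k₁.ZB).trans r.k₁.BT

theorem WC' (r' : Pa t T B' L₁' L₂') (h1 : 𝐖ᵥ L₁' ≤ 𝐂 (𝐖ᵥ L₁)) (h2 : 𝐖ᵥ L₁' ≤ 𝐂 (𝐖ᵥ L₂)) (h3 : 𝐖ᵥ L₂' ≤ 𝐂 (𝐖ᵥ L₁)) :
    𝐖ᵥ L₁' ≤ 𝐂 (O² L₁) := by
  obtain ⟨x, hx, n⟩ := SetLike.not_le_iff_exists.1 r.WQ
  refine phi r.k₁.toGd r'.k₁.toGd (fun y hy y1 => ?_) (fun w hw => let ⟨y, a, b⟩ := r.cp ⟨r'.WT hw, h1 hw⟩ (h2 hw)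
    ⟨y, r.k₁.YΩ a, b⟩) (r'.eW.trans (commutator_le.2 fun u hu v hv => r.bt.RR ⟨r'.WT hu, h1 hu⟩ ⟨r'.symm.WT hv, h3 hv⟩))
    (r.k₂.ZB (r.k₂.WZ hx)) n (le_centralizer_comm.1 h2 hx)
  by_cases q : Two B (O₂ L₁)
  · exact ⟨t, T, r.ho.toHy, r.k₁.tΩ, r'.k₁.tΩ, r.k₁.CE ((r.k₁.vx.two r.k₁.syl q).1 t r.k₁.tΩ _ (inv_mem hy) r.k₁.tC
      (mt inv_mem_iff.1 y1))⟩
  · obtain ⟨d, S, a, b, c⟩ := r.k₁.trΩ hy y1
    exact ⟨d, S, a.toHy, b, r'.zjT (by rwa [zj, r.JT q, ← zj, r.k₁.zj_eq]), r.k₁.CE c⟩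

theorem comm (r' : Pa t T B' L₁' L₂') (h1 : 𝐖ᵥ L₁' ≤ 𝐂 (𝐖ᵥ L₁)) (h2 : 𝐖ᵥ L₁' ≤ 𝐂 (𝐖ᵥ L₂)) (h3 : 𝐖ᵥ L₂' ≤ 𝐂 (𝐖ᵥ L₁))
    (h4 : 𝐖ᵥ L₂' ≤ 𝐂 (𝐖ᵥ L₂)) : O² L₁' ≤ 𝐂 (O² L₁) := by
  have k := r.k₁
  have k' := r'.k₁
  have c1 := r.WC' r' h1 h2 h3
  have c2 := r'.WC' r (le_centralizer_comm.1 h1) (le_centralizer_comm.1 h3) (le_centralizer_comm.1 h2)
  have c3 := r'.WC' r.symm (le_centralizer_comm.1 h2) (le_centralizer_comm.1 h4) (le_centralizer_comm.1 h1)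
  have tz := zpowers_le.2 (r.bt.QT (k.ZQ k.tZ))
  have tz' := zpowers_le.2 (r'.bt.QT (k'.ZQ k'.tZ))
  have c : ⁅𝐖ᵥ L₁ ⊔ (𝐖ᵥ L₁' ⊔ zpowers t), O² L₁⁆ ≤ 𝐖ᵥ L₁ := (commutator_mono (sup_le ((k.WZ.trans k.ZQ).trans r.bt.QT)
    (sup_le (le_inf r'.WT h1) tz)) le_rfl).trans r.bt.commT
  have c' : ⁅𝐖ᵥ L₁ ⊔ (𝐖ᵥ L₁' ⊔ zpowers t), O² L₁'⁆ ≤ 𝐖ᵥ L₁' := (commutator_mono (sup_le (le_inf r.WT
    (le_centralizer_comm.1 h1)) (sup_le ((k'.WZ.trans k'.ZQ).trans r'.bt.QT) tz')) le_rfl).trans r'.bt.commT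
  exact r.bt.fin (A := 𝐖ᵥ L₂) (mem_sup_right (mem_sup_right (mem_zpowers t))) le_sup_left
    (H29.le_normalizer_of_commutator_le (c.trans le_sup_left)) (H29.le_normalizer_of_commutator_le
      (c'.trans (le_sup_of_le_right le_sup_left))) (c.trans c2) (c'.trans c1) c2 (r.k₂.WZ.trans r.k₂.ZB)
    (r.k₂.le.trans r.k₂.nW) r.WQ (le_normalizer_sup ((r.k₂.WZ.trans r.k₂.ZB).trans (k.le.trans k.nW))
      (le_normalizer_sup (le_normalizer_of_le_centralizer (le_centralizer_comm.1 h2)) (le_normalizer_of_le_centralizer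
      (centralizer_zpowers t ▸ r.symm.WT.trans r.ho.le)))) ((commutator_eq_bot_iff'.2 c3).le.trans bot_le)

theorem ZU (k₀ : Gd B₀ L₀) (j : JJ 2 B₀ = JJ 2 B) (h : Un B₀ L₀) : Z₂ L₁ ≤ O₂ L₀ := by_contra fun n =>
  n (h _ ((r.pu k₀ j n).1 ▸ r.k₁.toGd))

end Pa

namespace Ds
variable (s : Ds t T z l a ρ)
include s

theorem Jz : JJ 2 T ≤ T ⊓ 𝐜 z := s.JT.le.trans (JJ_le 2 _)
theorem memJ' (k : DG t T z u) : u ∈ JJ 2 T := s.JT ▸ s.memJ k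
theorem lJ' : zpowers l ≤ JJ 2 T := s.JT ▸ s.lJ
theorem zzj : z ∈ zj 2 T := mem_omegaOneCenter.2 ⟨s.lJ' s.zl, le_c_iff.1 (s.Jz.trans inf_le_right), sq_pow s.da.zz⟩

theorem comm3 (s' : Ds t' T' z' l' a' ρ') (n : z ≠ z') (h1 : a' ∈ T ⊓ 𝐜 z) (h2 : ρ ∈ T' ⊓ 𝐜 z') : a' ∈ 𝐜 a :=
  s.cen₁ h1 s'.da.vv ((s.c4 (s.nl' h1)).resolve_right fun e => ((mem_z2 s'.da.zz).1 (s'.c1
    (e ▸ commutatorElement_mem_comm.1 (mem_fm.1 (s'.nz h2)).2) s.da.zz)).elim s.da.z1 n)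

variable (k₀ : Gd B₀ L₀) (j : JJ 2 B₀ = JJ 2 T)
include k₀ j

theorem Zz : Z₂ L₀ ≤ T ⊓ 𝐜 z := k₀.ZJ.trans (j ▸ s.Jz)
theorem aB : a ∈ B₀ := JJ_le 2 B₀ (j ▸ s.memJ' s.da)
theorem lB : zpowers l ≤ B₀ := (j ▸ s.lJ').trans (JJ_le 2 B₀)

theorem big (q : ¬ Two B₀ (O₂ L₀)) : a ∈ O₂ L₀ := by_contra fun n => by
  have := (((three_of q).trans k₀.idx.1).trans (idx_mono k₀.WZ)).trans ((idx_le_of (H := 𝐜 ρ) fun u hu =>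
    (k₀.fix (s.aB k₀ j) hu.2 (mem_c_comm.1 (s.cen₁ (s.Zz k₀ j hu.2) (sq_of_ea k₀.ea hu.2) hu.1) ▸
      one_mem _)).resolve_left n).trans (s.idx (s.Zz k₀ j)))
  omega

theorem memQ (h : Un B₀ L₀) : a ∈ O₂ L₀ := by
  by_cases q : Two B₀ (O₂ L₀)
  swap
  · exact s.big k₀ j q
  by_contra n
  have n' : ρ ∉ O₂ L₀ := fun c => n (k₀.memQ (s.aB k₀ j) (le_centralizer_comm.1 (centralizer_zpowers a ▸ fun u hu =>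
    s.cen₁ (s.Zz k₀ j hu) (sq_of_ea k₀.ea hu) (cen_le_c c (k₀.ZC hu))) (mem_zpowers a)))
  obtain ⟨B, L₁, L₂, r, a1, a2⟩ := s.da
  have l : JJ 2 T ≤ T ⊓ 𝐍 L₁ := JJ_le_iff.2 fun A hA x hx => by
    have xz := s.Jz (hA.le_JJ hx)
    refine ⟨xz.1, (r.nL a1 a2 xz.1).2 (s.da.mem xz.2 (by_contra fun c => n' (zpowers_le.2 ?_
      (s.c2 (mem_fm.1 (s.nz xz)).2 c))))⟩
    have m := mul_mem (s.aB k₀ j) ((maxJ j hA).le hx)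
    rw [comm_sq s.da.vv (sq_of_ea hA.ea hx)]
    exact by_contra fun e => e (q _ m _ m (fun c => e (mul_mem c c)) fun c => e (mul_mem c c))
  exact n (r.ZU k₀ (j.trans ((JJ_eq_of_le l inf_le_left).symm.trans (r.k₁.JN (le_inf r.k₁.BT
    (r.k₁.le.trans le_normalizer)) inf_le_left inf_le_right))) h (r.k₁.WZ a1))

theorem zL (hB : B₀ ≤ T) (h : ∀ u, DG t T z u → u ∈ O₂ L₀) : z ∈ 𝐂 L₀ := by_contra fun n => by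
  have zΩ : z ∈ Ω₂ B₀ := by rw [← k₀.zj_eq, zj, j]; exact s.zzj
  obtain ⟨e, he, o⟩ := k₀.oppE
  have e0 := k₀.EL he
  obtain ⟨A, hA, nA⟩ := k₀.off
  obtain ⟨x, hx, n'⟩ := SetLike.not_le_iff_exists.1 nA
  have x0 := k₀.le (hA.le hx)
  have f : ∀ g ∈ L₀, O₂ L₀ ≤ cj g T ⊓ 𝐜 (g * z * g⁻¹) := fun g hg => le_inf ((k₀.conj' hg).QB.trans (cj_mono g hB))
    (k₀.QC.trans (cen_le_c (conj_mem_of_mem_normalizer (k₀.nZ hg) (k₀.ΩZ zΩ))))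
  have aQ := h a s.da
  have bQ := h _ (s.dg ρ s.hρ)
  have ρQ := (mul_mem_cancel_left aQ).1 bQ
  have cQ : ∀ g ∈ L₀, ∀ {y}, y ∈ O₂ L₀ → g * y * g⁻¹ ∈ O₂ L₀ := fun g hg y hy =>
    conj_mem_of_mem_normalizer (k₀.nQ hg) hy
  have xe := mul_mem x0 e0
  have s₁ := s.conj' e
  have s₂ := s.conj' (x * e)
  have zZ := conj_mem_of_mem_normalizer (k₀.nZ e0) (k₀.ΩZ zΩ)
  have cc : ∀ y, x * e * y * (x * e)⁻¹ = x * (e * y * e⁻¹) * x⁻¹ := fun y => by group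
  have ne : e * z * e⁻¹ ≠ x * e * z * (x * e)⁻¹ := fun c => n (by
    have := Ω_inf_le o ⟨(k₀.fix (hA.le hx) zZ (mem_c_comm'.1 (mem_c''.2 (cc z ▸ c.symm)) ▸ one_mem _)).resolve_left n',
      cj_omegaOneCenter e B₀ ▸ conj_mem_cj zΩ⟩
    simpa [mul_assoc] using conj_mem_of_mem_normalizer' (le_normalizer_centralizer le_normalizer e0) this)
  have c1 := s₁.comm3 s₂ ne (f e e0 (cQ _ xe aQ)) (f _ xe (cQ e e0 ρQ))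
  have c2 : x * e * a * (x * e)⁻¹ ∈ 𝐜 (e * ρ * e⁻¹) := mem_c_symm.1 ((mul_mem_cancel_left (mem_c_symm.1 c1)).1
    (mem_c_symm.1 ((s₁.reb' (s₁.dg _ s₁.hρ)).comm3 s₂ ne (f e e0 (cQ _ xe aQ)) (f _ xe (cQ e e0 ρQ)))))
  have m := k₀.max hA nA
  set A₁ := A ⊓ O₂ L₀ ⊔ Z₂ L₀
  have lQ : A₁ ≤ O₂ L₀ := sup_le inf_le_right k₀.ZQ
  have l : 𝐜 (e * ρ * e⁻¹) ⊓ A₁ ≤ 𝐜 (x * e * ρ * (x * e)⁻¹) := fun y hy => by
    obtain ⟨u, hu, w, hw, rfl⟩ := (mem_sup_of_le_normalizer (inf_le_right.trans ((pCoreOf_le 2 _).trans k₀.nZ))).1 hy.2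
    refine mul_mem ?_ (cen_le_c (cQ _ xe ρQ) (k₀.ZC hw))
    rw [cc, ← conj_eq_of_cen hx (hA.comm hu.1), conj_mem_c]
    exact (mul_mem_cancel_right (cen_le_c (cQ e e0 ρQ) (k₀.ZC hw))).1 hy.1
  have i := off_idx' m (V := zpowers (e * a * e⁻¹) ⊔ zpowers (x * e * a * (x * e)⁻¹)) (sup_le
    (zpowers_le.2 (k₀.QB (cQ e e0 aQ))) (zpowers_le.2 (k₀.QB (cQ _ xe aQ)))) (ea_sup
    (ea_of_sq fun y hy => ((mem_z2 s₁.da.vv).1 hy).elim (by rintro rfl; simp) (· ▸ s₁.da.vv))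
    (ea_of_sq fun y hy => ((mem_z2 s₂.da.vv).1 hy).elim (by rintro rfl; simp) (· ▸ s₂.da.vv))
    (by rw [centralizer_zpowers, zpowers_le]; exact mem_c_symm.1 c1)) (B := 𝐜 (e * ρ * e⁻¹) ⊓ A₁) inf_le_right
    (sup_le (zpowers_le.2 (le_c_iff.1 fun y hy => s₁.cen₁ (f e e0 (lQ hy.2)) (sq_of_ea m.ea hy.2) hy.1))
      (zpowers_le.2 (le_c_iff.1 fun y hy => s₂.cen₁ (f _ xe (lQ hy.2)) (sq_of_ea m.ea hy.2) (l hy))))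
  rw [inf_relIndex_right] at i
  have := (three_le (H := 𝐜 (e * ρ * e⁻¹) ⊓ A₁) (mem_sup_left (mem_zpowers _)) (mem_sup_right (mem_zpowers _))
    (fun c => s₁.aρ c.1) (fun c => s₂.aρ (l c))
    fun c => s₁.aρ (inv_mem_iff.1 ((mul_mem_cancel_right c2).1 c.1))).trans (i.trans (s₁.idx (lQ.trans (f e e0))))
  omega

end Ds

theorem P2.ds (r : P2 t T B L₁ L₂ z) : ∃ l a ρ, Ds t T z l a ρ ∧ a ∈ 𝐖ᵥ L₁ :=
  let ⟨v, a, b⟩ := r.exW; let ⟨l, ρ, s⟩ := DG.ds ⟨_, _, _, r, a, b⟩; ⟨l, v, ρ, s, a⟩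

theorem P2.W2 (r : P2 t T B L₁ L₂ z) (r' : P2 t T B' L₁' L₂' z') (n : z ≠ z') : 𝐖ᵥ L₁' ≤ 𝐂 (𝐖ᵥ L₁) := by
  obtain ⟨l, a, ρ, s, h⟩ := r.ds
  obtain ⟨l', a', ρ', s', h'⟩ := r'.ds
  rw [r.eC h s.da.nz]
  have c := s.Jz (s'.memJ' s'.da)
  exact r'.Wle h' s'.da.nz ⟨s.comm3 s' n c (s'.Jz (s.lJ' s.hρ)), c.2⟩
    ⟨mem_c_symm.1 (s'.Jz (s.memJ' s.da)).2, (s.Jz (s'.lJ' s'.zl)).2⟩

theorem P2.W3 (r : P2 t T B L₁ L₂ z) (r' : Pa t T B' L₁' L₂') (q : ¬ Two B' (O₂ L₁')) : 𝐖ᵥ L₁ ≤ 𝐂 (𝐖ᵥ L₁') := by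
  obtain ⟨l, a, ρ, s, h⟩ := r.ds
  have j := (r'.JT q).symm
  exact (r.Wle h s.da.nz (s.big r'.k₁.toGd j q) (r'.ΩQ (r'.zjT s.zzj))).trans r'.k₁.QW

theorem Pa.two_symm (r : Pa t T B L₁ L₂) (q : ¬ Two B (O₂ L₁)) : ¬ Two B (O₂ L₂) := fun h =>
  q (two_of (r.q_eq ▸ two_idx h))

theorem Pa.cls (r : Pa t T B L₁ L₂) (r' : Pa t T B' L₁' L₂') : O² L₁' ≤ 𝐂 (O² L₁) ∨ B' = B ∧ (L₁' = L₁ ∨ L₁' = L₂) ∨
    ∃ z, P2 t T B L₁ L₂ z ∧ P2 t T B' L₁' L₂' z := by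
  by_cases q : Two B (O₂ L₁) <;> by_cases q' : Two B' (O₂ L₁')
  · obtain ⟨z, p⟩ := r.p2 q
    obtain ⟨z', p'⟩ := r'.p2 q'
    by_cases n : z = z'
    · exact .inr (.inr ⟨z, p, n ▸ p'⟩)
    exact .inl (r.comm r' (p.W2 p' n) (p.symm'.W2 p' n) (p.W2 p'.symm' n) (p.symm'.W2 p'.symm' n))
  · obtain ⟨z, p⟩ := r.p2 q
    exact .inl (r.comm r' (le_centralizer_comm.1 (p.W3 r' q')) (le_centralizer_comm.1 (p.symm'.W3 r' q'))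
      (le_centralizer_comm.1 (p.W3 r'.symm (r'.two_symm q'))) (le_centralizer_comm.1 (p.symm'.W3 r'.symm (r'.two_symm q'))))
  · obtain ⟨z, p⟩ := r'.p2 q'
    exact .inl (r.comm r' (p.W3 r q) (p.W3 r.symm (r.two_symm q)) (p.symm'.W3 r q) (p.symm'.W3 r.symm (r.two_symm q)))
  have j := (r'.JT q').symm.trans (r.JT q)
  by_cases c : Z₂ L₁ ≤ O₂ L₁'
  · by_cases c' : Z₂ L₂ ≤ O₂ L₁'
    · exact .inl (r.one r'.k₁.toGd j c c')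
    · exact .inr (.inl ((r.symm.pu r'.k₁.toGd j c').imp_right .inl))
  · exact .inr (.inl ((r.pu r'.k₁.toGd j c).imp_right .inr))

end H4.Bm
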