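import Cfsg.Agent.H4.Bm10

/-! Reduction to a single class of blocks. -/

set_option autoImplicit false
set_option linter.unusedVariables false
set_option linter.unusedSectionVars false

namespace H4.Bm
open H9 hiding zj
open Matrix hiding mul_inv_rev
open Cfsg Subgroup H28 H28.GC MatrixGroups H29 H29.PU H29.BB Equiv
open scoped commutatorElement

universe u
variable {X : Type u} [Group X] [Finite X] {A A' B B' C D E E' H J K L L' L₀ L₁ L₂ B₀ M N P Q R S S' T T' U V W Y : Subgroup X}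
  {a b c d e f g l m n t u v w x y z : X}
variable {ρ ρ' μ l' a' z' t' : X} {L₁' L₂' : Subgroup X}

theorem finU (k₀ : Gt t T B₀ L₀) (u₀ : Un B₀ L₀) :
    ∃ V : Subgroup X, V ≠ ⊥ ∧ IsPGroup 2 V ∧ 𝐍 (bm 2 T) ≤ 𝐍 V ∧ ∀ B L, Gt t T B L → L ≤ 𝐍 V := by
  obtain rfl := k₀.bm_of u₀
  have h := k₀.ho
  set S := bm 2 T
  obtain ⟨D, d1, d2, d3, d4⟩ := hull (𝓥 := {L | ∃ t T B, Gt t T B L ∧ Un B L})
    (fun G ⟨t, T, B, a, _⟩ => ⟨t, T, B, a⟩) (fun G ⟨t, T, B, a, b⟩ g => ⟨_, _, _, a.conj g, b.conj g⟩)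
    (fun A ⟨_, _, _, a, _⟩ C ⟨_, _, _, c, d⟩ S s1 s2 => d.of_syl c.toGd s2 A (a.toGd.of_syl s1))
    ⟨t, T, S, k₀, u₀⟩ k₀.syl
  replace d4 : ∀ H, Gd S H → Un S H → Z₂ H ≤ D ∧ H ≤ 𝐍 D := fun H a b =>
    d4 H ⟨t, T, S, a.gt h h.mem_bm bm_le, b⟩ a.syl
  let Y := ⨆ H : {H // Gd S H ∧ Un S H}, O² H.1
  have lY : ∀ H, Gd S H → Un S H → O² H ≤ Y := fun H a b => le_iSup (fun H : {H // Gd S H ∧ Un S H} => O² H.1) ⟨H, a, b⟩
  have nY : 𝐍 S ≤ 𝐍 Y := le_normalizer_of_cj_le fun g hg => by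
    rw [cj_iSup]
    exact iSup_le fun ⟨H, a, b⟩ => (cj_pResidualOf g H).le.trans (lY _ (a.conjN hg) (cj_eq_self hg ▸ b.conj g))
  have YD : Y ⊔ 𝐍 S ≤ 𝐍 D := sup_le (iSup_le fun ⟨H, a, b⟩ => a.EL.trans (d4 H a b).2) d3
  have tD := (d4 _ k₀.toGd u₀).1 k₀.tZ
  set V := nclIn (zpowers t) (Y ⊔ 𝐍 S)
  have VD : V ≤ D := nclIn_le (zpowers_le.2 tD) YD
  have nV : Y ⊔ 𝐍 S ≤ 𝐍 ⁅Y, V⁆ := le_normalizer_commutator (sup_le le_normalizer nY) (le_normalizer_nclIn _ _)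
  refine ⟨⁅Y, V⁆, fun e => k₀.tC (k₀.cenE k₀.tZ (centralizer_anti (lY _ k₀.toGd u₀)
    (commutator_eq_bot_iff'.1 e (le_nclIn _ _ (mem_zpowers t))))), (ea_isPGroup d1).to_le
    ((commutator_mono le_rfl VD).trans (commutator_le_of_le_normalizer' (le_sup_left.trans YD))),
    le_sup_right.trans nV, fun B L k => ?_⟩
  by_cases u : Un B L
  · obtain rfl := k.bm_of u
    exact k.EB.ge.trans ((sup_le_sup (lY L k.toGd u) le_normalizer).trans nV)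
  obtain ⟨L₂, r⟩ := k.pa u
  refine k.EB.ge.trans (sup_le (le_normalizer_of_le_centralizer (le_centralizer_comm.1 ?_))
    (r.Bbm.trans ((le_normalizer.trans le_sup_right).trans nV)))
  have tz : ∀ n ∈ 𝐍 S, n * t * n⁻¹ ∈ Ω₂ B := fun n hn => r.zjT (zj_bm (T := T) ▸ conj_mem_of_mem_normalizer
    (nrm_zj le_rfl hn) (h.mem_zj bm_le h.mem_bm))
  have dD : ∀ g ∈ Y ⊔ 𝐍 S, g * t * g⁻¹ ∈ D := fun g hg => conj_mem_of_mem_normalizer (YD hg) tD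
  suffices H : ∀ n ∈ 𝐍 S, ∃ w, ∀ e ∈ Y, e * n * t * (e * n)⁻¹ * w⁻¹ ∈ 𝐂 (O² L) by
    refine (commutator_le_of_le_cmod (V := 𝐂 (O² L) ⊓ D) (nclIn_le_iff.2 fun g hg => ?_)).trans inf_le_left
    rw [cj_zpowers, zpowers_le]
    refine mem_cmod.2 ⟨centralizer_le_normalizer _ (centralizer_anti inf_le_right (ea_le_centralizer d1 (dD g hg))),
      fun y hy => ⟨?_, cm_mem' (A := Y) (le_sup_left.trans YD) hy (dD g hg)⟩⟩
    obtain ⟨e, he, n, hn, rfl⟩ := (mem_sup_of_le_normalizer' nY).1 hg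
    obtain ⟨w, hw⟩ := H n hn
    have := mul_mem (hw _ (mul_mem hy he)) (inv_mem (hw e he))
    rwa [show y * e * n * t * (y * e * n)⁻¹ * w⁻¹ * (e * n * t * (e * n)⁻¹ * w⁻¹)⁻¹ = ⁅y, e * n * t * (e * n)⁻¹⁆ by
      rw [commutatorElement_def]; group] at this
  intro n hn
  by_cases q : Two B (O₂ L)
  swap
  · have : Y ≤ 𝐂 (O² L) := iSup_le fun ⟨H, a, b⟩ =>
      have j := JJ_bm.trans (r.JT q)
      r.one a j (r.ZU a j b) (r.symm.ZU a j b)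
    refine ⟨n * t * n⁻¹, fun e he => ?_⟩
    convert cm_mem (A := 𝐂 (O² L)) (B := L) k.nCE (this he) (k.le (omegaOneCenter_le _ _ (tz n hn))) using 1
    rw [commutatorElement_def]; group
  obtain ⟨z, r⟩ := r.p2 q
  obtain ⟨l, a, ρ, s, -⟩ := r.ds
  have Yz : Y ≤ 𝐜 z := iSup_le fun ⟨H, a, b⟩ => a.EL.trans (le_c_iff.2 (s.zL a JJ_bm bm_le fun u k =>
    (s.reb' k).memQ a JJ_bm b))
  refine ⟨z, fun e he => ?_⟩
  have hg : e * n ∈ Y ⊔ 𝐍 S := mul_mem (mem_sup_left he) (mem_sup_right hn)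
  have hd := (h.conj (e * n)).toHy
  have d0 := dD _ hg
  have dz : e * n * t * (e * n)⁻¹ ∈ T ⊓ 𝐜 z := ⟨bm_le (d2 d0), cen_le_c s.zzj (d2 d0).2⟩
  have e1 : e⁻¹ * (e * n * t * (e * n)⁻¹) * e⁻¹⁻¹ = n * t * n⁻¹ := by group
  generalize e * n * t * (e * n)⁻¹ = d at hd d0 dz e1
  have c : ∀ v, DG t T z v → d ∈ 𝐜 v := fun v k => by
    have s := s.reb' k
    have vS := JJ_le_bm (s.memJ' k)
    refine mem_c_comm.2 (((mem_z2 k.zz).1 (s.c1 (mem_fm.1 (s.nz dz)).2 (sq_of_ea d1 (cm_mem' (A := S)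
      (le_normalizer.trans d3) vS d0)))).resolve_right fun e2 => r.zC (r.k₁.CE ?_))
    have h2 := (hd.conj v).conj e⁻¹
    rw [show v * d * v⁻¹ = z * d by rw [← e2, commutatorElement_def, inv_mul_cancel_right], ← conj_mul, e1,
      mem_c''.1 (inv_mem (Yz he))] at h2
    simpa only [mul_inv_cancel_right] using r.twoΩ _ (mul_mem r.zΩ (tz n hn)) _ (inv_mem (tz n hn)) (h2.not_cen r.k₁.rk)
      (mt inv_mem_iff.1 ((h.conj n).not_cen r.k₁.rk))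
  have cw : ∀ {L₁ L₂}, P2 t T B L₁ L₂ z → d ∈ 𝐂 (𝐖ᵥ L₁) := fun r => let ⟨v, a, b⟩ := r.exW
    r.eC a b ▸ ⟨c v ⟨_, _, _, r, a, b⟩, dz.2⟩
  obtain ⟨y, hy, e2⟩ := r.cp ⟨dz.1, cw r⟩ (cw r.symm')
  rcases (mem_z2 r.zz).1 (r.eYz ▸ hy) with rfl | rfl
  · obtain ⟨x, hx, n⟩ := SetLike.not_le_iff_exists.1 r.WQ
    exact (r.k₁.no2 hd (r.k₂.ZB (r.k₂.WZ hx)) n (mem_c_symm.1 (cen_le_c hx (cw r.symm'))) (by simpa using e2)).elim
  · rwa [← mem_c.1 (mem_c_symm.1 (inv_mem (mem_c_symm.1 dz.2)))] at e2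

/-- the subgroup generated by the small blocks with centre `z` -/
def Gz (t : X) (T : Subgroup X) (z : X) : Subgroup X := ⨆ L : {L // ∃ B L', P2 t T B L L' z}, O² L.1

theorem single (h : Ho t T) (hK : IsSimpleGroup K) (hc : ¬ K ≤ 𝐂 K) (hN : K.Normal) (hO : O² (⊤ : Subgroup X) ≤ K)
    (h2 : O₂ (⊤ : Subgroup X) = ⊥) (H : ∀ M, M ≠ ⊤ → 𝐜 t ≤ M → ∃ g ∉ M, g * t * g⁻¹ ∈ T) :
    (∃ B L₁ L₂, Pa t T B L₁ L₂ ∧ ¬ Two B (O₂ L₁) ∧ O² L₁ ⊔ O² L₂ = K) ∨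
      ∃ z B L₁ L₂, P2 t T B L₁ L₂ z ∧ Gz t T z = K := by
  have key : ∀ V : Subgroup X, 𝐍 (bm 2 T) ≤ 𝐍 V → (∀ B L, Gt t T B L → L ≤ 𝐍 V) → ⊤ ≤ 𝐍 V := fun V a b => by
    by_contra c
    obtain ⟨g, g1, g2⟩ := H _ (mt eq_top_iff.1 c) (h.cN.trans a)
    obtain ⟨B, L, b1, b2, b3, b4⟩ := step1 h a g1 g2
    exact b4 (b B L (b3.gt h b1 b2))
  have key2 : ∀ V : Subgroup X, V ≠ ⊥ → IsPGroup 2 V → 𝐍 (bm 2 T) ≤ 𝐍 V → ¬ ∀ B L, Gt t T B L → L ≤ 𝐍 V :=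
    fun V a b c d => a (le_bot_iff.1 (h2 ▸ le_pCoreOf b le_top (key V c d)))
  have nu : ∀ B L, Gt t T B L → ∃ L', Pa t T B L L' := fun B L k => k.pa fun u =>
    let ⟨V, a, b, c, d⟩ := finU k u; key2 V a b c d
  obtain ⟨B, L₁, k⟩ : ∃ B L, Gt t T B L := by_contra fun c => key2 _ (fun e => h.ne (mem_bot.1 (e ▸ h.mem_bm)))
    (h.pg.to_le bm_le) le_rfl fun B L k => (c ⟨B, L, k⟩).elim
  obtain ⟨L₂, r⟩ := nu B L₁ k
  have nm : ∀ G : Subgroup X, G ≤ K → K ≤ 𝐍 G → O² L₁ ≤ G → G = K := fun G a b c =>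
    ((normal_subgroupOf_iff_le_normalizer a).2 b).eq_bot_or_eq_top.elim (fun e => (r.k₁.not_Y (((r.k₁.YW.trans
      r.k₁.WE).trans (c.trans ((subgroupOf_eq_bot.1 e).le_bot.trans' (le_inf le_rfl a)))).trans bot_le)).elim)
      fun e => le_antisymm a (subgroupOf_eq_top.1 e)
  have EK : ∀ L : Subgroup X, O² L ≤ K := fun L => (pResidualOf_mono le_top).trans hO
  let G := ⨆ L : {L // ∃ B L', Pa t T B L L'}, O² L.1
  have lG : ∀ {B L L'}, Pa t T B L L' → O² L ≤ G := fun r =>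
    le_iSup (fun L : {L // ∃ B L', Pa t T B L L'} => O² L.1) ⟨_, _, _, r⟩
  have nG : 𝐍 (bm 2 T) ≤ 𝐍 G := le_normalizer_of_cj_le fun g hg => by
    rw [cj_iSup]
    exact iSup_le fun ⟨L, B, L', r⟩ => (cj_pResidualOf g L).le.trans
      (lG (r.conjJ (JJ_bm (T := T) ▸ normalizer_le_normalizer_JJ 2 _ hg)))
  have eG : G = K := nm G (iSup_le fun _ => EK _) (le_top.trans (key G nG fun B L k => let ⟨_, r⟩ := nu B L k
    k.EB.ge.trans (sup_le ((lG r).trans le_normalizer) (r.Bbm.trans (le_normalizer.trans nG))))) (lG r)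
  by_cases q : Two B (O₂ L₁)
  · obtain ⟨z, p⟩ := r.p2 q
    have l : ∀ {B L L'}, P2 t T B L L' z → O² L ≤ Gz t T z := fun r =>
      le_iSup (fun L : {L // ∃ B L', P2 t T B L L' z} => O² L.1) ⟨_, _, _, r⟩
    refine .inr ⟨z, B, L₁, L₂, p, nm _ (iSup_le fun _ => EK _) (eG.ge.trans (iSup_le fun ⟨L, B', L', r'⟩ => ?_)) (l p)⟩
    by_cases c : ∃ B L', P2 t T B L L' z
    · obtain ⟨_, _, c⟩ := c
      exact (l c).trans le_normalizer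
    refine le_normalizer_of_le_centralizer (le_centralizer_comm.1 (iSup_le fun ⟨N, B₀, N', p'⟩ =>
      le_centralizer_comm.1 ?_))
    rcases p'.cls r' with e | ⟨rfl, rfl | rfl⟩ | ⟨y, a, b⟩
    · exact e
    · exact (c ⟨_, _, p'⟩).elim
    · exact (c ⟨_, _, p'.symm'⟩).elim
    obtain rfl := ((mem_z2 p'.zz).1 (p'.eYz ▸ a.zY)).resolve_left a.z1
    exact (c ⟨_, _, b⟩).elim
  refine .inl ⟨B, L₁, L₂, r, q, nm _ (sup_le (EK _) (EK _)) (eG.ge.trans (iSup_le fun ⟨L, B', L', r'⟩ => ?_)) le_sup_left⟩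
  rcases r.cls r' with e | ⟨-, rfl | rfl⟩ | ⟨y, a, -⟩
  · rcases r.symm.cls r' with e' | ⟨-, rfl | rfl⟩ | ⟨y, a, -⟩
    · exact le_normalizer_of_le_centralizer (by rw [centralizer_sup]; exact le_inf e e')
    · exact le_sup_right.trans le_normalizer
    · exact le_sup_left.trans le_normalizer
    · exact (r.two_symm q a.two).elim
  · exact le_sup_left.trans le_normalizer
  · exact le_sup_right.trans le_normalizer
  · exact (q a.two).elim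

end H4.Bm
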