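import Cfsg.Agent.H4.Bm11
import Cfsg.Agent.H28.ExtTr

/-! Fusion and transfer tools. -/

set_option autoImplicit false
set_option linter.unusedVariables false
set_option linter.unusedSectionVars false

namespace H4.Bm
open H9 hiding zj
open Matrix hiding mul_inv_rev
open Cfsg Subgroup H28 H28.GC MatrixGroups H29 H29.PU H29.BB Equiv
open scoped commutatorElement

universe u
variable {X : Type u} [Group X] [Finite X] {A A' B B' C D E E' H J K L L' L₀ L₁ L₂ B₀ M N P Q R S S' T T' U V W Y : Subgroup X}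
  {a b c d e f g l m n t u v w x y z : X}
variable {ρ ρ' μ l' a' z' t' : X} {L₁' L₂' : Subgroup X}

theorem scl_of (hT : IsSylowIn 2 T ⊤)
    (H : ∀ R ≤ T, T ⊓ 𝐂 R ≤ R → ∀ n ∈ 𝐍 R, ∀ x ∈ R, x ∈ Q → n * x * n⁻¹ ∈ Q)
    (hx : x ∈ T) (h : x ∈ Q) (hg : g * x * g⁻¹ ∈ T) : g * x * g⁻¹ ∈ Q :=
  alperin_centric hT (Good := fun P g => ∀ x ∈ P, x ∈ Q → g * x * g⁻¹ ∈ Q)
    ⟨fun l k x a => k x (l a), fun {A g h} k k' x a b => by
      simpa only [mul_inv_rev, mul_assoc] using k' _ (conj_mem_cj a) (k x a b)⟩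
    (fun A _ c hc x a b => by rwa [mem_c''.1 (cen_le_c a hc.2)]) (fun _ => True) 0
    (fun U hU _ => let ⟨h, a, b, _⟩ := exists_ext_conj' hT hU; ⟨h, a, trivial, b⟩)
    (fun U _ e c _ _ g hg => H U e.le c g hg.2) _ (zpowers_le.2 hx) (Nat.zero_le _) g trivial
    (by rw [cj_zpowers, zpowers_le]; exact hg) x (mem_zpowers x) h

theorem two_conj (h : Two T Q) (hn : n ∈ T) (hx : x ∈ T) (k : x ∈ Q) : n * x * n⁻¹ ∈ Q := by
  by_cases c : n ∈ Q
  · exact mul_mem (mul_mem c k) (inv_mem c)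
  · exact h _ (mul_mem hn hx) _ (inv_mem hn) (by rwa [mul_mem_cancel_right k]) (mt inv_mem_iff.1 c)

theorem two_sq (h : Two T Q) (hx : x ∈ T) : x * x ∈ Q :=
  by_contra fun e => e (h x hx x hx (fun c => e (mul_mem c c)) fun c => e (mul_mem c c))

theorem ex_two (hT : IsPGroup 2 T) (l : D ≤ T) (h : ¬ T ≤ D) : ∃ Q, D ≤ Q ∧ Two T Q ∧ ¬ T ≤ Q := by
  classical
  obtain ⟨Q, ⟨a, b, c⟩, m⟩ := Set.exists_max_image {Q | D ≤ Q ∧ Q ≤ T ∧ ¬ T ≤ Q} (fun Q => # Q) (Set.toFinite _)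
    ⟨D, le_rfl, l, h⟩
  have up : ∀ R, Q ≤ R → R ≤ T → ¬ R ≤ Q → T ≤ R := fun R x y z => by_contra fun e =>
    (m R ⟨a.trans x, y, e⟩).not_gt (card_lt_of_lt (lt_of_le_not_ge x z))
  have lt := lt_inf_normalizer hT (lt_of_le_not_ge b c)
  have n := (up _ lt.le inf_le_left lt.not_ge).trans inf_le_right
  obtain ⟨x, hx, x1⟩ := SetLike.not_le_iff_exists.1 c
  have ex : ∃ k, x ^ 2 ^ k ∈ Q := let ⟨k, e⟩ := p2' hT hx; ⟨k, e ▸ one_mem _⟩
  obtain ⟨k, hk⟩ := Nat.exists_eq_succ_of_ne_zero (mt (Nat.find_eq_zero ex).1 (by simpa using x1))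
  have u1 := Nat.find_min ex (hk ▸ k.lt_succ_self)
  have u2 := Nat.find_spec ex
  rw [hk, pow_succ, pow_mul, sq] at u2
  have uT := pow_mem hx (2 ^ k)
  generalize x ^ 2 ^ k = u at u1 u2 uT
  have d : ∀ y ∈ T, y ∉ Q → u⁻¹ * y ∈ Q := fun y hy y1 => by
    obtain ⟨v, hv, q, hq, rfl⟩ := (mem_sup_of_le_normalizer ((zpowers_le.2 uT).trans n)).1 (up (zpowers u ⊔ Q)
      le_sup_right (sup_le (zpowers_le.2 uT) b) (fun e => u1 (e (mem_sup_left (mem_zpowers u)))) hy)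
    rw [← mul_assoc]
    exact mul_mem (zpowers_le.2 u2 ((par_or hv).resolve_left fun e => y1 (mul_mem (zpowers_le.2 u2 e) hq))) hq
  refine ⟨Q, a, fun y hy w hw y1 w1 => ?_, c⟩
  simpa [mul_assoc] using mul_mem (mul_mem (conj_mem_of_mem_normalizer (n uT) (d y hy y1)) u2) (d w hw w1)

theorem tinv (hT : IsSylowIn 2 T ⊤) (hO : pResidual 2 X = ⊤) (h : Two T Q) (y2 : y * y = 1) :
    ∃ g, g * y * g⁻¹ ∈ T ⊓ Q := by
  have p := isPGroup_zpowers (sq_pow y2 ▸ (by rw [pow_one]) : y ^ 2 ^ 1 = 1)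
  by_cases c : T ≤ Q
  · obtain ⟨g, -, l⟩ := hT.exists_conj_le p le_top
    exact ⟨g, le_inf le_rfl c (l (conj_mem_cj (mem_zpowers y)))⟩
  obtain ⟨g, a, b⟩ := extremal_thompson_two hT (le_antisymm (two_idx h) (two_le c)) (sq_pow y2) (hO ▸ mem_top y) p
    (zpowers_le.2 (self_mem_c y)) (mem_zpowers y)
  exact ⟨g, a (conj_mem_cj (mem_zpowers y)), b⟩

theorem odd_cen (hx : (orderOf x).Coprime 2) (hD : IsPGroup 2 D) (h2 : x ∈ 𝐂 D) (h1 : ∀ e ∈ P, ⁅x, e⁆ ∈ D) : x ∈ 𝐂 P :=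
  mem_centralizer_of_commutator_le hx hD ((comm_comm P _).le.trans (commutator_zpowers_left_le
    (centralizer_le_normalizer _ h2) h1)) h2

theorem two_zp : Two (zpowers l) (zpowers (l * l)) := fun x hx y hy x1 y1 => by
  have := mul_mem (mul_mem (mem_zpowers (l * l)) ((par_or hx).resolve_left x1)) ((par_or hy).resolve_left y1)
  rwa [show l * l * (l⁻¹ * x) * (l⁻¹ * y) = l * x * (l⁻¹ * y) by group, zp_c (mem_zpowers l) hx, mul_assoc,
    mul_inv_cancel_left] at this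

theorem nrm_sq (h : n ∈ 𝐍 (zpowers l)) : n ∈ 𝐍 (zpowers (l * l)) := mem_normalizer_of_cj_le (by
  rw [cj_zpowers, zpowers_le, ← conj_mul]; exact two_sq two_zp (conj_mem_of_mem_normalizer h (mem_zpowers l)))

theorem cyc_odd (hx : (orderOf x).Coprime 2) (h : ∃ k, l ^ 2 ^ k = 1) (hn : x ∈ 𝐍 (zpowers l)) : x ∈ 𝐂 (zpowers l) := by
  obtain ⟨k, h⟩ := h
  induction k generalizing l with
  | zero => rw [pow_zero, pow_one] at h; simp [h]
  | succ k ih =>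
    have e : (l * l) ^ 2 ^ k = 1 := by rw [← sq, ← pow_mul, ← pow_succ', h]
    have n := nrm_sq hn
    refine odd_cen hx (isPGroup_zpowers e) (ih n e) fun y hy => ?_
    by_cases c : y ∈ zpowers (l * l)
    · exact comm_mem_of' n c
    · exact two_zp _ (conj_mem_of_mem_normalizer hn hy) _ (inv_mem hy) (mt (mem_normalizer_iff.1 n y).2 c)
        (mt inv_mem_iff.1 c)

end H4.Bm
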