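import Cfsg.Agent.H4.Bm12

/-! The case of small blocks. -/

set_option autoImplicit false
set_option linter.unusedVariables false
set_option linter.unusedSectionVars false

namespace H4.Bm
open H9 hiding zj
open Matrix hiding mul_inv_rev
open Cfsg Subgroup H28 H28.GC MatrixGroups H29 H29.PU H29.BB Equiv
open scoped commutatorElement

universe u
variable {X : Type u} [Group X] [Finite X] {A A' B B' C D E E' H J K L L' L₀ L₁ L₂ B₀ M N P Q R S S' T T' U V W Y : Subgroup X}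
  {a b c d e f g l m n t u v w x y z : X}
variable {ρ ρ' μ l' a' z' t' γ : X} {L₁' L₂' : Subgroup X}

theorem P2.uniq (r : P2 t T B L₁ L₂ z) (r' : P2 t T B' L₁' L₂' z) (a : v ∈ 𝐖ᵥ L₁) (a' : v ∈ 𝐖ᵥ L₁')
    (b : v ∉ zpowers z) : L₁ = L₁' := by
  have e1 : T ⊓ 𝐍 L₁ = T ⊓ 𝐍 L₁' := Subgroup.ext fun n => and_congr_right fun hn =>
    (r.nL a b hn).trans (r'.nL a' b hn).symm
  obtain rfl : B = B' := by
    rw [← r.k₁.bmN (le_inf r.k₁.BT (r.k₁.le.trans le_normalizer)) inf_le_left inf_le_right, e1,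
      r'.k₁.bmN (le_inf r'.k₁.BT (r'.k₁.le.trans le_normalizer)) inf_le_left inf_le_right]
  have e := (r.eC a b).trans (r'.eC a' b).symm
  exact r.k₁.eq_of_Q r'.k₁.toGd (le_antisymm (fun x hx => r'.k₁.memQ' (r.k₁.QB hx) (e.le (r.k₁.QW hx)))
    fun x hx => r.k₁.memQ' (r'.k₁.QB hx) (e.ge (r'.k₁.QW hx)))

theorem cj_W (g : X) (L : Subgroup X) : cj g (𝐖ᵥ L) = 𝐖ᵥ (cj g L) := by
  rw [← cj_Z, ← cj_pResidualOf, ← cj_commutator]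

theorem P2.conjC (r : P2 t T B L₁ L₂ t) (h : g ∈ 𝐜 t) : P2 t T (cj g B) (cj g L₁) (cj g L₂) t := by
  simpa only [cj_eq_self (r.ho.nrm h), mem_c''.1 h] using r.conj' g

theorem DG.conjC (k : DG t T t v) (h : g ∈ 𝐜 t) : DG t T t (g * v * g⁻¹) := by
  simpa only [cj_eq_self (k.ho.nrm h), mem_c''.1 h] using k.conj g

theorem P2.tr (r : P2 t T B L₁ L₂ z) (a : v ∈ 𝐖ᵥ L₁) (b : v ∉ zpowers z) : ∃ e ∈ O² L₁, e * v * e⁻¹ = z := by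
  have k := r.k₁
  obtain ⟨l, hl, e⟩ := k.tr (k.WZ a) (k.WZ r.zW) (fun c => b (r.eYz ▸ k.WC a c)) fun c => r.zC (k.CE c)
  have m := conj_mem_of_mem_normalizer (k.nW hl) a
  replace e := (mul_mem_cancel_right (inv_mem (mem_zpowers z))).1 (r.eYz ▸ k.WC (mul_mem m (inv_mem r.zW)) e)
  replace e := ((mem_z2 r.zz).1 e).resolve_left (conj_ne fun c => b (c ▸ one_mem _))
  rw [← k.EB, sup_comm] at hl
  obtain ⟨y, hy, f, hf, rfl⟩ := (mem_sup_of_le_normalizer (k.le.trans k.nE)).1 hl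
  refine ⟨f, hf, ?_⟩
  have := conj_eq_of_cen (inv_mem hy) (mem_omegaOneCenter.1 r.zΩ).2.1
  rw [← this, ← e]; group

/-- the centralizer of the block of `u` -/
def CE (t : X) (T : Subgroup X) (u : X) : Subgroup X :=
  ⨅ L : {L // ∃ B L', P2 t T B L L' t ∧ u ∈ 𝐖ᵥ L}, 𝐂 (O² L.1)

theorem mem_CE : n ∈ CE t T u ↔ ∀ B L L', P2 t T B L L' t → u ∈ 𝐖ᵥ L → n ∈ 𝐂 (O² L) :=
  mem_iInf.trans ⟨fun h B L L' a b => h ⟨L, B, L', a, b⟩, fun h ⟨L, B, L', a, b⟩ => h B L L' a b⟩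

theorem CE_conj (hg : g ∈ 𝐜 t) (h : n ∈ CE t T u) : g * n * g⁻¹ ∈ CE t T (g * u * g⁻¹) := mem_CE.2 fun B L L' r a => by
  have := mem_CE.1 h _ _ _ (r.conjC (inv_mem hg)) (by rw [← cj_W, mem_cj, inv_inv]; exact a)
  rwa [← cj_pResidualOf, ← cj_centralizer, mem_cj, inv_inv] at this

/-- elements centralizing all small blocks' involutions -/
def C0 (t : X) (T : Subgroup X) : Subgroup X := T ⊓ ⨅ u : {u // DG t T t u}, 𝐜 u.1

theorem mem_C0 : n ∈ C0 t T ↔ n ∈ T ∧ ∀ u, DG t T t u → n ∈ 𝐜 u :=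
  and_congr_right fun _ => mem_iInf.trans ⟨fun h u a => h ⟨u, a⟩, fun h ⟨u, a⟩ => h u a⟩

theorem P2.C0W (r : P2 t T B L₁ L₂ t) (h : n ∈ C0 t T) : n ∈ 𝐂 (𝐖ᵥ L₁) := let ⟨v, a, b⟩ := r.exW
  r.eC a b ▸ ⟨(mem_C0.1 h).2 v ⟨_, _, _, r, a, b⟩, r.ho.le h.1⟩

theorem DG.c0 (k : DG t T t u) (h : n ∈ C0 t T) : n ∈ CE t T u ∨ t * n ∈ CE t T u := by
  obtain ⟨B, L, L', r, a, b⟩ := k
  obtain ⟨y, hy, e⟩ := r.cp ⟨h.1, r.C0W h⟩ (r.symm'.C0W h)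
  have k : ∀ {m}, m ∈ 𝐂 (O² L) → m ∈ CE t T u := fun c => mem_CE.2 fun _ _ _ r' a' => r.uniq r' a a' b ▸ c
  rcases (mem_z2 r.zz).1 (r.eYz ▸ hy) with rfl | rfl
  · exact .inl (k (by simpa using e))
  · exact .inr (k (r.ho.inv ▸ e))

theorem DG.tC0 (k : DG t T t u) : t ∈ C0 t T := mem_C0.2 ⟨k.zT, fun _ h => mem_c_symm.1 h.vz⟩

theorem DG.nCE (k : DG t T t u) (hd : Hy d S) (h : d ∈ C0 t T) : d ∉ CE t T u := fun c => by
  obtain ⟨B, L, L', r, a, b⟩ := k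
  obtain ⟨x, hx, n⟩ := SetLike.not_le_iff_exists.1 r.WQ
  exact r.k₁.no2 hd (r.k₂.ZB (r.k₂.WZ hx)) n (mem_c_symm.1 (cen_le_c hx (r.symm'.C0W h))) (mem_CE.1 c _ _ _ r a)

theorem Ds.two0 (s : Ds t T z l a ρ) : Two (T ⊓ 𝐜 z) (fm a (zpowers (l * l))) := fun x hx y hy x1 y1 => by
  have nx := nrm_sq (s.nl' hx)
  have ny := nrm_sq (s.nl' hy)
  refine mem_fm.2 ⟨mul_mem nx ny, comm_mul_right a x y ▸ two_zp _ (mem_fm.1 (s.nz hx)).2 _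
    (conj_mem_of_mem_normalizer (s.nl' hx) (mem_fm.1 (s.nz hy)).2) (fun c => x1 (mem_fm.2 ⟨nx, c⟩))
    fun c => y1 (mem_fm.2 ⟨ny, (mem_normalizer_iff.1 nx _).2 c⟩)⟩

theorem St.sw (s : St t T z l a ρ) (h : l ∈ zpowers ⁅a, u⁆) : u ∉ fm a (zpowers (l * l)) := fun c =>
  (s.lt (zpowers_le.2 (mem_fm.1 c).2 h) (s.lT (mem_zpowers l))).false

/-- the small blocks have trivial centralizer -/
structure Q2 (t : X) (T : Subgroup X) (l a ρ : X) : Prop extends Ds t T t l a ρ where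
  gen : ∀ x, (∀ B L L', P2 t T B L L' t → x ∈ 𝐂 (O² L)) → x = 1

namespace Q2
variable (s : Q2 t T l a ρ)
include s

theorem ho : Ho t T := s.da.ho
theorem cj' (g : X) : Q2 (g * t * g⁻¹) (cj g T) (g * l * g⁻¹) (g * a * g⁻¹) (g * ρ * g⁻¹) :=
  ⟨s.conj' g, fun x h => by_contra fun e => conj_ne' e (s.gen (g⁻¹ * x * g) fun B L L' r => by
    have := h _ _ _ (r.conj' g)
    rwa [← cj_pResidualOf, ← cj_centralizer, mem_cj] at this)⟩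
theorem all1 (h : ∀ u, DG t T t u → n ∈ CE t T u) : n = 1 :=
  s.gen n fun B L L' r => let ⟨v, a, b⟩ := r.exW; mem_CE.1 (h v ⟨_, _, _, r, a, b⟩) _ _ _ r a
theorem Tz : T ≤ T ⊓ 𝐜 t := le_inf le_rfl s.ho.le

theorem odd (hx : (orderOf x).Coprime 2) (h : x ∈ 𝐜 t) : x = 1 := by
  have k := fun u (k : DG t T t u) => s.all _ (k.conjC h)
  have n : x ∈ 𝐍 (zpowers l) := mem_normalizer_of_cj_le (by
    rw [cj_zpowers, zpowers_le]
    have := k _ (s.dg l (mem_zpowers l))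
    rwa [← conj_mul, ← mul_assoc, mul_mem_cancel_left (k a s.da)] at this)
  have p := s.ho.pg.to_le s.lT
  have c : ∀ u, DG t T t u → x ∈ 𝐜 u := fun u d => centralizer_zpowers u ▸ odd_cen hx p (cyc_odd hx s.pl n) fun y hy => by
    rcases (mem_z2 d.vv).1 hy with rfl | rfl
    · simp
    · simpa [commutatorElement_def, mul_assoc, d.vi] using mul_mem (inv_mem (k y d)) (s.all y d)
  refine s.gen x fun B L L' r => ?_
  obtain ⟨v, a, b⟩ := r.exW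
  have c' : x ∈ 𝐂 (𝐖ᵥ L) := r.eC a b ▸ ⟨c v ⟨_, _, _, r, a, b⟩, h⟩
  exact odd_cen hx (ea_isPGroup (ea_of_le r.k₁.ea r.k₁.WZ)) c' fun e he =>
    r.bt.comm_E (r.bt.nE' (r.k₁.nrmW (centralizer_le_normalizer _ c') h)) c' he

theorem cT : 𝐜 t ≤ T := s.ho.pg_le (isPGroup_of_pResidualOf_eq_bot (le_bot_iff.1 (pResidualOf_le_iff.2
  fun x hx k => s.odd k hx))) le_rfl

theorem c0sq (h : n ∈ C0 t T) : n * n = 1 := s.all1 fun u k => (k.c0 h).elim (fun c => mul_mem c c) fun c => by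
  have := mul_mem c c
  rwa [mul_assoc, ← mul_assoc n, mem_c.1 (s.ho.le h.1), mul_assoc, ← mul_assoc t t, s.ho.sq, one_mul] at this

theorem c0l (h : n ∈ C0 t T) (hμ : μ ∈ zpowers l) : n ∈ 𝐜 μ := mem_c_symm.1 ((mul_mem_cancel_left
  (mem_c_symm.1 ((mem_C0.1 h).2 a s.da))).1 (mem_c_symm.1 ((mem_C0.1 h).2 _ (s.dg μ hμ))))

theorem c0t (hd : Hy d S) (h : d ∈ C0 t T) : d = t :=
  (eq_inv_of_mul_eq_one_right (s.all1 fun u k => (k.c0 h).resolve_left (k.nCE hd h))).trans s.ho.inv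

theorem cls (hu : u ∈ T) (u2 : u * u = 1) : l ∈ zpowers ⁅a, u⁆ ∨ u ∈ C0 t T ∨
    ∃ v g, DG t T t v ∧ g ∈ C0 t T ∧ g ∈ CE t T v ∧ u = v * g := by
  by_cases c : u ∈ 𝐜 ρ
  · exact .inr (.inl (mem_C0.2 ⟨hu, fun v k => (s.reb' k).cen₁ (s.Tz hu) u2 c⟩))
  refine (s.ns0 ⟨hu, s.nz (s.Tz hu)⟩ u2 c).imp_right fun ⟨μ, hμ, _, e⟩ => .inr ?_
  have d := s.dg μ hμ
  have g0 : a * μ * u ∈ C0 t T := mem_C0.2 ⟨mul_mem d.vT hu, fun v k => s.eq k ▸ e _ (s.all v k)⟩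
  rcases d.c0 g0 with h | h
  · exact ⟨_, _, d, g0, h, by rw [← mul_assoc, d.vv, one_mul]⟩
  · have d' := d.mulz (mem_zpowers t)
    refine ⟨_, _, d', mul_mem d.tC0 g0, mem_CE.2 fun B L L' r b => mem_CE.1 h B L L' r
      ((mul_mem_cancel_right r.zW).1 b), ?_⟩
    rw [mul_assoc, ← mul_assoc t, s.ho.sq, one_mul, ← mul_assoc, d.vv, one_mul]

theorem clsd (h : g * t * g⁻¹ ∈ T) : l ∈ zpowers ⁅a, g * t * g⁻¹⁆ ∨ g * t * g⁻¹ = t ∨ DG t T t (g * t * g⁻¹) := by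
  have hd := (s.ho.conj g).toHy
  refine (s.cls h hd.sq).imp_right (Or.imp (s.c0t hd) fun ⟨v, m, k, m0, m1, e⟩ => ?_)
  obtain ⟨B, L, L', r, a, b⟩ := id k
  obtain ⟨f, hf, e'⟩ := r.tr a b
  have := hd.conj f
  rw [e, ← conj_mul, e', conj_eq_of_cen hf (mem_CE.1 m1 _ _ _ r a)] at this
  rw [e, mul_eq_left.1 (s.c0t this (mul_mem k.tC0 m0)), mul_one]
  exact k

theorem nsq (h : g * t * g⁻¹ ∈ T) (e : l ∈ zpowers ⁅a, g * t * g⁻¹⁆) (hy : y ∈ 𝐜 (g * t * g⁻¹)) : y * y ≠ t := fun c => by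
  have s' := s.cj' g
  have e1 : g⁻¹ * (g * t * g⁻¹) * g⁻¹⁻¹ = t := by group
  have := s'.clsd (g := g⁻¹) (e1.symm ▸ s'.cT (mem_c_symm.1 (s.ho.le h)))
  rw [e1] at this
  generalize g * t * g⁻¹ = d at h e hy s' this
  rcases this with k | rfl | ⟨B, L, L', r, a1, a2⟩
  · exact s'.sw k (c ▸ two_sq s'.two0 (s'.Tz (s'.cT hy)))
  · exact s.nl e (mem_c_symm.1 s.da.vz)
  obtain ⟨f, hf, e'⟩ := r.tr a1 a2
  have r' := r.conj' f⁻¹
  have e2 : f⁻¹ * d * f⁻¹⁻¹ = t := by rw [← e']; group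
  rw [e2, cj_eq_self_of_mem (inv_mem (r.k₁.EL hf))] at r'
  rw [r'.ho.uniq s.ho.toHy] at r'
  have := s.all d ⟨_, _, _, r', r.zW, fun c => ((mem_z2 s.ho.sq).1 c).elim r.z1 fun c => a2 (c ▸ mem_zpowers _)⟩
  exact s.sw e (mem_fm.2 ⟨nrm_sq (s.nl' (s.Tz h)), comm_sq s.da.vv r.zz ▸ two_sq two_zp this⟩)

theorem c0b (h : g * t * g⁻¹ ∈ T) (e : l ∈ zpowers ⁅a, g * t * g⁻¹⁆) : C0 t T ≤ zpowers t := by
  have ns := fun y => s.nsq (y := y) h e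
  have d2 := (s.ho.conj g).sq
  generalize g * t * g⁻¹ = d at h e ns d2
  have k := s.da
  rw [comm_sq k.vv d2] at e
  have ed : d = a * (a * d) := by rw [← mul_assoc, k.vv, one_mul]
  have ax : a * (a * d) * a⁻¹ = (a * d)⁻¹ := by rw [← ed, mul_inv_rev, inv_eq_of_mul_eq_one_right d2]
  have xT := mul_mem k.vT h
  have xl : a * d * (a * d) ∈ zpowers l := comm_sq k.vv d2 ▸ (mem_fm.1 (s.nz (s.Tz h))).2
  generalize a * d = x at e ed ax xT xl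
  have lx := zpowers_le.2 (zpowers_le.2 (mul_mem (mem_zpowers x) (mem_zpowers x)) e)
  have n0 : ∀ n ∈ C0 t T, x * n * x⁻¹ ∈ C0 t T := fun n hn => mem_C0.2 ⟨conj_mem_of_mem_normalizer (le_normalizer xT) hn.1,
    fun u k => by simpa [mul_assoc] using conj_mem_c (g := x).2 ((mem_C0.1 hn).2 _ (k.conjC (inv_mem (s.ho.le xT))))⟩
  have one : ∀ n ∈ C0 t T, n ∈ CE t T a → x * n * x⁻¹ ∈ CE t T a → n = 1 := fun n hn h1 h2 => s.all1 fun u k' => by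
    have c : ∀ y ∈ zpowers x, y * n * y⁻¹ ∈ CE t T a := fun y hy => by
      have cx := zpowers_le.2 (mem_c_symm.1 (s.c0l hn xl))
      rcases par_or hy with f | f
      · rwa [mem_c''.1 (cx f)]
      · rwa [← mul_inv_cancel_left x y, show x * (x⁻¹ * y) * n * (x * (x⁻¹ * y))⁻¹ =
          x * (x⁻¹ * y * n * (x⁻¹ * y)⁻¹) * x⁻¹ by group, mem_c''.1 (cx f)]
    obtain ⟨i, hi⟩ := zpowers_le.2 e (s.all u k')
    have := CE_conj (s.ho.le (inv_mem (zpow_mem xT i))) (c _ ⟨i, rfl⟩)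
    rwa [show (x ^ i)⁻¹ * (x ^ i * n * (x ^ i)⁻¹) * (x ^ i)⁻¹⁻¹ = n by group, ← inv_zp ax ⟨i, rfl⟩,
      show a * x ^ i * a⁻¹ * a * (a * x ^ i * a⁻¹)⁻¹ = a * (x ^ i * (a * x ^ i * a⁻¹)⁻¹) by group, inv_zp ax ⟨i, rfl⟩,
      inv_inv, show x ^ i * x ^ i = (x * x) ^ i by rw [← sq, ← sq, ← zpow_natCast, ← zpow_natCast]; group,
      show (x * x) ^ i = a * u from hi, ← s.eq k'] at this
  have key : ∀ n ∈ C0 t T, n ∈ CE t T a → n = 1 := fun n hn h1 => by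
    refine (k.c0 (n0 n hn)).elim (one n hn h1) fun h2 => ?_
    have n2 := s.c0sq hn
    have nt := mem_c.1 (s.ho.le hn.1)
    have e1 := one _ (mul_mem hn (mul_mem k.tC0 (n0 n hn))) (mul_mem h1 h2) (by
      rw [← conj_mul, ← conj_mul, mem_c''.1 (s.ho.le xT), show x * (x * n * x⁻¹) * x⁻¹ = x * x * n * (x * x)⁻¹ by group,
        mem_c''.1 (mem_c_symm.1 (s.c0l hn xl)), ← mul_assoc, mem_c.1 (s.ho.le (n0 n hn).1)]
      exact mul_mem h2 h1)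
    have e2 : x * n * x⁻¹ = t * n := by
      rw [← mul_assoc, nt, mul_eq_one_iff_inv_eq, mul_inv_rev, s.ho.inv, inv_eq_of_mul_eq_one_right n2, nt] at e1
      exact e1.symm
    have nρ := mem_c.1 (s.c0l hn s.hρ)
    refine (ns (ρ * n) (mem_c_symm.1 (mem_c''.2 ?_)) (by
      rw [mul_assoc, ← mul_assoc n, nρ, mul_assoc, n2, mul_one, s.ρρ])).elim
    rw [ed, show a * x * (ρ * n) * (a * x)⁻¹ = a * (x * ρ * x⁻¹) * a⁻¹ * (a * (x * n * x⁻¹) * a⁻¹) by group, e2,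
      zp_c (mem_zpowers x) (lx s.hρ), mul_inv_cancel_right, s.inv s.hρ, mem_c''.1 (mem_c_symm.1
      ((mem_C0.1 (mul_mem k.tC0 hn)).2 a k)), ← s.ρρ]
    group
  intro n hn
  rcases k.c0 hn with c | c
  · exact key n hn c ▸ one_mem _
  · exact (mul_mem_cancel_left (mem_zpowers t)).1 (key _ (mul_mem k.tC0 hn) c ▸ one_mem _)

theorem c0c (hO : pResidual 2 X = ⊤) (h : ∀ g, g * t * g⁻¹ ∈ T → l ∉ zpowers ⁅a, g * t * g⁻¹⁆) : C0 t T ≤ zpowers t := by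
  have k := s.da
  have : T ≤ zpowers a ⊔ zpowers l := by_contra fun c => by
    obtain ⟨Q, q1, q2, q3⟩ := ex_two s.ho.pg (sup_le (zpowers_le.2 k.vT) s.lT) c
    obtain ⟨u, u1, u2, g, u3⟩ := tmin s.ho.syl hO q2 q3
    have e0 : g⁻¹ * (g * u * g⁻¹) * g⁻¹⁻¹ = u := by group
    refine u2 (e0 ▸ scl_of s.ho.syl (g := g⁻¹) (fun R hR c n hn x hx xQ => ?_) u3.2 u3.1 (e0.symm ▸ u1))
    have tR : t ∈ R := c ⟨s.ho.mem, centralizer_anti hR s.ho.cen⟩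
    have dR := conj_mem_of_mem_normalizer hn tR
    have yR := conj_mem_of_mem_normalizer hn hx
    rcases (s.clsd (hR dR)).resolve_left (h n (hR dR)) with e | d
    · exact two_conj q2 (s.cT (mem_c''.2 e)) (hR hx) xQ
    obtain ⟨B, L, L', r, a1, a2⟩ := id d
    obtain ⟨f, hf, e⟩ := r.tr a1 a2
    have h1 := two_conj q2 (s.cT (mem_c''.2 (show f * n * t * (f * n)⁻¹ = t from .trans (by group) e))) (hR hx) xQ
    have h2 := r.Wle a1 a2 (q1 (s.eq d ▸ mul_mem (mem_sup_left (mem_zpowers a)) (mem_sup_right (s.all _ d))))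
      (q1 (mem_sup_right s.zl)) (r.bt.commT (commutator_mem_commutator (⟨hR yR, r.eC a1 a2 ▸ ⟨conj_mem_c.2
      (s.ho.le (hR hx)), s.ho.le (hR yR)⟩⟩ : _ ∈ T ⊓ 𝐂 (𝐖ᵥ L)) hf))
    simpa [commutatorElement_def, mul_assoc] using mul_mem h2 h1
  intro n hn
  obtain ⟨y, hy, μ, hμ, rfl⟩ := (mem_sup_of_le_normalizer (zpowers_le.2 s.aN)).1 (this hn.1)
  rcases (mem_z2 k.vv).1 hy with rfl | rfl
  · exact s.c1 (by simpa using hμ) (s.c0sq hn)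
  · exact ((s.reb hμ).aρ (s.c0l hn s.hρ)).elim

theorem inv1 (hO : pResidual 2 X = ⊤) (y2 : y * y = 1) (y1 : y ≠ 1) : ∃ g, g * y * g⁻¹ = t := by
  have c : C0 t T ≤ zpowers t := by
    by_cases h : ∃ g, g * t * g⁻¹ ∈ T ∧ l ∈ zpowers ⁅a, g * t * g⁻¹⁆
    · obtain ⟨g, a, b⟩ := h
      exact s.c0b a b
    · exact s.c0c hO fun g a b => h ⟨g, a, b⟩
  obtain ⟨g, h1, h2⟩ := tinv s.ho.syl hO (inf_of_le_left s.ho.le ▸ s.two0) y2
  rcases (s.cls h1 (conj_sq y2)).resolve_left fun e => s.sw e h2 with e | ⟨v, m, k, m0, -, e⟩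
  · exact ⟨g, ((mem_z2 s.ho.sq).1 (c e)).resolve_left (conj_ne y1)⟩
  obtain ⟨B, L, L', r, a1, a2⟩ := e ▸ k.mulz (c m0)
  obtain ⟨f, -, e⟩ := r.tr a1 a2
  exact ⟨f * g, by rw [← e]; group⟩

theorem cit (hO : pResidual 2 X = ⊤) (y2 : y * y = 1) (y1 : y ≠ 1) : IsPGroup 2 (𝐜 y) := by
  obtain ⟨g, rfl⟩ := s.inv1 hO y2 y1
  have := s.ho.pg.to_le s.cT
  rwa [← cj_c, isPGroup_cj_iff] at this

end Q2

theorem P2.q2 (r : P2 t T B L₁ L₂ z) (h : 𝐂 (Gz t T z) = ⊥) : z = t ∧ ∃ l a ρ, Q2 t T l a ρ := by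
  have g : ∀ x, (∀ B L L', P2 t T B L L' z → x ∈ 𝐂 (O² L)) → x = 1 := fun x hx => mem_bot.1 (h ▸
    le_c_iff.1 (iSup_le fun ⟨L, B, L', r⟩ => le_c_iff.2 (hx B L L' r)))
  obtain rfl : z = t := (eq_inv_of_mul_eq_one_right (g (t * z) fun B L L' r => r.k₁.CE
    (r.twoΩ t r.k₁.tΩ z r.zΩ r.k₁.tC fun c => r.zC (r.k₁.CE c)))).trans r.ho.inv
  obtain ⟨l, a, ρ, s, -⟩ := r.ds
  exact ⟨rfl, l, a, ρ, s, g⟩

end H4.Bm
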