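import Cfsg.Agent.H4.Bm1

/-! Good vertices. -/

set_option autoImplicit false
set_option linter.unusedVariables false
set_option linter.unusedSectionVars false

namespace H4.Bm
open H9 hiding zj
open Matrix hiding mul_inv_rev
open Cfsg Subgroup H28 H28.GC MatrixGroups H29 H29.PU H29.BB Equiv
open scoped commutatorElement

universe u
variable {X : Type u} [Group X] [Finite X] {A A' B B' C D E E' H J K L L' L₀ L₁ L₂ B₀ M N P Q R S S' T T' U V W Y : Subgroup X}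
  {a b c d e f g l m n r s t u v w x y z : X}

/-- `[Z_L, O²(L)]` -/
scoped notation:max "𝐖ᵥ " L:max => (⁅Cfsg.sylowCenterClosure 2 L, Cfsg.pResidualOf 2 L⁆ : Subgroup _)

theorem cm_mem (h : B ≤ 𝐍 A) (ha : a ∈ A) (hb : b ∈ B) : ⁅a, b⁆ ∈ A :=
  commutator_le_of_le_normalizer h (commutator_mem_commutator ha hb)
theorem cm_mem' (h : A ≤ 𝐍 B) (ha : a ∈ A) (hb : b ∈ B) : ⁅a, b⁆ ∈ B :=
  commutator_le_of_le_normalizer' h (commutator_mem_commutator ha hb)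

namespace Gd
variable (k : Gd B L)
include k

theorem rk : Rk1 2 L := k.vx.toRk1
theorem pg : IsPGroup 2 B := k.syl.isPGroup
theorem le : B ≤ L := k.syl.le
theorem QB : O₂ L ≤ B := k.syl.pCoreOf_le
theorem ZB : Z₂ L ≤ B := k.vx.Z_le_S k.syl
theorem ZQ : Z₂ L ≤ O₂ L := k.vx.Z_le_Q
theorem QC : O₂ L ≤ 𝐂 (Z₂ L) := k.vx.Q_le_C
theorem ZC : Z₂ L ≤ 𝐂 (O₂ L) := k.vx.Z_le_C
theorem ZZ : Z₂ L ≤ 𝐂 (Z₂ L) := k.vx.Z_comm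
theorem ea : IsElementaryAbelian 2 (Z₂ L) := k.vx.ea
theorem ΩZ : Ω₂ B ≤ Z₂ L := k.syl.omegaOneCenter_le_Z
theorem nZ : L ≤ 𝐍 (Z₂ L) := le_normalizer_Z 2 L
theorem nQ : L ≤ 𝐍 (O₂ L) := le_normalizer_pCoreOf 2 L
theorem nE : L ≤ 𝐍 (O² L) := le_normalizer_pResidualOf 2 L
theorem EL : O² L ≤ L := pResidualOf_le 2 L
theorem EB : O² L ⊔ B = L := k.syl.pResidualOf_sup
theorem nW : L ≤ 𝐍 (𝐖ᵥ L) := le_normalizer_commutator k.nZ k.nE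
theorem WZ : 𝐖ᵥ L ≤ Z₂ L := commutator_le_of_le_normalizer (k.EL.trans k.nZ)
theorem WE : 𝐖ᵥ L ≤ O² L := commutator_le_of_le_normalizer' ((Z_le 2 L).trans k.nE)
theorem ZL : ⁅Z₂ L, L⁆ ≤ 𝐖ᵥ L := k.vx.comm_le_res
theorem YW : ⁅Z₂ L, B⁆ ≤ 𝐖ᵥ L := (commutator_mono le_rfl k.le).trans k.ZL
theorem YΩ : ⁅Z₂ L, B⁆ ≤ Ω₂ B := k.vx.comm_le_Ω k.syl
theorem nCE : L ≤ 𝐍 (𝐂 (O² L)) := le_normalizer_centralizer k.nE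
theorem cenE (hz : z ∈ Z₂ L) (h : z ∈ 𝐂 (O² L)) : z ∈ 𝐂 L := k.vx.cen_res ⟨hz, h⟩
theorem CE : 𝐂 L ≤ 𝐂 (O² L) := centralizer_anti k.EL
theorem not_Y : ¬ ⁅Z₂ L, B⁆ ≤ 𝐂 (O² L) := fun h => k.vx.not_comm_le k.syl fun y hy => k.cenE (k.ΩZ (k.YΩ hy)) (h hy)
theorem memQ (hb : b ∈ B) (h : b ∈ 𝐂 (Z₂ L)) : b ∈ O₂ L := k.vx.mem_Q k.syl hb h
theorem leQ (h1 : A ≤ B) (h2 : A ≤ 𝐂 (Z₂ L)) : A ≤ O₂ L := k.vx.le_Q k.syl h1 h2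
theorem am : Amb 2 L B := k.amb L k.vx.cp le_rfl
theorem bm_eq : bm 2 B = B := k.am.self
theorem zj_eq : zj 2 B = Ω₂ B := le_antisymm (le_omegaOneCenter zj_le (le_centralizer_comm.1 k.am.le_C)
  fun x hx => (mem_omegaOneCenter.1 hx).2.2) (Ω_le_zj dvd_rfl)

theorem off : ∃ A, MaxAb 2 B A ∧ ¬ A ≤ O₂ L := by
  by_contra! c
  have e := JJ_eq_of_le (JJ_le_iff.2 c) k.QB
  have : L ≤ 𝐍 (Ω₂ B) := by rw [← k.zj_eq, zj, ← e]; exact nrm_zj k.nQ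
  exact k.vx.not_Z_le_Ω k.syl (k.syl.Z_eq ▸ nclIn_le le_rfl this)

theorem sup (hA : MaxAb 2 B A) (n : ¬ A ≤ O₂ L) : A ⊔ O₂ L = B := (k.vx.max k.syl dvd_rfl hA n).1
theorem max (hA : MaxAb 2 B A) (n : ¬ A ≤ O₂ L) : MaxAb 2 B (A ⊓ O₂ L ⊔ Z₂ L) := (k.vx.max k.syl dvd_rfl hA n).2
theorem ZJ : Z₂ L ≤ JJ 2 B := let ⟨A, h, n⟩ := k.off; le_sup_right.trans (k.max h n).le_JJ
theorem Z_le_max (hA : MaxAb 2 B A) (h : A ≤ O₂ L) : Z₂ L ≤ A :=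
  hA.le_of_le_centralizer k.ZB (abE_iff_ea.2 k.ea) (k.ZC.trans (centralizer_anti h))
theorem comm_of_sup (h : A ⊔ O₂ L = B) : ⁅Z₂ L, B⁆ = ⁅Z₂ L, A⁆ := by
  conv_lhs => rw [← h]
  exact comm_sup_cen k.QC ((le_sup_left.trans h.le).trans (k.le.trans k.nZ))
theorem supJ : JJ 2 B ⊔ O₂ L = B := let ⟨A, h, n⟩ := k.off
  le_antisymm (sup_le (JJ_le 2 B) k.QB) ((k.sup h n).ge.trans (sup_le_sup_right h.le_JJ _))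
theorem YJ : ⁅Z₂ L, B⁆ = ⁅Z₂ L, JJ 2 B⁆ := k.comm_of_sup k.supJ

theorem V_le : V₂ L ≤ Z₂ L := fun u hu => by
  obtain ⟨A, hA, n⟩ := k.off
  obtain ⟨u1, u2, u3⟩ := mem_omegaOneCenter.1 hu
  have := (k.max hA n).mem_of_mem_centralizer (k.QB u1) u3 (centralizer_anti (sup_le inf_le_right k.ZQ) u2)
  obtain ⟨a, ha, z, hz, rfl⟩ := (mem_sup_of_le_normalizer (inf_le_right.trans ((k.QB.trans k.le).trans k.nZ))).1 this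
  refine mul_mem (k.ΩZ (mem_omegaOneCenter.2 ⟨hA.le ha.1, ?_, (isElementaryAbelian_iff.1 hA.ea).2 a ha.1⟩)) hz
  rw [← k.sup hA n, centralizer_sup]
  exact ⟨hA.comm ha.1, (mul_mem_cancel_right (k.ZC hz)).1 u2⟩

theorem mem_Z (hu : u ∈ B) (c : u ∈ 𝐂 (O₂ L)) (u2 : u * u = 1) : u ∈ Z₂ L :=
  k.V_le (mem_omegaOneCenter.2 ⟨k.memQ hu (centralizer_anti k.ZQ c), c, sq_pow u2⟩)

theorem tr (hx : x ∈ Z₂ L) (hy : y ∈ Z₂ L) (x1 : x ∉ 𝐂 L) (y1 : y ∉ 𝐂 L) : ∃ l ∈ L, l * x * l⁻¹ * y⁻¹ ∈ 𝐂 L := by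
  obtain ⟨S', -, -, F, _, _, -, ⟨N⟩⟩ := k.vx.ns' k.syl
  obtain ⟨g, -, e⟩ := BB.trans (mt (N.mem_C_iff hx).2 x1) (mt (N.mem_C_iff hy).2 y1)
  obtain ⟨l, hl, rfl⟩ := N.π_surj g
  have := conj_mem_of_mem_normalizer (k.nZ hl) hx
  exact ⟨l, hl, (N.mem_C_iff (mul_mem this (inv_mem hy))).2 (by
    rw [N.mul _ this _ (inv_mem hy), N.inv hy, N.equi l hl x hx, ← smul_eq, e, add_neg_cancel])⟩

theorem CΩ (hz : z ∈ Z₂ L) (h : z ∈ 𝐂 L) : z ∈ Ω₂ B := k.vx.C_le_Ω k.syl ⟨hz, h⟩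

theorem tr' (hx : x ∈ Z₂ L) (hy : y ∈ Ω₂ B) (x1 : x ∉ 𝐂 L) (y1 : y ∉ 𝐂 L) :
    ∃ l ∈ L, l * x * l⁻¹ ∈ Ω₂ B ∧ l * x * l⁻¹ * y⁻¹ ∈ 𝐂 L := by
  obtain ⟨l, hl, e⟩ := k.tr hx (k.ΩZ hy) x1 y1
  refine ⟨l, hl, ?_, e⟩
  simpa using mul_mem (k.CΩ (mul_mem (conj_mem_of_mem_normalizer (k.nZ hl) hx) (inv_mem (k.ΩZ hy))) e) hy

theorem toΩ (hu : u ∈ Z₂ L) : ∃ l ∈ L, l * u * l⁻¹ ∈ Ω₂ B := by
  by_cases c : u ∈ 𝐂 L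
  · exact ⟨1, one_mem _, by simpa using k.CΩ hu c⟩
  obtain ⟨y, hy, y1⟩ := SetLike.not_le_iff_exists.1 (k.vx.not_comm_le k.syl)
  exact let ⟨l, hl, e, _⟩ := k.tr' hu (k.YΩ hy) c y1; ⟨l, hl, e⟩

theorem decΩ (hu : u ∈ Ω₂ B) : ∃ y ∈ ⁅Z₂ L, B⁆, ∃ c ∈ Z₂ L ⊓ 𝐂 L, y * c = u :=
  (mem_sup_of_le_normalizer (le_normalizer_of_le_centralizer (((k.YΩ.trans k.ΩZ).trans k.ZZ).trans
    (centralizer_anti inf_le_left)))).1 (k.vx.Ω_le k.syl hu)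

theorem decZ (hu : u ∈ Z₂ L) : ∃ w ∈ 𝐖ᵥ L, ∃ c ∈ Z₂ L ⊓ 𝐂 L, w * c = u :=
  (mem_sup_of_le_normalizer (le_normalizer_of_le_centralizer ((k.WZ.trans k.ZZ).trans
    (centralizer_anti inf_le_left)))).1 (k.vx.Z_le hu)

theorem oppE : ∃ e ∈ O² L, B ⊔ cj e B = L := by
  obtain ⟨g, hg, e⟩ := k.rk.exists_opp k.syl
  rw [← k.EB] at hg
  obtain ⟨a, ha, b, hb, rfl⟩ := (mem_sup_of_le_normalizer' (k.le.trans k.nE)).1 hg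
  exact ⟨a, ha, by rwa [← cj_cj, cj_eq_self_of_mem hb] at e⟩

theorem conj' (hl : l ∈ L) : Gd (cj l B) L := by simpa only [cj_eq_self_of_mem hl] using k.conj l
theorem conjN (hl : l ∈ 𝐍 B) : Gd B (cj l L) := by simpa only [cj_eq_self hl] using k.conj l

theorem WΩ (hw : w ∈ 𝐖ᵥ L) (h : w ∈ Ω₂ B) : w ∈ ⁅Z₂ L, B⁆ := by
  obtain ⟨l, hl, o⟩ := k.oppE
  have k' := k.conj' (k.EL hl)
  have n : ∀ {B B' : Subgroup X}, Gd B L → Gd B' L → B ≤ 𝐍 (⁅Z₂ L, B⁆ ⊔ ⁅Z₂ L, B'⁆ : Subgroup X) := fun k k' =>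
    H28.le_normalizer_of_commutator_le ((commutator_mono (sup_le (k.YW.trans k.WZ) (k'.YW.trans k.WZ)) le_rfl).trans
      le_sup_left) le_rfl
  have : ⁅Z₂ L, B ⊔ cj l B⁆ ≤ ⁅Z₂ L, B⁆ ⊔ ⁅Z₂ L, cj l B⁆ :=
    commutator_sup_le' (n k k') (by rw [sup_comm]; exact n k' k) le_sup_left le_sup_right
  rw [o] at this
  obtain ⟨a, ha, b, hb, rfl⟩ := (mem_sup_of_le_normalizer (le_normalizer_of_le_centralizer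
    (((k.YW.trans k.WZ).trans k.ZZ).trans (centralizer_anti (k'.YW.trans k.WZ))))).1
    (((commutator_mono le_rfl k.EL).trans this) hw)
  have c := Ω_inf_le o ⟨(mul_mem_cancel_left (k.YΩ ha)).1 h, k'.YΩ hb⟩
  refine mul_mem ha ?_
  rw [← cj_eq_self (k.nZ (k.EL hl)), ← cj_commutator, mem_cj] at hb
  rwa [← conj_eq_of_cen (inv_mem (k.EL hl)) c, inv_inv]

theorem WC (hw : w ∈ 𝐖ᵥ L) (h : w ∈ 𝐂 L) : w ∈ ⁅Z₂ L, B⁆ := k.WΩ hw (k.CΩ (k.WZ hw) h)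

theorem no2 (h : Hy d S) (hx : x ∈ B) (n : x ∉ O₂ L) (h1 : x ∈ 𝐜 d) (h2 : d ∈ 𝐂 (O² L)) : False := by
  obtain ⟨M, r⟩ := k.rk.r1 k.syl
  obtain ⟨e, he, o⟩ := k.oppE
  have xS := h.mem_of (p2' k.pg hx) h1
  obtain ⟨g, hg, l⟩ := k.syl.exists_le_conj (h.pg.to_le (inf_le_left : S ⊓ L ≤ S)) inf_le_right
  have x1 := l ⟨xS, k.le hx⟩
  have x2 := l (mem_inf.2 ⟨conj_mem_of_mem_normalizer (h.nrm (le_c_iff.2 h2 he)) xS,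
    mul_mem (mul_mem (k.EL he) (k.le hx)) (inv_mem (k.EL he))⟩)
  have gM : g ∈ M := (r.ti _ (mem_cj.1 x1) g hg (by simpa [mul_assoc] using r.um.le hx)).resolve_left fun c => n (by
    simpa [mul_assoc] using conj_mem_of_mem_normalizer (k.nQ hg) c)
  exact r.um.not_le (o.ge.trans (sup_le r.um.le (cj_le_of_mem r.um.le ((r.ti x hx e (k.EL he)
    (cj_le_of_mem r.um.le gM x2)).resolve_left n))))

theorem res_le (hN : L ≤ 𝐍 N) (hx : x ∈ B) (n : x ∉ O₂ L) (h : x ∈ N) : O² L ≤ N := k.rk.res_le k.syl hN hx n h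

theorem gen (hl : l ∈ L) (o : B ⊔ cj l B = L) (hx : x ∈ B) (n : x ∉ O₂ L) (h1 : cj l B ≤ H) (h2 : x ∈ H) : L ≤ H :=
  k.rk.gen (k.syl.conj_of_mem hl) k.syl (sup_comm B _ ▸ o) hx n h1 h2

end Gd

/-- good vertices containing `t` -/
structure Gt (t : X) (T B L : Subgroup X) : Prop extends Gd B L where
  ho : Ho t T
  tΩ : t ∈ Ω₂ B

theorem Gd.gt (k : Gd B L) (h : Ho t T) (h1 : t ∈ B) (h2 : B ≤ T) : Gt t T B L := ⟨k, h, h.mem_Ω h2 h1⟩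

namespace Gt
variable (k : Gt t T B L)
include k

theorem BT : B ≤ T := k.ho.pg_le k.pg (le_c_iff.2 (mem_omegaOneCenter.1 k.tΩ).2.1)
theorem tB : t ∈ B := (mem_omegaOneCenter.1 k.tΩ).1
theorem tZ : t ∈ Z₂ L := k.ΩZ k.tΩ
theorem tC : t ∉ 𝐂 L := k.ho.not_cen k.rk
theorem conj (g : X) : Gt (g * t * g⁻¹) (cj g T) (cj g B) (cj g L) :=
  ⟨k.toGd.conj g, k.ho.conj g, cj_omegaOneCenter g B ▸ conj_mem_cj k.tΩ⟩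
theorem inf : T ⊓ L = B := k.syl.max _ (k.ho.pg.to_le inf_le_left) (le_inf k.BT k.le) inf_le_right

theorem opp (s : IsSylowIn 2 B' L) (n : B' ≠ B) : B ⊔ B' = L := by
  obtain ⟨g, hg, rfl⟩ := k.syl.exists_conj s
  obtain ⟨M, r⟩ := k.rk.r1 k.syl
  by_contra c
  have gM : g ∈ M := by_contra fun e => c (r.sup_cj hg e)
  obtain ⟨S', -, -, F, _, _, -, ⟨N⟩⟩ := k.vx.ns' k.syl
  have e : g * t * g⁻¹ ∈ Ω₂ B := (k.vx.mem_Ω_iff k.syl N (conj_mem_of_mem_normalizer (k.nZ hg) k.tZ)).2 (by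
    rw [N.equi g hg t k.tZ, ← smul_eq, smul1, (N.mem_iff r hg).1 gM, (k.vx.mem_Ω_iff k.syl N k.tZ).1 k.tΩ]
    simp)
  have k' := k.conj g
  rw [cj_eq_self_of_mem hg] at k'
  exact n (k'.inf.symm.trans (Gt.inf ⟨k.toGd, k'.ho, e⟩))

theorem can (h1 : U ≤ Z₂ L) (h2 : t ∈ U) (h3 : L ≤ 𝐍 U) : nclIn B (𝐍 U) = L := by
  have am := k.amb _ (k.ho.cp ((h1.trans k.ZB).trans k.BT) h2) h3
  refine le_antisymm (nclIn_le_iff.2 fun n hn => ?_) ((k.rk.nclIn_eq k.syl).ge.trans (nclIn_mono le_rfl h3))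
  obtain ⟨l, hl, e⟩ := k.toΩ (h1 (conj_mem_of_mem_normalizer hn h2))
  have hg := mul_mem (h3 hl) hn
  have k' := k.conj (l * n)
  have p := k'.ho.pg.to_le (inf_le_left : _ ⊓ 𝐍 U ≤ _)
  have e1 := am.bm_eq p (le_inf (Gt.BT ⟨k.toGd, k'.ho, by simpa [mul_assoc] using e⟩) am.le) inf_le_right
  have e2 := (am.conj' hg).bm_eq p (le_inf k'.BT (cj_le_of_mem am.le hg)) inf_le_right
  rw [e1, ← cj_cj, eq_comm, cj_eq_iff] at e2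
  exact e2 ▸ cj_le_of_mem k.le (inv_mem hl)

theorem can' (h1 : U ≤ Z₂ L) (h2 : t ∈ U) (h3 : L ≤ 𝐍 U) : 𝐍 U ≤ 𝐍 L := by
  conv_rhs => rw [← k.can h1 h2 h3]
  exact le_normalizer_nclIn _ _

theorem eq_of_Z (k' : Gd B L') (e : Z₂ L = Z₂ L') : L = L' := by
  rw [← k.can le_rfl k.tZ k.nZ, e, Gt.can ⟨k', k.ho, k.tΩ⟩ le_rfl (e ▸ k.tZ) k'.nZ]

theorem eq_of_Q (k' : Gd B L') (e : O₂ L = O₂ L') : L = L' :=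
  k.eq_of_Z k' (le_antisymm (fun z hz => k'.mem_Z (k.ZB hz) (e ▸ k.ZC hz) (sq_of_ea k.ea hz))
    fun z hz => k.mem_Z (k'.ZB hz) (e ▸ k'.ZC hz) (sq_of_ea k'.ea hz))

theorem nrmW (h1 : n ∈ 𝐍 (𝐖ᵥ L)) (h2 : n ∈ 𝐜 t) : n ∈ 𝐍 L :=
  k.can' (U := 𝐖ᵥ L ⊔ zpowers t) (sup_le k.WZ (zpowers_le.2 k.tZ)) (mem_sup_right (mem_zpowers t))
    (H28.le_normalizer_of_commutator_le ((commutator_mono (sup_le k.WZ (zpowers_le.2 k.tZ)) le_rfl).trans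
      (k.ZL.trans le_sup_left)) le_rfl) (le_normalizer_sup (A := zpowers n) (zpowers_le.2 h1)
      (le_normalizer_of_le_centralizer (centralizer_zpowers t ▸ zpowers_le.2 h2)) (mem_zpowers n))

theorem nrmW' (h1 : n ∈ T) (h2 : n ∈ 𝐍 (𝐖ᵥ L)) : n ∈ 𝐍 L := k.nrmW h2 (k.ho.le h1)

/-- `2`-subgroups normalizing `L` -/
theorem ambN (hR : R ≤ T) (h : R ≤ 𝐍 L) : Amb 2 (L ⊔ R) B :=
  k.amb _ (k.vx.cp.sup_pGroup (k.ho.pg.to_le hR) h) le_sup_left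

theorem bmN (h1 : B ≤ R) (hR : R ≤ T) (h : R ≤ 𝐍 L) : bm 2 R = B :=
  (k.ambN hR h).bm_eq (k.ho.pg.to_le hR) h1 le_sup_right

theorem JN (h1 : B ≤ R) (hR : R ≤ T) (h : R ≤ 𝐍 L) : JJ 2 R = JJ 2 B :=
  (k.ambN hR h).JJ_eq (k.ho.pg.to_le hR) h1 le_sup_right

theorem nrmB (h1 : n ∈ T) (h : n ∈ 𝐍 L) : n ∈ 𝐍 B := by
  have := k.inf ▸ le_normalizer_inf (A := T ⊓ 𝐍 L) (le_normalizer_of_le inf_le_left) inf_le_right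
  exact this ⟨h1, h⟩

theorem memB (h1 : n ∈ T) (h : n ∈ 𝐍 L) (c : n ∈ 𝐂 (Ω₂ B)) : n ∈ B := by
  have l : B ≤ T ⊓ 𝐍 L := le_inf k.BT (k.le.trans le_normalizer)
  rw [← k.bmN l inf_le_left inf_le_right]
  exact ⟨⟨h1, h⟩, by rwa [zj, k.JN l inf_le_left inf_le_right, ← zj, k.zj_eq]⟩

theorem trΩ (hy : y ∈ Ω₂ B) (y1 : y ∉ 𝐂 L) : ∃ d S, Ho d S ∧ d ∈ Ω₂ B ∧ d * y⁻¹ ∈ 𝐂 L :=
  let ⟨l, _, a, b⟩ := k.tr' k.tZ hy k.tC y1; ⟨_, _, k.ho.conj l, a, b⟩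

end Gt

end H4.Bm
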