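import Cfsg.Agent.H4.Bm2

/-! Families of good vertices without adjacent critical pairs. -/

set_option autoImplicit false
set_option linter.unusedVariables false
set_option linter.unusedSectionVars false

namespace H4.Bm
open H9 hiding zj
open Matrix hiding mul_inv_rev
open Cfsg Subgroup H28 H28.GC MatrixGroups H29 H29.PU H29.BB Equiv
open scoped commutatorElement

universe u
variable {X : Type u} [Group X] [Finite X] {A A' B B' C D E E' H J K L L' L₀ L₁ L₂ B₀ M N P Q R S S' T T' U V W Y : Subgroup X}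
  {a b c d e f g l m n r s t u v w x y z : X}
variable {𝓥 : Set (Subgroup X)}

theorem Gd.of_syl (k : Gd B L) (s : IsSylowIn 2 S L) : Gd S L :=
  let ⟨l, hl, e⟩ := k.syl.exists_conj s; e ▸ k.conj' hl

/-- good vertex -/
def GV (L : Subgroup X) : Prop := ∃ t T B, Gt t T B L

theorem GV.gt (h : GV L) (s : IsSylowIn 2 S L) : ∃ t T, Gt t T S L := by
  obtain ⟨t, T, B, k⟩ := h
  obtain ⟨l, hl, rfl⟩ := k.syl.exists_conj s
  exact ⟨_, _, by simpa only [cj_eq_self_of_mem hl] using k.conj l⟩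

theorem GV.conj (h : GV L) (g : X) : GV (cj g L) := let ⟨_, _, _, k⟩ := h; ⟨_, _, _, k.conj g⟩

theorem sq_cen (h1 : Q ≤ 𝐂 W) (h0 : ∀ w ∈ W, w * w = 1) (h : ⁅Q, E⁆ ≤ W) (hd : d ∈ Q) : d * d ∈ 𝐂 E :=
  mem_cen_iff.2 fun e he => by
    have := h (commutator_mem_commutator hd he)
    rw [← commutatorElement_inv, comm_mul_left, conj_eq_of_cen hd (le_centralizer_comm.1 h1 this), h0 _ this, inv_one]

theorem const_of (χ : X → Prop) (o : L ≤ S ⊔ T) (hS : S ≤ L) (hT : T ≤ L) (h1 : ∀ l ∈ L, ∀ s ∈ S, χ (l * s) ↔ χ l)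
    (h2 : ∀ l ∈ L, ∀ s ∈ T, χ (l * s) ↔ χ l) (hg : g ∈ L) : χ g ↔ χ 1 := by
  let H : Subgroup X :=
    { carrier := {g | g ∈ L ∧ ∀ l ∈ L, χ (l * g) ↔ χ l}
      mul_mem' := fun {a b} ha hb => ⟨mul_mem ha.1 hb.1, fun l hl => by
        rw [← mul_assoc, hb.2 _ (mul_mem hl ha.1), ha.2 l hl]⟩
      one_mem' := ⟨one_mem _, fun l _ => by rw [mul_one]⟩
      inv_mem' := fun {a} ha => ⟨inv_mem ha.1, fun l hl => by
        rw [← ha.2 _ (mul_mem hl (inv_mem ha.1)), inv_mul_cancel_right]⟩ }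
  have : S ⊔ T ≤ H := sup_le (fun s hs => ⟨hS hs, fun l hl => h1 l hl s hs⟩) fun s hs => ⟨hT hs, fun l hl => h2 l hl s hs⟩
  simpa using (this (o hg)).2 1 (one_mem _)

theorem sq3 (h1 : a * a = 1) (h2 : c * c = 1) (h3 : a * d = d * a) (h4 : c * d = d * c) :
    a * (c * d) * (a * (c * d)) = ⁅a, c⁆ * (d * d) := by
  rw [commutatorElement_def, inv_eq_of_mul_eq_one_right h1, inv_eq_of_mul_eq_one_right h2]
  simp only [mul_assoc]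
  rw [← mul_assoc d a, ← h3, mul_assoc, ← mul_assoc d c, ← h4, mul_assoc]

theorem Gd.comm_max (k : Gd B L) (hA : MaxAb 2 B A) : ⁅A ⊓ O₂ L ⊔ Z₂ L, A⁆ ≤ Z₂ L :=
  commutator_sup_le (inf_le_right.trans ((pCoreOf_le 2 L).trans k.nZ)) le_normalizer
    ((commutator_eq_bot_iff.2 (inf_le_left.trans hA.comm)).le.trans bot_le)
    (commutator_le_of_le_normalizer ((hA.le.trans k.le).trans k.nZ))

theorem no_crit (h1 : ∀ G ∈ 𝓥, GV G) (h2 : ∀ G ∈ 𝓥, ∀ g, cj g G ∈ 𝓥)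
    (h3 : ∀ A ∈ 𝓥, ∀ C ∈ 𝓥, ∀ S, IsSylowIn 2 S A → IsSylowIn 2 S C → Z₂ A ≤ O₂ C) {n : ℕ}
    (e : Near 2 𝓥 n A B) : Z₂ A ≤ O₂ B := by
  classical
  by_contra hn
  have ex : ∃ n, ∃ A B, Near 2 𝓥 n A B ∧ ¬ Z₂ A ≤ O₂ B := ⟨n, A, B, e, hn⟩
  have vx : ∀ G ∈ 𝓥, Vx 2 G := fun G hG => let ⟨_, _, _, k⟩ := h1 G hG; k.vx
  have h : Am 2 𝓥 (Nat.find ex) := ⟨vx, h2, fun n hn A B e => by_contra fun k => Nat.find_min ex hn ⟨A, B, e, k⟩⟩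
  obtain ⟨A, B, e, hn⟩ := Nat.find_spec ex
  generalize Nat.find ex = b at h e
  have b2 : 2 ≤ b := by
    rcases b with _ | _ | b
    · cases e with
      | refl h => exact (hn (vx _ h).Z_le_Q).elim
    · obtain ⟨H, S, a1, a2, a3⟩ := e.succ
      cases a1
      exact (hn (h3 _ e.left _ e.right S a2 a3)).elim
    · omega
  rcases h.ext_or' b2 with hx | ⟨A, L, C, S, k, blk⟩
  · obtain rfl | h3 := b2.eq_or_lt
    · obtain ⟨A, B, C, D, E, S, T, U, V, hC, k⟩ := h.t2 hx e hn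
      exact k.ne_two rfl
    · obtain ⟨G, S, k⟩ := h.long b2 hx e hn (b + 1)
      exact h.not_long h3 k
  obtain rfl | b3 := b2.eq_or_lt
  swap
  · obtain ⟨d, rfl⟩ := Nat.exists_eq_add_of_le' b3
    exact k.false h
  obtain ⟨H, T, a1, tA, tL⟩ := Near.succ (n := 0) k.near
  have hA := k.near.left
  have hL := k.near.right
  cases a1
  obtain ⟨t, T₀, kL⟩ := (h1 L hL).gt k.sB
  obtain ⟨-, -, ⟨kA, -, -⟩⟩ := (h1 A hA).gt tA
  obtain ⟨-, -, ⟨kC, -, -⟩⟩ := (h1 C k.mem).gt k.sC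
  have AL := h3 A hA L hL T tA tL
  have CL := h3 C k.mem L hL S k.sC k.sB
  have QT := tL.pCoreOf_le
  have c := crit kA.vx kC.vx tA k.sC (AL.trans kL.QB) (CL.trans QT) k.cr
  have o := kL.opp tL fun e => k.cr (h3 A hA C k.mem S (e ▸ tA) k.sC)
  obtain ⟨g, hg, rfl⟩ := k.sB.exists_conj tL
  have inv : ∀ u ∈ O₂ L, u * u = 1 → u ∈ O₂ A ∨ u ∈ O₂ C := fun u hu u2 => by
    obtain ⟨a, ha, q, hq, rfl⟩ := (mem_sup_of_le_normalizer (((AL.trans kL.QB).trans kC.le).trans kC.nQ)).1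
      (c.sup'.ge (kL.QB hu))
    obtain ⟨z, hz, d, hd, rfl⟩ := (mem_sup_of_le_normalizer (((CL.trans QT).trans kA.le).trans kA.nQ)).1
      (c.sup.ge (QT ((mul_mem_cancel_left (AL ha)).1 hu)))
    have dC := (mul_mem_cancel_left (kC.ZQ hz)).1 hq
    rw [sq3 (sq_of_ea kA.ea ha) (sq_of_ea kC.ea hz) (mem_centralizer'.1 (kA.QC hd) a ha)
      (mem_centralizer'.1 (kC.QC dC) z hz)] at u2
    have aS := kL.QB (AL ha)
    by_cases n : a ∈ O₂ C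
    · exact .inr (mul_mem n hq)
    · exact .inl (mul_mem (kA.ZQ ha) (mul_mem (c.inf'.ge (kC.vx.fix k.sC aS n hz (kC.cenE
        (cm_mem' (A := S) (kC.le.trans kC.nZ) aS hz) ((mul_mem_cancel_right
        (sq_cen kC.QC (fun w hw => sq_of_ea kC.ea hw) blk dC)).1 (u2 ▸ one_mem _))))).2 hd))
  obtain ⟨A', hA', n'⟩ := kL.off
  have m1 := kL.max hA' n'
  set A₁ := A' ⊓ O₂ L ⊔ Z₂ L
  have lQ : A₁ ≤ O₂ L := sup_le inf_le_right kL.ZQ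
  have zz : ∀ {D R : Subgroup X}, Gd R D → Z₂ D ≤ O₂ L → ∀ l ∈ L, A₁ ≤ cj l (O₂ D) → cj l (Z₂ D) ≤ A₁ :=
    fun kD a l hl b => m1.le_of_le_centralizer ((cj_le_of_mem_normalizer a (kL.nQ hl)).trans kL.QB)
      (abE_iff_ea.2 (ea_cj kD.ea l)) ((cj_mono l kD.ZC).trans (cj_centralizer l _ ▸ centralizer_anti b))
  have xo : ∀ l ∈ L, (cj l (Z₂ C) ≤ A₁ ↔ ¬ cj l (Z₂ A) ≤ A₁) := fun l hl => ⟨fun a b => k.cr (kC.leQ (AL.trans kL.QB)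
    (cj_le_cj.1 (cj_centralizer l _ ▸ (b.trans m1.comm).trans (centralizer_anti a)))), fun a =>
      ((le_of_two fun u hu => (inv _ (conj_mem_of_mem_normalizer' (kL.nQ hl) (lQ hu))
        (conj_sq' (sq_of_ea m1.ea hu))).imp mem_cj.2 mem_cj.2).imp (zz kA AL l hl) (zz kC CL l hl)).resolve_left a⟩
  have cst := fun l hl => const_of (fun l => cj l (Z₂ C) ≤ A₁) o.ge kL.le tL.le
    (fun l hl s hs => by rw [← cj_cj, cj_eq_self (kC.nZ (kC.le hs))])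
    (fun l hl s hs => by rw [xo l hl, xo _ (mul_mem hl (tL.le hs)), ← cj_cj, cj_eq_self (kA.nZ (kA.le hs))]) (g := l) hl
  have fin : ∀ {D R : Subgroup X}, Gd R D → IsSylowIn 2 R L → (∀ l ∈ L, cj l (Z₂ D) ≤ A₁) → ∀ l ∈ L,
      Z₂ D ≤ Z₂ (cj l D) ⊔ Z₂ L := fun {D R} kD s a l hl => by
    have := kL.rk.comm_res_le kL.syl (le_normalizer_nclIn (Z₂ D) L) kL.nZ hA'.le n'
      ((commutator_mono (nclIn_le_iff.2 a) le_rfl).trans (kL.comm_max hA'))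
    have nn : L ≤ 𝐍 (Z₂ D ⊔ Z₂ L : Subgroup X) := s.pResidualOf_sup.ge.trans (sup_le (le_normalizer_sup_of_comm
      (kL.EL.trans kL.nZ) ((commutator_mono (le_nclIn _ _) le_rfl).trans this))
      (le_normalizer_sup (kD.le.trans kD.nZ) (s.le.trans kL.nZ)))
    rw [← cj_Z, ← cj_eq_self (kL.nZ hl), ← cj_sup, cj_eq_self (nn hl)]; exact le_sup_left
  by_cases c1 : cj 1 (Z₂ C) ≤ A₁
  · exact c.not_le kA.vx tA ((fin kC k.sB (fun l hl => (cst l hl).2 c1) g hg).trans (sup_le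
      (h3 _ (h2 C k.mem g) A hA _ (k.sC.conj g) tA) (h3 L hL A hA _ tL tA)))
  · exact k.cr ((fin kA tL (fun l hl => by_contra fun e => c1 ((cst l hl).1 ((xo l hl).2 e))) _ (inv_mem hg)).trans
      (sup_le (h3 _ (h2 A hA _) C k.mem S (by simpa only [cj_inv_cj] using tA.conj g⁻¹) k.sC)
        (h3 L hL C k.mem _ k.sB k.sC)))

theorem hull (h1 : ∀ G ∈ 𝓥, GV G) (h2 : ∀ G ∈ 𝓥, ∀ g, cj g G ∈ 𝓥)
    (h3 : ∀ A ∈ 𝓥, ∀ C ∈ 𝓥, ∀ S, IsSylowIn 2 S A → IsSylowIn 2 S C → Z₂ A ≤ O₂ C) (hL : L ∈ 𝓥)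
    (hS : IsSylowIn 2 S L) : ∃ D : Subgroup X, IsElementaryAbelian 2 D ∧ D ≤ S ∧ 𝐍 S ≤ 𝐍 D ∧
      ∀ H ∈ 𝓥, IsSylowIn 2 S H → Z₂ H ≤ D ∧ H ≤ 𝐍 D := by
  have vx : ∀ G ∈ 𝓥, Vx 2 G := fun G hG => let ⟨_, _, _, k⟩ := h1 G hG; k.vx
  have l := le_iSup (fun A : {A // ∃ n, Near 2 𝓥 n A L} => Z₂ A.1)
  have nn : ∀ g, (∃ n, Near 2 𝓥 n (cj g L) L) →
      cj g (⨆ A : {A // ∃ n, Near 2 𝓥 n A L}, Z₂ A.1) ≤ ⨆ A : {A // ∃ n, Near 2 𝓥 n A L}, Z₂ A.1 := fun g ⟨n, e⟩ => by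
    rw [cj_iSup]
    exact iSup_le fun ⟨A, m, e'⟩ => (cj_Z g A).le.trans (l ⟨_, _, (e'.conj h2 g).trans e⟩)
  refine ⟨⨆ A : {A // ∃ n, Near 2 𝓥 n A L}, Z₂ A.1, ea_iSup (fun ⟨A, n, e⟩ => (vx A e.left).ea)
    fun ⟨A, n, e⟩ ⟨A', n', e'⟩ => (no_crit h1 h2 h3 (e.trans e'.symm)).trans (vx A' e'.left).Q_le_C,
    iSup_le fun ⟨A, n, e⟩ => (no_crit h1 h2 h3 e).trans hS.pCoreOf_le, le_normalizer_of_cj_le fun g hg =>
    nn g ⟨1, .one (h2 L hL g) hL (by simpa only [cj_eq_self hg] using hS.conj g) hS⟩, fun H hH s =>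
    ⟨l ⟨H, 1, .one hH hL s hS⟩, le_normalizer_of_cj_le fun g hg => nn g ⟨2, (Near.one (h2 L hL g) hH (hS.conj g)
      (s.conj_of_mem hg)).trans (.one hH hL s hS)⟩⟩⟩

theorem Gt.partner (k : Gt t T B L) (n : B ≠ bm 2 T) : ∃ L', Gd B L' ∧ ¬ Z₂ L' ≤ O₂ L := by
  by_contra! c
  obtain ⟨D, -, d1, d2, d3⟩ := hull (𝓥 := Set.range fun g => cj g L) (by rintro _ ⟨g, rfl⟩; exact GV.conj ⟨_, _, _, k⟩ g)
    (by rintro _ ⟨g, rfl⟩ h; exact ⟨h * g, (cj_cj _ _ _).symm⟩) (by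
      rintro _ ⟨a, rfl⟩ _ ⟨g, rfl⟩ S s1 s2
      obtain ⟨l, hl, e⟩ := k.syl.exists_conj (by simpa only [cj_inv_cj] using s2.conj g⁻¹)
      have := c _ ((k.toGd.conj (l⁻¹ * g⁻¹ * a)).of_syl (by
        have := s1.conj (l⁻¹ * g⁻¹)
        rwa [cj_cj, ← cj_cj l⁻¹, ← e, cj_inv_cj] at this))
      rw [← cj_cj, ← cj_Z, cj_le_iff, cj_pCoreOf, mul_inv_rev, inv_inv, inv_inv, ← cj_cj g l,
        cj_eq_self_of_mem hl] at this
      exact this) ⟨1, cj_one L⟩ k.syl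
  obtain ⟨d3, d4⟩ := d3 L ⟨1, cj_one L⟩ k.syl
  have e := (k.amb _ (k.ho.cp (d1.trans k.BT) (d3 k.tZ)) d4).bm_eq (k.ho.pg.to_le (inf_le_left : T ⊓ 𝐍 B ≤ T))
    (le_inf k.BT le_normalizer) (inf_le_right.trans d2)
  rw [eq_of_inf_normalizer_le k.ho.pg inf_le_left (inf_le_inf_left _ ((nrm_bm le_rfl).trans_eq
    (congrArg (fun H : Subgroup X => 𝐍 H) e)))] at e
  exact n e.symm

end H4.Bm
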