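import Cfsg.Agent.H4.Bm3

/-! Pairs of good vertices. -/

set_option autoImplicit false
set_option linter.unusedVariables false
set_option linter.unusedSectionVars false

namespace H4.Bm
open H9 hiding zj
open Matrix hiding mul_inv_rev
open Cfsg Subgroup H28 H28.GC MatrixGroups H29 H29.PU H29.BB Equiv
open scoped commutatorElement

universe u
variable {X : Type u} [Group X] [Finite X] {A A' B B' C D E E' H J K L L' L₀ L₁ L₂ B₀ M N P Q R S S' T T' U V W Y : Subgroup X}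
  {a b c d e f g l m n s t u v w x y z : X}

theorem Gd.cenW (k : Gd B L) (hx : x ∈ L) (h : x ∈ 𝐂 (𝐖ᵥ L)) : x ∈ 𝐂 (Z₂ L) :=
  centralizer_anti k.vx.Z_le (by
    rw [centralizer_sup]; exact ⟨h, centralizer_anti inf_le_right (le_centralizer_comm.1 le_rfl hx)⟩)

theorem Gd.memQ' (k : Gd B L) (hx : x ∈ B) (h : x ∈ 𝐂 (𝐖ᵥ L)) : x ∈ O₂ L := k.memQ hx (k.cenW (k.le hx) h)

theorem Gd.QW (k : Gd B L) : O₂ L ≤ 𝐂 (𝐖ᵥ L) := k.QC.trans (centralizer_anti k.WZ)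

theorem Gd.fix (k : Gd B L) (hs : s ∈ B) (hz : z ∈ Z₂ L) (h : ⁅s, z⁆ ∈ 𝐂 (O² L)) : s ∈ O₂ L ∨ z ∈ Ω₂ B :=
  or_iff_not_imp_left.2 fun n => k.vx.fix k.syl hs n hz (k.cenE (cm_mem' (A := B) (k.le.trans k.nZ) hs hz) h)

theorem Gd.one (k : Gd B L) (hs : s ∈ B) (hz : z ∈ Z₂ L) (h : ⁅s, z⁆ ∈ 𝐂 (O² L)) : ⁅s, z⁆ = 1 :=
  k.vx.comm_eq_one k.syl hs hz (k.cenE (cm_mem' (A := B) (k.le.trans k.nZ) hs hz) h)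

theorem cen_res (hD : IsPGroup 2 D) (h2 : D ≤ 𝐂 (O² L)) (h0 : u ∈ 𝐍 D) (h1 : ∀ e ∈ O² L, ⁅u, e⁆ ∈ D) : u ∈ 𝐂 (O² L) :=
  le_centralizer_comm.1 (pResidualOf_le_centralizer_of_commutator_le hD (commutator_zpowers_le' h0 h1)
    (le_centralizer_comm.1 h2)) (mem_zpowers u)

theorem phi (k : Gd B L) (k' : Gd B' L')
    (tr : ∀ y ∈ Ω₂ B, y ∉ 𝐂 L → ∃ d S, Hy d S ∧ d ∈ Ω₂ B ∧ d ∈ Ω₂ B' ∧ d * y⁻¹ ∈ 𝐂 (O² L))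
    (h1 : ∀ w ∈ 𝐖ᵥ L', ∃ y ∈ Ω₂ B, y⁻¹ * w ∈ 𝐂 (O² L)) (h2 : ⁅Z₂ L', B'⁆ ≤ 𝐂 (O² L)) (hx : x ∈ B) (n : x ∉ O₂ L)
    (c : x ∈ 𝐂 (𝐖ᵥ L')) : 𝐖ᵥ L' ≤ 𝐂 (O² L) := fun w hw => by_contra fun nw => by
  obtain ⟨y, hy, e1⟩ := h1 w hw
  obtain ⟨d, S, h, d1, d2, d3⟩ := tr y hy fun e => nw ((mul_mem_cancel_left (inv_mem (k.CE e))).1 e1)
  obtain ⟨y', hy', c', hc', rfl⟩ := k'.decΩ d2
  obtain ⟨l, hl, e2⟩ := k'.tr (k'.WZ (k'.YW hy')) (k'.WZ hw) (fun e => h.not_cen k'.rk (mul_mem e hc'.2))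
    fun e => nw (h2 (k'.WC hw e))
  have m := conj_mem_of_mem_normalizer (k'.nW hl) (k'.YW hy')
  replace e2 := h2 (k'.WC (mul_mem m (inv_mem hw)) e2)
  have e : l * (y' * c') * l⁻¹ = l * y' * l⁻¹ * c' := by
    conv_rhs => rw [← conj_eq_of_cen hl hc'.2]
    group
  refine k.no2 (h.conj l) hx n (e ▸ mem_c_symm.1 (mul_mem (mem_c_symm.1 (cen_le_c m c)) ((mul_mem_cancel_left
    (mem_c_symm.1 (cen_le_c (k'.YW hy') c))).1 (cen_le_c hx (mem_omegaOneCenter.1 d1).2.1)))) ?_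
  have := mul_mem e2 (conj_mem_of_mem_normalizer (k.nCE (k.le (omegaOneCenter_le _ _ hy)))
    (mul_mem (mul_mem e1 (inv_mem (h2 hy'))) d3))
  rw [e]; convert this using 1
  have y2 := sq_of_ea (ea_omegaOneCenter 2 B) hy
  rw [← mul_one (l * y' * l⁻¹ * c'), ← inv_one, ← y2]; group

/-- blocks -/
structure Bt (t : X) (T B L : Subgroup X) : Prop extends Gt t T B L where
  p1 : P1 2 L B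

namespace Bt
variable (k : Bt t T B L)
include k

theorem cenZ (h1 : x ∈ L) (h2 : x ∈ 𝐂 (𝐖ᵥ L)) : x ∈ O₂ L := (k.p1.p0 k.rk k.syl).cen_le k.rk ⟨h1, k.cenW h1 h2⟩
theorem cenEW (h1 : x ∈ O² L) (h2 : x ∈ 𝐂 (𝐖ᵥ L)) : x ∈ 𝐖ᵥ L := k.p1.res_inf k.vx k.syl ⟨h1, k.cenZ (k.EL h1) h2⟩
theorem nE' (h : x ∈ 𝐍 L) : x ∈ 𝐍 (O² L) := normalizer_le_normalizer_pResidualOf 2 L h
theorem comm_E (h1 : x ∈ 𝐍 (O² L)) (h2 : x ∈ 𝐂 (𝐖ᵥ L)) (he : e ∈ O² L) : ⁅x, e⁆ ∈ 𝐖ᵥ L :=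
  k.cenEW (comm_mem_of' h1 he) (comm_mem_of (le_normalizer_centralizer (k.EL.trans k.nW)) h2 he)
theorem TN : T ⊓ 𝐂 (𝐖ᵥ L) ≤ 𝐍 L := fun x hx => k.nrmW' hx.1 (centralizer_le_normalizer _ hx.2)
theorem commT : ⁅T ⊓ 𝐂 (𝐖ᵥ L), O² L⁆ ≤ 𝐖ᵥ L := commutator_le.2 fun x hx e he => k.comm_E (k.nE' (k.TN hx)) hx.2 he
theorem RR (h1 : a ∈ T ⊓ 𝐂 (𝐖ᵥ L)) (h2 : b ∈ T ⊓ 𝐂 (𝐖ᵥ L)) : ⁅a, b⁆ ∈ 𝐂 (O² L) := by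
  have h : ⁅⁅T ⊓ 𝐂 (𝐖ᵥ L), O² L⁆, T ⊓ 𝐂 (𝐖ᵥ L)⁆ = ⊥ :=
    commutator_eq_bot_iff.2 (k.commT.trans (le_centralizer_comm.1 inf_le_right))
  exact commutator_eq_bot_iff.1 (three h (by rwa [comm_comm (O² L)])) (commutator_mem_commutator h1 h2)
theorem sqC (h : a ∈ T ⊓ 𝐂 (𝐖ᵥ L)) : a * a ∈ 𝐂 (O² L) :=
  sq_cen inf_le_right (fun w hw => sq_of_ea k.ea (k.WZ hw)) k.commT h
theorem QT : O₂ L ≤ T ⊓ 𝐂 (𝐖ᵥ L) := le_inf (k.QB.trans k.BT) k.QW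

theorem fin (tU : t ∈ U) (h1 : 𝐖ᵥ L ≤ U) (h2 : O² L ≤ 𝐍 U) (h3 : O² L' ≤ 𝐍 U) (h4 : ⁅U, O² L⁆ ≤ 𝐂 (O² L'))
    (h5 : ⁅U, O² L'⁆ ≤ 𝐂 (O² L)) (h6 : 𝐖ᵥ L ≤ 𝐂 (O² L')) (a1 : A ≤ B) (a2 : B ≤ 𝐍 A) (a3 : ¬ A ≤ O₂ L)
    (a4 : A ≤ 𝐍 U) (a5 : ⁅O² L', A⁆ ≤ T ⊓ 𝐂 U) : O² L' ≤ 𝐂 (O² L) := by
  have nR := k.ho.nrmC tU
  have nC := normalizer_le_normalizer_centralizer U
  have c : ⁅O² L', O² L⁆ ≤ 𝐂 U := commutator_eq_bot_iff.1 (three (by rw [comm_comm (O² L)]; exact commutator_eq_bot_iff.2 h4)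
    (commutator_eq_bot_iff.2 h5))
  have g : A ≤ cmod (𝐂 U) (T ⊓ 𝐂 U) := le_cmod (a4.trans nR) (le_inf (commutator_mono le_rfl (a1.trans k.BT) |>.trans
    (commutator_le_of_le_normalizer' ((cen_le_c tU).trans k.ho.nrm))) (commutator_le_of_le_normalizer (a4.trans nC)))
  have nH : O² L' ≤ 𝐍 (nclIn A (O² L) ⊔ T ⊓ 𝐂 U : Subgroup X) := le_normalizer_of_cj_le fun e he => by
    rw [cj_sup, cj_eq_self (nR (h3 he))]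
    refine sup_le (cj_le_iff.2 (nclIn_le_iff.2 fun f hf => ?_)) le_sup_right
    rintro _ ⟨a, ha, rfl⟩
    have c1 := c (commutator_mem_commutator he hf)
    have c2 := conj_mem_of_mem_normalizer (nR (centralizer_le_normalizer _ c1)) (conj_mem_of_mem_normalizer
      (nR (h2 hf)) (a5 (commutator_mem_commutator he ha)))
    have c3 := (mem_cmod.1 (conj_mem_of_mem_normalizer (le_normalizer_cmod nC nR (h2 hf)) (g ha))).2 _ c1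
    have := mul_mem (mul_mem (mem_sup_right c2) (mem_sup_right c3)) (mem_sup_left (cj_le_nclIn A hf (conj_mem_cj ha)))
    rw [mem_cj]; convert this using 1
    simp only [commutatorElement_def, MulEquiv.coe_toMonoidHom, MulAut.conj_apply]; group
  obtain ⟨x, hx, n⟩ := SetLike.not_le_iff_exists.1 a3
  have e : nclIn A (O² L) ⊔ T ⊓ 𝐂 U = O² L ⊔ (A ⊔ T ⊓ 𝐂 U) := by
    rw [← sup_assoc, le_antisymm (nclIn_le le_sup_right (le_normalizer_of_le le_sup_left)) (sup_le (k.res_le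
      (k.EB.ge.trans (sup_le (le_normalizer_nclIn _ _) (le_normalizer_nclIn' a2 (k.le.trans k.nE)))) (a1 hx) n
      (le_nclIn _ _ hx)) (le_nclIn _ _))]
  have nE := nH.trans (normalizer_le_normalizer_pResidualOf 2 _)
  rw [e, pResidualOf_sup' (k.ho.pg.to_le (sup_le (a1.trans k.BT) inf_le_left)) (sup_le (a1.trans (k.le.trans k.nE))
    fun y hy => k.nE' (k.TN ⟨hy.1, centralizer_anti h1 hy.2⟩)), pResidualOf_pResidualOf] at nE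
  exact pResidualOf_le_centralizer_of_commutator_le (ea_isPGroup (ea_of_le k.ea k.WZ)) (comm_comm (O² L') _ ▸
    commutator_le.2 fun x hx e he => k.comm_E (nE hx) (le_centralizer_comm.1 h6 hx) he) (le_centralizer_comm.1 h6)

end Bt

/-- pairs -/
structure Pa (t : X) (T B L₁ L₂ : Subgroup X) : Prop where
  k₁ : Gt t T B L₁
  k₂ : Gt t T B L₂
  nc : ¬ Z₂ L₁ ≤ O₂ L₂

namespace Pa
variable (r : Pa t T B L₁ L₂)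
include r

theorem cr : Crit 2 L₁ B L₂ B := crit r.k₁.vx r.k₂.vx r.k₁.syl r.k₂.syl r.k₁.ZB r.k₂.ZB r.nc
theorem symm : Pa t T B L₂ L₁ := ⟨r.k₂, r.k₁, r.cr.not_le r.k₁.vx r.k₁.syl⟩
theorem conj (g : X) : Pa (g * t * g⁻¹) (cj g T) (cj g B) (cj g L₁) (cj g L₂) :=
  ⟨r.k₁.conj g, r.k₂.conj g, by rw [← cj_Z, ← cj_pCoreOf, cj_le_cj]; exact r.nc⟩
theorem ho : Ho t T := r.k₁.ho
theorem bt : Bt t T B L₁ := ⟨r.k₁, r.cr.symm.p1 r.k₂.vx r.k₁.vx r.k₂.syl r.k₁.syl⟩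
theorem eY : ⁅Z₂ L₁, B⁆ = ⁅Z₂ L₂, B⁆ := r.cr.comm_eq r.k₁.vx r.k₂.vx r.k₁.syl r.k₂.syl
theorem eY' : ⁅Z₂ L₁, B⁆ = ⁅Z₂ L₁, Z₂ L₂⁆ := r.cr.comm r.k₁.vx r.k₁.syl
theorem memΩ (h1 : z ∈ Z₂ L₁) (h2 : z ∈ O₂ L₂) : z ∈ Ω₂ B := r.cr.inf.le ⟨h1, h2⟩
theorem ΩQ : Ω₂ B ≤ O₂ L₁ := r.k₁.ΩZ.trans r.k₁.ZQ
theorem supW : 𝐖ᵥ L₂ ⊔ O₂ L₁ = B := le_antisymm (sup_le (r.k₂.WZ.trans r.k₂.ZB) r.k₁.QB) (r.cr.sup.ge.trans (sup_le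
  (r.k₂.vx.Z_le.trans (sup_le_sup_left ((r.k₂.vx.C_le_Ω r.k₂.syl).trans r.ΩQ) _)) le_sup_right))
theorem WQ : ¬ 𝐖ᵥ L₂ ≤ O₂ L₁ := fun e => r.k₁.rk.ne r.k₁.syl (r.supW.ge.trans (sup_le e le_rfl))
theorem nc' : ¬ 𝐖ᵥ L₂ ≤ 𝐂 (𝐖ᵥ L₁) := fun e => r.WQ fun x hx => r.k₁.memQ' (r.k₂.ZB (r.k₂.WZ hx)) (e hx)
theorem decB (hb : b ∈ B) : ∃ w ∈ 𝐖ᵥ L₂, ∃ q ∈ O₂ L₁, w * q = b :=
  (mem_sup_of_le_normalizer ((r.k₂.WZ.trans r.k₂.ZB).trans (r.k₁.le.trans r.k₁.nQ))).1 (r.supW.ge hb)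
theorem decB' (hb : b ∈ B) : ∃ w₂ ∈ 𝐖ᵥ L₂, ∃ w₁ ∈ 𝐖ᵥ L₁, ∃ q ∈ O₂ L₁ ⊓ O₂ L₂, w₂ * (w₁ * q) = b := by
  obtain ⟨w, hw, q, hq, rfl⟩ := r.decB hb
  obtain ⟨w', hw', q', hq', rfl⟩ := r.symm.decB (r.k₁.QB hq)
  exact ⟨w, hw, w', hw', q', ⟨(mul_mem_cancel_left (r.k₁.ZQ (r.k₁.WZ hw'))).1 hq, hq'⟩, rfl⟩

theorem inv3 (h2 : a ∈ 𝐖ᵥ L₂) (h1 : b ∈ 𝐖ᵥ L₁) (h : c ∈ T ⊓ 𝐂 (𝐖ᵥ L₁)) (h' : c ∈ 𝐂 (𝐖ᵥ L₂))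
    (e : a * (b * c) * (a * (b * c)) = 1) : a * (b * c) ∈ 𝐂 (𝐖ᵥ L₁) ∨ a * (b * c) ∈ 𝐂 (𝐖ᵥ L₂) := by
  rw [sq3 (sq_of_ea r.k₂.ea (r.k₂.WZ h2)) (sq_of_ea r.k₁.ea (r.k₁.WZ h1)) (mem_centralizer'.1 h' a h2)
    (mem_centralizer'.1 h.2 b h1)] at e
  exact (r.k₁.fix (r.k₂.ZB (r.k₂.WZ h2)) (r.k₁.WZ h1) ((mul_mem_cancel_right (r.bt.sqC h)).1 (e ▸ one_mem _))).imp
    (fun k => mul_mem (r.k₁.QW k) (mul_mem (r.k₁.QW (r.k₁.ZQ (r.k₁.WZ h1))) h.2))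
    fun k => mul_mem (r.k₂.QW (r.k₂.ZQ (r.k₂.WZ h2))) (mul_mem (r.k₂.QW (r.symm.ΩQ k)) h')

theorem inv_or (hb : b ∈ B) (e : b * b = 1) : b ∈ O₂ L₁ ∨ b ∈ O₂ L₂ := by
  obtain ⟨a, h2, w, h1, c, hc, rfl⟩ := r.decB' hb
  exact (r.inv3 h2 h1 (r.bt.QT hc.1) (r.k₂.QW hc.2) e).imp (r.k₁.memQ' hb) (r.k₂.memQ' hb)

theorem ea_or (hA : IsElementaryAbelian 2 A) (h : A ≤ B) : A ≤ O₂ L₁ ∨ A ≤ O₂ L₂ :=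
  le_of_two fun a ha => r.inv_or (h ha) (sq_of_ea hA ha)

theorem max_or (hA : MaxAb 2 B A) : Z₂ L₁ ≤ A ∨ Z₂ L₂ ≤ A :=
  (r.ea_or hA.ea hA.le).imp (r.k₁.Z_le_max hA) (r.k₂.Z_le_max hA)

theorem not_both (hA : A ≤ 𝐂 A) (h1 : 𝐖ᵥ L₁ ≤ A) (h2 : 𝐖ᵥ L₂ ≤ A) : False :=
  r.nc' ((h2.trans hA).trans (centralizer_anti h1))

theorem cp (h : n ∈ T ⊓ 𝐂 (𝐖ᵥ L₁)) (h' : n ∈ 𝐂 (𝐖ᵥ L₂)) : ∃ y ∈ ⁅Z₂ L₁, B⁆, y⁻¹ * n ∈ 𝐂 (O² L₁) := by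
  have k := r.k₁
  obtain ⟨e, he, o⟩ := k.oppE
  have k' := k.toGd.conj' (k.EL he)
  have m : n⁻¹ * (e * n * e⁻¹) ∈ Z₂ L₁ := by
    simpa [commutatorElement_def, mul_assoc] using k.WZ (r.bt.comm_E (inv_mem (r.bt.nE' (r.bt.TN h))) (inv_mem h.2) he)
  obtain ⟨a, ha, b, hb, e1⟩ := (mem_sup_of_le_normalizer (le_normalizer_of_le_centralizer ((k.ΩZ.trans k.ZZ).trans
    (centralizer_anti k'.ΩZ)))).1 (k.vx.Z_le_sup k.syl k'.syl o m)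
  have vR : n * a ∈ T ⊓ 𝐂 (𝐖ᵥ L₁) := mul_mem h (r.bt.QT (r.ΩQ ha))
  have l : L₁ ≤ fm (n * a) (𝐂 (O² L₁)) := by
    have q : O₂ L₁ ≤ fm (n * a) (𝐂 (O² L₁)) := fun q hq => mem_fm.2 ⟨k.nCE (pCoreOf_le 2 _ hq), r.bt.RR vR (r.bt.QT hq)⟩
    have w := r.k₂.WZ.trans r.k₂.ZB
    refine o.ge.trans ?_
    rw [← r.supW, cj_sup, cj_eq_self (k.nQ (k.EL he))]
    refine sup_le (sup_le (fun x hx => mem_fm.2 ⟨k.nCE (k.le (w hx)), ?_⟩) q) (sup_le (fun x hx => mem_fm.2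
      ⟨k.nCE (k'.le (cj_mono e w hx)), ?_⟩) q)
    · rw [mem_c_comm'.1 (mul_mem (cen_le_c hx h') (cen_le_c (w hx) (mem_omegaOneCenter.1 ha).2.1))]; exact one_mem _
    · rw [show n * a = e * n * e⁻¹ * b⁻¹ by rw [eq_mul_inv_iff_mul_eq, mul_assoc, e1, mul_inv_cancel_left],
        mem_c_comm'.1 (mul_mem (cen_le_c hx (cj_centralizer e _ ▸ conj_mem_cj h')) (inv_mem (cen_le_c
        (cj_mono e w hx) (mem_omegaOneCenter.1 hb).2.1)))]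
      exact one_mem _
  have c : n * a ∈ 𝐂 (O² L₁) := cen_res (D := 𝐖ᵥ L₁ ⊓ 𝐂 (O² L₁)) (ea_isPGroup (ea_of_le k.ea (inf_le_left.trans k.WZ)))
    inf_le_right (centralizer_le_normalizer _ (centralizer_anti inf_le_left vR.2)) fun x hx =>
    ⟨r.bt.comm_E (r.bt.nE' (r.bt.TN vR)) vR.2 hx, (mem_fm.1 (l (k.EL hx))).2⟩
  obtain ⟨y, hy, d, hd, rfl⟩ := k.decΩ ha
  refine ⟨y⁻¹, inv_mem hy, ?_⟩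
  rw [inv_inv, mem_centralizer'.1 h.2 y (k.YW hy)]
  exact (mul_mem_cancel_right (k.CE hd.2)).1 (mul_assoc n y d ▸ c)

theorem cp' (h : n ∈ O₂ L₁) (h' : n ∈ O₂ L₂) : ∃ y ∈ ⁅Z₂ L₁, B⁆, y⁻¹ * n ∈ 𝐂 (O² L₁) := r.cp (r.bt.QT h) (r.k₂.QW h')

end Pa

end H4.Bm
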