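import Cfsg.Agent.H4.Bm4

/-! Good vertices with the same Thompson subgroup. -/

set_option autoImplicit false
set_option linter.unusedVariables false
set_option linter.unusedSectionVars false

namespace H4.Bm
open H9 hiding zj
open Matrix hiding mul_inv_rev
open Cfsg Subgroup H28 H28.GC MatrixGroups H29 H29.PU H29.BB Equiv
open scoped commutatorElement

universe u
variable {X : Type u} [Group X] [Finite X] {A A' B B' C D E E' H J K L L' L₀ L₁ L₂ B₀ M N P Q R S S' T T' U V W Y : Subgroup X}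
  {a b c d e f g l m n s t u v w x y z : X}

theorem sq_res (h : ∀ y ∈ L, y * y ∈ N) : O² L ≤ N := pResidualOf_le_iff.2 fun x hx c =>
  mem_of_pow_mem_of_pow_mem c (by rw [pow_orderOf_eq_one]; exact one_mem _) (sq x ▸ h x hx)

theorem maxJ (e : JJ 2 B₀ = JJ 2 B) (h : MaxAb 2 B A) : MaxAb 2 B₀ A := by
  rwa [← maxAb_iff_of_JJ_le le_rfl (JJ_le 2 B₀), e, maxAb_iff_of_JJ_le le_rfl (JJ_le 2 B)]

theorem Gd.ΩJ (k : Gd B L) (k₀ : Gd B₀ L₀) (e : JJ 2 B₀ = JJ 2 B) : Ω₂ B₀ = Ω₂ B := by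
  rw [← k.zj_eq, ← k₀.zj_eq, zj, zj, e]

theorem Gd.ZB' (k : Gd B L) (e : JJ 2 B₀ = JJ 2 B) : Z₂ L ≤ B₀ := k.ZJ.trans (e.ge.trans (JJ_le 2 B₀))

theorem Gt.gtJ (k : Gt t T B L) (k₀ : Gd B₀ L₀) (e : JJ 2 B₀ = JJ 2 B) : Gt t T B₀ L₀ :=
  ⟨k₀, k.ho, k.ΩJ k₀ e ▸ k.tΩ⟩

theorem Gd.JQ (k : Gd B L) : JJ 2 (O₂ L) ≤ N ↔ ∀ A, MaxAb 2 B A → A ≤ O₂ L → A ≤ N := by
  obtain ⟨A, hA, n⟩ := k.off
  have l : A ⊓ O₂ L ⊔ Z₂ L ≤ O₂ L := sup_le inf_le_right k.ZQ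
  exact JJ_le_iff.trans ⟨fun h C a b => h C (a.mono b k.QB), fun h C a => h C (a.of_le_of_mem k.QB (k.max hA n) l) a.le⟩

theorem Gd.idx2 (k : Gd B L) (h2 : Two B P) (hP : JJ 2 B ≤ P) (hl : l ∈ L) (o : B ⊔ cj l B = L) (hx : x ∈ B)
    (n : x ∉ O₂ L) (h : x ∈ N) (h' : cj l (B ⊓ P) ≤ N) : O² L ≤ N := by
  have e := cj_eq_self (k.nQ hl)
  have k' := k.conj' hl
  have := k.gen (H := N ⊓ L ⊔ O₂ L) hl o hx n (by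
    rw [← k.supJ, cj_sup, e]
    exact sup_le_sup_right (le_inf ((cj_mono l (le_inf (JJ_le 2 B) hP)).trans h')
      ((cj_mono l (JJ_le 2 B)).trans k'.le)) _) (mem_sup_left ⟨h, k.le hx⟩)
  refine sq_res fun y hy => ?_
  obtain ⟨a, ha, q, hq, rfl⟩ := (mem_sup_of_le_normalizer (inf_le_right.trans k.nQ)).1 (this hy)
  by_cases c : q ∈ N
  · exact mul_mem (mul_mem ha.1 c) (mul_mem ha.1 c)
  have q' := conj_mem_of_mem_normalizer' (k.nQ ha.2) hq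
  have m : ∀ u ∈ O₂ L, u ∈ cj l P → u ∈ N := fun u a b => h' (cj_inf l B P ▸ ⟨k'.QB a, b⟩)
  have := m _ (mul_mem q' hq) (h2.conj l _ (k'.QB q') _ (k'.QB hq) (fun e => c (by
    simpa [mul_assoc] using N.mul_mem (N.mul_mem ha.1 (m _ q' e)) (N.inv_mem ha.1))) fun e => c (m _ hq e))
  simpa [mul_assoc] using mul_mem (mul_mem ha.1 ha.1) this

namespace Pa
variable (r : Pa t T B L₁ L₂)
include r

theorem pu1 (k₀ : Gd B₀ L₀) (e : JJ 2 B₀ = JJ 2 B) (n : ¬ Z₂ L₁ ≤ O₂ L₀) :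
    ¬ Z₂ L₀ ≤ O₂ L₁ ∧ O₂ L₂ ⊓ B₀ ≤ O₂ L₀ := by
  have c := crit r.k₁.vx k₀.vx r.k₁.syl k₀.syl (r.k₁.ZB' e) (k₀.ZB' e.symm) n
  have n' := c.not_le r.k₁.vx r.k₁.syl
  have z := (r.ea_or k₀.ea (k₀.ZB' e.symm)).resolve_left n'
  refine ⟨n', fun u hu => k₀.memQ hu.2 (mem_cen_iff.2 fun x hx => ?_)⟩
  have h1 := r.symm.bt.RR (r.symm.bt.QT (z hx)) (r.symm.bt.QT hu.1)
  obtain ⟨w, hw, q, hq, rfl⟩ := (mem_sup_of_le_normalizer ((r.k₁.ZB' e).trans (k₀.le.trans k₀.nQ))).1 (c.sup'.ge hu.2)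
  rw [comm_mul_right, mem_cen_iff.1 (k₀.QC hq) x hx, mul_one, mul_inv_cancel, mul_one] at h1 ⊢
  obtain ⟨a, ha, b, hb, rfl⟩ := r.decB (k₀.ZB' e.symm hx)
  rw [comm_mul_left, ← commutatorElement_inv w b, mem_cen_iff.1 (r.k₁.QC hb) w hw, inv_one, mul_one, mul_inv_cancel,
    one_mul, ← commutatorElement_inv] at h1 ⊢
  rw [r.k₂.one (r.k₁.ZB hw) (r.k₂.WZ ha) (inv_mem_iff.1 h1), inv_one]

theorem pu (k₀ : Gd B₀ L₀) (e : JJ 2 B₀ = JJ 2 B) (n : ¬ Z₂ L₁ ≤ O₂ L₀) : B₀ = B ∧ L₀ = L₂ := by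
  obtain ⟨n', l⟩ := r.pu1 k₀ e n
  have eJ : JJ 2 (O₂ L₀) = JJ 2 (O₂ L₂) := le_antisymm
    (k₀.JQ.2 fun A a b => ((maxJ e.symm a).mono ((r.ea_or a.ea (maxJ e.symm a).le).resolve_left fun c =>
      n' ((k₀.Z_le_max a b).trans c)) r.k₂.QB).le_JJ)
    (r.k₂.JQ.2 fun A a b => ((maxJ e a).mono ((le_inf b (maxJ e a).le).trans l) k₀.QB).le_JJ)
  have k := r.k₁.gtJ k₀ e
  have QT := r.k₂.QB.trans r.k₂.BT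
  have cp := r.ho.cp (zj_le.trans QT) (r.ho.mem_zj QT (r.k₂.ZQ r.k₂.tZ))
  have a₂ := r.k₂.amb _ cp (nrm_zj r.k₂.nQ)
  have a₀ := k₀.amb _ cp (by rw [zj, ← eJ]; exact nrm_zj k₀.nQ)
  have p := r.ho.pg.to_le (inf_le_left : T ⊓ 𝐍 (zj 2 (O₂ L₂)) ≤ T)
  obtain rfl := (a₀.bm_eq p (le_inf k.BT a₀.le) inf_le_right).symm.trans
    (a₂.bm_eq p (le_inf r.k₂.BT a₂.le) inf_le_right)
  exact ⟨rfl, k.eq_of_Q r.k₂.toGd (le_antisymm ((le_inf le_rfl k₀.QB).trans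
    (Pa.pu1 ⟨r.k₁, k, n⟩ r.k₂.toGd rfl r.nc).2) ((le_inf le_rfl r.k₂.QB).trans l))⟩

theorem ZQ' (k₀ : Gd B₀ L₀) (e : JJ 2 B₀ = JJ 2 B) (h : Z₂ L₁ ≤ O₂ L₀) : Z₂ L₀ ≤ O₂ L₁ :=
  r.k₁.leQ (k₀.ZB' e.symm) (k₀.ZC.trans (centralizer_anti h))

theorem st (hx : x ∈ 𝐍 (JJ 2 B)) (hY : x ∈ 𝐍 ⁅Z₂ L₁, B⁆) : x ∈ 𝐍 B ∧ (cj x L₁ = L₁ ∧ cj x L₂ = L₂ ∨
    cj x L₁ = L₂ ∧ cj x L₂ = L₁) := by
  have r' := r.conj x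
  have e : JJ 2 (cj x B) = JJ 2 B := by rw [← cj_JJ, cj_eq_self hx]
  by_cases c : Z₂ L₁ ≤ O₂ (cj x L₁)
  · by_cases c' : Z₂ L₁ ≤ O₂ (cj x L₂)
    · refine (r.k₁.not_Y ?_).elim
      rw [← cj_eq_self hY, cj_commutator, cj_Z, r'.eY']
      exact commutator_le.2 fun a ha b hb => r.bt.RR (r.bt.QT (r.ZQ' r'.k₁.toGd e c ha))
        (r.bt.QT (r.ZQ' r'.k₂.toGd e c' hb))
    obtain ⟨a, b⟩ := r.pu r'.k₂.toGd e c'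
    exact ⟨mem_normalizer_iff_cj.2 a, .inl ⟨(r'.symm.pu r.k₁.toGd e.symm (b.symm ▸ r.symm.nc)).2.symm, b⟩⟩
  obtain ⟨a, b⟩ := r.pu r'.k₁.toGd e c
  exact ⟨mem_normalizer_iff_cj.2 a, .inr ⟨b, (r'.pu r.k₁.toGd e.symm (b.symm ▸ r.symm.nc)).2.symm⟩⟩

theorem YC : 𝐂 (Ω₂ B) ≤ 𝐍 ⁅Z₂ L₁, B⁆ := (centralizer_anti r.k₁.YΩ).trans (centralizer_le_normalizer _)

theorem st₀ (k₀ : Gd B₀ L₀) (e : JJ 2 B₀ = JJ 2 B) (hx : x ∈ B₀) : x ∈ 𝐍 B ∧ (cj x L₁ = L₁ ∧ cj x L₂ = L₂ ∨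
    cj x L₁ = L₂ ∧ cj x L₂ = L₁) :=
  r.st (e ▸ le_normalizer_JJ 2 B₀ hx) (r.YC (r.k₁.ΩJ k₀ e ▸ le_centralizer_omegaOneCenter 2 B₀ hx))

theorem memB₀ (k₀ : Gd B₀ L₀) (e : JJ 2 B₀ = JJ 2 B) (hx : x ∈ B₀) (h : cj x L₁ = L₁) : x ∈ B :=
  r.k₁.memB ((r.k₁.gtJ k₀ e).BT hx) (mem_normalizer_iff_cj.2 h)
    (r.k₁.ΩJ k₀ e ▸ le_centralizer_omegaOneCenter 2 B₀ hx)

theorem two₀ (k₀ : Gd B₀ L₀) (e : JJ 2 B₀ = JJ 2 B) : Two B₀ B := fun a ha b hb a1 b1 => by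
  have h1 := (r.st₀ k₀ e ha).2.resolve_left fun c => a1 (r.memB₀ k₀ e ha c.1)
  have h2 := (r.st₀ k₀ e hb).2.resolve_left fun c => b1 (r.memB₀ k₀ e hb c.1)
  exact r.memB₀ k₀ e (mul_mem ha hb) (by rw [← cj_cj, h2.1, h1.2])

theorem both (hA : MaxAb 2 B A) (n : ¬ A ≤ Q) (h : Z₂ L₂ ≤ Q) : ∃ A, MaxAb 2 B A ∧ Z₂ L₁ ≤ A ∧ ¬ A ≤ Q := by
  rcases r.max_or hA with c | c
  · exact ⟨A, hA, c, n⟩
  refine ⟨_, r.k₁.max hA fun e => r.symm.nc (c.trans e), le_sup_right, fun e => n fun a ha => ?_⟩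
  obtain ⟨w, hw, q, hq, rfl⟩ := r.decB (hA.le ha)
  exact mul_mem (h (r.k₂.WZ hw)) (e (mem_sup_left ⟨(mul_mem_cancel_left (c (r.k₂.WZ hw))).1 ha, hq⟩))

section
variable (k₀ : Gd B₀ L₀) (j : JJ 2 B₀ = JJ 2 B) (h₁ : Z₂ L₁ ≤ O₂ L₀) (h₂ : Z₂ L₂ ≤ O₂ L₀)
include k₀ j h₁ h₂

theorem exA : ∃ A, MaxAb 2 B A ∧ Z₂ L₁ ≤ A ∧ ¬ A ≤ O₂ L₀ :=
  let ⟨A, a, n⟩ := k₀.off; r.both (maxJ j.symm a) n h₂

theorem idx (hl : l ∈ L₀) (o : B₀ ⊔ cj l B₀ = L₀) (hx : x ∈ B₀) (n : x ∉ O₂ L₀) (h : x ∈ N)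
    (h' : cj l (B₀ ⊓ B) ≤ N) : O² L₀ ≤ N :=
  k₀.idx2 (r.two₀ k₀ j) (j.le.trans (JJ_le 2 B)) hl o hx n h h'

theorem nU : O² L₀ ≤ 𝐍 (Z₂ L₁ ⊔ Z₂ L₀ : Subgroup X) := by
  obtain ⟨A, a, a1, n⟩ := r.exA k₀ j h₁ h₂
  have a₀ := maxJ j a
  obtain ⟨x, hx, n'⟩ := SetLike.not_le_iff_exists.1 n
  obtain ⟨l, hl, o⟩ := k₀.oppE
  have l0 := k₀.EL hl
  have m := k₀.max a₀ n
  have key : ∀ {L}, Gd B L → Z₂ L ≤ cj l⁻¹ (A ⊓ O₂ L₀ ⊔ Z₂ L₀) → O² L₀ ≤ 𝐍 (Z₂ L ⊔ Z₂ L₀ : Subgroup X) ∧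
      Z₂ L ≤ A ⊓ O₂ L₀ ⊔ Z₂ L₀ := fun {L} k h => by
    have h' := cj_le_iff.2 h
    have := r.idx k₀ j h₁ h₂ (N := 𝐍 (cj l (Z₂ L) ⊔ Z₂ L₀ : Subgroup X)) l0 o (a₀.le hx) n'
      (le_normalizer_sup_of_comm (a₀.le.trans (k₀.le.trans k₀.nZ)) ((commutator_mono h' le_rfl).trans
        (k₀.comm_max a₀)) hx) (le_normalizer_sup (cj_normalizer l _ ▸ cj_mono l (inf_le_right.trans (k.le.trans k.nZ)))
        ((cj_le_of_mem (inf_le_left.trans k₀.le) l0).trans k₀.nZ))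
    have e2 : cj l (Z₂ L) ⊔ Z₂ L₀ = Z₂ L ⊔ Z₂ L₀ := by
      rw [← cj_eq_self (inv_mem (this hl)), cj_sup, cj_inv_cj, cj_eq_self (inv_mem (k₀.nZ l0))]
    exact ⟨e2 ▸ this, le_sup_left.trans (e2.ge.trans (sup_le h' le_sup_right))⟩
  rcases r.max_or (maxJ j.symm (m.conj_of_le (g := l⁻¹) ((cj_le_of_mem_normalizer (sup_le inf_le_right k₀.ZQ)
    (k₀.nQ (inv_mem l0))).trans k₀.QB))) with c | c
  · exact (key r.k₁.toGd c).1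
  · exact (r.not_both m.comm (r.k₁.WZ.trans (le_sup_of_le_left (le_inf a1 h₁))) (r.k₂.WZ.trans (key r.k₂.toGd c).2)).elim

theorem YL : ⁅Z₂ L₁, B⁆ ≤ 𝐂 (O² L₀) := by
  set U := Z₂ L₁ ⊔ Z₂ L₀
  have UC : U ≤ 𝐂 (Z₂ L₁) := sup_le r.k₁.ZZ ((r.ZQ' k₀ j h₁).trans r.k₁.QC)
  have RB : O₂ L₀ ⊓ 𝐍 U ≤ B := fun x hx => r.memB₀ k₀ j (k₀.QB hx.1) (((r.st₀ k₀ j (k₀.QB hx.1)).2.resolve_right
    fun c => r.symm.nc (r.k₁.leQ r.k₂.ZB (le_trans (by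
      rw [← c.1, ← cj_Z]; exact cj_le_of_mem_normalizer le_sup_left hx.2) UC))).1)
  have e1 : ⁅U, O₂ L₀ ⊓ 𝐍 U⁆ = ⁅Z₂ L₁, B⁆ := le_antisymm (commutator_sup_le
    (le_normalizer_commutator_left _ _) ((k₀.ZB' j.symm).trans (le_normalizer_commutator_right _ _))
    (commutator_mono le_rfl RB) ((commutator_eq_bot_iff.2 (k₀.ZC.trans (centralizer_anti inf_le_left))).le.trans bot_le))
    (r.eY'.le.trans (commutator_mono le_sup_left (le_inf h₂ (le_normalizer_sup (r.k₂.ZB.trans (r.k₁.le.trans r.k₁.nZ))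
      (h₂.trans ((pCoreOf_le 2 L₀).trans k₀.nZ))))))
  have nU := r.nU k₀ j h₁ h₂
  have c : B₀ ≤ 𝐂 ⁅Z₂ L₁, B⁆ := (le_centralizer_omegaOneCenter 2 B₀).trans (centralizer_anti (r.k₁.ΩJ k₀ j ▸ r.k₁.YΩ))
  obtain ⟨x, hx, n⟩ := SetLike.not_le_iff_exists.1 (k₀.rk.ne k₀.syl)
  refine le_centralizer_comm.1 (k₀.res_le (le_normalizer_centralizer (k₀.EB.ge.trans (sup_le ?_
    (c.trans (centralizer_le_normalizer _))))) hx n (c hx))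
  exact e1 ▸ le_normalizer_commutator nU (le_normalizer_inf (k₀.EL.trans k₀.nQ) (le_normalizer_of_le nU))

theorem decW (hw : w ∈ Z₂ L₁) : ∃ y ∈ Ω₂ B₀, y⁻¹ * w ∈ 𝐂 (O² L₀) := by
  obtain ⟨A, a, -, n⟩ := r.exA k₀ j h₁ h₂
  obtain ⟨x, hx, n'⟩ := SetLike.not_le_iff_exists.1 n
  have xP : x ∈ B₀ ⊓ B := ⟨(maxJ j a).le hx, a.le hx⟩
  obtain ⟨l, hl, o⟩ := k₀.oppE
  have l0 := k₀.EL hl
  have eΩ := r.k₁.ΩJ k₀ j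
  have YL := r.YL k₀ j h₁ h₂
  have c1 : B₀ ⊓ B ≤ cmod (Z₂ L₁ ⊔ Z₂ L₀) (Z₂ L₀) := le_cmod (inf_le_left.trans (k₀.le.trans k₀.nZ))
    (commutator_sup_le (h₁.trans ((pCoreOf_le 2 L₀).trans k₀.nZ)) le_normalizer ((commutator_mono le_rfl
      inf_le_right).trans (r.k₁.YΩ.trans (eΩ ▸ k₀.ΩZ))) (commutator_le_of_le_normalizer
      (inf_le_left.trans (k₀.le.trans k₀.nZ))))
  have m : w⁻¹ * (l * w * l⁻¹) ∈ Z₂ L₀ := by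
    simpa [commutatorElement_def, mul_assoc] using (mem_cmod.1 (r.idx k₀ j h₁ h₂ l0 o xP.1 n' (c1 xP)
      (cj_le_of_mem_normalizer c1 (le_normalizer_cmod (r.nU k₀ j h₁ h₂) (k₀.EL.trans k₀.nZ) hl)) hl)).2 _
      (inv_mem (mem_sup_left hw))
  obtain ⟨a, ha, b, hb, e1⟩ := (mem_sup_of_le_normalizer (le_normalizer_of_le_centralizer ((k₀.ΩZ.trans k₀.ZZ).trans
    (centralizer_anti (k₀.conj' l0).ΩZ)))).1 (k₀.vx.Z_le_sup k₀.syl (k₀.conj' l0).syl o m)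
  have nY : L₀ ≤ 𝐍 ⁅Z₂ L₁, B⁆ := k₀.EB.ge.trans (sup_le (le_normalizer_of_le_centralizer (le_centralizer_comm.1 YL))
    ((eΩ ▸ le_centralizer_omegaOneCenter 2 B₀).trans r.YC))
  have wB := r.k₁.ZB' j hw
  have aB := mem_omegaOneCenter.1 ha
  have := r.idx k₀ j h₁ h₂ (N := fm (w * a) ⁅Z₂ L₁, B⁆) l0 o xP.1 n' (mem_fm.2 ⟨nY (k₀.le xP.1), by
    rw [comm_mul_left, mem_c_comm'.1 (cen_le_c xP.1 aB.2.1), mul_one, mul_inv_cancel, one_mul]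
    exact commutator_mem_commutator hw xP.2⟩) (by
    rintro _ ⟨y, hy, rfl⟩
    have y0 : l * y * l⁻¹ ∈ cj l B₀ := conj_mem_cj hy.1
    refine mem_fm.2 ⟨nY ((k₀.conj' l0).le y0), ?_⟩
    rw [show w * a = l * w * l⁻¹ * b⁻¹ by rw [eq_mul_inv_iff_mul_eq, mul_assoc, e1, mul_inv_cancel_left],
      comm_mul_left, MulEquiv.coe_toMonoidHom, MulAut.conj_apply,
      mem_c_comm'.1 (inv_mem (cen_le_c y0 (mem_omegaOneCenter.1 hb).2.1)), mul_one, mul_inv_cancel, one_mul,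
      ← conjugate_commutatorElement]
    exact conj_mem_of_mem_normalizer (nY l0) (commutator_mem_commutator hw hy.2))
  refine ⟨a⁻¹, inv_mem ha, ?_⟩
  rw [inv_inv, ← mem_centralizer'.1 aB.2.1 w wB]
  exact cen_res (r.k₁.pg.to_le (r.k₁.YΩ.trans (omegaOneCenter_le _ _))) YL (nY (k₀.le (mul_mem wB aB.1)))
    fun e he => (mem_fm.1 (this he)).2

theorem WC₁ : 𝐖ᵥ L₁ ≤ 𝐂 (O² L₀) := by
  obtain ⟨A, a, a1, n⟩ := r.exA k₀ j h₁ h₂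
  obtain ⟨x, hx, n'⟩ := SetLike.not_le_iff_exists.1 n
  exact phi k₀ r.k₁.toGd (fun y hy y1 => let ⟨d, S, a, b, c⟩ := (r.k₁.gtJ k₀ j).trΩ hy y1
    ⟨d, S, a.toHy, b, r.k₁.ΩJ k₀ j ▸ b, k₀.CE c⟩) (fun w hw => r.decW k₀ j h₁ h₂ (r.k₁.WZ hw)) (r.YL k₀ j h₁ h₂)
    ((maxJ j a).le hx) n' (centralizer_anti (r.k₁.WZ.trans a1) (a.comm hx))

theorem WC₀ : 𝐖ᵥ L₀ ≤ 𝐂 (O² L₁) := by
  obtain ⟨A, a, a1, n⟩ := r.exA k₀ j h₁ h₂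
  obtain ⟨x, hx, n'⟩ := SetLike.not_le_iff_exists.1 r.symm.nc
  have z := r.ZQ' k₀ j h₁
  refine phi r.k₁.toGd k₀ (fun y hy y1 => let ⟨d, S, a, b, c⟩ := r.k₁.trΩ hy y1
    ⟨d, S, a.toHy, b, (r.k₁.ΩJ k₀ j).symm ▸ b, r.k₁.CE c⟩) (fun w hw =>
    let ⟨y, a, b⟩ := r.cp' (z (k₀.WZ hw)) (r.symm.ZQ' k₀ j h₂ (k₀.WZ hw)); ⟨y, r.k₁.YΩ a, b⟩) ?_
    (r.k₂.ZB hx) n' (k₀.QW (h₂ hx))
  rw [k₀.comm_of_sup (k₀.sup (maxJ j a) n)]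
  exact commutator_le.2 fun u hu v hv => r.bt.RR (r.bt.QT (z hu)) (r.bt.QT (r.k₁.leQ a.le
    (a.comm.trans (centralizer_anti a1)) hv))

theorem one : O² L₀ ≤ 𝐂 (O² L₁) := by
  have k := r.k₁
  have z := r.ZQ' k₀ j h₁
  have c1 := r.WC₁ k₀ j h₁ h₂
  have c : ⁅𝐖ᵥ L₁ ⊔ Z₂ L₀, O² L₁⁆ ≤ 𝐖ᵥ L₁ := (commutator_mono ((sup_le (k.WZ.trans k.ZQ) z).trans r.bt.QT)
    le_rfl).trans r.bt.commT
  exact r.bt.fin (U := 𝐖ᵥ L₁ ⊔ Z₂ L₀) (A := 𝐖ᵥ L₂) (mem_sup_right (k.gtJ k₀ j).tZ) le_sup_left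
    (H29.le_normalizer_of_commutator_le (c.trans le_sup_left)) (le_normalizer_sup (le_normalizer_of_le_centralizer
      (le_centralizer_comm.1 c1)) (k₀.EL.trans k₀.nZ)) (c.trans c1) (commutator_sup_le (k.WZ.trans
      ((Z_le 2 L₁).trans k.nCE)) ((z.trans (pCoreOf_le 2 L₁)).trans k.nCE)
      ((commutator_eq_bot_iff.2 c1).le.trans bot_le) (r.WC₀ k₀ j h₁ h₂)) c1 (r.k₂.WZ.trans r.k₂.ZB)
    (r.k₂.le.trans r.k₂.nW) r.WQ (le_normalizer_sup ((r.k₂.WZ.trans r.k₂.ZB).trans (k.le.trans k.nW))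
      ((r.k₂.WZ.trans h₂).trans ((pCoreOf_le 2 L₀).trans k₀.nZ)))
    ((commutator_eq_bot_iff'.2 (r.symm.WC₁ k₀ j h₂ h₁)).le.trans bot_le)

end

end Pa

end H4.Bm
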