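import Cfsg.Agent.H4.Bm5

/-! Large blocks have the Thompson subgroup of the Sylow subgroup. -/

set_option autoImplicit false
set_option linter.unusedVariables false
set_option linter.unusedSectionVars false

namespace H4.Bm
open H9 hiding zj
open Matrix hiding mul_inv_rev
open Cfsg Subgroup H28 H28.GC MatrixGroups H29 H29.PU H29.BB Equiv
open scoped commutatorElement

universe u
variable {X : Type u} [Group X] [Finite X] {A A' B B' C D E E' H J K L L' L₀ L₁ L₂ B₀ M N P Q R S S' T T' U V W Y : Subgroup X}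
  {a b c d e f g l m n s t u v w x y z : X}

section
variable {F : Type} [Field F] [Finite F] (k : Bk F B E)
include k

theorem bk_sl (h : n ∈ 𝐍 E) : ∃ σ : RingAut F, ∀ c m, k.lb.act n (c • m) = σ c • k.lb.act n m :=
  let ⟨_, _, σ, e⟩ := k.lb.semi (nrmW le_rfl h) (nrmW' le_rfl h) h
  ⟨RingEquiv.ofBijective σ (Finite.injective_iff_bijective.1 σ.injective), e⟩

theorem bk_lin (h : n ∈ 𝐍 E) (h2 : n ∈ 𝐍 B) (hk : ∃ j, n ^ 2 ^ j = 1)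
    (e : ∀ (c : F) m, k.lb.act n (c • m) = c • k.lb.act n m) : ∃ b ∈ B, b⁻¹ * n ∈ 𝐂 (W₂ E) := by
  have := k.lin.char
  have h0 := nrmW (p := 2) le_rfl h
  have h1 := nrmW' (p := 2) le_rfl h
  obtain ⟨j, hj⟩ := hk
  obtain ⟨c, hc, ec⟩ := k.lb.onto ![1, 0]
  have e1 : k.lb.act n ![1, 0] 1 = 0 := by
    rw [← ec, k.lb.act_ψ h0 h1 hc]
    exact k.lb.snd_zero k.blk k.amb le_sup_left (conj_mem_of_mem_normalizer h0 hc) (conj_mem_of_mem_normalizer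
      (normalizer_le_normalizer_centralizer B h2) (omegaOneCenter_le_centralizer _ _
        (k.lb.fixB k.blk k.amb le_sup_left hc (by rw [ec]; rfl))))
  have e2 : ∀ m, k.lb.act n m = ![k.lb.act n ![1, 0] 0 * m 0 + k.lb.act n ![0, 1] 0 * m 1,
      k.lb.act n ![0, 1] 1 * m 1] := fun m => by
    conv_lhs => rw [decomp m, k.lb.act_add h0 h1, e, e]
    exact vext (by simp [mul_comm]) (by simp [e1, mul_comm])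
  generalize k.lb.act n ![1, 0] 0 = γ, k.lb.act n ![0, 1] 0 = δ, k.lb.act n ![0, 1] 1 = α at e2
  have e3 : ∀ i : ℕ, k.lb.act (n ^ i) ![1, 0] = ![γ ^ i, 0] ∧ k.lb.act (n ^ i) ![0, 1] 1 = α ^ i := fun i => by
    induction i with
    | zero => simp [k.lb.act_one]
    | succ i ih =>
      rw [pow_succ' n, k.lb.act_mul h0 h1 (pow_mem h0 i) (pow_mem h1 i), k.lb.act_mul h0 h1 (pow_mem h0 i) (pow_mem h1 i),
        ih.1, e2, e2]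
      simp [ih.2, pow_succ']
  have e4 := e3 (2 ^ j)
  rw [hj, k.lb.act_one, k.lb.act_one] at e4
  obtain rfl : γ = 1 := eq_one_of_pow (k := j) (by simpa using (congrFun e4.1 0).symm)
  obtain rfl : α = 1 := eq_one_of_pow (k := j) (by simpa using e4.2.symm)
  obtain ⟨b, hb, eb⟩ := k.lb.up2 k.blk k.amb le_sup_left δ
  have b0 := nrmW (p := 2) le_rfl (k.nrm hb)
  have b1 := nrmW' (p := 2) le_rfl (k.nrm hb)
  refine ⟨b, hb, k.blk.mem_cen (mul_mem (inv_mem (k.nrm hb)) h) ((k.lb.act_triv (mul_mem (inv_mem b0) h0)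
    (mul_mem (inv_mem b1) h1)).1 fun m => ?_)⟩
  rw [k.lb.act_mul (inv_mem b0) (inv_mem b1) h0 h1, show k.lb.act n m = k.lb.act b m by
    rw [e2, k.lb.act_gam (k.lb.L_le k.blk (mem_sup_right hb)), eb, smul_eq, x_mulVec]; simp,
    k.lb.act_inv b0 b1]

theorem bk_lin0 (h : n ∈ 𝐍 E) (h2 : n ∈ 𝐍 B) (hk : ∃ j, n ^ 2 ^ j = 1) (c : n ∈ 𝐂 (W₂ E ⊓ Ω₂ B : Subgroup X)) :
    ∃ b ∈ B, b⁻¹ * n ∈ 𝐂 (W₂ E) := by
  obtain ⟨σ, e⟩ := bk_sl k h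
  have : ∀ c : F, k.lb.act n (c • ![1, 0]) = c • ![1, 0] := fun a => by
    obtain ⟨w, hw, ec⟩ := k.lb.onto (a • ![1, 0])
    rw [← ec, k.lb.act_ψ (nrmW le_rfl h) (nrmW' le_rfl h) hw, ← mem_centralizer'.1 c w
      ⟨hw, k.lb.fixB k.blk k.amb le_sup_left hw (by rw [ec]; simp)⟩, mul_inv_cancel_right]
  refine bk_lin k h h2 hk fun a m => ?_
  have e1 := this a
  rw [e, show k.lb.act n ![1, 0] = ![1, 0] by simpa using this 1] at e1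
  rw [e, show σ a = a by simpa using congrFun e1 0]

theorem bk_lin2 (ha : a ∈ 𝐍 E ⊓ 𝐍 B) (hb : b ∈ 𝐍 E ⊓ 𝐍 B) (a2 : a * a = 1) (b2 : b * b = 1) (h : a * b * (a * b) = 1)
    (a1 : ¬ ∃ x ∈ B, x⁻¹ * a ∈ 𝐂 (W₂ E)) (b1 : ¬ ∃ x ∈ B, x⁻¹ * b ∈ 𝐂 (W₂ E)) :
    ∃ x ∈ B, x⁻¹ * (a * b) ∈ 𝐂 (W₂ E) := by
  have m : ∀ {a b : X} {σ τ : RingAut F}, a ∈ 𝐍 E → b ∈ 𝐍 E → (∀ c m, k.lb.act a (c • m) = σ c • k.lb.act a m) →
      (∀ c m, k.lb.act b (c • m) = τ c • k.lb.act b m) → ∀ c m, k.lb.act (a * b) (c • m) =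
        (σ * τ) c • k.lb.act (a * b) m := fun ha hb e e' c m => by
    simp only [k.lb.act_mul (nrmW le_rfl ha) (nrmW' le_rfl ha) (nrmW le_rfl hb) (nrmW' le_rfl hb), e, e']; rfl
  have s : ∀ {a : X} {σ : RingAut F}, a ∈ 𝐍 E → a * a = 1 → (∀ c m, k.lb.act a (c • m) = σ c • k.lb.act a m) →
      σ * σ = 1 := fun ha a2 e => RingEquiv.ext fun c => by
    have := congrFun (m ha ha e e c ![1, 0]) 0
    rw [a2, k.lb.act_one, k.lb.act_one] at this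
    simpa using this.symm
  obtain ⟨σ, e⟩ := bk_sl k ha.1
  obtain ⟨τ, e'⟩ := bk_sl k hb.1
  obtain rfl := inv_eq_of_cyclic (s ha.1 a2 e) (s hb.1 b2 e') (fun c => a1 (bk_lin k ha.1 ha.2 (p2 a2) (by simpa [c] using e)))
    fun c => b1 (bk_lin k hb.1 hb.2 (p2 b2) (by simpa [c] using e'))
  exact bk_lin k (mul_mem ha.1 hb.1) (mul_mem ha.2 hb.2) (p2 h) (by simpa [s ha.1 a2 e] using m ha.1 hb.1 e e')

end

theorem Bt.bk (k : Bt t T B L) : ∃ (F : Type) (_ : Field F) (_ : Finite F), Bk F B (O² L) ∧ W₂ (O² L) = 𝐖ᵥ L :=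
  let ⟨F, _, _, a, b⟩ := k.p1.blk k.vx k.syl
  have c : Bk F B (O² L) := ⟨a, b, k.EB.symm ▸ k.am, k.EB.symm ▸ k.p1⟩
  ⟨F, _, ‹_›, c, c.QE.symm.trans (k.p1.QE k.vx k.syl)⟩

theorem Bt.lin0 (k : Bt t T B L) (h1 : n ∈ T) (h2 : n ∈ 𝐍 L) (c : n ∈ 𝐂 ⁅Z₂ L, B⁆) : ∃ b ∈ B, b⁻¹ * n ∈ 𝐂 (𝐖ᵥ L) := by
  obtain ⟨F, _, _, a, e⟩ := k.bk
  exact e ▸ bk_lin0 a (k.nE' h2) (k.nrmB h1 h2) (p2' k.ho.pg h1) (centralizer_anti (fun w (hw : w ∈ W₂ (O² L) ⊓ Ω₂ B) => k.WΩ (e ▸ hw.1) hw.2) c)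

theorem Bt.lin2 (k : Bt t T B L) (hA : IsElementaryAbelian 2 A) (h : A ≤ T ⊓ 𝐍 L) : Two A (B ⊔ T ⊓ 𝐂 (𝐖ᵥ L)) := by
  obtain ⟨F, _, _, a, e⟩ := k.bk
  have n : ∀ u ∈ A, u ∈ 𝐍 (O² L) ⊓ 𝐍 B := fun u hu => ⟨k.nE' (h hu).2, k.nrmB (h hu).1 (h hu).2⟩
  have m : ∀ u ∈ A, (∃ x ∈ B, x⁻¹ * u ∈ 𝐂 (W₂ (O² L))) → u ∈ B ⊔ T ⊓ 𝐂 (𝐖ᵥ L) := fun u hu ⟨x, hx, c⟩ => by
    simpa using mul_mem (mem_sup_left hx) (mem_sup_right (mem_inf.2 ⟨mul_mem (inv_mem (k.BT hx)) (h hu).1, e ▸ c⟩))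
  exact fun u hu v hv u1 v1 => m _ (mul_mem hu hv) (bk_lin2 a (n u hu) (n v hv) (sq_of_ea hA hu) (sq_of_ea hA hv)
    (sq_of_ea hA (mul_mem hu hv)) (mt (m u hu) u1) (mt (m v hv) v1))

theorem three_of (h : ¬ Two H K) : 3 ≤ K.relIndex H := by
  simp only [Two, not_forall] at h
  obtain ⟨a, ha, b, hb, a1, b1, c⟩ := h
  exact three_le (inv_mem ha) hb (mt inv_mem_iff.1 a1) b1 (by rwa [inv_inv])

theorem off_idx (hA : MaxAb 2 S A) (h : V ≤ S) (hV : IsElementaryAbelian 2 V) : A.relIndex V ≤ (𝐂 V).relIndex A := by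
  have h1 := hA.card_mul_le (B := 𝐂 V ⊓ A) h (abE_iff_ea.2 hV) inf_le_right
  rw [inf_of_le_left (le_centralizer_comm.1 inf_le_left), ← card_idx (𝐂 V) A, ← card_idx A V, mul_comm, mul_assoc,
    mul_assoc, mul_comm (# ↥(A ⊓ V))] at h1
  exact Nat.le_of_mul_le_mul_right (h1.trans (Nat.mul_le_mul_left _ (Nat.mul_le_mul_left _ (card_le_of_le'
    (le_inf (inf_le_right.trans inf_le_right) inf_le_left))))) (Nat.mul_pos Nat.card_pos Nat.card_pos)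

theorem Gd.idx (k : Gd B L) : (O₂ L).relIndex B ≤ (Ω₂ B).relIndex (𝐖ᵥ L) ∧
    (O₂ L).relIndex B ≤ (𝐂 (O² L)).relIndex ⁅Z₂ L, B⁆ := by
  obtain ⟨q, a, b, c⟩ := k.vx.card k.syl
  rw [← card_idx (O₂ L) B, inf_of_le_left k.QB, Nat.mul_left_inj Nat.card_pos.ne'] at a
  rw [← card_idx (Ω₂ B) (Z₂ L), inf_of_le_left k.ΩZ, Nat.mul_left_inj Nat.card_pos.ne'] at b
  rw [← card_idx (𝐂 (O² L)) (Ω₂ B), show 𝐂 (O² L) ⊓ Ω₂ B = Z₂ L ⊓ 𝐂 L from le_antisymm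
    (fun x hx => ⟨k.ΩZ hx.2, k.cenE (k.ΩZ hx.2) hx.1⟩) fun x hx => ⟨k.CE hx.2, k.CΩ hx.1 hx.2⟩,
    Nat.mul_left_inj Nat.card_pos.ne'] at c
  have n : ∀ {U}, L ≤ 𝐍 U → Z₂ L ⊓ 𝐂 L ≤ 𝐍 U := fun h => inf_le_left.trans ((Z_le 2 L).trans h)
  exact ⟨a ▸ b ▸ (idx_mono (k.vx.Z_le.trans (sup_comm _ _).le)).trans (relIndex_sup_le (k.vx.C_le_Ω k.syl) (n k.nW)),
    a ▸ c ▸ (idx_mono ((k.vx.Ω_le k.syl).trans (sup_comm _ _).le)).trans (relIndex_sup_le (inf_le_right.trans k.CE)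
      (inf_le_left.trans (le_normalizer_commutator_left _ _)))⟩

theorem Gd.idx2' (k : Gd B L) : (O₂ L).relIndex B * (O₂ L).relIndex B ≤ (𝐂 (O² L)).relIndex (𝐖ᵥ L) :=
  (Nat.mul_le_mul k.idx.1 k.idx.2).trans (idx_mul (fun x hx => k.CΩ (k.WZ hx.2) (k.cenE (k.WZ hx.2) hx.1))
    (le_inf k.YΩ k.YW))

namespace Pa
variable (r : Pa t T B L₁ L₂)
include r

theorem q_eq : (O₂ L₁).relIndex B = (O₂ L₂).relIndex B := by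
  have a := card_idx (O₂ L₁) B
  rw [← card_idx (O₂ L₂) B, inf_of_le_left r.k₁.QB, inf_of_le_left r.k₂.QB,
    Nat.eq_of_mul_eq_mul_left Nat.card_pos r.cr.card] at a
  exact Nat.eq_of_mul_eq_mul_right Nat.card_pos a

theorem lin3 (h1 : a ∈ T) (h2 : a ∈ 𝐍 L₂) (a2 : a * a = 1) (h : a ∈ B ⊔ T ⊓ 𝐂 (𝐖ᵥ L₁)) :
    a ∈ 𝐂 (𝐖ᵥ L₁) ∨ a ∈ 𝐂 (𝐖ᵥ L₂) := by
  obtain ⟨b, hb, c, hc, rfl⟩ := (mem_sup_of_le_normalizer (le_normalizer_inf (le_normalizer_of_le r.k₁.BT)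
    (le_normalizer_centralizer (r.k₁.le.trans r.k₁.nW)))).1 h
  obtain ⟨w, hw, q, hq, rfl⟩ := r.decB hb
  have c' := mul_mem (r.bt.QT hq) hc
  rw [mul_assoc w q c] at h2 a2 ⊢
  obtain ⟨b, hb, e⟩ := r.symm.bt.lin0 c'.1 ((mul_mem_cancel_left (le_normalizer (r.k₂.le (r.k₂.ZB (r.k₂.WZ hw))))).1 h2)
    (centralizer_anti (r.eY ▸ r.k₁.YW) c'.2)
  obtain ⟨u, hu, v, hv, rfl⟩ := r.symm.decB hb
  rw [← mul_inv_cancel_left u (q * c)] at a2 ⊢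
  exact r.inv3 hw hu (mul_mem (inv_mem (r.bt.QT (r.k₁.ZQ (r.k₁.WZ hu)))) c')
    (by simpa [mul_assoc] using mul_mem (r.k₂.QW hv) e) a2

theorem nY (h1 : cj x B = B) (h2 : cj x L₁ = L₁ ∨ cj x L₁ = L₂) : x ∈ 𝐍 ⁅Z₂ L₁, B⁆ := by
  rw [mem_normalizer_iff_cj, cj_commutator, cj_Z, h1]
  rcases h2 with e | e <;> rw [e]
  exact r.eY.symm

theorem far (hx : x ∈ 𝐍 (JJ 2 B)) (n : x ∉ 𝐍 ⁅Z₂ L₁, B⁆) : cj x (O² L₁) ≤ 𝐂 (O² L₁) := by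
  have k := (r.conj x).k₁.toGd
  have e : JJ 2 (cj x B) = JJ 2 B := by rw [← cj_JJ, cj_eq_self hx]
  exact cj_pResidualOf x L₁ ▸ r.one k e (by_contra fun c => n (r.nY (r.pu k e c).1 (.inr (r.pu k e c).2)))
    (by_contra fun c => n (r.nY (r.symm.pu k e c).1 (.inl (r.symm.pu k e c).2)))

theorem n₂ (hx : x ∈ 𝐍 (JJ 2 B)) (h : x ∈ 𝐍 L₁) : x ∈ 𝐍 B ∧ x ∈ 𝐍 L₂ :=
  have := r.pu (r.conj x).k₂.toGd (by rw [← cj_JJ, cj_eq_self hx]) (by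
    simpa only [cj_eq_self h] using (r.conj x).nc)
  ⟨mem_normalizer_iff_cj.2 this.1, mem_normalizer_iff_cj.2 this.2⟩

theorem twoY (h : A ≤ 𝐍 (JJ 2 B)) (q : ⁅⁅Ω₂ B, A⁆, A⁆ = ⊥) : Two A (𝐍 ⁅Z₂ L₁, B⁆) := fun a ha b hb a1 b1 =>
  by_contra fun c => r.k₁.not_Y fun y hy => by
    have m : ∀ x ∈ A, x ∉ 𝐍 ⁅Z₂ L₁, B⁆ → x * y * x⁻¹ ∈ 𝐂 (O² L₁) := fun x hx n =>
      r.far (h hx) n (conj_mem_cj (r.k₁.WE (r.k₁.YW hy)))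
    have e := mem_centralizer'.1 (commutator_eq_bot_iff.1 q (commutator_mem_commutator (r.k₁.YΩ hy) hb)) a ha
    have := mul_mem (mul_mem (m a ha a1) (inv_mem (m _ (mul_mem ha hb) c))) (m b hb b1)
    rwa [show a * y * a⁻¹ * (a * b * y * (a * b)⁻¹)⁻¹ = a * ⁅y, b⁆ * a⁻¹ by rw [commutatorElement_def]; group, e,
      commutatorElement_def, show y * b * y⁻¹ * b⁻¹ * a * a⁻¹ * (b * y * b⁻¹) = y by group] at this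

theorem twoL (h : A ≤ 𝐍 (JJ 2 B)) : Two (𝐍 ⁅Z₂ L₁, B⁆ ⊓ A) (𝐍 L₁) := fun a ha b hb a1 b1 => by
  have h1 := (r.st (h ha.2) ha.1).2.resolve_left fun c => a1 (mem_normalizer_iff_cj.2 c.1)
  have h2 := (r.st (h hb.2) hb.1).2.resolve_left fun c => b1 (mem_normalizer_iff_cj.2 c.1)
  rw [mem_normalizer_iff_cj, ← cj_cj, h2.1, h1.2]

theorem cnt (q : 3 ≤ (O₂ L₁).relIndex B) (hA : MaxAb 2 (T ⊓ 𝐍 (JJ 2 B)) A) (h0 : ⁅⁅Ω₂ B, A⁆, A⁆ = ⊥)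
    (h1 : Two (𝐍 L₁ ⊓ A) (𝐂 (𝐖ᵥ L₁))) (h2 : 𝐍 L₁ ⊓ A ≤ 𝐂 ⁅Z₂ L₁, B⁆ → 𝐍 L₁ ⊓ A ≤ 𝐂 (𝐖ᵥ L₁)) : A ≤ 𝐍 L₁ := by
  have k := r.k₁
  have AJ := hA.le.trans inf_le_right
  have o := (off_idx hA ((k.WZ.trans k.ZB).trans (le_inf k.BT (le_normalizer_JJ 2 B))) (ea_of_le k.ea k.WZ)).trans
    (BB.relIndex_le_mul _ (𝐍 L₁) A)
  have i1 := two_idx h1
  have i2 := two_idx (r.twoL AJ)
  have cA : ∀ a ∈ A, A ⊓ 𝐖ᵥ L₁ ≤ cj a (𝐖ᵥ L₁) := fun a ha w hw =>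
    conj_eq_of_cen ha (hA.comm hw.1) ▸ conj_mem_cj hw.2
  by_cases c : A ≤ 𝐍 ⁅Z₂ L₁, B⁆
  swap
  · obtain ⟨a, ha, n⟩ := SetLike.not_le_iff_exists.1 c
    have := (k.idx2'.trans (idx_le_of ((cA a ha).trans ((cj_mono a k.WE).trans (r.far (AJ ha) n))))).trans (o.trans
      (Nat.mul_le_mul i1 ((BB.relIndex_le_mul _ _ A).trans (Nat.mul_le_mul i2 (two_idx (r.twoY AJ h0))))))
    nlinarith
  by_contra n
  obtain ⟨a, ha, n⟩ := SetLike.not_le_iff_exists.1 n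
  have e := ((r.st (AJ ha) (c ha)).2.resolve_left fun c => n (mem_normalizer_iff_cj.2 c.1)).1
  have l : A ⊓ 𝐖ᵥ L₁ ≤ Ω₂ B := fun w hw => r.memΩ (k.WZ hw.2) (r.k₂.ZQ (by
    rw [← e, ← cj_Z]; exact cj_mono a k.WZ (cA a ha hw)))
  rw [inf_of_le_right c] at i2
  have i3 := q.trans k.idx.1
  by_cases c' : ⁅Z₂ L₁, B⁆ ≤ A
  · rw [relIndex_eq_one.2 (h2 (inf_le_right.trans (hA.comm.trans (centralizer_anti c'))))] at o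
    have := idx_le_of l
    omega
  · have := (Nat.mul_le_mul i3 (two_le c')).trans ((idx_mul l (le_inf k.YΩ k.YW)).trans (o.trans (Nat.mul_le_mul i1 i2)))
    omega

theorem JT (q : ¬ Two B (O₂ L₁)) : JJ 2 T = JJ 2 B := by
  have k := r.k₁
  set S := T ⊓ 𝐍 (JJ 2 B)
  have BS : B ≤ S := le_inf k.BT (le_normalizer_JJ 2 B)
  suffices h : JJ 2 S ≤ JJ 2 B by
    have e := JJ_eq_of_le (h.trans (JJ_le 2 B)) BS
    have e' : S = T := eq_of_inf_normalizer_le r.ho.pg inf_le_left (inf_le_inf_left _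
      ((normalizer_le_normalizer_JJ 2 S).trans_eq (congrArg (fun H : Subgroup X => 𝐍 H) e.symm)))
    exact e' ▸ e.symm
  by_contra c
  obtain ⟨A, hA, n, h0⟩ : ∃ A, MaxAb 2 S A ∧ ¬ A ≤ JJ 2 B ∧ ⁅⁅Ω₂ B, A⁆, A⁆ = ⊥ := by
    obtain ⟨A, hA, n⟩ : ∃ A, MaxAb 2 S A ∧ ¬ A ≤ JJ 2 B := by simpa only [JJ_le_iff, not_forall, exists_prop] using c
    by_cases e : ⁅Ω₂ B, A⁆ = ⊥
    · exact ⟨A, hA, n, by rw [e, commutator_bot_left]⟩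
    obtain ⟨A, a1, -, a2, a3⟩ := hA.exists_quadratic ((omegaOneCenter_le 2 B).trans BS) (ea_omegaOneCenter 2 B)
      (hA.le.trans (inf_le_right.trans (k.zj_eq ▸ normalizer_le_normalizer_omegaOneCenter 2 _))) e
    exact ⟨A, a1, fun l => a2 (commutator_eq_bot_iff'.2 (l.trans ((JJ_le 2 B).trans
      (le_centralizer_omegaOneCenter 2 B)))), a3⟩
  have AT := hA.le.trans inf_le_left
  have AJ := hA.le.trans inf_le_right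
  have nn : ∀ {L}, Gt t T B L → ¬ A ≤ 𝐍 L := fun {L} k l => n (k.JN (R := S ⊓ 𝐍 L) (le_inf BS
    (k.le.trans le_normalizer)) (inf_le_left.trans inf_le_left) inf_le_right ▸
    (hA.mono (le_inf hA.le l) inf_le_left).le_JJ)
  have e : 𝐍 L₂ ⊓ A = 𝐍 L₁ ⊓ A := le_antisymm (fun x hx => ⟨(r.symm.n₂ (AJ hx.2) hx.1).2, hx.2⟩)
    fun x hx => ⟨(r.n₂ (AJ hx.2) hx.1).2, hx.2⟩
  have tw := r.bt.lin2 (ea_of_le hA.ea (inf_le_right : 𝐍 L₁ ⊓ A ≤ A)) (le_inf (inf_le_right.trans AT) inf_le_left)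
  have l0 : 𝐍 L₁ ⊓ A ≤ 𝐂 ⁅Z₂ L₁, B⁆ → 𝐍 L₁ ⊓ A ≤ 𝐍 L₁ ⊓ A ⊓ (B ⊔ T ⊓ 𝐂 (𝐖ᵥ L₁)) := fun h x hx => by
    obtain ⟨b, hb, c⟩ := r.bt.lin0 (AT hx.2) hx.1 (h hx)
    exact ⟨hx, by simpa using mul_mem (mem_sup_left hb) (mem_sup_right
      (mem_inf.2 ⟨mul_mem (inv_mem (k.BT hb)) (AT hx.2), c⟩))⟩
  have q := three_of q
  rcases le_of_two (H := 𝐍 L₁ ⊓ A ⊓ (B ⊔ T ⊓ 𝐂 (𝐖ᵥ L₁))) fun x hx => r.lin3 (AT hx.1.2) (e.ge hx.1).1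
    (sq_of_ea hA.ea hx.1.2) hx.2 with l | l
  · exact nn k (r.cnt q hA h0 (fun a ha b hb a1 b1 => l ⟨mul_mem ha hb, tw a ha b hb (fun c => a1 (l ⟨ha, c⟩))
      fun c => b1 (l ⟨hb, c⟩)⟩) fun h => (l0 h).trans l)
  · exact nn r.k₂ (r.symm.cnt (r.q_eq ▸ q) hA h0 (e ▸ fun a ha b hb a1 b1 => l ⟨mul_mem ha hb, tw a ha b hb
      (fun c => a1 (l ⟨ha, c⟩)) fun c => b1 (l ⟨hb, c⟩)⟩) (by rw [e, ← r.eY]; exact fun h => (l0 h).trans l))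

end Pa

end H4.Bm
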