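import Cfsg.Agent.H4.Bm6

/-! Small blocks: four-groups. -/

set_option autoImplicit false
set_option linter.unusedVariables false
set_option linter.unusedSectionVars false

namespace H4.Bm
open H9 hiding zj
open Matrix hiding mul_inv_rev
open Cfsg Subgroup H28 H28.GC MatrixGroups H29 H29.PU H29.BB Equiv
open scoped commutatorElement

universe u
variable {X : Type u} [Group X] [Finite X] {A A' B B' C D E E' H J K L L' L₀ L₁ L₂ B₀ M N P Q R S S' T T' U V W Y : Subgroup X}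
  {a b c d e f g l m n s t u v w x y z : X}

theorem mem_z2 (h : z * z = 1) : x ∈ zpowers z ↔ x = 1 ∨ x = z :=
  ⟨fun ⟨i, e⟩ => by
    obtain ⟨j, rfl | rfl⟩ := Int.even_or_odd' i <;> simp [← e, _root_.zpow_add, _root_.zpow_mul, show z ^ (2 : ℤ) = 1 by rw [zpow_two, h]],
    fun e => e.elim (· ▸ one_mem _) (· ▸ mem_zpowers _)⟩

theorem sq_or (h : ∃ k, l ^ 2 ^ k = 1) (hx : x ∈ zpowers l) : l ∈ zpowers x ∨ x ∈ zpowers (l * l) := by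
  obtain ⟨k, h⟩ := h
  obtain ⟨i, rfl⟩ := mem_powers_iff_mem_zpowers.2 hx
  rcases Nat.even_or_odd' i with ⟨j, rfl | rfl⟩
  · exact .inr ⟨j, by simp [pow_mul, sq]⟩
  · exact .inl (mem_zpowers_pow_iff.2 (Nat.Coprime.coprime_dvd_right (orderOf_dvd_of_pow_eq_one h)
      (Nat.Coprime.pow_right _ (by simp))))

theorem chain (h : ∃ k, l ^ 2 ^ k = 1) (hx : x ∈ zpowers l) (hy : y ∈ zpowers l) : x ∈ zpowers y ∨ y ∈ zpowers x := by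
  obtain ⟨k, h⟩ := h
  induction k generalizing l with
  | zero => rw [pow_zero, pow_one] at h; subst h; simp_all
  | succ k ih =>
    rcases sq_or ⟨_, h⟩ hx with a | a
    · exact .inr (zpowers_le.2 a hy)
    rcases sq_or ⟨_, h⟩ hy with b | b
    · exact .inl (zpowers_le.2 b hx)
    exact ih a b (by rw [← sq, ← pow_mul, ← pow_succ', h])

theorem two_of (h : K.relIndex H ≤ 2) : Two H K := by_contra fun c => by have := three_of c; omega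

theorem zp_c (hx : x ∈ zpowers l) (hy : y ∈ zpowers l) : x * y = y * x :=
  mem_centralizer'.1 (le_centralizer_self_iff.2 inferInstance hy) x hx

theorem nz_iff (h : z * z = 1) (h1 : z ≠ 1) : n ∈ 𝐍 (zpowers z) ↔ n ∈ 𝐜 z :=
  ⟨fun e => mem_c''.2 (((mem_z2 h).1 (conj_mem_of_mem_normalizer e (mem_zpowers z))).resolve_left (conj_ne h1)),
    fun e => centralizer_le_normalizer _ (centralizer_zpowers z ▸ e)⟩

/-- small pairs -/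
structure P2 (t : X) (T B L₁ L₂ : Subgroup X) (z : X) : Prop extends Pa t T B L₁ L₂ where
  two : Two B (O₂ L₁)
  zY : z ∈ ⁅Z₂ L₁, B⁆
  z1 : z ≠ 1

namespace P2
variable (r : P2 t T B L₁ L₂ z)
include r

theorem symm' : P2 t T B L₂ L₁ z := ⟨r.symm, two_of (r.q_eq ▸ two_idx r.two), r.eY ▸ r.zY, r.z1⟩
theorem conj' (g : X) : P2 (g * t * g⁻¹) (cj g T) (cj g B) (cj g L₁) (cj g L₂) (g * z * g⁻¹) :=
  ⟨r.conj g, cj_pCoreOf g L₁ ▸ r.two.conj g, by rw [← cj_Z, ← cj_commutator]; exact conj_mem_cj r.zY, conj_ne r.z1⟩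
theorem zΩ : z ∈ Ω₂ B := r.k₁.YΩ r.zY
theorem zW : z ∈ 𝐖ᵥ L₁ := r.k₁.YW r.zY
theorem zz : z * z = 1 := sq_of_ea (ea_omegaOneCenter 2 B) r.zΩ
theorem twoZ : Two (Z₂ L₁) (Ω₂ B) := (r.k₁.vx.two r.k₁.syl r.two).2.1
theorem twoΩ : Two (Ω₂ B) (𝐂 L₁) := (r.k₁.vx.two r.k₁.syl r.two).1

theorem eYz : ⁅Z₂ L₁, B⁆ = zpowers z := by
  have k := r.k₁
  obtain ⟨u, hu, u1⟩ := SetLike.not_le_iff_exists.1 (k.vx.not_Z_le_Ω k.syl)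
  obtain ⟨b, hb, b1⟩ := SetLike.not_le_iff_exists.1 (k.rk.ne k.syl)
  have l : ⁅Z₂ L₁, B⁆ ≤ zpowers ⁅u, b⁆ := commutator_le.2 fun x hx y hy => by
    by_cases c : x ∈ Ω₂ B
    · rw [mem_c_comm'.1 (cen_le_c hy (mem_omegaOneCenter.1 c).2.1)]; exact one_mem _
    by_cases c' : y ∈ O₂ L₁
    · rw [mem_cen_iff.1 (k.QC c') x hx]; exact one_mem _
    have h1 := r.twoZ x hx _ (inv_mem hu) c (mt inv_mem_iff.1 u1)
    have h2 := r.two _ (inv_mem hb) y hy (mt inv_mem_iff.1 b1) c'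
    rw [← inv_mul_cancel_right x u, comm_mul_left, mem_c_comm'.1 (cen_le_c hy (mem_omegaOneCenter.1 h1).2.1), mul_one,
      ← mul_inv_cancel_left b y, comm_mul_right, mem_cen_iff.1 (k.QC h2) u hu, mul_one, mul_inv_cancel, mul_one,
      conj_eq_of_cen (omegaOneCenter_le _ _ h1) (omegaOneCenter_le_centralizer _ _
        (k.YΩ (commutator_mem_commutator hu hb)))]
    exact mem_zpowers _
  rw [← ((mem_z2 (sq_of_ea (ea_omegaOneCenter 2 B) (k.YΩ (commutator_mem_commutator hu hb)))).1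
    (l r.zY)).resolve_left r.z1] at l
  exact le_antisymm l (zpowers_le.2 r.zY)

theorem zC : z ∉ 𝐂 (O² L₁) := fun c => r.k₁.not_Y (r.eYz ▸ zpowers_le.2 c)
theorem WΩ' (h : w ∈ 𝐖ᵥ L₁) : w ∈ Ω₂ B ↔ w ∈ zpowers z := ⟨fun e => r.eYz ▸ r.k₁.WΩ h e, fun e => zpowers_le.2 r.zΩ e⟩
theorem memW (hv : v ∈ 𝐖ᵥ L₁) (n : v ∉ zpowers z) (h : w ∈ 𝐖ᵥ L₁) (m : w ∉ zpowers z) : v * w ∈ zpowers z :=
  (r.WΩ' (mul_mem hv h)).1 (r.twoZ v (r.k₁.WZ hv) w (r.k₁.WZ h) (mt (r.WΩ' hv).1 n) (mt (r.WΩ' h).1 m))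
theorem exW : ∃ v ∈ 𝐖ᵥ L₁, v ∉ zpowers z := SetLike.not_le_iff_exists.1 fun e =>
  r.symm.WQ (e.trans (zpowers_le.2 (r.symm.ΩQ r.zΩ)))

section
variable (hv : v ∈ 𝐖ᵥ L₁) (n1 : v ∉ zpowers z)
include hv n1

theorem Wle (h1 : v ∈ H) (h2 : z ∈ H) : 𝐖ᵥ L₁ ≤ H := fun w hw => by
  by_cases c : w ∈ zpowers z
  · exact zpowers_le.2 h2 c
  · exact (mul_mem_cancel_left h1).1 (zpowers_le.2 h2 (r.memW hv n1 hw c))

theorem eC : 𝐂 (𝐖ᵥ L₁) = 𝐜 v ⊓ 𝐜 z := le_antisymm (le_inf (cen_le_c hv) (cen_le_c r.zW)) fun x hx =>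
  le_c_iff.1 (r.Wle hv n1 (mem_c_symm.1 hx.1) (mem_c_symm.1 hx.2))

theorem nL (h : n ∈ T) : n ∈ 𝐍 L₁ ↔ n ∈ fm v (zpowers z) := by
  have v2 := sq_of_ea r.k₁.ea (r.k₁.WZ hv)
  have e : ⁅v, n⁆ = v * (n * v * n⁻¹) := by
    rw [commutatorElement_def, inv_eq_of_mul_eq_one_right v2]; simp only [mul_assoc]
  refine ⟨fun a => ?_, fun a => r.k₁.nrmW' h (mem_normalizer_of_cj_le ?_)⟩
  · have b : n ∈ 𝐍 (zpowers z) := r.eYz ▸ r.nY (cj_eq_self (r.k₁.nrmB h a)) (.inl (cj_eq_self a))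
    exact mem_fm.2 ⟨b, e ▸ r.memW hv n1 (conj_mem_of_mem_normalizer (le_normalizer_commutator
      (normalizer_le_normalizer_Z 2 L₁) (normalizer_le_normalizer_pResidualOf 2 L₁) a) hv)
      fun c => n1 ((mem_normalizer_iff.1 b v).2 c)⟩
  · obtain ⟨a, b⟩ := mem_fm.1 a
    refine cj_le_iff.2 (r.Wle hv n1 ?_ ?_) <;> rw [mem_cj, inv_inv]
    · exact (mul_mem_cancel_left hv).1 (zpowers_le.2 r.zW (e ▸ b))
    · exact zpowers_le.2 r.zW (conj_mem_of_mem_normalizer a (mem_zpowers z))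

end

end P2

/-- involutions in small blocks -/
def DG (t : X) (T : Subgroup X) (z v : X) : Prop := ∃ B L₁ L₂, P2 t T B L₁ L₂ z ∧ v ∈ 𝐖ᵥ L₁ ∧ v ∉ zpowers z

namespace DG
variable (k : DG t T z v)
include k

theorem ho : Ho t T := let ⟨_, _, _, r, _⟩ := k; r.ho
theorem zz : z * z = 1 := let ⟨_, _, _, r, _⟩ := k; r.zz
theorem z1 : z ≠ 1 := let ⟨_, _, _, r, _⟩ := k; r.z1
theorem nz : v ∉ zpowers z := let ⟨_, _, _, _, _, h⟩ := k; h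
theorem vv : v * v = 1 := let ⟨_, _, _, r, h, _⟩ := k; sq_of_ea r.k₁.ea (r.k₁.WZ h)
theorem vi : v⁻¹ = v := inv_eq_of_mul_eq_one_right k.vv
theorem vT : v ∈ T := let ⟨_, _, _, r, h, _⟩ := k; r.k₁.BT (r.k₁.ZB (r.k₁.WZ h))
theorem zT : z ∈ T := let ⟨_, _, _, r, _⟩ := k; r.k₁.BT (omegaOneCenter_le _ _ r.zΩ)
theorem vz : v ∈ 𝐜 z := let ⟨_, _, _, r, h, _⟩ := k; cen_le_c r.zW (r.k₁.QW (r.k₁.ZQ (r.k₁.WZ h)))
theorem conj (g : X) : DG (g * t * g⁻¹) (cj g T) (g * z * g⁻¹) (g * v * g⁻¹) :=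
  let ⟨_, _, _, r, h, n⟩ := k
  ⟨_, _, _, r.conj' g, by rw [← cj_Z, ← cj_pResidualOf, ← cj_commutator]; exact conj_mem_cj h,
    by rw [← cj_zpowers, conj_mem_cj_iff]; exact n⟩
theorem conjT (h : g ∈ T) : DG t T (g * z * g⁻¹) (g * v * g⁻¹) := by
  simpa only [cj_eq_self_of_mem h, mem_c''.1 (k.ho.le h)] using k.conj g
theorem conjz (h : g ∈ T) (c : g ∈ 𝐜 z) : DG t T z (g * v * g⁻¹) := by simpa only [mem_c''.1 c] using k.conjT h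
theorem mulz (h : y ∈ zpowers z) : DG t T z (v * y) :=
  let ⟨_, _, _, r, a, n⟩ := k; ⟨_, _, _, r, mul_mem a (zpowers_le.2 r.zW h), by rwa [mul_mem_cancel_right h]⟩
theorem f1 (h : n ∈ T ⊓ (𝐜 v ⊓ 𝐜 z)) : n * n ≠ z := fun e =>
  let ⟨_, _, _, r, a, b⟩ := k; r.zC (e ▸ r.bt.sqC (r.eC a b ▸ h))
theorem f3 (h : n ∈ T ⊓ (𝐜 v ⊓ 𝐜 z)) (h' : m ∈ T ⊓ (𝐜 v ⊓ 𝐜 z)) : ⁅n, m⁆ ≠ z := fun e =>
  let ⟨_, _, _, r, a, b⟩ := k; r.zC (e ▸ r.bt.RR (r.eC a b ▸ h) (r.eC a b ▸ h'))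
theorem cz (h : n ∈ fm v (zpowers z)) : n ∈ 𝐜 z := (nz_iff k.zz k.z1).1 (mem_fm.1 h).1
theorem or (h : n ∈ fm v (zpowers z)) : n ∈ 𝐜 v ∨ ⁅v, n⁆ = z := ((mem_z2 k.zz).1 (mem_fm.1 h).2).imp_left mem_c_comm.2
theorem mem (h : n ∈ 𝐜 z) (e : ⁅v, n⁆ ∈ zpowers z) : n ∈ fm v (zpowers z) := mem_fm.2 ⟨(nz_iff k.zz k.z1).2 h, e⟩
theorem mem' (h : n ∈ 𝐜 v ⊓ 𝐜 z) : n ∈ fm v (zpowers z) := k.mem h.2 (mem_c_comm.1 h.1 ▸ one_mem _)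
theorem mul_c (h : n ∈ 𝐜 z) (h1 : ⁅v, n⁆ = z) (h2 : ⁅v, m⁆ = z) : n * m ∈ 𝐜 v := by
  rw [mem_c_comm, comm_mul_right, h1, h2, mem_c''.1 h, k.zz]

theorem f2 (h : g ∈ T ⊓ fm v (zpowers z)) (g2 : g * g = 1) (hs : s ∈ T ⊓ fm v (zpowers z)) (s2 : s * s = z)
    (c : g ∈ 𝐜 s) : g ∈ 𝐜 v := (k.or h.2).resolve_right fun e => k.f1 ⟨mul_mem h.1 hs.1, k.mul_c (k.cz h.2) e
      ((k.or hs.2).resolve_left fun a => k.f1 ⟨hs.1, a, k.cz hs.2⟩ s2), mul_mem (k.cz h.2) (k.cz hs.2)⟩ (by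
    rw [mul_assoc, ← mul_assoc s, ← mem_c.1 c, mul_assoc, s2, ← mul_assoc, g2, one_mul])

theorem partner : ∃ u, DG t T z u ∧ ⁅v, u⁆ = z ∧ T ⊓ fm v (zpowers z) = T ⊓ fm u (zpowers z) := by
  obtain ⟨B, L₁, L₂, r, a, b⟩ := k
  obtain ⟨u, c, d⟩ := r.symm'.exW
  have uB := r.k₂.ZB (r.k₂.WZ c)
  have key : ∀ {L₁ L₂ v u}, P2 t T B L₁ L₂ z → v ∈ 𝐖ᵥ L₁ → v ∉ zpowers z → u ∈ 𝐖ᵥ L₂ → u ∉ zpowers z →
      T ⊓ fm v (zpowers z) ≤ T ⊓ fm u (zpowers z) := fun r a b c d n hn => by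
    have := (r.nL a b hn.1).2 hn.2
    exact ⟨hn.1, (r.symm'.nL c d hn.1).1 (r.n₂ (normalizer_le_normalizer_JJ 2 B (r.k₁.nrmB hn.1 this)) this).2⟩
  refine ⟨u, ⟨_, _, _, r.symm', c, d⟩, (DG.or ⟨_, _, _, r, a, b⟩ ((r.nL a b (r.k₁.BT uB)).1
    (le_normalizer (r.k₁.le uB)))).resolve_left fun e => d ((r.symm'.WΩ' c).1 (r.symm.memΩ (r.k₂.WZ c)
    (r.k₁.memQ' uB (r.eC a b ▸ ⟨e, cen_le_c r.symm'.zW (r.k₂.QW (r.k₂.ZQ (r.k₂.WZ c)))⟩)))),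
    le_antisymm (key r a b c d) (key r.symm' c d a b)⟩

theorem u0 (k' : DG t T z u) (e : T ⊓ (𝐜 v ⊓ 𝐜 z) = T ⊓ (𝐜 u ⊓ 𝐜 z)) :
    T ⊓ fm v (zpowers z) ≤ fm u (zpowers z) := fun n hn => by
  have m : T ⊓ (𝐜 v ⊓ 𝐜 z) ≤ fm u (zpowers z) := fun x hx => k'.mem' (e.le hx).2
  rcases k.or hn.2 with c | c
  · exact m ⟨hn.1, c, k.cz hn.2⟩
  obtain ⟨w, a, b, d⟩ := k.partner
  refine (mul_mem_cancel_left (k'.mem a.vz ?_)).1 (m ⟨mul_mem a.vT hn.1, k.mul_c a.vz b c, mul_mem a.vz (k.cz hn.2)⟩)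
  exact commutatorElement_mem_comm.1 (mem_fm.1 (d.le ⟨k'.vT, k.mem' (e.ge ⟨k'.vT, self_mem_c u, k'.vz⟩).2⟩).2).2

theorem u1 (k' : DG t T z u) (e : T ⊓ (𝐜 v ⊓ 𝐜 z) = T ⊓ (𝐜 u ⊓ 𝐜 z)) : v * u ∈ zpowers z := by
  have h1 := k.u0 k' e
  have h2 := k'.u0 k e.symm
  obtain ⟨B, L₁, L₂, r, a, b⟩ := k
  obtain ⟨B', L₁', L₂', r', a', b'⟩ := k'
  have e1 : T ⊓ 𝐍 L₁ = T ⊓ 𝐍 L₁' := le_antisymm
    (fun n hn => ⟨hn.1, (r'.nL a' b' hn.1).2 (h1 ⟨hn.1, (r.nL a b hn.1).1 hn.2⟩)⟩)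
    fun n hn => ⟨hn.1, (r.nL a b hn.1).2 (h2 ⟨hn.1, (r'.nL a' b' hn.1).1 hn.2⟩)⟩
  obtain rfl : B = B' := by
    rw [← r.k₁.bmN (le_inf r.k₁.BT (r.k₁.le.trans le_normalizer)) inf_le_left inf_le_right, e1,
      r'.k₁.bmN (le_inf r'.k₁.BT (r'.k₁.le.trans le_normalizer)) inf_le_left inf_le_right]
  rw [← r.eC a b, ← r'.eC a' b'] at e
  obtain rfl := r.k₁.eq_of_Q r'.k₁.toGd (le_antisymm (fun x hx => r'.k₁.memQ' (r.k₁.QB hx) (e.le (r.bt.QT hx)).2)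
    fun x hx => r.k₁.memQ' (r'.k₁.QB hx) (e.ge (r'.bt.QT hx)).2)
  exact r.memW a b a' b'

end DG

end H4.Bm
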