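import Cfsg.Agent.H4.Bm7

/-! Small blocks: the dihedral subgroup. -/

set_option autoImplicit false
set_option linter.unusedVariables false
set_option linter.unusedSectionVars false

namespace H4.Bm
open H9 hiding zj
open Matrix hiding mul_inv_rev
open Cfsg Subgroup H28 H28.GC MatrixGroups H29 H29.PU H29.BB Equiv
open scoped commutatorElement

universe u
variable {X : Type u} [Group X] [Finite X] {A A' B B' C D E E' H J K L L' L₀ L₁ L₂ B₀ M N P Q R S S' T T' U V W Y : Subgroup X}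
  {a b c d e f g l m n t u v w x y z : X}
variable {ρ ρ' μ l' a' : X}

theorem fm_mul (ha : a ∈ 𝐍 V) (hy : y ∈ V) : fm (a * y) V = fm a V := Subgroup.ext fun n => by
  rw [mem_fm, mem_fm, and_congr_right_iff]
  intro h
  rw [comm_mul_left, mul_mem_cancel_left (conj_mem_of_mem_normalizer ha (commutatorElement_mem_comm.1
    (comm_mem_of' h hy)))]

theorem cj_fm (g a : X) (V : Subgroup X) : cj g (fm a V) = fm (g * a * g⁻¹) (cj g V) := Subgroup.ext fun n => by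
  rw [mem_cj, mem_fm, mem_fm, ← cj_normalizer, mem_cj, mem_cj, commutatorElement_def, commutatorElement_def]
  group

theorem par_or (hx : x ∈ zpowers y) : x ∈ zpowers (y * y) ∨ y⁻¹ * x ∈ zpowers (y * y) := by
  obtain ⟨i, rfl⟩ := hx
  obtain ⟨j, rfl | rfl⟩ := Int.even_or_odd' i
  exacts [.inl ⟨j, by simp only [← zpow_two]; group⟩, .inr ⟨j, by simp only [← zpow_two]; group⟩]

theorem comm_sq (ha : a * a = 1) (hb : b * b = 1) : ⁅a, b⁆ = a * b * (a * b) := by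
  rw [commutatorElement_def, inv_eq_of_mul_eq_one_right ha, inv_eq_of_mul_eq_one_right hb, mul_assoc]

theorem inv_zp (h : g * x * g⁻¹ = x⁻¹) (hy : y ∈ zpowers x) : g * y * g⁻¹ = y⁻¹ := by
  obtain ⟨i, rfl⟩ := hy
  simp only [← conj_zpow, h, _root_.inv_zpow]

theorem conj_eq_comm (ha : a * a = 1) (n : X) : n * a * n⁻¹ = a * ⁅a, n⁆ := by
  rw [commutatorElement_def, inv_eq_of_mul_eq_one_right ha, ← mul_assoc, ← mul_assoc, ← mul_assoc, ha, one_mul]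

/-- dihedral groups of involutions in small blocks -/
structure St (t : X) (T : Subgroup X) (z l a ρ : X) : Prop where
  dg : ∀ μ ∈ zpowers l, DG t T z (a * μ)
  hρ : ρ ∈ zpowers l
  ρρ : ρ * ρ = z
  nrm : ∀ μ ∈ zpowers l, T ⊓ fm (a * μ) (zpowers z) ≤ fm a (zpowers l)

theorem ext (h0 : a ∈ 𝐍 V ∧ a' ∈ 𝐍 V) (h1 : ∀ μ ∈ V, DG t T z (a * μ) ∧ DG t T z (a' * μ))
    (h2 : ∀ μ ∈ V, T ⊓ fm (a * μ) (zpowers z) ≤ fm a V ⊓ fm a' V ∧ T ⊓ fm (a' * μ) (zpowers z) ≤ fm a V ⊓ fm a' V)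
    (e : V = zpowers ⁅a, a'⁆) (h3 : ρ ∈ zpowers (a * a')) (h4 : ρ * ρ = z) : St t T z (a * a') a ρ := by
  have k := mul_one a ▸ (h1 1 (one_mem _)).1
  have k' := mul_one a' ▸ (h1 1 (one_mem _)).2
  rw [comm_sq k.vv k'.vv] at e
  have o : ∀ μ ∈ zpowers (a * a'), μ ∈ V ∨ ∃ y ∈ V, a * μ = a' * y := fun μ h => e ▸ (par_or h).imp_right fun c =>
    ⟨_, c, by rw [mul_inv_rev, k.vi, k'.vi, ← mul_assoc, ← mul_assoc, k'.vv, one_mul]⟩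
  have l : V ≤ zpowers (a * a') := e ▸ zpowers_le.2 (mul_mem (mem_zpowers _) (mem_zpowers _))
  have f : fm a V ⊓ fm a' V ≤ fm a (zpowers (a * a')) := fun n hn => mem_fm.2 ⟨mem_normalizer_of_cj_le (by
    rw [cj_zpowers, zpowers_le, show n * (a * a') * n⁻¹ = n * a * n⁻¹ * (n * a' * n⁻¹) by group, conj_eq_comm k.vv,
      conj_eq_comm k'.vv, show a * ⁅a, n⁆ * (a' * ⁅a', n⁆) = a * a' * (a'⁻¹ * ⁅a, n⁆ * a' * ⁅a', n⁆) by group]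
    exact mul_mem (mem_zpowers _) (l (mul_mem (conj_mem_of_mem_normalizer' h0.2 (mem_fm.1 hn.1).2) (mem_fm.1 hn.2).2))),
    l (mem_fm.1 hn.1).2⟩
  exact ⟨fun μ h => (o μ h).elim (fun c => (h1 μ c).1) fun ⟨y, c, e⟩ => e ▸ (h1 y c).2, h3, h4, fun μ h =>
    (o μ h).elim (fun c => (h2 μ c).1.trans f) fun ⟨y, c, e⟩ => e ▸ (h2 y c).2.trans f⟩

theorem DG.st (k : DG t T z v) : ∃ l ρ, St t T z l v ρ := by
  obtain ⟨u, k', e, h⟩ := k.partner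
  have n := (nz_iff k.zz k.z1).2 k.vz
  have n' := (nz_iff k.zz k.z1).2 k'.vz
  exact ⟨_, _, ext ⟨n, n'⟩ (fun μ h => ⟨k.mulz h, k'.mulz h⟩) (fun μ c => by
    rw [fm_mul n c, fm_mul n' c]
    exact ⟨le_inf inf_le_right (h.le.trans inf_le_right), le_inf (h.ge.trans inf_le_right) inf_le_right⟩)
    (by rw [e]) (mem_zpowers _) (comm_sq k.vv k'.vv ▸ e)⟩

namespace St
variable (s : St t T z l a ρ)
include s

theorem da : DG t T z a := mul_one a ▸ s.dg 1 (one_mem _)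
theorem lT : zpowers l ≤ T := fun μ h => (mul_mem_cancel_left s.da.vT).1 (s.dg μ h).vT
theorem pl : ∃ k, l ^ 2 ^ k = 1 := p2' s.da.ho.pg (s.lT (mem_zpowers l))
theorem inv (h : μ ∈ zpowers l) : a * μ * a⁻¹ = μ⁻¹ := by
  rw [s.da.vi, eq_inv_iff_mul_eq_one, mul_assoc, (s.dg μ h).vv]
theorem aN : a ∈ 𝐍 (zpowers l) := mem_normalizer_of_cj_le (by
  rw [cj_zpowers, zpowers_le, s.inv (mem_zpowers l)]; exact inv_mem (mem_zpowers l))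
theorem zl : z ∈ zpowers l := s.ρρ ▸ mul_mem s.hρ s.hρ
theorem c1 (h : μ ∈ zpowers l) (e : μ * μ = 1) : μ ∈ zpowers z := (chain s.pl h s.zl).elim id fun c =>
  ((mem_z2 e).1 c).resolve_left s.da.z1 ▸ mem_zpowers z
theorem c1' (h : μ ∈ zpowers l) (e : μ ∈ 𝐜 a) : μ ∈ zpowers z :=
  s.c1 h (by have := s.inv h; rwa [mem_c'.1 e, eq_inv_iff_mul_eq_one] at this)
theorem c2 (h : μ ∈ zpowers l) (e : μ ∉ zpowers z) : ρ ∈ zpowers μ := (chain s.pl s.hρ h).elim id fun c =>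
  (sq_or (p2' s.da.ho.pg (s.lT s.hρ)) c).resolve_right (s.ρρ ▸ e)
theorem reb (h : μ ∈ zpowers l) : St t T z l (a * μ) ρ :=
  ⟨fun y hy => mul_assoc a μ y ▸ s.dg _ (mul_mem h hy), s.hρ, s.ρρ, fun y hy => by
    rw [fm_mul s.aN h, mul_assoc]; exact s.nrm _ (mul_mem h hy)⟩
theorem conj (g : X) : St (g * t * g⁻¹) (cj g T) (g * z * g⁻¹) (g * l * g⁻¹) (g * a * g⁻¹) (g * ρ * g⁻¹) := by
  refine ⟨?_, cj_zpowers g l ▸ conj_mem_cj s.hρ, by rw [← s.ρρ]; group, ?_⟩ <;> rw [← cj_zpowers g l] <;>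
    rintro _ ⟨y, hy, rfl⟩ <;> rw [MulEquiv.coe_toMonoidHom, MulAut.conj_apply, conj_mul]
  · exact (s.dg y hy).conj g
  · rw [← cj_zpowers, ← cj_fm, ← cj_fm, ← cj_inf]; exact cj_mono g (s.nrm y hy)
theorem conjT (h : g ∈ T) : St t T (g * z * g⁻¹) (g * l * g⁻¹) (g * a * g⁻¹) (g * ρ * g⁻¹) := by
  simpa only [cj_eq_self_of_mem h, mem_c''.1 (s.da.ho.le h)] using s.conj g
theorem cz (h : n ∈ 𝐍 (zpowers l)) : n ∈ 𝐜 z := mem_c''.2 (((mem_z2 s.da.zz).1 (s.c1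
  (conj_mem_of_mem_normalizer h s.zl) (conj_sq s.da.zz))).resolve_left (conj_ne s.da.z1))
theorem c4 (h : n ∈ 𝐍 (zpowers l)) : n ∈ 𝐜 ρ ∨ ⁅ρ, n⁆ = z := by
  have m := conj_mem_of_mem_normalizer h (inv_mem s.hρ)
  have e : ⁅ρ, n⁆ = ρ * (n * ρ⁻¹ * n⁻¹) := by simp only [commutatorElement_def, mul_assoc]
  refine ((mem_z2 s.da.zz).1 (s.c1 (e ▸ mul_mem s.hρ m) ?_)).imp_left mem_c_comm.2
  rw [e, mul_assoc, ← mul_assoc _ ρ, zp_c m s.hρ, mul_assoc, ← mul_assoc, conj_mul, ← mul_inv_rev, s.ρρ,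
    mem_c''.1 (mem_c_symm.1 (inv_mem (mem_c_symm.1 (s.cz h)))), mul_inv_cancel]
theorem two : Two (𝐍 (zpowers l)) (𝐜 ρ) := fun x hx y hy x1 y1 => by
  rw [mem_c_comm, comm_mul_right, (s.c4 hx).resolve_left x1, (s.c4 hy).resolve_left y1, mem_c''.1 (s.cz hx), s.da.zz]
theorem ninv (h : g * ρ * g⁻¹ = ρ⁻¹) : g ∉ 𝐜 ρ := fun c => s.da.z1 (by
  rw [← s.ρρ, ← eq_inv_iff_mul_eq_one, ← h, mem_c''.1 c])
theorem aρ : a ∉ 𝐜 ρ := s.ninv (s.inv s.hρ)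
theorem ρa : ⁅ρ, a⁆ = z := (s.c4 s.aN).resolve_left s.aρ
theorem lz : zpowers l ≤ 𝐜 z := le_normalizer.trans fun _ => s.cz
theorem ρfm : ρ ∈ T ⊓ fm a (zpowers z) :=
  ⟨s.lT s.hρ, s.da.mem (s.lz s.hρ) (commutatorElement_mem_comm.1 (s.ρa ▸ mem_zpowers z))⟩

theorem cen (h : g ∈ T ⊓ fm a (zpowers l)) (g2 : g * g = 1) (c : g ∈ 𝐜 ρ) : g ∈ 𝐜 a := by
  obtain ⟨h1, h2⟩ := mem_fm.1 h.2
  refine s.da.f2 ⟨h.1, s.da.mem (s.cz h1) (by_contra fun e => s.ninv (inv_zp ?_ (s.c2 h2 e)) c)⟩ g2 s.ρfm s.ρρ c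
  rw [commutatorElement_inv, comm_sq s.da.vv g2, comm_sq g2 s.da.vv, inv_eq_of_mul_eq_one_right g2]
  simp only [mul_assoc, g2, mul_one]

theorem cen' (h : g ∈ T ⊓ fm a (zpowers l)) (g2 : g * g = 1) (c : g ∈ 𝐜 ρ) (hμ : μ ∈ zpowers l) : g ∈ 𝐜 (a * μ) :=
  (s.reb hμ).cen (fm_mul s.aN hμ ▸ h) g2 c

theorem ncen (k : DG t T z u) (h : u ∈ fm a (zpowers l)) : u ∉ 𝐜 ρ := fun c =>
  k.f3 ⟨s.lT s.hρ, mem_c_symm.1 c, s.lz s.hρ⟩ ⟨s.da.vT, mem_c_symm.1 (s.cen ⟨k.vT, h⟩ k.vv c), s.da.vz⟩ s.ρa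

theorem ns0 (h : u ∈ T ⊓ fm a (zpowers l)) (u2 : u * u = 1) (c : u ∉ 𝐜 ρ) : l ∈ zpowers ⁅a, u⁆ ∨
    ∃ μ ∈ zpowers l, a * μ * u * (a * μ * u) = 1 ∧ ∀ y ∈ zpowers l, a * μ * u ∈ 𝐜 (a * y) := by
  obtain ⟨h1, h2⟩ := mem_fm.1 h.2
  refine (sq_or s.pl h2).imp_right fun ⟨j, e⟩ => ⟨l ^ j, ⟨j, rfl⟩, ?_⟩
  have hμ : l ^ j ∈ zpowers l := ⟨j, rfl⟩
  replace e : l ^ j * l ^ j = ⁅a, u⁆ := by rw [← e, ← zpow_two, ← zpow_two]; group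
  generalize l ^ j = μ at hμ e
  have d := s.dg μ hμ
  have c1 : a * μ * u ∈ 𝐜 a := by
    rw [mul_assoc]
    refine mul_mem (self_mem_c a) (mem_c''.2 ?_)
    rw [show μ * u * a * (μ * u)⁻¹ = μ * (u * a * u⁻¹) * μ⁻¹ by group, conj_eq_comm s.da.vv u, ← e,
      show μ * (a * (μ * μ)) * μ⁻¹ = a⁻¹ * (a * μ * (a * μ)) by group, d.vv, mul_one, s.da.vi]
  have hT := mul_mem d.vT h.1
  have m : a * μ * u * (a * μ * u) ∈ zpowers l := comm_sq d.vv u2 ▸ (mem_fm.1 (fm_mul s.aN hμ ▸ h.2)).2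
  have nn := mul_mem (s.reb hμ).aN h1
  have g2 := ((mem_z2 s.da.zz).1 (s.c1' m (mul_mem c1 c1))).resolve_right (s.da.f1 ⟨hT, c1, s.cz nn⟩)
  refine ⟨g2, fun y hy => s.cen' ⟨hT, mul_mem (mul_mem (mem_fm.2 ⟨s.aN, by simp⟩) (mem_fm.2 ⟨le_normalizer hμ,
    comm_mem_of' s.aN hμ⟩)) h.2⟩ g2 (s.two _ (s.reb hμ).aN _ h1 (s.reb hμ).aρ c) hy⟩

theorem ns (k : DG t T z u) (h : T ⊓ fm u (zpowers z) ≤ fm a (zpowers l)) : l ∈ zpowers ⁅a, u⁆ ∨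
    ∃ μ ∈ zpowers l, a * μ ∈ 𝐜 u ∧ T ⊓ (𝐜 u ⊓ 𝐜 z) ≤ 𝐜 (a * μ) := by
  have hu := h ⟨k.vT, k.mem' ⟨self_mem_c u, k.vz⟩⟩
  refine (s.ns0 ⟨k.vT, hu⟩ k.vv (s.ncen k hu)).imp_right fun ⟨μ, hμ, g2, c⟩ => ?_
  have d := s.dg μ hμ
  have c1 : a * μ ∈ 𝐜 u := mem_c_comm'.2 (comm_sq d.vv k.vv ▸ g2)
  refine ⟨μ, hμ, c1, fun y hy => ?_⟩
  have y0 := h ⟨hy.1, k.mem' hy.2⟩
  have y1 := (mem_fm.1 (fm_mul s.aN hμ ▸ y0)).2
  have y2 : y * (a * μ * u) * y⁻¹ ∈ 𝐜 a := by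
    have := (conj_mem_c (g := y)).2 (c _ (mem_fm.1 (inv_mem y0)).2)
    rwa [← conj_eq_comm s.da.vv, show y * (y⁻¹ * a * y⁻¹⁻¹) * y⁻¹ = a by group] at this
  rw [← conj_mul, mem_c''.1 hy.2.1, conj_eq_comm d.vv, show a * μ * ⁅a * μ, y⁆ * u =
    a * μ * ⁅a * μ, y⁆ * (a * μ)⁻¹ * (a * μ * u) by group, (s.reb hμ).inv y1,
    mul_mem_cancel_right (by simpa only [mul_one] using c 1 (one_mem _)), inv_mem_iff] at y2
  exact mem_c_comm.2 (((mem_z2 k.zz).1 (s.c1' y1 y2)).resolve_right (k.f3 ⟨d.vT, c1, d.vz⟩ hy))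

theorem nl (h : l ∈ zpowers ⁅a, u⁆) : u ∉ 𝐜 a := fun c => by
  rw [mem_c_comm.1 c, zpowers_one_eq_bot] at h
  exact s.da.z1 (mem_bot.1 (zpowers_le.2 h s.zl))

theorem inn (s' : St t T z l' a' ρ') (h : T ⊓ fm a' (zpowers z) ≤ fm a (zpowers l))
    (h' : ∀ μ ∈ zpowers l, T ⊓ fm (a * μ) (zpowers z) ≤ fm a' (zpowers l')) :
    l ∈ zpowers ⁅a, a'⁆ ∨ a * a' ∈ zpowers l := (s.ns s'.da h).imp_right fun ⟨μ, hμ, c1, c2⟩ => by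
  have d := s.dg μ hμ
  have k := s'.da
  obtain ⟨y, hy, -, c3⟩ := (s'.ns d (h' μ hμ)).resolve_left fun e => s'.nl e c1
  have y1 := s'.c1' hy ((mul_mem_cancel_left (self_mem_c a')).1 (mem_c_symm.1
    (c3 ⟨k.vT, mem_c_symm.1 c1, k.vz⟩)))
  have := s.lz.trans le_rfl
  have := zpowers_le.2 s.zl (k.u1 d (le_antisymm (fun x hx => ⟨hx.1, c2 hx, hx.2.2⟩) fun x hx => ⟨hx.1,
    mem_c_symm.1 ((mul_mem_cancel_right (zpowers_le.2 (mem_c_symm.1 hx.2.2) y1)).1 (mem_c_symm.1 (c3 hx))), hx.2.2⟩))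
  rw [← mul_assoc, mul_mem_cancel_right hμ] at this
  simpa only [mul_inv_rev, k.vi, s.da.vi] using inv_mem this

theorem lt (h : l ∈ zpowers (x * x)) (p : x ∈ T) : # (zpowers l) < # (zpowers x) :=
  card_lt_of_lt (lt_of_le_of_ne (zpowers_le.2 (zpowers_le.2 (mul_mem (mem_zpowers x) (mem_zpowers x)) h)) fun e => by
    have h1 := zpowers_le.2 h (e ▸ mem_zpowers x)
    obtain ⟨k, hk⟩ := p2' s.da.ho.pg p
    rw [← sq, mem_zpowers_pow_iff] at h1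
    obtain rfl : x = 1 := orderOf_eq_one_iff.1 (Nat.Coprime.eq_one_of_dvd
      ((Nat.Coprime.pow_left k h1).symm) (orderOf_dvd_of_pow_eq_one hk))
    rw [mul_one, zpowers_one_eq_bot] at h
    exact s.da.z1 (mem_bot.1 (zpowers_le.2 h s.zl)))

theorem cl (s' : St t T z l' a' ρ') (h : ∀ μ ∈ zpowers l', T ⊓ fm (a' * μ) (zpowers z) ≤ fm a (zpowers l))
    (h' : ∀ μ ∈ zpowers l, T ⊓ fm (a * μ) (zpowers z) ≤ fm a' (zpowers l')) (c : # (zpowers l') ≤ # (zpowers l))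
    (m : ∀ x ρ, St t T z x a ρ → # (zpowers x) ≤ # (zpowers l)) : a * a' ∈ zpowers l := by
  have h0 := mul_one a' ▸ h 1 (one_mem _)
  refine (s.inn s' h0 h').resolve_left fun e => ?_
  have k := s.da
  have k' := s'.da
  have m1 := (mem_fm.1 (h0 ⟨k'.vT, k'.mem' ⟨self_mem_c _, k'.vz⟩⟩)).2
  have m2 := commutatorElement_mem_comm.1 (mem_fm.1 ((mul_one a ▸ h' 1 (one_mem _))
    ⟨k.vT, k.mem' ⟨self_mem_c _, k.vz⟩⟩)).2
  have e1 := eq_of_le_of_card_le (zpowers_le.2 (zpowers_le.2 m2 e)) c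
  rw [comm_sq k.vv k'.vv] at e
  refine (m _ ρ (ext ⟨s.aN, e1 ▸ s'.aN⟩ (fun μ hμ => ⟨s.dg μ hμ, s'.dg μ (e1 ▸ hμ)⟩) (fun μ hμ =>
    ⟨le_inf (s.nrm μ hμ) (e1 ▸ h' μ hμ), le_inf (h μ (e1 ▸ hμ)) (e1 ▸ s'.nrm μ (e1 ▸ hμ))⟩)
    (le_antisymm (zpowers_le.2 (comm_sq k.vv k'.vv ▸ e)) (zpowers_le.2 m1)) (zpowers_le.2 (zpowers_le.2
      (mul_mem (mem_zpowers _) (mem_zpowers _)) e) s.hρ) s.ρρ)).not_gt (s.lt e (mul_mem k.vT k'.vT))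

theorem nrmz (m : ∀ x ρ, St t T z x a ρ → # (zpowers x) ≤ # (zpowers l)) : T ⊓ 𝐜 z ≤ fm a (zpowers l) := by
  set N := T ⊓ 𝐜 z ⊓ fm a (zpowers l)
  refine (eq_of_inf_normalizer_le (s.da.ho.pg.to_le inf_le_left) (inf_le_left : N ≤ _) fun x hx => ⟨hx.1, ?_⟩).ge.trans
    inf_le_right
  have s' := s.conjT hx.1.1
  rw [mem_c''.1 hx.1.2] at s'
  have f : ∀ μ ∈ zpowers l, T ⊓ fm (a * μ) (zpowers z) ≤ N := fun μ h y hy =>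
    ⟨⟨hy.1, (s.dg μ h).cz hy.2⟩, s.nrm μ h hy⟩
  have N' : N ≤ fm (x * a * x⁻¹) (zpowers (x * l * x⁻¹)) := by
    rw [← cj_zpowers, ← cj_fm]; exact (cj_eq_self hx.2).ge.trans (cj_mono x inf_le_right)
  have f' : ∀ μ ∈ zpowers (x * l * x⁻¹), T ⊓ fm (x * a * x⁻¹ * μ) (zpowers z) ≤ fm a (zpowers l) := by
    rw [← cj_zpowers]
    rintro _ ⟨y, hy, rfl⟩
    rw [MulEquiv.coe_toMonoidHom, MulAut.conj_apply, conj_mul, ← mem_c''.1 hx.1.2, ← cj_zpowers, ← cj_fm,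
      ← cj_eq_self_of_mem hx.1.1, ← cj_inf]
    exact (cj_le_of_mem_normalizer (f y hy) hx.2).trans inf_le_right
  have key : ∀ μ ∈ zpowers (x * l * x⁻¹), a * (x * a * x⁻¹ * μ) ∈ zpowers l := fun μ hμ =>
    s.cl (s'.reb hμ) (fun y hy => mul_assoc _ μ y ▸ f' _ (mul_mem hμ hy)) (fun y hy =>
      (fm_mul s'.aN hμ).symm ▸ (f y hy).trans N') (by rw [← cj_zpowers, card_cj]) m
  have k1 := mul_one (x * a * x⁻¹) ▸ key 1 (one_mem _)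
  have k2 := key _ (mem_zpowers _)
  rw [← mul_assoc, mul_mem_cancel_left k1] at k2
  exact mem_fm.2 ⟨mem_normalizer_of_cj_le (cj_zpowers x l ▸ zpowers_le.2 k2), by
    rwa [conj_eq_comm s.da.vv, ← mul_assoc, s.da.vv, one_mul] at k1⟩

end St

/-- the largest dihedral subgroup -/
structure Ds (t : X) (T : Subgroup X) (z l a ρ : X) : Prop extends St t T z l a ρ where
  nz : T ⊓ 𝐜 z ≤ fm a (zpowers l)
  all : ∀ u, DG t T z u → a * u ∈ zpowers l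

theorem DG.ds (k : DG t T z v) : ∃ l ρ, Ds t T z l v ρ := by
  have ex : ∀ {v}, DG t T z v → ∃ l ρ, St t T z l v ρ ∧ ∀ x ρ, St t T z x v ρ → # (zpowers x) ≤ # (zpowers l) :=
    fun {v} k => by
      obtain ⟨l, ⟨ρ, s⟩, m⟩ := Set.exists_max_image {l | ∃ ρ, St t T z l v ρ} (fun l => # (zpowers l)) (Set.toFinite _) k.st
      exact ⟨l, ρ, s, fun x ρ h => m x ⟨ρ, h⟩⟩
  obtain ⟨l, ρ, s, m⟩ := ex k
  refine ⟨l, ρ, s, s.nrmz m, fun u k' => ?_⟩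
  obtain ⟨l', ρ', s', m'⟩ := ex k'
  have f : ∀ {w}, DG t T z w → T ⊓ fm w (zpowers z) ≤ T ⊓ 𝐜 z := fun d y hy => ⟨hy.1, d.cz hy.2⟩
  have h := fun μ hμ => (f (s'.dg μ hμ)).trans (s.nrmz m)
  have h' := fun μ hμ => (f (s.dg μ hμ)).trans (s'.nrmz m')
  rcases le_total (# (zpowers l')) (# (zpowers l)) with c | c
  · exact s.cl s' h h' c m
  have key : ∀ μ ∈ zpowers l, u * (v * μ) ∈ zpowers l' := fun μ hμ => s'.cl (s.reb hμ)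
    (fun y hy => mul_assoc _ μ y ▸ h' _ (mul_mem hμ hy)) (fun y hy => (fm_mul s.aN hμ).symm ▸ h y hy) c m'
  have k1 := mul_one v ▸ key 1 (one_mem _)
  have := s'.reb k1
  rw [← mul_assoc, k'.vv, one_mul] at this
  exact s.cl s' h h' (m _ _ this) m

end H4.Bm
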