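import Cfsg.Agent.H4.Bm8

/-! Pairs contain elementary abelian subgroups of maximal order. -/

set_option autoImplicit false
set_option linter.unusedVariables false
set_option linter.unusedSectionVars false

namespace H4.Bm
open H9 hiding zj
open Matrix hiding mul_inv_rev
open Cfsg Subgroup H28 H28.GC MatrixGroups H29 H29.PU H29.BB Equiv
open scoped commutatorElement

universe u
variable {X : Type u} [Group X] [Finite X] {A A' B B' C D E E' H J K L L' L₀ L₁ L₂ B₀ M N P Q R S S' T T' U V W Y : Subgroup X}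
  {a b c d e f g l m n t u v w x y z : X}
variable {ρ ρ' μ l' a' z' : X}

theorem JJ_of (hT : IsPGroup 2 T) (h : R ≤ T)
    (H : ∀ A, MaxAb 2 (T ⊓ 𝐍 (JJ 2 R)) A → ⁅⁅zj 2 R, A⁆, A⁆ = ⊥ → A ≤ R) : JJ 2 T = JJ 2 R := by
  set S := T ⊓ 𝐍 (JJ 2 R)
  have BS : R ≤ S := le_inf h (le_normalizer_JJ 2 R)
  suffices h : JJ 2 S ≤ R by
    have e := JJ_eq_of_le h BS
    have e' : S = T := eq_of_inf_normalizer_le hT inf_le_left (inf_le_inf_left _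
      ((normalizer_le_normalizer_JJ 2 S).trans_eq (congrArg (fun H : Subgroup X => 𝐍 H) e.symm)))
    exact e' ▸ e.symm
  refine JJ_le_iff.2 fun A hA => by_contra fun n => ?_
  by_cases e : ⁅zj 2 R, A⁆ = ⊥
  · exact n (H A hA (by rw [e, commutator_bot_left]))
  obtain ⟨A, a1, -, a2, a3⟩ := hA.exists_quadratic (zj_le.trans BS) (ea_omegaOneCenter 2 _)
    (hA.le.trans (inf_le_right.trans (normalizer_le_normalizer_omegaOneCenter 2 _))) e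
  exact a2 (commutator_eq_bot_iff'.2 ((a1.mono (H A a1 a3) BS).le_JJ.trans (le_centralizer_omegaOneCenter 2 _)))

theorem two_q (hy : y ∈ V) (q : ⁅⁅V, A⁆, A⁆ = ⊥) (n : y ∉ H) (h : ∀ x ∈ A, x ∉ N → x * y * x⁻¹ ∈ H) : Two A N :=
  fun a ha b hb a1 b1 => by_contra fun c => n (by
    have e := mem_centralizer'.1 (commutator_eq_bot_iff.1 q (commutator_mem_commutator hy hb)) a ha
    have := mul_mem (mul_mem (h a ha a1) (inv_mem (h _ (mul_mem ha hb) c))) (h b hb b1)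
    rwa [show a * y * a⁻¹ * (a * b * y * (a * b)⁻¹)⁻¹ = a * ⁅y, b⁆ * a⁻¹ by rw [commutatorElement_def]; group, e,
      commutatorElement_def, show y * b * y⁻¹ * b⁻¹ * a * a⁻¹ * (b * y * b⁻¹) = y by group] at this)

theorem DG.f0 (k : DG t T z v) : ∃ H : Subgroup X, z ∉ H ∧ ∀ n ∈ T ⊓ (𝐜 v ⊓ 𝐜 z), n * n ∈ H :=
  let ⟨_, _, _, r, a, b⟩ := k; ⟨_, r.zC, fun _ h => r.bt.sqC (r.eC a b ▸ h)⟩

namespace Ds
variable (s : Ds t T z l a ρ)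
include s

theorem eq (k : DG t T z u) : u = a * (a * u) := by rw [← mul_assoc, s.da.vv, one_mul]
theorem reb' (k : DG t T z u) : Ds t T z l u ρ := by
  have := s.all u k
  refine ⟨s.eq k ▸ s.reb this, s.eq k ▸ (fm_mul s.aN this).symm ▸ s.nz, fun w h => ?_⟩
  simpa [s.da.vi, k.vi, mul_assoc, ← mul_assoc a a, s.da.vv] using mul_mem (inv_mem this) (s.all w h)
theorem conj' (g : X) : Ds (g * t * g⁻¹) (cj g T) (g * z * g⁻¹) (g * l * g⁻¹) (g * a * g⁻¹) (g * ρ * g⁻¹) :=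
  ⟨s.conj g, by rw [← cj_c, ← cj_inf, ← cj_zpowers, ← cj_fm]; exact cj_mono g s.nz, fun u k => by
    have := k.conj g⁻¹
    simp only [cj_inv_cj, inv_inv, mul_assoc, inv_mul_cancel_left, inv_mul_cancel, mul_one] at this
    rw [← cj_zpowers, mem_cj]; simpa only [mul_assoc, inv_mul_cancel_left] using s.all _ this⟩
theorem conjT' (h : g ∈ T) : Ds t T (g * z * g⁻¹) (g * l * g⁻¹) (g * a * g⁻¹) (g * ρ * g⁻¹) := by
  simpa only [cj_eq_self_of_mem h, mem_c''.1 (s.da.ho.le h)] using s.conj' g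
theorem nl' : T ⊓ 𝐜 z ≤ 𝐍 (zpowers l) := fun _ h => (mem_fm.1 (s.nz h)).1
theorem cen₁ (h : g ∈ T ⊓ 𝐜 z) (g2 : g * g = 1) (c : g ∈ 𝐜 ρ) : g ∈ 𝐜 a := s.cen ⟨h.1, s.nz h⟩ g2 c
theorem idx (h : A ≤ T ⊓ 𝐜 z) : (𝐜 ρ).relIndex A ≤ 2 := (idx_mono (h.trans s.nl')).trans (two_idx s.two)

theorem mx (hA : MaxAb 2 S A) (h : S ≤ T ⊓ 𝐜 z) (ha : a ∈ S) : ∃ A', MaxAb 2 S A' ∧ a ∈ A' ∧ A ⊓ 𝐜 ρ ≤ A' := by
  by_cases c : a ∈ A
  · exact ⟨A, hA, c, inf_le_left⟩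
  have l : 𝐜 ρ ⊓ A ≤ 𝐂 (zpowers a) := fun x hx => centralizer_zpowers a ▸
    s.cen₁ (h (hA.le hx.2)) (sq_of_ea hA.ea hx.2) hx.1
  exact ⟨_, maxAb_sup_zpowers hA ha (sq_pow s.da.vv) c ((idx_le_of l).trans (s.idx (hA.le.trans h))),
    mem_sup_right (mem_zpowers a), le_sup_of_le_left fun x hx => ⟨hx.1, l ⟨hx.2, hx.1⟩⟩⟩

theorem memJ (k : DG t T z u) : u ∈ JJ 2 (T ⊓ 𝐜 z) :=
  let ⟨_, h⟩ := exists_maxAb 2 (T ⊓ 𝐜 z); let ⟨_, a, b, _⟩ := (s.reb' k).mx h le_rfl ⟨k.vT, k.vz⟩; a.le_JJ b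

theorem lJ : zpowers l ≤ JJ 2 (T ⊓ 𝐜 z) := fun μ h => (mul_mem_cancel_left (s.memJ s.da)).1 (s.memJ (s.dg μ h))

theorem nz' (s' : St t T z' l' a' ρ') (n : z ≠ z') : z ∉ zpowers l' := fun h =>
  ((mem_z2 s'.da.zz).1 (s'.c1 h s.da.zz)).elim s.da.z1 n

theorem comm2 (s' : Ds t T z' l' a' ρ') (n : z ≠ z') (h1 : a' ∈ 𝐜 z) (h2 : ρ ∈ 𝐜 z') : a' ∈ 𝐜 a :=
  s.cen₁ ⟨s'.da.vT, h1⟩ s'.da.vv ((s.c4 (s.nl' ⟨s'.da.vT, h1⟩)).resolve_right fun e => s.nz' s'.toSt n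
    (e ▸ commutatorElement_mem_comm.1 (mem_fm.1 (s'.nz ⟨s.lT s.hρ, h2⟩)).2))

theorem far (hx : x ∈ T ⊓ 𝐍 (JJ 2 (T ⊓ 𝐜 z))) (n : x ∉ 𝐜 z) (k : DG t T z u) (k' : DG t T z v) :
    x * u * x⁻¹ ∈ 𝐜 v := by
  have l := (JJ_le 2 (T ⊓ 𝐜 z)).trans inf_le_right
  exact (s.reb' k').comm2 ((s.reb' k).conjT' hx.1) (fun e => n (mem_c''.2 e.symm))
    (l (conj_mem_of_mem_normalizer hx.2 (s.memJ k))) (cj_c x z ▸ (cj_eq_self hx.2).ge.trans (cj_mono x l) (s.lJ s.hρ))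

theorem JT : JJ 2 T = JJ 2 (T ⊓ 𝐜 z) := JJ_of s.da.ho.pg inf_le_left fun A hA q =>
  le_inf (hA.le.trans inf_le_left) fun x hx => by_contra fun n => by
  have AT := hA.le.trans inf_le_left
  have far := fun {x u v} hx => s.far (x := x) (u := u) (v := v) (hA.le hx)
  have farl : ∀ {x v}, x ∈ A → x ∉ 𝐜 z → DG t T z v → ∀ μ ∈ zpowers l, x * μ * x⁻¹ ∈ 𝐜 v := fun {x v} hx n k μ hμ =>
    (mul_mem_cancel_left (far hx n s.da k)).1 (by rw [conj_mul]; exact far hx n (s.dg μ hμ) k)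
  have zJ : z ∈ zj 2 (T ⊓ 𝐜 z) := Ω_le_zj dvd_rfl (mem_omegaOneCenter.2 ⟨⟨s.da.zT, self_mem_c z⟩,
    le_c_iff.1 inf_le_right, sq_pow s.da.zz⟩)
  have i1 : (𝐜 z).relIndex A ≤ 2 := by
    obtain ⟨H, h1, h2⟩ := s.da.f0
    refine two_idx (two_q zJ q h1 fun y hy n => ?_)
    rw [← s.ρρ, ← conj_mul]
    have := farl hy n s.da ρ s.hρ
    exact h2 _ ⟨conj_mem_of_mem_normalizer (le_normalizer (AT hy)) (s.lT s.hρ), this, (JJ_le 2 _).trans inf_le_right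
      (conj_mem_of_mem_normalizer (hA.le hy).2 (s.lJ s.hρ))⟩
  have nx : ∀ {u}, DG t T z u → u ∉ 𝐜 x := fun k c => s.ncen k (s.nz ⟨k.vT, k.vz⟩) (mem_c_symm.1
    ((mul_mem_cancel_left (mem_c_symm.1 (mem_c'.1 c ▸ far hx n k s.da))).1
      (mem_c_symm.1 (mem_c'.1 c ▸ far hx n k (s.dg ρ s.hρ)))))
  have x2 := sq_of_ea hA.ea hx
  have key : ∀ {a}, Ds t T z l a ρ → (𝐜 z ⊓ A ≤ 𝐜 ρ ∨ ¬ 𝐜 z ⊓ A ≤ 𝐜 a) → False := fun {a} s h => by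
    have k := s.da
    have s' := s.conjT' (AT hx)
    have k' := s'.da
    have c1 := far hx n k k
    have c2 := farl hx n k z s.zl
    have c3 := (JJ_le 2 _).trans inf_le_right (conj_mem_of_mem_normalizer (hA.le hx).2 (s.memJ k))
    have c4 := (JJ_le 2 _).trans inf_le_right (conj_mem_of_mem_normalizer (hA.le hx).2 (s.lJ s.zl))
    let U := closure {a, z, x * a * x⁻¹, x * z * x⁻¹}
    have m : ∀ y, y ∈ 𝐜 a → y ∈ 𝐜 z → y ∈ 𝐜 (x * a * x⁻¹) → y ∈ 𝐜 (x * z * x⁻¹) → y ∈ 𝐂 U := fun y a b c d =>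
      le_c_iff.1 ((closure_le _).2 (by
        rintro _ (rfl | rfl | rfl | rfl) <;> exact mem_c_symm.1 ‹_›))
    have UJ : U ≤ JJ 2 (T ⊓ 𝐜 z) := (closure_le _).2 (by
      rintro _ (rfl | rfl | rfl | rfl)
      exacts [s.memJ k, s.lJ s.zl, conj_mem_of_mem_normalizer (hA.le hx).2 (s.memJ k),
        conj_mem_of_mem_normalizer (hA.le hx).2 (s.lJ s.zl)])
    have UU : U ≤ 𝐂 U := (closure_le _).2 (by
      rintro _ (rfl | rfl | rfl | rfl)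
      exacts [m _ (self_mem_c _) k.vz (mem_c_symm.1 c1) (mem_c_symm.1 c2), m _ (mem_c_symm.1 k.vz) (self_mem_c _)
        (mem_c_symm.1 c3) (mem_c_symm.1 c4), m _ c1 c3 (self_mem_c _) k'.vz, m _ c2 c4 (mem_c_symm.1 k'.vz)
        (self_mem_c _)])
    have o := off_idx hA (UJ.trans (le_inf ((JJ_le 2 _).trans inf_le_left) le_normalizer)) (ea_closure
      (fun a ha b hb => mem_centralizer'.1 (UU (subset_closure hb)) a (subset_closure ha)) (by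
        rintro _ (rfl | rfl | rfl | rfl)
        exacts [sq_pow k.vv, sq_pow k.zz, sq_pow k'.vv, sq_pow k'.zz]))
    have cx : ∀ y ∈ A, ∀ {w}, y ∈ 𝐜 w → y ∈ 𝐜 (x * w * x⁻¹) := fun y hy w c =>
      conj_eq_of_cen hx (hA.comm hy) ▸ conj_mem_c.2 c
    have l0 : 𝐜 ρ ⊓ (𝐜 z ⊓ A) ≤ 𝐂 U := fun y hy =>
      have := s.cen₁ ⟨AT hy.2.2, hy.2.1⟩ (sq_of_ea hA.ea hy.2.2) hy.1
      m y this hy.2.1 (cx y hy.2.2 this) (cx y hy.2.2 hy.2.1)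
    have i2 := (BB.relIndex_le_mul (𝐂 U) (𝐜 z) A).trans (Nat.mul_le_mul (idx_le_of l0) i1)
    have u1 : a ∈ U := subset_closure (by simp)
    have u2 : x * a * x⁻¹ ∈ U := subset_closure (by simp)
    have i3 : 3 ≤ (𝐜 x).relIndex U := three_le u1 (subset_closure (by simp)) (nx k) (mt mem_c_symm.1 n)
      (k.vi.symm ▸ nx (k.mulz (mem_zpowers z)))
    have l1 : A ⊓ U ≤ 𝐜 x := inf_le_left.trans (hA.comm.trans (cen_le_c hx))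
    rcases h with h | h
    · have := idx_le_of l1
      rw [relIndex_eq_one.2 h] at i2
      omega
    have i4 := s.idx (A := 𝐜 z ⊓ A) (le_inf (inf_le_right.trans AT) inf_le_left)
    have i5 := idx_mul l1 (Y' := zpowers (a * (x * a * x⁻¹))) (zpowers_le.2 ⟨mem_c'.2 (by
      rw [← conj_mul, show x * (x * a * x⁻¹) * x⁻¹ = x * x * a * (x * x)⁻¹ by group, x2, one_mul, inv_one, mul_one,
        mem_c.1 c1]), mul_mem u1 u2⟩)
    have i6 : 2 ≤ A.relIndex (zpowers (a * (x * a * x⁻¹))) := two_le fun e => h fun b hb => by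
      have e1 := conj_eq_of_cen hb.2 (hA.comm (e (mem_zpowers _)))
      rw [← conj_mul, conj_eq_comm k.vv, conj_eq_comm k'.vv, mul_assoc, mul_left_cancel_iff, ← mul_assoc,
        ← eq_mul_inv_iff_mul_eq, ← eq_mul_inv_iff_mul_eq] at e1
      have e2 : ⁅a, b⁆ ∈ zpowers (x * l * x⁻¹) := e1 ▸ conj_mem_of_mem_normalizer s'.aN
        (inv_mem (mem_fm.1 (s'.nz ⟨AT hb.2, cx b hb.2 hb.1⟩)).2)
      refine mem_c_comm.2 (((mem_z2 k.zz).1 (s.c1' (mem_fm.1 (s.nz ⟨AT hb.2, hb.1⟩)).2 ?_)).resolve_right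
        fun e => s.nz' s'.toSt (fun e => n (mem_c''.2 e.symm)) (e ▸ e2))
      rw [← cj_zpowers] at e2
      obtain ⟨y, hy, e⟩ := e2
      exact e ▸ farl hx n k y hy
    nlinarith
  by_cases c : 𝐜 z ⊓ A ≤ 𝐜 a
  · exact key (s.reb' (s.dg ρ s.hρ)) (or_iff_not_imp_right.2 fun e y hy => mem_c_symm.1
      ((mul_mem_cancel_left (mem_c_symm.1 (c hy))).1 (mem_c_symm.1 (not_not.1 e hy))))
  · exact key s (.inr c)

end Ds

namespace Pa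
variable (r : Pa t T B L₁ L₂)
include r

theorem p2 (h : Two B (O₂ L₁)) : ∃ z, P2 t T B L₁ L₂ z := by
  obtain ⟨z, a, b⟩ := SetLike.not_le_iff_exists.1 r.k₁.not_Y
  exact ⟨z, r, h, a, fun e => b (e ▸ one_mem _)⟩

theorem exT : ∃ A, MaxAb 2 T A ∧ A ≤ B := by
  obtain ⟨A, hA⟩ := exists_maxAb 2 T
  by_cases h : Two B (O₂ L₁)
  swap
  · exact ⟨A, hA, hA.le_JJ.trans ((r.JT h).le.trans (JJ_le 2 B))⟩
  obtain ⟨z, r⟩ := r.p2 h
  obtain ⟨v, a, b⟩ := r.exW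
  obtain ⟨l, ρ, s⟩ := DG.ds ⟨_, _, _, r, a, b⟩
  obtain ⟨A, c, d, -⟩ := s.mx (maxJ s.JT.symm hA) le_rfl ⟨s.da.vT, s.da.vz⟩
  replace c := And.intro (maxJ s.JT c) c.le
  have l : A ≤ T ⊓ 𝐍 L₁ := fun x hx => ⟨c.1.le hx, r.bt.TN ⟨c.1.le hx, r.eC a b ▸ ⟨cen_le_c d (c.1.comm hx), (c.2 hx).2⟩⟩⟩
  exact ⟨A, c.1, (c.1.mono l inf_le_left).le_JJ.trans ((r.k₁.JN (le_inf r.k₁.BT (r.k₁.le.trans le_normalizer))
    inf_le_left inf_le_right).le.trans (JJ_le 2 B))⟩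

theorem mxT (h : MaxAb 2 B A) : MaxAb 2 T A := let ⟨_, a, b⟩ := r.exT; h.of_le_of_mem r.k₁.BT a b
theorem JBT : JJ 2 B ≤ JJ 2 T := JJ_le_iff.2 fun _ h => (r.mxT h).le_JJ
theorem ZT : Z₂ L₁ ≤ JJ 2 T := r.k₁.ZJ.trans r.JBT

theorem zjT : zj 2 T ≤ Ω₂ B := fun u hu => by
  obtain ⟨a, b, c⟩ := mem_omegaOneCenter.1 hu
  have a' := JJ_le 2 T a
  have e := r.k₁.JN (le_inf r.k₁.BT (r.k₁.le.trans le_normalizer)) inf_le_left inf_le_right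
  have d := centralizer_anti r.JBT b
  exact r.k₁.zj_eq ▸ mem_omegaOneCenter.2 ⟨e ▸ mem_JJ_of_mem_centralizer ⟨a', r.bt.TN ⟨a', centralizer_anti
    (r.k₁.WZ.trans r.ZT) b⟩⟩ c (e ▸ d), d, c⟩

theorem Bbm : B ≤ bm 2 T := le_inf r.k₁.BT ((le_centralizer_omegaOneCenter 2 B).trans (centralizer_anti r.zjT))

theorem conjJ (hx : x ∈ 𝐍 (JJ 2 T)) : Pa t T (cj x B) (cj x L₁) (cj x L₂) := by
  have r' := r.conj x
  have : t ∈ Ω₂ (cj x B) := r'.zjT (by rw [zj, ← cj_JJ, cj_eq_self hx]; exact r.ho.mem_zj le_rfl r.ho.mem)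
  exact ⟨⟨r'.k₁.toGd, r.ho, this⟩, ⟨r'.k₂.toGd, r.ho, this⟩, r'.nc⟩

end Pa

end H4.Bm
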