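import Cfsg.Agent.H1.PSolv
import Cfsg.Agent.H3.Focal

/-! Products of classes of elements of coprime prime-power orders. -/

namespace H4.Ez

open Subgroup Cfsg
open scoped Pointwise

universe u

variable {p : ℕ} [hp : Fact p.Prime]

theorem psol_of_npc {G : Type*} [Group G] [Finite G] (h : HasNormalPComplement p G) :
    IsPSolvable p G :=
  H1.isPSolvable_of_normal (pResidual p G) (H1.isPSolvable_of_coprime (H3.hasNPC_iff_coprime.1 h))
    (H1.isPSolvable_of_isPGroup (H3.isPGroup_quotient_pResidual hp.out.ne_zero))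

theorem lift_pow {G Q : Type*} [Group G] [Finite G] [Group Q] (f : G →* Q)
    (hf : Function.Surjective f) {q a : ℕ} (hq : q.Prime) {x : Q} (hx : orderOf x = q ^ a) :
    ∃ y b, orderOf y = q ^ b ∧ f y = x := by
  obtain ⟨y, rfl⟩ := hf x
  obtain ⟨z, -, ⟨j, h1⟩, h2⟩ := H3.exists_pelt_lift hq.ne_zero f y (hx ▸ pow_orderOf_eq_one _)
  obtain ⟨b, -, hb⟩ := (Nat.dvd_prime_pow hq).1 (orderOf_dvd_of_pow_eq_one h1)
  exact ⟨z, b, hb, h2⟩

theorem psol_of_prod (n : ℕ) : ∀ (G : Type u) [Group G] [Finite G], Nat.card G = n →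
    (∀ x y : G, (∃ a : ℕ, orderOf x = p ^ a) → (∃ q b : ℕ, q.Prime ∧ q ≠ p ∧ orderOf y = q ^ b) →
      ∀ a b : G, IsConj (x * y) (a * x * a⁻¹ * (b * y * b⁻¹))) → IsPSolvable p G := by
  induction n using Nat.strong_induction_on with
  | _ n ih =>
  intro G _ _ hn h
  rcases subsingleton_or_nontrivial G with _ | _
  · exact H1.isPSolvable_of_isSolvable inferInstance
  obtain ⟨M, ⟨hM, M1⟩, hmin⟩ := exists_minimal_of_wellFoundedLT
    (fun M : Subgroup G => M.Normal ∧ M ≠ ⊥) ⟨⊤, inferInstance, top_ne_bot⟩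
  refine H1.isPSolvable_of_normal M (psol_of_npc ?_) (ih _ ?_ _ rfl ?_)
  · by_contra h1
    obtain ⟨T, hT, -, y, y1, y2, q, k, hq, qp, hy⟩ :=
      H3.exists_of_not_hasNPC (default : Sylow p M) h1
    obtain ⟨r, hr, r1⟩ : ∃ r ∈ T, r * y * r⁻¹ * y⁻¹ ≠ 1 := by
      by_contra! hc
      exact y2 fun r hr => mul_inv_eq_iff_eq_mul.1 (mul_inv_eq_one.1 (hc r hr))
    have x1 : r * y * r⁻¹ * y⁻¹ ∈ T := by
      simpa [mul_assoc] using mul_mem hr ((mem_normalizer_iff.1 y1 _).1 (inv_mem hr))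
    obtain ⟨a, ha⟩ := IsPGroup.iff_orderOf.1 ((default : Sylow p M).2.to_le hT) ⟨_, x1⟩
    rw [orderOf_mk, ← orderOf_coe] at ha
    rw [← orderOf_coe] at hy
    have h2 := h _ _ ⟨a, ha⟩ ⟨q, k, hq, qp, hy⟩
    have h3 : normalClosure {((r * y * r⁻¹ * y⁻¹ : M) : G)} ≤
        MulAction.stabilizer G {z : G | IsConj (y : G) z} := (closure_le _).2 fun z hz => by
      obtain ⟨_, rfl, hz⟩ := Group.mem_conjugatesOfSet_iff.1 hz
      obtain ⟨c, rfl⟩ := isConj_iff.1 hz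
      refine (MulAction.mem_stabilizer_set_iff_smul_set_subset (Set.toFinite _)).2 ?_
      rintro _ ⟨w, hw, rfl⟩
      obtain ⟨b, rfl⟩ := isConj_iff.1 hw
      exact (isConj_iff.2 ⟨(r : G), by simp⟩).trans (h2 c b)
    have h4 : M ≤ normalClosure {((r * y * r⁻¹ * y⁻¹ : M) : G)} := hmin ⟨inferInstance,
      fun e => r1 (Subtype.ext (mem_bot.1 (e ▸ subset_normalClosure rfl)))⟩
      (normalClosure_le_normal (Set.singleton_subset_iff.2 (r * y * r⁻¹ * y⁻¹).2))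
    have h5 : (y : G)⁻¹ • (y : G) ∈ {z : G | IsConj (y : G) z} := by
      rw [← MulAction.mem_stabilizer_iff.1 (h3 (h4 (inv_mem y.2)))]
      exact Set.smul_mem_smul_set (IsConj.refl _)
    rw [smul_eq_mul, inv_mul_cancel, Set.mem_ofPred_eq, isConj_one_left,
      OneMemClass.coe_eq_one] at h5
    exact y2 (h5 ▸ one_mem _)
  · rw [← hn, ← M.card_mul_index]
    exact lt_mul_of_one_lt_left Nat.card_pos ((M.one_lt_card_iff_ne_bot).2 M1)
  · rintro x y ⟨a, hx⟩ ⟨q, b, hq, qp, hy⟩ c d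
    obtain ⟨x, a', hx', rfl⟩ := lift_pow _ (QuotientGroup.mk'_surjective M) hp.out hx
    obtain ⟨y, b', hy', rfl⟩ := lift_pow _ (QuotientGroup.mk'_surjective M) hq hy
    obtain ⟨c, rfl⟩ := QuotientGroup.mk'_surjective M c
    obtain ⟨d, rfl⟩ := QuotientGroup.mk'_surjective M d
    simpa only [map_mul, map_inv] using
      (QuotientGroup.mk' M).map_isConj (h x y ⟨a', hx'⟩ ⟨q, b', hq, qp, hy'⟩ c d)

end H4.Ez
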