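import Cfsg.Agent.H4.FL7
import Cfsg.Agent.H1.LB2
import Cfsg.Agent.H18.GA
import Cfsg.Agent.H18.G3a
import Cfsg.Agent.H0.Sec
import Cfsg.Agent.H20.FT

/-!
Flavell's component theorems, I: group forms of the Hall–Higman–Shult theorem; layers.
-/

set_option autoImplicit false
set_option linter.unusedSectionVars false

namespace H4.FC
open Cfsg Subgroup H19 H4.FL H1
open scoped commutatorElement

universe u
variable {X : Type u} [Group X] [Finite X] {A B D E G H J K L N P R S T U V W Y : Subgroup X}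
  {p q : ℕ} {x y : X}

theorem cent_of_comm (hn : A ≤ N(V)) (hc : (#V).Coprime #A) (h : ⁅V, A⁆ ≤ Phi V ⊔ V ⊓ C(A)) :
    A ≤ C(V) := by
  refine H18.coprime_cent_Phi hc ?_
  have h1 := hn.trans (H18.norm_le_norm_Phi V)
  have h2 := le_normalizer.trans (H18.norm_le_norm_Phi V)
  rw [← commg_commg hn hc]
  exact (commutator_mono h le_rfl).trans (commg_sup_left_le (commg_le_left h1)
    ((commg_eq_bot.2 inf_le_right).le.trans bot_le) le_normalizer (inf_le_left.trans h2))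

theorem phi_sec (hp : p.Prime) (hV : PG p V) (h : Phi V ≤ W) :
    ⁅V, V⁆ ≤ W ∧ ∀ x ∈ V, x ^ p ∈ W :=
  have := (abelem_quo_iff (le_normalizer.trans (H18.norm_le_norm_Phi V))).1 (H18.abelem_quo_Phi hp hV)
  ⟨this.1.trans h, fun x hx => h (this.2 x hx)⟩

theorem comm_subgroupOf (h1 : A ≤ H) (h2 : B ≤ H) :
    ⁅A, B⁆.subgroupOf H = ⁅A.subgroupOf H, B.subgroupOf H⁆ := by
  apply map_injective H.subtype_injective
  rw [map_commutator, map_subgroupOf_eq_of_le h1, map_subgroupOf_eq_of_le h2,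
    map_subgroupOf_eq_of_le (commg_le_of_le h1 h2)]

/-- Flavell's theorem for a group acting on a `p`-group -/
theorem hhs (hR : (#R).Prime) (hn : R ≤ N(J)) (hc : (#J).Coprime #R) (hV : PG p V)
    (hc' : (#V).Coprime #R) (h1 : J ≤ N(V)) (h2 : R ≤ N(V)) (h3 : J ≤ N(D)) (h4 : R ≤ N(D))
    (h : V ⊓ C(R) ≤ C(D)) (y1 : y ∈ D) (y2 : y ∈ Od ⁅J, R⁆) (y3 : PiE {p}ᶜ y) : y ∈ C(V) := by
  by_cases hp : p.Prime
  swap
  · rw [hV.eq_bot_of_not_prime hp, cent_bot]; trivial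
  haveI := Fact.mk hp
  have a1 : J ⊔ R ≤ N(V) := sup_le h1 h2
  have a2 : J ⊔ R ≤ N(Phi V ⊔ V ⊓ C(D)) := norms_sup (a1.trans (H18.norm_le_norm_Phi V))
    (norms_inf a1 (norms_cent (sup_le h3 h4)))
  have a3 : Phi V ⊔ V ⊓ C(D) ≤ V := sup_le (H18.Phi_le V) inf_le_left
  obtain ⟨a4, a5⟩ := phi_sec hp hV (le_sup_left : _ ≤ Phi V ⊔ V ⊓ C(D))
  obtain ⟨M, _, _, π, ρ, s⟩ := H0.exists_sec a3 a1 a2 a4 a5
  haveI := s.finite
  haveI := Module.Finite.of_finite (R := ZMod p) (M := M)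
  have yJ : y ∈ J := commg_le_left hn (Od_le y2)
  obtain ⟨z, z1, rfl⟩ := Od_sub ((commg_le_left hn).trans (le_sup_left : J ≤ J ⊔ R)) y2
  obtain ⟨i, hi⟩ := St.core (p := p) (ρ := ρ) (G := J.subgroupOf (J ⊔ R)) (R := R.subgroupOf (J ⊔ R))
    (y := z) ⟨(left_normal_sup hn).subgroupOf, by
      rw [← subgroupOf_sup le_sup_left le_sup_right, subgroupOf_self], by
      rwa [card_subgroupOf' le_sup_left, card_subgroupOf' le_sup_right], by
      rwa [card_subgroupOf' le_sup_right], eq_bot_iff.2 fun v hv => by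
        obtain ⟨v, v1, rfl⟩ := s.surj v
        obtain ⟨n, n1, n2⟩ := exists_mul_mem_cent (le_sup_right.trans a2)
          (hc'.coprime_dvd_left (card_dvd a3)) (Or.inl (sol_of_prime hR)) (k := v) fun a ha =>
            (s.comm_mem (g := ⟨a, mem_sup_right ha⟩) v1).2 (hv _ ha)
        exact (s.ker v v1).2 ((mul_mem_cancel_left n1).1 (mem_sup_right ⟨mul_mem (a3 n1) v1,
          h ⟨mul_mem (a3 n1) v1, n2⟩⟩))⟩ (by
      rwa [comm_subgroupOf le_sup_left le_sup_right] at z1)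
  have e : zpowers ((z : X) ^ p ^ i) = zpowers (z : X) := by
    refine le_antisymm (zpowers_le.2 (npow_mem_zpowers _ _)) (zpowers_le.2 ?_)
    exact mem_zpowers_pow_iff.2 ((y3.coprime_prime hp).symm.pow_left i)
  refine cent_of_comm (A := zpowers (z : X)) (zpowers_le.2 (h1 yJ)) (hV.coprime (piG_zpowers.2 y3))
    (le_trans ?_ (sup_le_sup_left (inf_le_inf_left V (cent_mono (zpowers_le.2 y1))) _))
    (mem_zpowers _)
  rw [← e, commutator_comm]
  exact comm_zp (a2 (pow_mem z.2 _)) fun v hv => (s.comm_mem (g := z ^ p ^ i) hv).2 (by rw [hi]; rfl)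

/-- the Frobenius case -/
theorem frob (hR : (#R).Prime) (hn : R ≤ N(Y)) (hc : (#Y).Coprime #R) (hV : PG p V)
    (hY : PiG {p}ᶜ Y) (hc' : (#V).Coprime #R) (h1 : Y ≤ N(V)) (h2 : R ≤ N(V))
    (h : V ⊓ C(R) ≤ C(Y)) (h' : Y ⊓ C(R) ≤ C(V)) : Y ≤ C(V) := by
  by_cases hp : p.Prime
  swap
  · rw [hV.eq_bot_of_not_prime hp, cent_bot]; exact le_top
  have a3 : Phi V ⊔ V ⊓ C(Y) ≤ V := sup_le (H18.Phi_le V) inf_le_left
  obtain ⟨a4, -⟩ := phi_sec hp hV (le_sup_left : _ ≤ Phi V ⊔ V ⊓ C(Y))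
  have a0 : ∀ {A : Subgroup X}, A ≤ N(V) → A ≤ N(Y) → A ≤ N((Phi V ⊔ V ⊓ C(Y)) ⊔ Y ⊓ C(V)) :=
    fun a b => norms_sup (norms_sup (a.trans (H18.norm_le_norm_Phi V)) (norms_inf a (norms_cent b)))
      (norms_inf b (norms_cent a))
  have a1 : V ≤ N((Phi V ⊔ V ⊓ C(Y)) ⊔ Y ⊓ C(V)) := norms_sup (norms_of_der_le a4 a3)
    (norms_of_cents (cents_symm inf_le_right))
  have a2 := a0 h1 le_normalizer
  have a5 := a0 h2 hn
  have hs : ∀ {A : Subgroup X}, Sol R ∨ Sol A := Or.inl (sol_of_prime hR)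
  have a6 := (quo_cents_iff a2 a1).1 (H18.Frobenius_cent_compl' (quo_norms hn) (fun a ha a' => ?_)
    ((ab_quo_iff a1).2 (a4.trans le_sup_left)) (quo_norms h1) (quo_norms h2)
    (cop_quo (hV.coprime hY) _) ?_)
  · refine cent_of_comm h1 (hV.coprime hY) ?_
    rw [commutator_comm] at a6
    have := le_inf a6 (commg_le_left h1)
    rwa [sup_inf_modl (norms_of_cents (inf_le_right.trans (cent_mono a3))) a3,
      (hY.infl _).inf_eq_bot' hV, sup_bot_eq] at this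
  · rcases (Nat.dvd_prime hR).1 (card_quo_dvd ((Phi V ⊔ V ⊓ C(Y)) ⊔ Y ⊓ C(V)) R) with e | e
    · exact absurd ((card_eq_one.1 e).le ha) a'
    rw [← cent_eq_cent1_of_prime (e ▸ hR) ha a', quo_inf_cent a5 hn
      (hc.coprime_dvd_left (card_dvd inf_le_right)) hs]
    exact quo_eq_bot (le_sup_of_le_right (le_inf inf_le_left h'))
  · rw [quo_inf_cent a5 h2 (hc'.coprime_dvd_left (card_dvd inf_le_right)) hs]
    exact quo_eq_bot (le_sup_of_le_left (le_sup_of_le_right (le_inf inf_le_left h)))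

/-- the layer of a subgroup -/
abbrev Ly (H : Subgroup X) : Subgroup X := (layer H).map H.subtype

theorem Ly_le : Ly H ≤ H := map_subtype_le _
theorem nLy (h : A ≤ N(H)) : A ≤ N(Ly H) := h.trans (normalizer_le_normalizer_layerOf H)
theorem Ly_nl : Ly H ⊴ H := ⟨Ly_le, nLy le_normalizer⟩
theorem Ly_cent (h : N ⊴ H) (hs : Sol N) : Ly H ≤ C(N) :=
  layerOf_le_centralizer_of_isSolvable (SubnIn.of_le_normalizer h.le h.norm) hs
theorem Ly_Ly : Ly (Ly H) = Ly H := le_antisymm Ly_le (layerOf_le_layerOf_of_le le_rfl Ly_le)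

theorem cent_gf (h1 : A ≤ H) (h2 : A ≤ C(Ly H)) (h3 : A ≤ C(Fit H)) : A ≤ Fit H :=
  le_trans (le_inf h1 (by rw [gfOf_eq]; exact cents_sup h2 h3)) (inf_centralizer_gfOf_le_fittingOf H)

theorem pc (hK : ⁅K, K⁆ = K) (h : ⁅B, K⁆ ≤ C(K)) : B ≤ C(K) := by
  have h1 := commg_eq_bot.2 h
  refine cents_symm (commg_eq_bot.1 ?_)
  rw [← hK]
  exact three_subgroup (by rwa [commutator_comm K B]) h1

theorem cc (hn : H ≤ N(D)) (h : R ≤ C(D)) : ⁅H, R⁆ ≤ C(D) :=
  (commutator_mono le_rfl h).trans (commg_le_right (norms_cent hn))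

theorem perf_le (hp : p.Prime) (hK : ⁅K, K⁆ = K) (h : ∀ x ∈ K, PiE {p}ᶜ x → x ∈ A) : K ≤ A :=
  le_of_perfect_of_forall_coprime hp hK fun x hx e => h x hx (PiN.of_coprime e)

theorem le_Od' (hK : ⁅K, K⁆ = K) (h : K ≤ A) : K ≤ Od A :=
  perf_le Nat.prime_two hK fun _ a b => mem_Od (h a) b

theorem gl0 (hO : ∀ N, N ⊴ L → Sol N → N = ⊥) (hS : Syl 2 S L) (hY : ⁅Y, Y⁆ = Y) (hn : Y ≤ N(L))
    (hc : Y ≤ C(S)) : Y ≤ C(L) := by
  obtain ⟨P, rfl⟩ := hS.exists_sylow
  let D : Subgroup (MulAut L) :=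
    { carrier := {φ | ∀ s, s ∈ P → φ s = s}
      mul_mem' := fun {a b} ha hb s hs => by rw [MulAut.mul_apply, hb s hs, ha s hs]
      one_mem' := fun _ _ => rfl
      inv_mem' := fun {a} ha s hs => by rw [MulAut.inv_def, MulEquiv.symm_apply_eq, ha s hs] }
  have h1 := (Cfsg.Agent.S0227.result (fun N hN hodd => (map_eq_bot_iff_of_injective _
    L.subtype_injective).1 (hO _ (normalIn_map_subtype N) (H20.sol_of_odd (by
      rwa [card_map_of_injective L.subtype_injective])))) P D (fun _ => Iff.rfl)).2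
  have h2 : im L.normalizerMonoidHom Y = ⊥ := by
    refine perfect_eq_bot (by rw [← im_comm hn hn, hY]) (sol_mono h1 ?_)
    rintro _ ⟨k, hk, rfl⟩ s hs
    apply Subtype.ext
    show (k : X) * s * (k : X)⁻¹ = s
    exact mul_inv_eq_iff_eq_mul.2 (mem_cent.1 (hc hk) s ⟨s, hs, rfl⟩).symm
  refine fun k hk => mem_cent.2 fun z hz => ?_
  have h4 := congrArg Subtype.val (DFunLike.congr_fun (mem_bot.1 (h2.le (mem_im_of
    (f := L.normalizerMonoidHom) (x := ⟨k, hn hk⟩) hk))) ⟨z, hz⟩)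
  exact (mul_inv_eq_iff_eq_mul.1 h4).symm

/-- Glauberman's theorem on automorphisms centralizing a Sylow 2-subgroup -/
theorem gl (hL : Ly L = L) (hS : Syl 2 S L) (hn : Y ≤ N(L)) (hc : Y ≤ C(S)) (hK : ⁅K, K⁆ = K)
    (h : K ≤ A ⊔ Y) (hA : Y ≤ N(A)) : K ≤ A ⊔ C(L) := by
  induction hm : #Y using Nat.strong_induction_on generalizing Y with | _ m ih => ?_
  by_cases hY : ⁅Y, Y⁆ = Y
  · have z1 := (center_normal L).norm
    have z2 := hn.trans (norm_le_norm_center L)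
    refine h.trans (sup_le_sup_left (pc (hL ▸ layerOf_perfect L) (le_trans ((quo_cents_iff z2 z1).1
      (gl0 (fun N a b => ?_) (hS.quo z1) (by rw [← quo_comm z2 z2, hY]) (quo_norms hn)
        (quo_cents hc))) inf_le_right)) A)
    have c := qpre_normal (center_normal L) a
    rw [← quo_qpre N]
    exact quo_eq_bot (le_inf c.le (cents_symm (hL.ge.trans (Ly_cent c (sol_of_quo (qpre_le_norm N)
      (sol_mono (sol_of_ab (comm_center L)) inf_le_left) (by rwa [quo_qpre]))))))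
  · exact ih _ (hm ▸ card_lt (lt_of_le_of_ne (der_le Y) hY)) ((der_le Y).trans hn)
      ((der_le Y).trans hc) (hK.ge.trans ((der_mono h).trans (der_sup_le hA))) ((der_le Y).trans hA) rfl

/-- a perfect group `K = [K, R]` centralizing `C_L(R)` centralizes `L` -/
theorem cent_main (hR : (#R).Prime) (hG : R ≤ N(G)) (hc : (#G).Coprime #R) (hK : ⁅K, K⁆ = K)
    (hKR : ⁅K, R⁆ = K) (hKG : K ≤ G) (hL : L ≤ G) (h1 : R ≤ N(L)) (h2 : K ≤ N(L))
    (h : L ⊓ C(R) ≤ C(K)) : L ≤ C(K) := by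
  induction hm : #L using Nat.strong_induction_on generalizing L with | _ m ih => ?_
  have ih' : ∀ {M}, M < L → R ≤ N(M) → K ≤ N(M) → M ≤ C(K) := fun a b c =>
    ih _ (hm ▸ card_lt a) (a.le.trans hL) b c ((inf_le_inf_right _ a.le).trans h) rfl
  have cp : ∀ {A}, A ≤ G → (#A).Coprime #R := fun a => hc.coprime_dvd_left (card_dvd a)
  have hs : ∀ {A : Subgroup X}, Sol R ∨ Sol A := Or.inl (sol_of_prime hR)
  have nK : R ≤ N(K) := hKR ▸ commg_normr K R
  by_cases hE : Ly L = L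
  swap
  · have a1 := cents_symm (ih' (lt_of_le_of_ne Ly_le hE) (nLy h1) (nLy h2))
    have a2 : K ≤ C(Fit L) := cents_symm (Fit_le_of_Oc fun p hp => cents_symm (perf_le hp hK
      fun y a b => hhs hR nK (cp hKG) (Oc_pi _ L) (cp ((Oc_le _ L).trans hL)) (norms_Oc _ h2)
        (norms_Oc _ h1) le_normalizer nK ((inf_le_inf_right _ (Oc_le _ L)).trans h) a
        (le_Od' hK hKR.ge a) b))
    exact pc hK ((cent_gf (commg_le_left h2) (cc Ly_nl.norm a1) (cc (Fit_norm L) a2)).trans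
      (cents_symm a2))
  have nC : R ≤ N(L ⊓ C(K)) := norms_inf h1 (norms_cent nK)
  obtain ⟨S₀, s1, s2⟩ := inv_syl_exists 2 nC (cp (inf_le_left.trans hL)) hs
  have s3 : K ≤ C(S₀) := cents_symm (s1.le.trans inf_le_right)
  have key : K ≤ L ⊔ C(L) := by
    by_cases hN : L ≤ N(S₀)
    swap
    · have a1 := ih' (M := L ⊓ N(S₀)) (lt_of_le_of_ne inf_le_left fun e => hN (e.ge.trans inf_le_right))
        (norms_inf h1 (norms_norm s2)) (norms_inf h2 (norms_norm (norms_of_cents s3)))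
      exact gl hE (s1.syl_of_norm_le (s1.le.trans inf_le_left) (le_inf inf_le_left a1)) h2 s3 hK
        le_sup_right h2
    obtain ⟨S, t1, t2, t3⟩ := inv_syl_ge h1 (cp hL) hs (s1.le.trans inf_le_left) s2 s1.pi
    have a1 : S₀ ≤ C(L ⊔ K) := cents_sup (cents_symm (hE.ge.trans (Ly_cent ⟨s1.le.trans inf_le_left,
      hN⟩ s1.pi.sol))) (cents_symm s3)
    have a2 : R ≤ N((L ⊔ K) ⊓ N(S)) := norms_inf (norms_sup h1 nK) (norms_norm t2)
    have a3 : (L ⊔ K) ⊓ N(S) ≤ G := inf_le_left.trans (sup_le hL hKG)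
    have a4 : S ⊓ C(R) ≤ S₀ := ((le_inf inf_le_left ((inf_le_inf_right _ t1.le).trans h)).trans
      (s1.max (K := S ⊓ C(K)) (le_inf t3 (s1.le.trans inf_le_right)) (inf_le_inf_right _ t1.le)
        (t1.pi.infl _)).le)
    have a5 : Od ⁅(L ⊔ K) ⊓ N(S), R⁆ ≤ C(S) := (closure_le _).2 fun y hy =>
      hhs hR a2 (cp a3) t1.pi (cp (t1.le.trans hL)) inf_le_right t2 le_normalizer a2
        (a4.trans (a1.trans (cent_mono inf_le_left))) (commg_le_left a2 hy.1) (mem_Od hy.1 hy.2) hy.2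
    have a6 : ⁅(L ⊔ K) ⊓ N(S), R⁆ ≤ N(L) :=
      (commg_le_left a2).trans (inf_le_left.trans (sup_le le_normalizer h2))
    refine gl hE t1 (Od_le.trans a6) a5 hK ?_ (Od_le.trans a6)
    obtain ⟨T, hT⟩ := exists_syl 2 ⁅(L ⊔ K) ⊓ N(S), R⁆
    refine perfect_le_of_le_sup hK (norms_sup (hT.le.trans a6) (nOd (hT.le.trans le_normalizer)))
      hT.pi.sol ?_
    rw [sup_assoc, hT.sup_eq Od_le Od_idx]
    exact hKR.ge.trans ((commutator_mono (le_sup_right.trans (t1.frattini (left_normal_sup h2)).ge)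
      le_rfl).trans (commg_sup_left_le ((commg_le_left h1).trans le_sup_left) le_sup_right
        (norms_of_le le_sup_left) (norms_sup (inf_le_left.trans (sup_le le_normalizer h2))
          (commg_norml _ _))))
  have b2 : R ≤ N(L ⊓ (K ⊔ G ⊓ C(L))) := norms_inf h1 (norms_sup nK (norms_inf hG (norms_cent h1)))
  have b3 : L ⊓ (K ⊔ G ⊓ C(L)) ⊓ C(R) ≤ Z(L ⊓ (K ⊔ G ⊓ C(L))) := le_inf inf_le_left
    (le_trans (cents_sup ((inf_le_inf_right _ inf_le_left).trans h) (cents_symm (inf_le_right.trans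
      (cent_mono (inf_le_left.trans inf_le_left))))) (cent_mono inf_le_right))
  have b4 := b2.trans (norm_le_norm_center _)
  have b5 : Sol (L ⊓ (K ⊔ G ⊓ C(L)) : Subgroup X) := by
    refine sol_of_quo (center_normal _).norm (sol_mono (sol_of_ab (comm_center _)) inf_le_left) ?_
    have e := (quo_inf_cent' b4 inf_le_left (cp (inf_le_left.trans (inf_le_left.trans hL))) hs).trans
      (quo_eq_bot b3)
    rcases (Nat.dvd_prime hR).1 (card_quo_dvd Z(L ⊓ (K ⊔ G ⊓ C(L))) R) with e' | e'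
    · rw [card_eq_one.1 e', cent_bot, inf_top_eq] at e
      rw [e]; infer_instance
    · exact sol_of_nil (H3.isNilpotent_of_fpf_prime (quo_norms b2) (e' ▸ hR) e)
  refine cents_symm ((perfect_le_of_le_sup hK (A := G ⊓ C(L)) (norms_inf (norms_of_le
    (inf_le_left.trans hL)) (norms_cent (inf_le_left.trans le_normalizer))) b5 ?_).trans inf_le_right)
  rw [sup_comm, ← sup_inf_modr (inf_le_right.trans (cent_le_norm L)) le_sup_right]
  refine le_inf ?_ le_sup_left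
  rw [inf_comm, ← sup_inf_modl (cent_le_norm L) hL]
  exact le_inf key hKG

end H4.FC
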