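import Cfsg.Agent.H4.FC1

/-!
Flavell's component theorems, II: invariant overgroups of `C_G(R)`.
-/

set_option autoImplicit false
set_option linter.unusedSectionVars false

namespace H4.FC
open Cfsg Subgroup H19 H4.FL H1
open scoped commutatorElement

universe u
variable {X : Type u} [Group X] [Finite X] {A B D E F G H J K L M N P R S T U V W Y : Subgroup X}
  {p q : ℕ} {g x y : X} {𝒮 : Set (Subgroup X)}

/-- `K` is a component of `H` -/
structure Cp (K H : Subgroup X) : Prop where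
  sub : SubnIn K H
  qs : IsQuasisimple K

theorem qs_cj (h : IsQuasisimple K) (g : X) : IsQuasisimple (cj g K) :=
  isQuasisimple_of_equiv h (cjEquiv g K)

theorem Cp.le (h : Cp K H) : K ≤ H := h.sub.le
theorem Cp.pf (h : Cp K H) : ⁅K, K⁆ = K := Quasisimple.perfect h.qs
theorem Cp.cnj (h : Cp K H) (hg : g ∈ N(H)) : Cp (cj g K) H :=
  ⟨h.sub.conj_of_mem_normalizer hg, qs_cj h.qs g⟩
theorem Cp.mono (h : Cp K H) (h1 : K ≤ A) (h2 : A ≤ H) : Cp K A := ⟨h.sub.mono h1 h2, h.qs⟩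
theorem Cp.ly (h : Cp K H) : K ≤ Ly H := le_layerOf h.sub h.qs
theorem Cp.nc (h : Cp K H) : ¬ K ≤ C(K) := Quasisimple.not_le_centralizer h.qs
theorem Cp.le_or (h : Cp K H) (hY : Y ⊴ H) : K ≤ Y ∨ Y ≤ C(K) :=
  (le_or_commutator_eq_bot_of_subnIn h.qs h.sub (SubnIn.of_le_normalizer hY.le hY.norm)).imp_right
    fun e => cents_symm (commg_eq_bot.1 e)
theorem Cp.cent (h : Cp K H) (h' : Cp L H) (hne : K ≠ L) : K ≤ C(L) :=
  commg_eq_bot.1 (commutator_eq_bot_of_subnIn_of_ne h.qs h'.qs h.sub h'.sub hne)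
theorem Ly_le_iff : Ly H ≤ A ↔ ∀ K, Cp K H → K ≤ A :=
  layerOf_le_iff.trans ⟨fun h K a => h K a.1 a.2, fun h K a b => h K ⟨a, b⟩⟩
theorem Cp.lyn (h : Cp K H) : Ly H ≤ N(K) := Ly_le_iff.2 fun L a => by
  by_cases e : L = K
  · exact e ▸ le_normalizer
  · exact norms_of_cents (a.cent h e)
theorem Cp.comp (h : Cp K H) : IsComponent (K.subgroupOf H) :=
  (isComponent_subgroupOf_iff h.le).2 ⟨h.sub, h.qs⟩

theorem norm_sSup (h : ∀ g ∈ A, ∀ J ∈ 𝒮, cj g J ∈ 𝒮) : A ≤ N(sSup 𝒮) := fun g hg =>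
  mem_norm_of_cj_le (cj_le_iff.2 (sSup_le fun J a => cj_le_iff.1 (le_sSup (h g hg J a))))

theorem cj_le_n (hg : g ∈ N(A)) : cj g K ≤ A ↔ K ≤ A := by
  rw [← cj_le_cj (g := g) (H := K), cj_of_mem_norm hg]

theorem Cp.le_comm (h : Cp J K) (hR : ¬ J ≤ C(R)) (hn : R ≤ N(K)) : J ≤ ⁅K, R⁆ :=
  (h.le_or ⟨commg_le_left hn, commg_norml _ _⟩).resolve_right fun e => hR (cents_symm (pc h.pf
    (commutator_comm J R ▸ (commutator_mono h.le le_rfl).trans e)))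

theorem Cp.cent_of (h : Cp J H) (h1 : ¬ J ≤ F) (h2 : H ≤ N(F)) (h3 : B ≤ F) (h4 : B ≤ N(H)) :
    B ≤ C(J) :=
  pc h.pf (le_trans (le_inf ((commutator_mono h3 h.le).trans (commg_le_left h2))
    ((commutator_mono le_rfl h.le).trans (commg_le_right h4))) ((h.le_or (inf_normal_of_norm
      h2)).resolve_left fun e => h1 (e.trans inf_le_left)))

section
variable (hR : (#R).Prime) (hG : R ≤ N(G)) (hc : (#G).Coprime #R)
include hR hG hc

theorem cent_fam (hF : F ≤ G) (hH : H ≤ G) (h1 : R ≤ N(F)) (h2 : H ≤ N(F)) (h3 : F ⊓ C(R) ≤ N(H))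
    (h4 : ∀ J ∈ 𝒮, Cp J H ∧ ¬ J ≤ F ∧ ¬ J ≤ C(R)) (h5 : ∀ g ∈ R, ∀ J ∈ 𝒮, cj g J ∈ 𝒮)
    (hJ : J ∈ 𝒮) : J ≤ C(F) :=
  have a1 : sSup 𝒮 ≤ H := sSup_le fun J a => (h4 J a).1.le
  (le_sSup hJ).trans (cents_symm (cent_main hR hG hc (sSup_perfect fun J a => (h4 J a).1.pf)
    (le_antisymm (commg_le_left (norm_sSup h5)) (sSup_le fun J a => ((h4 J a).1.mono (le_sSup a)
      a1).le_comm (h4 J a).2.2 (norm_sSup h5))) (a1.trans hH) hF h1 (a1.trans h2)
    (cents_symm (sSup_le fun J a => cents_symm ((h4 J a).1.cent_of (h4 J a).2.1 h2 inf_le_left h3)))))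

/-- **Flavell**: `E(H) ≤ E(G)` for an `R C_G(R)`-invariant `H = [H, R]` -/
theorem ly_le (hH : H ≤ G) (h1 : G ⊓ C(R) ≤ N(H)) (h2 : ⁅H, R⁆ = H) : Ly H ≤ Ly G := by
  have nH : R ≤ N(H) := h2 ▸ commg_normr H R
  have a0 : Ly G ⊔ Fit G ≤ G := sup_le Ly_le (Fit_le G)
  have a1 : ∀ J, Cp J H → ¬ J ≤ Ly G → J ≤ C(R) := fun J a b => by
    by_contra c
    have := cent_fam hR hG hc (𝒮 := {J | Cp J H ∧ ¬ J ≤ Ly G ∧ ¬ J ≤ C(R)}) a0 hH
      (norms_sup (nLy hG) (norms_Fit hG)) (norms_sup (nLy (norms_of_le hH)) (norms_Fit (norms_of_le hH)))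
      ((inf_le_inf_right _ a0).trans h1) (fun J a => ⟨a.1, fun e => a.2.1 (perfect_le_of_le_sup a.1.pf
        (nLy (norms_of_le (Fit_le G))) (sol_of_nil (Fit_nil G)) e), a.2.2⟩)
      (fun g hg J a => ⟨a.1.cnj (nH hg), by rw [cj_le_n (nLy hG hg)]; exact a.2.1,
        by rw [cj_le_n (norms_cent le_normalizer hg)]; exact a.2.2⟩) ⟨a, b, c⟩
    exact Quasisimple.not_le_of_isSolvable a.qs (sol_of_nil (Fit_nil G)) (cent_gf (a.le.trans hH)
      (this.trans (cent_mono le_sup_left)) (this.trans (cent_mono le_sup_right)))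
  refine Ly_le_iff.2 fun J a => by_contra fun b => a.nc ?_
  exact (a.le.trans h2.ge).trans ((cc (D := sSup {J | Cp J H ∧ ¬ J ≤ Ly G}) (norm_sSup fun g hg J a =>
    ⟨a.1.cnj (le_normalizer hg), by rw [cj_le_n (nLy (norms_of_le hH) hg)]; exact a.2⟩)
    (cents_symm (sSup_le fun J a => a1 J a.1 a.2))).trans (cent_mono (le_sSup ⟨a, b⟩)))

end

theorem proj (hL : IsQuasisimple L) (h1 : A ≤ L ⊔ D) (h2 : D ≤ C(L)) (h3 : L ≤ N(L ⊓ (A ⊔ D)))
    (h4 : ¬ A ≤ C(L)) : L ≤ A ⊔ D := by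
  rcases Quasisimple.eq_or_le_centralizer hL inf_le_left h3 with e | e
  · exact e.ge.trans inf_le_right
  · refine absurd ((le_inf h1 (le_sup_left (b := D))).trans ?_) h4
    rw [sup_inf_modr (norms_of_cents h2) le_sup_right]
    exact sup_le e h2

theorem cent_proj (hL : IsQuasisimple L) (h1 : L ≤ K ⊔ M ⊓ C(L)) (h2 : M ≤ N(L)) (h3 : K ≤ M) :
    M ⊓ C(K) ≤ C(L) := by
  have a : M ≤ N(M ⊓ C(L)) := (inf_cent_normal h2).norm
  refine pc (Quasisimple.perfect hL) (le_trans ((commutator_mono le_rfl h1).trans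
    (commg_sup_right_le ((commg_eq_bot.2 inf_le_right).le.trans bot_le)
      (commg_le_right (inf_le_left.trans a)) (h3.trans a) le_normalizer)) inf_le_right)

theorem trich (hR : (#R).Prime) (hG : R ≤ N(G)) (hc : (#G).Coprime #R) (hK : K ≤ G)
    (hq : IsQuasisimple K) (h : ∀ g ∈ R ⊔ G ⊓ C(R), cj g K ≠ K → ⁅K, cj g K⁆ = ⊥) :
    Cp K (G ⊓ C(R)) ∨ Cp K G ∨ ∃ L, Cp L G ∧ R ≤ N(L) ∧ K ≤ L := by
  set Γ := R ⊔ G ⊓ C(R)
  obtain ⟨H, hH⟩ : ∃ H, H = sSup {J | ∃ g ∈ Γ, cj g K = J} := ⟨_, rfl⟩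
  have g1 : Γ ≤ N(G) := sup_le hG (norms_of_le inf_le_left)
  have g2 : Γ ≤ N(C(R)) := norms_cent (sup_le le_normalizer (norms_of_cents inf_le_right))
  have a1 : Γ ≤ N(H) := hH ▸ norm_sSup (by
    rintro g hg _ ⟨x, hx, rfl⟩; exact ⟨g * x, mul_mem hg hx, cj_mul _ _ _⟩)
  have a2 : ∀ {A}, Γ ≤ N(A) → K ≤ A → H ≤ A := fun a b => hH ▸ sSup_le (by
    rintro _ ⟨x, hx, rfl⟩; exact (cj_le_n (a hx)).2 b)
  have a3 : Cp K H := ⟨SubnIn.of_le_normalizer (hH ▸ le_sSup ⟨1, one_mem _, cj_one K⟩)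
    (hH ▸ sSup_le (by
      rintro _ ⟨x, hx, rfl⟩
      by_cases e : cj x K = K
      · exact e.le.trans le_normalizer
      · exact norms_of_cents (cents_symm (commg_eq_bot.1 (h x hx e))))), hq⟩
  have a4 : H ≤ N(K) := (a2 (nLy a1) a3.ly).trans a3.lyn
  by_cases hKR : K ≤ C(R)
  · exact Or.inl ⟨a3.sub.trans (SubnIn.of_le_normalizer (a2 (norms_inf g1 g2) (le_inf hK hKR))
      (le_sup_right.trans a1)), hq⟩
  right
  have a5 : H ≤ Ly G := (a2 (nLy a1) a3.ly).trans (ly_le hR hG hc (a2 g1 hK) (le_sup_right.trans a1)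
    (le_antisymm (commg_le_left (le_sup_left.trans a1)) (a2 (norms_comm a1 (sup_le le_normalizer
      (norms_of_cents inf_le_right))) (a3.le_comm hKR (le_sup_left.trans a1)))))
  obtain ⟨L, l1, l2⟩ : ∃ L, Cp L G ∧ ¬ L ≤ C(K) := by
    by_contra! e
    exact a3.nc (a3.le.trans (a5.trans (Ly_le_iff.2 e)))
  replace l2 : ¬ K ≤ C(L) := fun e => l2 (cents_symm e)
  obtain ⟨M, hM⟩ : ∃ M, M = sSup {J | ∃ g ∈ R, cj g L = J} := ⟨_, rfl⟩
  have m1 : R ≤ N(M) := hM ▸ norm_sSup (by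
    rintro g hg _ ⟨x, hx, rfl⟩; exact ⟨g * x, mul_mem hg hx, cj_mul _ _ _⟩)
  have m2 : ∀ {A}, (∀ g ∈ R, cj g L ≤ A) → M ≤ A := fun a => hM ▸ sSup_le (by
    rintro _ ⟨x, hx, rfl⟩; exact a x hx)
  have m3 : ∀ g ∈ R, cj g L ≤ M := fun g hg => hM ▸ le_sSup ⟨g, hg, rfl⟩
  have m4 : M ≤ Ly G := m2 fun g hg => (l1.cnj (hG hg)).ly
  have m5 : Ly G ≤ N(M) := hM ▸ le_normalizer_sSup (by
    rintro _ ⟨x, hx, rfl⟩; exact (l1.cnj (hG hx)).lyn)
  have m6 : L ≤ M := (cj_one L).ge.trans (m3 1 (one_mem _))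
  have m7 : M ⊓ C(R) ≤ Γ := (inf_le_inf_right _ (m4.trans Ly_le)).trans le_sup_right
  have m8 : M ≤ N(L) := m4.trans l1.lyn
  have k1 : K ≤ M := by_contra fun e => l2 ((cent_fam hR hG hc (𝒮 := {J | ∃ g ∈ R, cj g K = J})
    (m4.trans Ly_le) (a2 g1 hK) m1 (a5.trans m5) (m7.trans a1) (by
      rintro _ ⟨x, hx, rfl⟩
      exact ⟨a3.cnj (a1 (mem_sup_left hx)), by rwa [cj_le_n (m1 hx)],
        by rwa [cj_le_n (g2 (mem_sup_left hx))]⟩) (by
      rintro g hg _ ⟨x, hx, rfl⟩; exact ⟨g * x, mul_mem hg hx, cj_mul _ _ _⟩)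
    ⟨1, one_mem _, cj_one K⟩).trans (cent_mono m6))
  by_cases hL : R ≤ N(L)
  · exact Or.inr ⟨L, l1, hL, k1.trans (m2 fun g hg => (cj_of_mem_norm (hL hg)).le)⟩
  left
  have pr : ∀ {J : Subgroup X} {g}, ¬ R ≤ N(J) → g ∈ R → g ≠ 1 → cj g J ≠ J := fun a b c e =>
    a ((eq_zpowers_of_prime hR b c).ge.trans (zpowers_le.2 (mem_norm_iff_cj.2 e)))
  obtain ⟨M', hM'⟩ : ∃ M', M' = sSup {J | ∃ g ∈ R, g ≠ 1 ∧ cj g L = J} := ⟨_, rfl⟩
  have n1 : ∀ {A}, (∀ g ∈ R, g ≠ 1 → cj g L ≤ A) → M' ≤ A := fun a => hM' ▸ sSup_le (by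
    rintro _ ⟨x, hx, e, rfl⟩; exact a x hx e)
  have n2 : ∀ g ∈ R, g ≠ 1 → cj g L ≤ M' := fun g hg e => hM' ▸ le_sSup ⟨g, hg, e, rfl⟩
  have n3 : M' ≤ M ⊓ C(L) := n1 fun g hg e => le_inf (m3 g hg) ((l1.cnj (hG hg)).cent l1 (pr hL hg e))
  have n4 : M ≤ L ⊔ M' := m2 fun g hg => by
    by_cases e : g = 1
    · rw [e, cj_one]; exact le_sup_left
    · exact le_sup_of_le_right (n2 g hg e)
  have n5 : L ≤ M ⊓ C(R) ⊔ M' := fun l hl => by
    obtain ⟨m, a, b⟩ := exists_mul_mem_centralizer_of_commute R M' l (fun g hg x hx => by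
      by_cases e : g = x
      · rw [e]
      · refine (mem_cent.1 (((l1.cnj (hG hg)).cent (l1.cnj (hG hx)) fun e' => pr hL (mul_mem (inv_mem hx) hg)
          (fun e'' => e (inv_mul_eq_one.1 e'').symm) (by rw [cj_mul, e', cj_inv_cj]))
          (conj_mem_cj.2 hl)) _ (conj_mem_cj.2 hl)).symm) fun g hg => by
      by_cases e : g = 1
      · simp [e]
      · exact Or.inr (n2 g hg e (conj_mem_cj.2 hl))
    exact (mul_mem_cancel_right (mem_sup_right a)).1 (mem_sup_left ⟨mul_mem (m6 hl) (n3 a).1, b⟩)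
  have n6 : M ≤ L ⊔ M ⊓ C(L) := n4.trans (sup_le_sup_left n3 L)
  have n7 := (inf_cent_normal m8).norm
  have p1 : L ≤ M ⊓ H ⊔ M ⊓ C(L) := proj l1.qs (inf_le_left.trans n6) inf_le_right (n5.trans
    (sup_le (norms_inf (inf_le_left.trans m8) (norms_sup (norms_inf (norms_of_le inf_le_left)
      (m7.trans a1)) (inf_le_left.trans n7))) (norms_of_cents (n3.trans (inf_le_right.trans
        (cent_mono inf_le_left)))))) fun e => l2 ((le_inf k1 a3.le).trans e)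
  have p2 : L ≤ K ⊔ M ⊓ C(L) := proj l1.qs (k1.trans n6) inf_le_right (norms_inf le_normalizer
    (p1.trans (sup_le (norms_sup (inf_le_right.trans a4) (inf_le_left.trans n7))
      (norms_of_le le_sup_right)))) l2
  have p3 := cent_proj l1.qs p2 m8 k1
  have p4 : ∀ g ∈ Γ, g ∈ N(M) → cj g K ≠ K → K ≤ C(cj g⁻¹ L) := fun g a b c => by
    rw [← cj_cent, le_cj_iff, inv_inv]
    exact (le_inf ((cj_le_n b).2 k1) (cents_symm (commg_eq_bot.1 (h g a c)))).trans p3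
  by_cases hK' : R ≤ N(K)
  · refine absurd ((perfect_le_of_le_sup a3.pf (A := M ⊓ C(R)) (norms_of_cents (inf_le_right.trans
      (cent_mono inf_le_left))) (sol_of_ab (comm_center M)) fun k hk => ?_).trans inf_le_right) hKR
    obtain ⟨d, d1, c, c1, e⟩ := (mem_sup_of_norm' (inf_le_left.trans n7)).1
      ((n4.trans (sup_le (n5.trans (sup_le_sup_left n3 _)) (n3.trans le_sup_right))) (k1 hk))
    have d2 : d ∈ N(K) := by_contra fun e' => l2 (by
      have := p4 d (m7 d1) (le_normalizer d1.1) (mt mem_norm_iff_cj.2 e')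
      rwa [cj_of_mem_norm (inv_mem (m8 d1.1))] at this)
    have c2 : zpowers c ≤ N(K) := zpowers_le.2 ((mul_mem_cancel_left d2).1 (e ▸ le_normalizer hk))
    have c3 : zpowers c ≤ M ⊓ C(K) := le_inf (zpowers_le.2 c1.1) (pc a3.pf (le_trans (le_inf
      (commg_le_right c2) ((commutator_mono (zpowers_le.2 c1) k1).trans (commg_le_left n7)))
      ((Quasisimple.eq_or_le_centralizer hq inf_le_left (norms_inf le_normalizer (k1.trans n7))).resolve_left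
        fun e' => l2 (e'.ge.trans (inf_le_right.trans inf_le_right)))))
    refine e ▸ mul_mem (mem_sup_left d1) (mem_sup_right ⟨c1.1, cents_symm (m2 fun g hg => ?_)
      (c3 (mem_zpowers c))⟩)
    rw [cj_le_iff, cj_cent, cj_of_mem_norm (inv_mem (norms_inf m1 (norms_cent hK') hg))]
    exact cents_symm p3
  · have q1 : K ≤ L := by
      refine perfect_le_of_le_sup a3.pf (norms_of_cents (inf_le_left.trans (n3.trans inf_le_right)))
        (sol_of_ab (comm_center M')) ?_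
      rw [← sup_inf_modl (norms_of_cents (n3.trans inf_le_right)) (cents_symm (n3.trans inf_le_right))]
      exact le_inf (k1.trans n4) (cents_symm (n1 fun g hg e => cents_symm (by
        simpa using p4 g⁻¹ (mem_sup_left (inv_mem hg)) (m1 (inv_mem hg)) (pr hK' (inv_mem hg)
          (inv_ne_one.2 e)))))
    have q2 : L ≤ K := by
      refine perfect_le_of_le_sup l1.pf (norms_of_cents (inf_le_right.trans (cent_mono q1)))
        (sol_of_ab (comm_center L)) ((le_inf p2 le_rfl).trans ?_)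
      rw [sup_inf_modl (norms_of_cents (inf_le_right.trans (cent_mono q1))) q1]
      exact sup_le_sup_left (le_inf inf_le_right (inf_le_left.trans inf_le_right)) K
    exact le_antisymm q1 q2 ▸ l1

end H4.FC
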