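import Cfsg.Agent.H4.FC2

/-!
Flavell's component theorems, III: local analysis for a noncyclic acting group.
-/

set_option autoImplicit false
set_option linter.unusedSectionVars false

namespace H4.FC
open Cfsg Subgroup H19 H4.FL H1
open scoped commutatorElement

universe u
variable {X : Type u} [Group X] [Finite X] {A B D E F G H J K L M N P Q R S T U V W Y : Subgroup X}
  {p q : ℕ} {a b g x y : X} {π : Set ℕ}

theorem Ly_mono (h : A ⊴ H) : Ly A ≤ Ly H := layerOf_mono (SubnIn.of_le_normalizer h.le h.norm)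

theorem Ly_pf : ⁅Ly H, Ly H⁆ = Ly H := layerOf_perfect H

theorem fit_le (hA : A ≤ Fit J) (hp : PiG π A) (h : ∀ q, q.Prime → q ∈ π → Oc {q} J ≤ W) : A ≤ W :=
  le_of_syl fun q P hq hP => by
    by_cases e : q ∈ π
    · exact (hP.pi.le_Oc_of_le_Fit (hP.le.trans hA)).trans (h q hq e)
    · exact (hP.pi.eq_bot ((hp.of_le hP.le).compl_sing e)).le.trans bot_le

theorem cents_pi (h1 : ⁅A, B⁆ ≤ U) (h2 : ⁅A, B⁆ ≤ V) (hU : PiG π U) (hV : PiG πᶜ V) : A ≤ C(B) :=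
  commg_eq_bot.1 (H19.eq_bot_mono (le_inf h1 h2) (hU.inf_eq_bot hV))

/-- `R` centralizes `O^p(F*(H))` -/
structure Ce (p : ℕ) (R H : Subgroup X) : Prop where
  ly : Ly H ≤ C(R)
  oq : ∀ q, q.Prime → q ≠ p → Oc {q} H ≤ C(R)

theorem Ce.mono (h : Ce p R H) (hA : A ≤ R) : Ce p A H :=
  ⟨h.ly.trans (cent_mono hA), fun q a b => (h.oq q a b).trans (cent_mono hA)⟩

theorem Ce.normal (h : Ce p R H) (hA : A ⊴ H) : Ce p R A :=
  ⟨(Ly_mono hA).trans h.ly, fun q a b => (Oc_le_Oc hA).trans (h.oq q a b)⟩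

theorem Ce.fit (h : Ce p R H) (hB : B ≤ ⁅H, R⁆) (hn : R ≤ N(H)) (hc : B ≤ C(Oc {p} H)) :
    B ≤ Fit H :=
  cent_gf (hB.trans (commg_le_left hn)) (hB.trans (cc (nLy le_normalizer) (cents_symm h.ly)))
    (cents_symm (Fit_le_of_Oc fun q hq => by
      by_cases e : q = p
      · exact e ▸ cents_symm hc
      · exact cents_symm (hB.trans (cc (Oc_norm _ _) (cents_symm (h.oq q hq e))))))

theorem Ce.st (h : Ce p R H) (hn : R ≤ N(H)) (hc : (#H).Coprime #R) :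
    ⁅H ⊓ C(Oc {p} H), R⁆ ≤ Oc {p} H := by
  have h1 : R ≤ N(H ⊓ C(Oc {p} H)) := norms_inf hn (norms_cent (norms_Oc _ hn))
  have h2 := h.fit (commutator_mono inf_le_left le_rfl) hn ((commg_le_left h1).trans inf_le_right)
  rw [← commg_commg h1 (hc.coprime_dvd_left (card_dvd inf_le_left))]
  have h3 : ⁅H ⊓ C(Oc {p} H), R⁆ ≤ Oc {p} H ⊔ H ⊓ C(R) := fit_le h2 PiN.univ fun q hq _ => by
    by_cases e : q = p
    · exact e ▸ le_sup_left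
    · exact le_sup_of_le_right (le_inf (Oc_le _ _) (h.oq q hq e))
  refine (commutator_mono h3 le_rfl).trans ?_
  rw [commg_sup_cent_left inf_le_right (inf_le_left.trans (Oc_norm _ _))]
  exact commg_le_left (norms_Oc _ hn)

theorem Ce.of (hp : p.Prime) (hn : R ≤ N(H)) (hB : ⁅B, R⁆ ≤ Oc {p} H)
    (h : ∀ y ∈ H, y ∈ C(Oc {p} H) → PiE {p}ᶜ y → y ∈ B) : Ce p R H := by
  have h1 := Ly_cent (Oc_normal {p} H) (Oc_pi _ _).sol
  refine ⟨cents_symm (pc Ly_pf ?_), fun q hq e => ?_⟩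
  · rw [commutator_comm]
    exact ((commutator_mono (perf_le hp Ly_pf fun y a b => h y (Ly_le a) (h1 a) b) le_rfl).trans
      hB).trans (cents_symm h1)
  · have h2 := (Oc_pi {q} H).sing_ne e
    exact cents_pi ((commutator_mono (fun y a => h y (Oc_le _ _ a)
      (cents_symm (Oc_cents (Oc_normal _ _) h2) a) (h2.elt a)) le_rfl).trans hB)
      (commg_le_left (norms_Oc _ hn)) (Oc_pi _ _) h2

/-- the largest `q`-subgroup of `K` invariant under `A` and `C_K(A)` -/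
def Om (q : ℕ) (K A : Subgroup X) : Subgroup X :=
  sSup {U | U ≤ K ∧ PG q U ∧ A ≤ N(U) ∧ K ⊓ C(A) ≤ N(U)}

theorem Om_le : Om q K A ≤ K := sSup_le fun _ h => h.1

theorem le_Om (h1 : U ≤ K) (h2 : PG q U) (h3 : A ≤ N(U)) (h4 : K ⊓ C(A) ≤ N(U)) : U ≤ Om q K A :=
  le_sSup ⟨h1, h2, h3, h4⟩

theorem nOm (h1 : B ≤ N(K)) (h2 : B ≤ N(A)) : B ≤ N(Om q K A) := norm_sSup fun g hg U hU => by
  refine ⟨cj_le_of_mem_norm (h1 hg) hU.1, hU.2.1.J g, ?_, ?_⟩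
  · rw [← cj_norm, ← cj_of_mem_norm (h2 hg)]; exact cj_mono g hU.2.2.1
  · rw [← cj_norm, ← cj_of_mem_norm (norms_inf h1 (norms_cent h2) hg)]; exact cj_mono g hU.2.2.2

theorem Om_le_syl (hn : A ≤ N(K)) (hc : (#K).Coprime #A) (hs : Sol A) (hQ : Syl q Q K)
    (h : A ≤ N(Q)) : Om q K A ≤ Q := sSup_le fun U hU => by
  obtain ⟨c, a1, a2⟩ := inv_syl_le_cj hn hc (Or.inl hs) hU.1 hU.2.2.1 hU.2.1 hQ h
  rwa [le_cj_iff, cj_of_mem_norm (hU.2.2.2 (inv_mem a1))] at a2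

theorem Om_pg (hn : A ≤ N(K)) (hc : (#K).Coprime #A) (hs : Sol A) : PG q (Om q K A) := by
  obtain ⟨Q, a1, a2⟩ := inv_syl_exists q hn hc (Or.inl hs)
  exact a1.pi.of_le (Om_le_syl hn hc hs a1 a2)

section loc
variable (hR : (#R).Prime) (hG : R ≤ N(G)) (hc : (#G).Coprime #R) (hS : Ce p R G)
include hR hG hc hS

theorem loc0 (h1 : Y ≤ G) (h2 : PiG {p}ᶜ Y) (h3 : G ⊓ C(R) ≤ N(Y)) : Oc {p} G ⊓ C(R) ≤ C(Y) :=
  cents_pi ((commutator_mono inf_le_left h1).trans (commg_le_left (Oc_norm _ _)))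
    (commg_le_right ((inf_le_inf_right _ (Oc_le _ _)).trans h3)) (Oc_pi _ _) h2

theorem loc0' (h1 : Y ≤ G) (h2 : PiG {p}ᶜ Y) (h3 : R ≤ N(Y)) (h : Y ≤ C(Oc {p} G)) : Y ≤ C(R) :=
  cents_pi ((commutator_mono (le_inf h1 h) le_rfl).trans (hS.st hG hc)) (commg_le_left h3)
    (Oc_pi _ _) h2

theorem loc_hhs (hJ : J ≤ G) (h1 : R ≤ N(J)) (hD : D ≤ G) (h2 : PiG {p}ᶜ D) (h3 : J ≤ N(D))
    (h4 : R ≤ N(D)) (h5 : G ⊓ C(R) ≤ N(D)) : D ⊓ Od ⁅J, R⁆ ≤ C(R) :=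
  loc0' hR hG hc hS (inf_le_left.trans hD) (h2.infl _) (norms_inf h4 (nOd (commg_normr _ _)))
    fun y hy => hhs hR h1 (hc.coprime_dvd_left (card_dvd hJ)) (Oc_pi _ _)
      (hc.coprime_dvd_left (card_dvd (Oc_le _ _))) (hJ.trans (Oc_norm _ _)) (norms_Oc _ hG) h3 h4
      (loc0 hR hG hc hS hD h2 h5) hy.1 hy.2 (h2.elt hy.1)

theorem loc1 (hQ : Q ≤ G) (h1 : R ≤ N(Q)) (h2 : G ⊓ C(R) ≤ N(Q)) (h3 : PiG {p}ᶜ Q)
    (h4 : PiG {2}ᶜ Q) : Q ≤ C(R) :=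
  have a := commg_le_left h1
  cents_symm (cents_of_commg_le_cent h1 (hc.coprime_dvd_left (card_dvd hQ))
    ((le_inf a (le_Od le_rfl (h4.of_le a))).trans
      (loc_hhs hR hG hc hS hQ h1 hQ h3 le_normalizer h1 h2)))

theorem loc2 (hJ : J ≤ G) (h1 : R ≤ N(J)) (h2 : G ⊓ C(R) ≤ N(J)) : Ly J ≤ C(R) :=
  Ly_le_iff.2 fun K hK => by
    by_contra e
    have a1 := commg_le_left (nLy h1)
    have a2 := (hK.mono hK.ly Ly_le).le_comm e (nLy h1)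
    exact e (((hK.mono a2 (a1.trans Ly_le)).ly.trans (ly_le hR hG hc ((a1.trans Ly_le).trans hJ)
      (norms_comm (nLy h2) (norms_of_cents inf_le_right)) (commg_commg (nLy h1)
        (hc.coprime_dvd_left (card_dvd (Ly_le.trans hJ)))))).trans hS.ly)

theorem loc3 (hp : p ≠ 2) (hJ : J ≤ G) (h1 : R ≤ N(J)) (h2 : G ⊓ C(R) ≤ N(J)) :
    Od ⁅J, R⁆ ≤ C(Oc {2} J) := by
  have a1 := loc_hhs hR hG hc hS hJ h1 ((Oc_le {2} J).trans hJ) ((Oc_pi _ _).sing_ne hp.symm)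
    (Oc_norm _ _) (norms_Oc _ h1) (norms_Oc _ h2)
  have a2 : J ≤ N(Od ⁅J, R⁆) := nOd (commg_norml _ _)
  have a3 := cc (norms_inf (Oc_norm _ _) a2) (cents_symm a1)
  refine (closure_le _).2 fun y hy => zpowers_le.1 ?_
  have a4 : zpowers y ≤ Od ⁅J, R⁆ := zpowers_le.2 (mem_Od hy.1 hy.2)
  exact cents_of_stable (((Oc_pi _ _).infl _).coprime (piG_zpowers.2 hy.2))
    ((a4.trans Od_le).trans a3) ((commutator_mono le_rfl a4).trans (commg_le_inf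
      ((Od_le.trans (commg_le_left h1)).trans (Oc_norm _ _)) ((Oc_le _ _).trans a2)))

theorem loc4 (hY : Y ≤ G) (h1 : R ≤ N(Y)) (h2 : G ⊓ C(R) ≤ N(Y)) (h3 : PiG {p}ᶜ Y)
    (h4 : Y ⊓ C(R) ≤ C(Oc {p} G)) : Y ≤ C(R) :=
  loc0' hR hG hc hS hY h3 h1 (frob hR h1 (hc.coprime_dvd_left (card_dvd hY)) (Oc_pi _ _) h3
    (hc.coprime_dvd_left (card_dvd (Oc_le _ _))) (hY.trans (Oc_norm _ _)) (norms_Oc _ hG)
    (loc0 hR hG hc hS hY h3 h2) h4)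

theorem loc1' (hJ : J ≤ G) (h1 : R ≤ N(J)) (h2 : G ⊓ C(R) ≤ N(J)) (e : q ≠ p) (e' : q ≠ 2) :
    Oc {q} J ≤ C(R) :=
  loc1 hR hG hc hS ((Oc_le _ _).trans hJ) (norms_Oc _ h1) (norms_Oc _ h2) ((Oc_pi _ _).sing_ne e)
    ((Oc_pi _ _).sing_ne e')

theorem loc5 (hp : p ≠ 2) (hJ : J ≤ G) (h1 : R ≤ N(J)) (h2 : G ⊓ C(R) ≤ N(J))
    (h3 : J ≤ C(Oc {p} J)) : ⁅J, R⁆ ≤ Fit J := by
  have a0 := commg_le_left h1
  have a1 : ∀ q, q ≠ 2 → ⁅J, R⁆ ≤ C(Oc {q} J) := fun q e' => by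
    by_cases e : q = p
    · exact e ▸ a0.trans h3
    · exact cc (Oc_norm _ _) (cents_symm (loc1' hR hG hc hS hJ h1 h2 e e'))
  have a2 : Od ⁅J, R⁆ ≤ Fit J := cent_gf (Od_le.trans a0)
    (Od_le.trans (cc (nLy le_normalizer) (cents_symm (loc2 hR hG hc hS hJ h1 h2))))
    (cents_symm (Fit_le_of_Oc fun q _ => cents_symm (by
      by_cases e : q = 2
      · exact e ▸ loc3 hR hG hc hS hp hJ h1 h2
      · exact Od_le.trans (a1 q e))))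
  have a3 : Od ⁅J, R⁆ ≤ C(⁅J, R⁆) := (closure_le _).2 fun y hy => zpowers_le.1
    (fit_le (zpowers_le.2 (a2 (mem_Od hy.1 hy.2))) (piG_zpowers.2 hy.2)
      fun q _ e => cents_symm (a1 q e))
  exact le_Fit ⟨a0, commg_norml _ _⟩ (nil_of_quo_cent (nOd le_normalizer) (inf_le_left.trans a3)
    ((piG_quo_iff (nOd le_normalizer)).2 Od_idx).nil)

end loc

end H4.FC
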