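import Cfsg.Agent.H4.QA8
import Cfsg.Agent.H29.KMain
import Cfsg.Agent.H9.ZJ

/-! `ZJ` and `K_∞` theorems in the presence of a coprime group of operators. -/

set_option autoImplicit false

namespace H4.QA

open Cfsg Subgroup H28 H29
open scoped commutatorElement MatrixGroups

universe u

variable {G : Type u} [Group G] {p : ℕ} [hp : Fact p.Prime] [Finite G]

/-- the core of Glauberman's theorem on `K_∞` (after `H29.kinf_core`) -/
theorem kinf_core' {S A : Subgroup G} [A.Normal] (hTS : pCore p G ≤ S) (hAT : A ≤ pCore p G)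
    (hA3 : ⁅pCore p G, A⁆ ≤ A ⊓ 𝐂 A) (hc : S ⊓ chiefCent A ≤ pCore p G)
    (hK : ¬ ∀ n, kE S n ≤ pCore p G ∧ kO S (n + 1) ≤ pCore p G) :
    ∃ g ∈ S, ∃ U V : Subgroup G, IsChiefFactor U V ∧ U ≤ A ∧ ⁅⁅U, zpowers g⁆, zpowers g⁆ ≤ V ∧
      ¬ ⁅U, zpowers g⁆ ≤ V := by
  have hT := isPGroup_pCore p G
  set T := pCore p G with hTdef
  have hAS := hAT.trans hTS
  have hA2 : ⁅A, A⁆ ≤ A ⊓ 𝐂 A := (commutator_mono hAT le_rfl).trans hA3
  have fin : ∀ B ≤ S, ¬ B ≤ T → ⁅⁅⁅A, B⁆, B⁆, B⁆ ≤ A ⊓ 𝐂 A → ⁅⁅A ⊓ 𝐂 A, B⁆, B⁆ = ⊥ →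
      (∀ U V : Subgroup G, IsChiefFactor U V → U ≤ A → ⁅⁅U, B⁆, B⁆ ≤ V) →
      ∃ g ∈ S, ∃ U V : Subgroup G, IsChiefFactor U V ∧ U ≤ A ∧ ⁅⁅U, zpowers g⁆, zpowers g⁆ ≤ V ∧
          ¬ ⁅U, zpowers g⁆ ≤ V := by
    intro B hB hBT _ _ h3
    obtain ⟨g, hg, hgT⟩ := SetLike.not_le_iff_exists.1 hBT
    have hz := zpowers_le.2 hg
    have h4 : g ∉ chiefCent A := fun h => hgT (hc ⟨hB hg, h⟩)
    rw [mem_chiefCent] at h4
    push Not at h4
    obtain ⟨U, V, h5, h6, h7⟩ := h4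
    exact ⟨g, hB hg, U, V, h5, h6, (commutator_mono (commutator_mono le_rfl hz) hz).trans (h3 U V h5 h6), h7⟩
  have fin2 : ∀ B ≤ S, ¬ B ≤ T → ⁅⁅A, B⁆, B⁆ ≤ A ⊓ 𝐂 A → ⁅⁅A ⊓ 𝐂 A, B⁆, B⁆ = ⊥ → _ :=
    fun B hB hBT h1 h2 => fin B hB hBT ((commutator_mono h1 le_rfl).trans
      (commutator_le_of_le_normalizer (le_normalizer_of_normal' _ _))) h2
      fun U V h hU => quad_chief_of h1 h2 h hU
  have fin3 : ∀ B ≤ S, ¬ B ≤ T → ⁅⁅A, B⁆, B⁆ = ⊥ → _ :=
    fun B hB hBT h1 => fin2 B hB hBT (h1.le.trans bot_le)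
      (eq_bot_iff.2 ((commutator_mono (commutator_mono inf_le_left le_rfl) le_rfl).trans h1.le))
  by_cases c1 : A ∈ kLowerStarFamily S
  swap
  · rw [mem_kLow] at c1
    push Not at c1
    obtain ⟨B, b1, b2, b3, b4, b5, b6⟩ := c1 (hA2.trans inf_le_right) (le_normalizer_of_normal' _ _)
    refine fin2 B b2 (fun h => b6 ?_) (le_inf ?_ ?_) b5
    · rw [comm_comm]; exact (commutator_mono h le_rfl).trans hA3
    · exact iterCommutator_le (le_normalizer_of_normal' B A) 2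
    · exact (commutator_mono (commutator_le_of_le_normalizer' b3) le_rfl).trans (comm_eq_bot'.1 b4)
  by_cases c2 : kO S 1 ≤ T
  swap
  · have : ∃ B ≤ S, B ∈ kUpperStarFamily (kE S 0) ∧ ¬ B ≤ T := by
      by_contra hc
      push Not at hc
      exact c2 (kO_le_of hc)
    obtain ⟨B, b1, b2, b3⟩ := this
    have h1 : A ≤ kE S 0 := le_kE hAS (by rwa [kO_zero])
    refine fin3 B b1 b3 (comm_eq_bot.2 ?_)
    rw [comm_comm]
    exact (commutator_mono le_rfl h1).trans (b2.2.trans inf_le_right)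
  have c3 : ∃ n, ¬ kE S n ≤ T := by
    by_contra hc
    push Not at hc
    exact hK fun n => ⟨hc n, (kO_anti (by omega)).trans c2⟩
  classical
  obtain ⟨n, hn, hmin⟩ : ∃ n, ¬ kE S n ≤ T ∧ ∀ m < n, kE S m ≤ T :=
    ⟨Nat.find c3, Nat.find_spec c3, fun m hm => by simpa using Nat.find_min c3 hm⟩
  have hAK : A ≤ kO S n := by
    cases n with
    | zero => rwa [kO_zero]
    | succ m =>
      refine le_kO hAS ⟨hA2.trans inf_le_right, ?_⟩
      rw [comm_comm]
      exact (commutator_mono (hmin m m.lt_succ_self) le_rfl).trans hA3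
  have : ∃ B ≤ S, B ∈ kLowerStarFamily (kO S n) ∧ ¬ B ≤ T := by
    by_contra hc
    push Not at hc
    exact hn (kE_le_of hc)
  obtain ⟨B, b1, ⟨b2, b3, b4⟩, b5⟩ := this
  have hAB : ⁅A, B⁆ ≤ B := commutator_le_of_le_normalizer' (hAK.trans b3)
  have hABB : ⁅⁅A, B⁆, B⁆ ≤ B ⊓ 𝐂 B := (commutator_mono hAB le_rfl).trans
    (le_inf (commutator_le_of_le_normalizer le_normalizer) b2)
  have hA3B : ⁅⁅⁅A, B⁆, B⁆, B⁆ = ⊥ := comm_eq_bot.2 (hABB.trans inf_le_right)
  have hZZ : A ⊓ 𝐂 A ≤ 𝐂 (A ⊓ 𝐂 A) := H28.center_le_centralizer A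
  have hZB : ⁅⁅A ⊓ 𝐂 A, B⁆, B⁆ = ⊥ := by
    refine comm_eq_bot.2 (le_trans ?_ (inf_le_right : B ⊓ 𝐂 B ≤ _))
    rw [comm_comm]
    refine b4 _ (abelian_mem_c2 hZZ) (inf_le_left.trans hAK) (le_normalizer_of_normal' _ _)
      (by rw [comm_eq_bot.2 hZZ, commutator_bot_right]) (comm_eq_bot.2 (le_trans ?_ hZZ))
    exact commutator_le_of_le_normalizer' (le_normalizer_of_normal' _ _)
  by_cases c4 : B ⊓ 𝐂 B ≤ T
  swap
  · refine fin3 _ (inf_le_left.trans b1) c4 (comm_eq_bot'.2 ?_)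
    exact inf_le_right.trans (centralizer_anti ((commutator_mono le_rfl inf_le_left).trans hAB))
  by_cases c5 : B ≤ chiefCent (A ⊓ 𝐂 A)
  swap
  · obtain ⟨g, hg, hgc⟩ := SetLike.not_le_iff_exists.1 c5
    rw [mem_chiefCent] at hgc
    push Not at hgc
    obtain ⟨U, V, h5, h6, h7⟩ := hgc
    have hz := zpowers_le.2 hg
    exact ⟨g, b1 hg, U, V, h5, h6.trans inf_le_left,
      ((commutator_mono (commutator_mono h6 hz) hz).trans hZB.le).trans bot_le, h7⟩
  refine fin B b1 b5 (hA3B.le.trans bot_le) hZB fun U V h hU => ?_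
  have hsub := subnIn_sup_of_pMod c5 (pMod_chiefCent (hT.to_le (inf_le_left.trans hAT)))
  have hZ0 : B ⊔ 𝐂 (A ⊓ 𝐂 A) ≤ 𝐂 (A ⊓ 𝐂 A ⊓ 𝐂 B) :=
    sup_le (le_centralizer_iff.1 inf_le_right) (centralizer_anti inf_le_left)
  have hAZ0 : A ≤ 𝐍 (A ⊓ 𝐂 A ⊓ 𝐂 B) :=
    (le_centralizer_iff.1 (inf_le_left.trans inf_le_right)).trans (centralizer_le_normalizer _)
  have hR : B ⊔ 𝐂 (A ⊓ 𝐂 A) ≤ 𝐍 (A ⊓ cmod A (A ⊓ 𝐂 A ⊓ 𝐂 B)) :=
    le_normalizer_inf (le_normalizer_of_normal' _ _) (le_normalizer_cmod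
      (le_normalizer_of_normal' _ _) (hZ0.trans (centralizer_le_normalizer _)))
  refine quad_of_subnIn h ((commutator_mono le_rfl (hU.trans hAT)).trans
    (chief_commutator_pCore h (hT.to_le (hU.trans hAT)))) hsub le_sup_left hR ?_ ?_
  · refine comm_eq_bot.2 (le_trans ?_ (inf_le_right : B ⊓ 𝐂 B ≤ _))
    rw [comm_comm]
    refine b4 _ ?_ (inf_le_left.trans hAK) (le_sup_left.trans hR) (comm_eq_bot'.2 ?_)
      (comm_eq_bot.2 ?_)
    · exact ((commutator_mono inf_le_left inf_le_left).trans hA2).trans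
        (inf_le_right.trans (centralizer_anti inf_le_left))
    · exact ((commutator_mono inf_le_left inf_le_right).trans commutator_cmod_le).trans inf_le_right
    · exact ((commutator_mono c4 inf_le_left).trans hA3).trans
        (inf_le_right.trans (centralizer_anti inf_le_left))
  · have h1 : ⁅⁅A, B⁆, B⁆ ≤ A := iterCommutator_le (le_normalizer_of_normal' B A) 2
    refine (commutator_mono (commutator_mono hU le_rfl) le_rfl).trans (le_inf h1
      (le_cmod' (h1.trans hAZ0) (le_inf ((commutator_mono h1 le_rfl).trans hA2) ?_)))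
    refine (commutator_mono hABB le_rfl).trans (le_trans (commutator_le_of_le_normalizer ?_) inf_le_right)
    exact le_normalizer_inf (hAK.trans b3) (le_normalizer_centralizer (hAK.trans b3))

variable (h5 : 5 ≤ p) {K A : Subgroup G} [K.Normal] (hc : (Nat.card A).Coprime (Nat.card K)) (hi : ¬ p ∣ K.index)
  (hK : IsCharP p K)
include h5 hc hi hK

omit h5 hc hK in
theorem le_of_pg {B : Subgroup G} (hB : IsPGroup p B) : B ≤ K := fun x hx => by
  obtain ⟨g, -, h⟩ := H2.exists_conj_mem_of_not_dvd_relIndex hB le_top (H := K) (by rwa [relIndex_top_right])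
  simpa [mul_assoc] using ‹K.Normal›.conj_mem _ (h x hx) g

omit hi in
/-- Flavell: `K_∞(P)` is normal -/
theorem kinf_coprime {S : Subgroup G} (hS : pCore p G ≤ S) (hSK : S ≤ K) (hH : ∀ g ∈ S, Hyp p K A g) :
    (inducedFunctor kInfLower S).Normal := by
  by_contra hn
  have hT := isPGroup_pCore p G
  obtain ⟨B, hB, h1, h2, h3⟩ := exists_critical_normal hT
  have h4 : pCoreOf p K ≤ pCore p G := by
    have : (pCoreOf p K).Normal := normal_of_le_normalizer (le_normalizer_of_normal.trans (normalizer_le_normalizer_pCoreOf p K))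
    exact le_pCore (isPGroup_pCoreOf p K)
  have h6 : IsPGroup p ↥(K ⊓ chiefCent B) := by
    refine isPGroup_of_forall_coprime fun x hx hx' => hK.eq_one hx.1 hx' (centralizer_anti h4
      (mem_centralizer_of_critical hT (commutator_le_of_le_normalizer' (le_normalizer_of_normal' _ _))
        h3 hx' (mem_normalizer_of_normal' _ _) ?_))
    obtain ⟨k, hk⟩ := pMod_chiefCent (hT.to_le h1) x hx.2
    obtain ⟨m, hm⟩ := exists_pow_eq_self_of_coprime (hx'.symm.pow_left k)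
    exact hm ▸ pow_mem hk m
  obtain ⟨g, hg, U, V, k1, k2, k3, k4⟩ := kinf_core' hS h1 h2 ((inf_le_inf_right _ hSK).trans (le_pCore h6))
    (not_forall_k_le hS (Or.inl hn))
  exact k4 (chief_trivial h5 hc (hSK hg) (ZMod.card p) (Or.inl (hH g hg)) k1 (hT.to_le (k2.trans h1)) k3)

/-- the `ZJ` theorem with a coprime group of operators -/
theorem zj_coprime {F : Type*} [Field F] [Fintype F] (hF : Fintype.card F = p)
    (hH : ¬ H9.Involves (K ⊓ 𝐂 A) PSL(2, F)) {S : Subgroup G} (hS : IsSylowIn p S K) {e : ℕ} (he : e = p ∨ e = 0) :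
    ⊤ ≤ 𝐍 (H9.ZJ e S) := by
  have hst : H9.PStab p (⊤ : Subgroup G) := fun B D _ h1 h2 _ h3 h4 => by
    have := normal_of_le_normalizer h1
    refine ⟨chiefCent B, fun g hg => mem_chiefCent.2 fun U V k1 k2 => ?_, le_top, le_normalizer_of_normal,
      pMod_chiefCent h2⟩
    exact chief_trivial h5 hc (le_of_pg hi h3 hg) hF (Or.inr hH) k1 (h2.to_le k2) (((commutator_mono
      (commutator_mono k2 (zpowers_le.2 hg)) (zpowers_le.2 hg)).trans h4.le).trans bot_le)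
  have hn : ⊤ ≤ 𝐍 (pCoreOf p K) := le_normalizer_of_normal.trans (normalizer_le_normalizer_pCoreOf p K)
  have := H9.zj_inf (by omega) he (hS.trans le_top (by rwa [relIndex_top_right])) (H9.strCl_self _ _) hst
    (Z := H9.ZJ e S) inf_le_left inf_le_right (inf_le_right.trans (H9.normalizer_JJ_le_normalizer_ZJ e S))
    hS.pCoreOf_le hn
  rwa [inf_eq_right.2 (((hst _ _ le_top hn (isPGroup_pCoreOf p K) le_top (hS.isPGroup.to_le (H9.ZJ_le e S))
    (H28.commutator_eq_bot_iff.2 ((commutator_le_of_le_normalizer' (hS.pCoreOf_le.trans (le_normalizer.trans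
      (H9.normalizer_le_normalizer_ZJ e S)))).trans (H28.center_le_centralizer _)))).mono ((H9.ZJ_le e S).trans hS.le)
      le_top).le_pCoreOf ((isPGroup_pCoreOf p K).to_le hK))] at this

end H4.QA
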