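import Cfsg.Agent.H4.FC3
import Cfsg.Agent.H4.QA9

/-!
Flavell's component theorems, IV: a noncyclic acting group and `O^p(F*(G))`.
-/

set_option autoImplicit false
set_option linter.unusedSectionVars false

namespace H4.FC
open Cfsg Subgroup H19 H4.FL H1
open scoped commutatorElement

universe u
variable {X : Type u} [Group X] [Finite X] {A B D E F G H J K L M N P Q R S T U V W Y : Subgroup X}
  {p q r : ℕ} {a b g x y : X} {π : Set ℕ}

/-- Glauberman's `K_∞` -/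
abbrev Kf (S : Subgroup X) : Subgroup X := inducedFunctor kInfLower S

theorem Kf_le : Kf S ≤ S := map_subtype_le _

theorem Kf_map {Y : Type u} [Group Y] (f : X →* Y) (h : ∀ x ∈ S, f x = 1 → x = 1) :
    (Kf S).map f = (kInfLower (S.map f)).map (S.map f).subtype := by
  let e : S ≃* S.map f := MulEquiv.ofBijective (f.subgroupMap S) ⟨(injective_iff_map_eq_one _).2
    fun x hx => Subtype.ext (h x x.2 (congrArg Subtype.val hx)), f.subgroupMap_surjective S⟩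
  rw [← H29.map_kInfLower_equiv e, Kf, inducedFunctor, map_map, map_map]
  rfl

theorem Kf_sub (h : S ≤ D) : (Kf (S.subgroupOf D)).map D.subtype = Kf S := by
  rw [Kf_map _ fun x _ e => Subtype.ext e, map_subgroupOf_eq_of_le h]; rfl

theorem Kf_quo (h : S ≤ N(K)) (hd : K ⊓ S = ⊥) : Kf (quo K S) = quo K (Kf S) := by
  have e : (Kf S).subgroupOf N(K) = Kf (S.subgroupOf N(K)) := by
    rw [← Kf_sub h, subgroupOf, comap_map_eq_self_of_injective (subtype_injective _)]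
  rw [quo, quo, im, im, e, Kf_map _ fun x a b => Subtype.ext (hd.le ⟨qmk_eq_one.1 b, a⟩)]; rfl

theorem nKf (h : A ≤ N(S)) : A ≤ N(Kf S) := fun g hg => by
  rw [mem_norm_iff_cj, cj_def, Kf_map _ fun x _ e => by simpa [mul_inv_eq_one] using e, ← cj_def,
    cj_of_mem_norm (h hg)]; rfl

theorem cent_Kf (hp : p.Prime) (hS : PG p S) : S ⊓ C(Kf S) ≤ Kf S :=
  haveI := Fact.mk hp
  H29.centralizer_induced_kInfLower hS.isPGroup

theorem kamb (hp : p.Prime) (h5 : 5 ≤ p) (hn : A ≤ N(K)) (hc : (#K).Coprime #A)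
    (hK : K ⊓ C(Oc {p} K) ≤ Oc {p} K) (h1 : Oc {p} K ≤ S) (h2 : S ≤ K) (hS : PG p S)
    (hH : ∀ g ∈ S, QA.Hyp p K A g) : K ≤ N(Kf S) := by
  haveI := Fact.mk hp
  by_cases hb : S = ⊥
  · rw [eq_bot_iff.2 (Kf_le.trans hb.le), norm_bot]; exact le_top
  have hA : PiG {p}ᶜ A := PiN.of_coprime
    (hc.symm.coprime_dvd_right ((hS.dvd_of_ne_bot hb).trans (card_dvd h2)))
  have hKn := left_normal_sup hn
  haveI := hKn.subgroupOf
  have h3 : Oc {p} (K ⊔ A) ≤ S := by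
    refine le_trans ?_ h1
    rw [Oc_eq_inf hKn]
    refine le_inf le_rfl (le_of_pi_of_relIndex ((Oc_le _ _).trans hKn.norm) le_sup_left (Oc_le _ _)
      (Oc_pi _ _) ?_)
    rw [relIndex_sup_of_norm hn]
    exact hA.relIndex _
  have h8 := QA.kinf_coprime (K := K.subgroupOf (K ⊔ A)) (A := A.subgroupOf (K ⊔ A)) h5
    (by rw [card_subgroupOf' le_sup_left, card_subgroupOf' le_sup_right]; exact hc.symm)
    ((H28.isCharP_subgroupOf le_sup_left).2 (by
      rwa [H28.IsCharP, pCoreOf, pCore_map_eq hp])) (S := S.subgroupOf (K ⊔ A))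
    (map_le_iff_le_comap.1 (by rwa [pCore_map_eq hp])) (comap_mono h2)
    fun g hg => QA.Hyp.subgroupOf le_sup_right (hH g hg)
  rw [← Kf_sub (h2.trans (le_sup_left : K ≤ K ⊔ A))]
  exact le_sup_left.trans (normalIn_map_subtype _).norm

theorem pg_quo (hn : A ≤ N(K)) (h : ∀ y ∈ A, PiE {p}ᶜ y → y ∈ K) : PG p (quo K A) :=
  (piG_quo_iff hn).2 fun q hq hd => by
    by_contra e
    obtain ⟨Q, a⟩ := exists_syl q A
    exact a.not_dvd_relIndex hq (fun y hy => h y (a.le hy) ((a.pi.sing_ne e).elt hy)) hd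

theorem hyp_quo (hp : p.Prime) (hn : R ≤ N(D)) (hc : (#D).Coprime #R) (h1 : D ≤ N(K))
    (h2 : R ≤ N(K)) (hS : S ≤ D) (h : ∀ g ∈ S, QA.Hyp p D R g) :
    ∀ g ∈ quo K S, QA.Hyp p (quo K D) (quo K R) g := by
  haveI := Fact.mk hp
  rintro _ ⟨g, hg, rfl⟩
  refine ((h g hg).subgroupOf h2).map (fun x hx => ?_)
    (by rw [card_subgroupOf' h1, card_subgroupOf' h2]; exact hc.symm) _
  exact le_normalizer_comap _ (hn hx)

/-- `K_∞(P ⊓ H)` is normal -/
theorem norm_Kf (hp : p.Prime) (h5 : 5 ≤ p) (hn : R ≤ N(G)) (hc : (#G).Coprime #R) (hs : Sol R)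
    (hH : H ≤ G) (h1 : R ≤ N(H)) (h2 : G ⊓ C(R) ≤ H) (h : Ce p R H) :
    H ≤ N(Kf (Om p G R ⊓ H)) := by
  have cH := hc.coprime_dvd_left (card_dvd hH)
  have pP : PG p (Om p G R) := Om_pg hn hc hs
  have CP : G ⊓ C(R) ≤ N(Om p G R) := nOm (norms_of_le inf_le_left) (norms_of_cents inf_le_right)
  have RP : R ≤ N(Om p G R) := nOm hn le_normalizer
  set S := Om p G R ⊓ H
  have pS : PG p S := pP.infl _
  have CS : G ⊓ C(R) ≤ N(S) := norms_inf CP (norms_of_le h2)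
  have RS : R ≤ N(S) := norms_inf RP h1
  have b0 := commg_le_left h1
  have b1 := commg_norml H R
  set D := ⁅H, R⁆ ⊔ S
  have DH : D ≤ H := sup_le b0 inf_le_right
  have RD : R ≤ N(D) := norms_sup (commg_normr _ _) RS
  have CD : G ⊓ C(R) ≤ N(D) := norms_sup (h2.trans b1) CS
  have cD := cH.coprime_dvd_left (card_dvd DH)
  have st := h.st h1 cH
  have y1 : Oc {p}ᶜ H ≤ C(R) := cents_pi ((commutator_mono (le_inf (Oc_le _ _)
    (Oc_cents' (Oc_normal _ _) (Oc_pi _ _))) le_rfl).trans st) (commg_le_left (norms_Oc _ h1))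
    (Oc_pi _ _) (Oc_pi _ _)
  set Z := Oc {p}ᶜ H ⊓ ⁅H, R⁆
  have pZ : PiG {p}ᶜ Z := (Oc_pi _ _).infl _
  have HZ : H ≤ N(Z) := norms_inf (Oc_norm _ _) b1
  have RZ : R ≤ N(Z) := norms_of_cents (cents_symm (inf_le_left.trans y1))
  have ZD : Z ≤ D := le_sup_of_le_left inf_le_right
  have DZ := DH.trans HZ
  have z1 : D ≤ C(Z) := sup_le ((cc (Oc_norm _ _) (cents_symm y1)).trans (cent_mono inf_le_left))
    (cents_pi (commg_le_left ((le_inf ((ZD.trans DH).trans hH) (inf_le_left.trans y1)).trans CS))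
      (commg_le_right (inf_le_right.trans HZ)) pS pZ)
  have oS : ∀ {U}, U ≤ H → PG p U → R ≤ N(U) → G ⊓ C(R) ≤ N(U) → U ≤ S := fun a b c d =>
    le_inf (le_Om (a.trans hH) b c d) a
  have o1 : Oc {p} H ≤ D := le_sup_of_le_right
    (oS (Oc_le _ _) (Oc_pi _ _) (norms_Oc _ h1) (h2.trans (Oc_norm _ _)))
  have o2 : quo Z (D ⊓ C(Oc {p} H)) ≤ Oc {p} (quo Z D) := by
    refine le_Oc ((inf_cent_normal (DH.trans (Oc_norm _ _))).quo Z)
      (pg_quo (inf_le_left.trans DZ) fun y hy e => ?_)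
    have a1 : zpowers y ≤ ⁅H, R⁆ := le_of_pi_of_relIndex ((zpowers_le.2 (DH hy.1)).trans b1)
      le_sup_left (zpowers_le.2 hy.1) (piG_zpowers.2 e) (by
        rw [relIndex_sup_of_norm (inf_le_right.trans b1)]; exact (pS.relIndex _).compl_compl)
    exact zpowers_le.1 (le_inf ((piG_zpowers.2 e).le_Oc_of_le_Fit' (h.fit a1 h1
      (zpowers_le.2 hy.2))) a1)
  have o3 : Oc {p} (quo Z D) ≤ quo Z S := by
    have a1 := qpre_normal ⟨ZD, DZ⟩ (Oc_normal {p} (quo Z D))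
    have a2 := nil_of_quo_cent (qpre_le_norm (Oc {p} (quo Z D)))
      (inf_le_left.trans (cents_symm (a1.le.trans z1))) (by rw [quo_qpre]; exact (Oc_pi _ _).nil)
    obtain ⟨U, a3, a4⟩ := Hall.exists_slift (X := Oc {p} (quo Z D))
      (by rw [quo_qpre]; exact Hall.self (Oc_pi _ _)) ⟨le_qpre _, qpre_le_norm (Oc {p} (quo Z D))⟩
    rw [← a4]
    exact quo_mono _ ((a3.pi.le_Oc_of_le_Fit (a3.le.trans (le_Fit a1 a2))).trans
      (oS ((Oc_le _ _).trans DH) (Oc_pi _ _) (norms_Oc _ RD) (norms_Oc _ CD)))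
  have SD : S ≤ D := le_sup_right
  have k1 := kamb hp h5 (quo_norms RD) (cop_quo cD Z) ?_ o3 (quo_mono _ SD) (pS.quo _)
    (hyp_quo hp RD cD DZ RZ SD fun g hg T a1 a2 a3 => ?_)
  · rw [Kf_quo (SD.trans DZ) (pZ.inf_eq_bot' pS)] at k1
    have KD := Kf_le.trans SD
    have k2 := norms_of_quo DZ (KD.trans DZ) k1
    have k3 : Syl p (Kf S) (Z ⊔ Kf S) := ⟨le_sup_right, pS.of_le Kf_le, by
      rw [relIndex_sup_right_of_norm (KD.trans DZ)]; exact pZ.relIndex _⟩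
    have k4 : D ≤ N(Kf S) := by
      rw [k3.eq_Oc (sup_le (norms_of_cents (cents_symm (KD.trans z1))) le_normalizer)]
      exact norms_Oc _ k2
    rw [← commg_sup_cent h1 cH (Or.inl hs)]
    exact sup_le (le_sup_left.trans k4) ((inf_le_inf_right _ hH).trans (nKf CS))
  · refine le_trans ?_ o2
    rintro _ ⟨⟨x, hx, rfl⟩, hx'⟩
    refine mem_im_of ⟨hx, zpowers_le.1 ?_⟩
    have a1 : zpowers (x : X) ≤ D := zpowers_le.2 hx
    refine cents_pi (commg_le_right ((a1.trans DH).trans (Oc_norm _ _)))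
      ((quo_cents_iff (a1.trans DZ) (o1.trans DZ)).1 ?_) (Oc_pi _ _) pZ
    rw [quo_zpowers x.2]
    exact (zpowers_le.2 hx').trans (cent_mono (le_Oc ((Oc_normal _ _).of_le o1 DH |>.quo Z)
      ((Oc_pi _ _).quo _)))
  · haveI := Fact.mk hp
    obtain ⟨Q, a4, a5, a6⟩ := inv_syl_ge hn hc (Or.inl hs) ((a1.trans DH).trans hH) a2
      (PiN.of_isPGroup hp a3)
    exact (a4.pi.of_le (sup_le a6 (zpowers_le.2 (Om_le_syl hn hc hs a4 a5 hg.1)))).isPGroup

/-- the hypothesis of the theorem, for `R` elementary abelian of rank two -/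
structure Su (p r : ℕ) (G R : Subgroup X) : Prop where
  el : El r 2 R R
  nG : R ≤ N(G)
  cop : (#G).Coprime #R
  pp : p.Prime
  h5 : 5 ≤ p
  ce : ∀ b ∈ R, b ≠ 1 → Ce p R (G ⊓ C[b])

theorem Su.sol (s : Su p r G R) : Sol R := s.el.pg.sol
theorem Su.cb (s : Su p r G R) (hb : b ∈ R) : R ≤ C[b] := s.el.le_cent.trans (cent_le_cent1 hb)
theorem Su.nb (s : Su p r G R) (hb : b ∈ R) (h : R ≤ N(K)) : R ≤ N(K ⊓ C[b]) :=
  norms_inf h (norms_of_le (s.cb hb))
theorem Su.two (s : Su p r G R) : p ≠ 2 := by have := s.h5; omega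
theorem Su.pP (s : Su p r G R) : PG q (Om q G R) := Om_pg s.nG s.cop s.sol
theorem Su.RP (s : Su p r G R) : R ≤ N(Om q G R) := nOm s.nG le_normalizer
theorem CP : G ⊓ C(R) ≤ N(Om q G R) := nOm (norms_of_le inf_le_left) (norms_of_cents inf_le_right)

theorem Su.glob (s : Su p r G R) (hK : K ≤ G) (h1 : R ≤ N(K)) (h2 : G ⊓ C(R) ≤ N(K))
    (h : ∀ b ∈ R, ∀ A ≤ R, (#A).Prime → A ≤ N(G ⊓ C[b]) → (#(G ⊓ C[b])).Coprime #A →
      Ce p A (G ⊓ C[b]) → C[b] ⊓ C(A) ≤ C(R) → K ⊓ C[b] ≤ G ⊓ C[b] → A ≤ N(K ⊓ C[b]) →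
      G ⊓ C[b] ⊓ C(A) ≤ N(K ⊓ C[b]) → K ⊓ C[b] ≤ L) : K ≤ L := by
  refine le_of_cent1_le s.el.comm s.el.not_cyc h1 (s.cop.coprime_dvd_left (card_dvd hK))
    fun b hb e => ?_
  have a1 := el1_zpowers' s.el.prime hb (s.el.ab.2 b hb) e
  obtain ⟨A, a2, a3⟩ := s.el.exists_el1_ne a1
  have a4 : C[b] ⊓ C(A) ≤ C(R) := by rw [← s.el.sup_eq a1 a2 a3.symm, cent_sup, cent_zpowers]
  exact h b hb A a2.le a2.prime_card (a2.le.trans (s.nb hb s.nG))
    ((s.cop.coprime_dvd_left (card_dvd inf_le_left)).coprime_dvd_right (card_dvd a2.le))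
    ((s.ce b hb e).mono a2.le) a4 (inf_le_inf_right _ hK) (a2.le.trans (s.nb hb h1))
    (norms_inf ((inf_assoc _ _ _).le.trans ((inf_le_inf_left _ a4).trans h2))
      (norms_of_le (inf_le_left.trans inf_le_right)))

theorem Su.odd (s : Su p r G R) (hQ : Q ≤ G) (h1 : R ≤ N(Q)) (h2 : G ⊓ C(R) ≤ N(Q))
    (h3 : PiG {p}ᶜ Q) (h4 : PiG {2}ᶜ Q) : Q ≤ C(R) :=
  s.glob hQ h1 h2 fun _ _ _ _ a b c d e f g h =>
    (le_inf inf_le_right (loc1 a b c d f g h (h3.infl _) (h4.infl _))).trans e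

theorem Su.even (s : Su p r G R) (hY : Y ≤ G) (h1 : R ≤ N(Y)) (h2 : G ⊓ C(R) ≤ N(Y))
    (h3 : PiG {p}ᶜ Y) (h4 : Y ⊓ C(R) ≤ C(Om p G R)) : Y ≤ C(R) :=
  s.glob hY h1 h2 fun _ hb _ _ a b c d e f g h =>
    (le_inf inf_le_right (loc4 a b c d f g h (h3.infl _) ((((inf_assoc _ _ _).le.trans
      (inf_le_inf_left _ e)).trans h4).trans (cent_mono (le_Om ((Oc_le _ _).trans inf_le_left)
      (Oc_pi _ _) (norms_Oc _ (s.nb hb s.nG)) ((inf_le_inf_left _ (cent_le_cent1 hb)).trans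
      (Oc_norm _ _))))))).trans e

theorem Su.ly (s : Su p r G R) (hE : E ≤ G) (hL : Ly E = E) (h1 : R ≤ N(E)) (h2 : G ⊓ C(R) ≤ N(E))
    (h : Om p G R ⊓ E ≤ C(E)) : E ≤ C(R) := by
  have cE := s.cop.coprime_dvd_left (card_dvd hE)
  have a0 : E ≤ E ⊓ C(E) ⊔ E ⊓ C(R) ⊔ Om 2 E R := s.glob hE h1 h2 fun b hb A _ a c d e f g i j => by
    have k0 : G ⊓ C(R) ≤ N(E ⊓ C[b]) :=
      norms_inf h2 (norms_of_le (inf_le_right.trans (cent_le_cent1 hb)))
    have k1 : Oc {p} (E ⊓ C[b]) ≤ C(E) := (le_inf (le_Om ((Oc_le _ _).trans (g.trans inf_le_left))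
      (Oc_pi _ _) (norms_Oc _ (s.nb hb h1)) (norms_Oc _ k0)) ((Oc_le _ _).trans inf_le_left)).trans h
    rw [← commg_sup_cent i (d.coprime_dvd_left (card_dvd g)) (Or.inl (sol_of_prime a))]
    refine sup_le ((loc5 a c d e s.two g i j (cents_symm (k1.trans (cent_mono inf_le_left)))).trans
      (Fit_le_of_Oc fun q _ => ?_)) (le_sup_of_le_left (le_sup_of_le_right
        ((inf_assoc _ _ _).le.trans (inf_le_inf_left _ f))))
    have k2 := (Oc_le {q} (E ⊓ C[b])).trans inf_le_left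
    by_cases e1 : q = p
    · exact le_sup_of_le_left (le_sup_of_le_left (le_inf k2 (e1 ▸ k1)))
    by_cases e2 : q = 2
    · exact le_sup_of_le_right (le_Om k2 (e2 ▸ Oc_pi _ _) (norms_Oc _ (s.nb hb h1))
        ((inf_le_inf_right _ hE).trans (norms_Oc _ k0)))
    exact le_sup_of_le_left (le_sup_of_le_right (le_inf k2 ((le_inf ((Oc_le _ _).trans inf_le_right)
      (loc1' a c d e g i j e1 e2)).trans f)))
  have a1 : E ≤ C(Om 2 E R) := hL.ge.trans (Ly_cent ⟨Om_le, a0.trans (sup_le (sup_le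
    (norms_of_cents (inf_le_right.trans (cent_mono Om_le))) CP) le_normalizer)⟩
    (Om_pg h1 cE s.sol).sol)
  have a2 : E ≤ E ⊓ C(E) ⊔ E ⊓ C(R) :=
    a0.trans (sup_le le_rfl (le_sup_of_le_left (le_inf Om_le (cents_symm a1))))
  refine cents_symm (pc (hL ▸ Ly_pf) ?_)
  rw [commutator_comm]
  refine (commutator_mono a2 le_rfl).trans ?_
  rw [commg_sup_cent_left inf_le_right (inf_le_left.trans (center_normal E).norm)]
  exact (commg_le_left (h1.trans (norm_le_norm_center E))).trans inf_le_right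

theorem Su.step (s : Su p r G R) (ha : a ∈ R) (hH : H ≤ G) (h0 : G ⊓ C[a] ≤ H) (h1 : R ≤ N(H))
    (h : Ce p R H) (hm : ∀ J ≤ G, G ⊓ C[a] ≤ J → R ≤ N(J) → Ce p R J → Om p G R ⊓ H ≤ J →
      Om p G R ⊓ J ≤ H) : Om p G R ≤ H ∧ Ce p R (G ⊓ N(Kf (Om p G R ⊓ H))) := by
  have c0 : G ⊓ C(R) ≤ G ⊓ C[a] := inf_le_inf_left _ (cent_le_cent1 ha)
  have k0 := norm_Kf s.pp s.h5 s.nG s.cop s.sol hH h1 (c0.trans h0) h
  have pP : PG p (Om p G R) := s.pP
  have RP : R ≤ N(Om p G R) := s.RP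
  have cP : G ⊓ C(R) ≤ N(Om p G R) := CP
  have PG' : Om p G R ≤ G := Om_le
  have leP : ∀ {U}, U ≤ G → PG p U → R ≤ N(U) → G ⊓ C(R) ≤ N(U) → U ≤ Om p G R := le_Om
  generalize hP : Om p G R = P at *
  have cH := s.cop.coprime_dvd_left (card_dvd hH)
  have pS : PG p (P ⊓ H) := pP.infl _
  have RW : R ≤ N(Kf (P ⊓ H)) := nKf (norms_inf RP h1)
  have WS : Kf (P ⊓ H) ≤ P ⊓ H := Kf_le
  have cW := cent_Kf s.pp pS
  have nW : N(P ⊓ H) ≤ N(Kf (P ⊓ H)) := nKf le_rfl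
  generalize Kf (P ⊓ H) = W at *
  have pW := pS.of_le WS
  have HM : H ≤ G ⊓ N(W) := le_inf hH k0
  have RM : R ≤ N(G ⊓ N(W)) := norms_inf s.nG (norms_norm RW)
  have MG : G ⊓ N(W) ≤ G := inf_le_left
  have WM : W ⊴ G ⊓ N(W) := ⟨WS.trans (inf_le_right.trans HM), inf_le_right⟩
  have nM : P ⊓ N(W) ≤ G ⊓ N(W) := inf_le_inf_right _ PG'
  generalize G ⊓ N(W) = M at *
  have CM := (c0.trans h0).trans HM
  have oH : Oc {p} H ≤ P ⊓ H := le_inf (leP ((Oc_le _ _).trans hH) (Oc_pi _ _) (norms_Oc _ h1)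
    ((c0.trans h0).trans (Oc_norm _ _))) (Oc_le _ _)
  have ce : Ce p R M := by
    refine ⟨?_, fun q hq e => ?_⟩
    · have EW := Ly_cent WM pW.sol
      have ME : M ≤ N(Ly M) := Ly_nl.norm
      have RE := nLy RM
      have EG := Ly_le.trans MG
      have hL : Ly (Ly M) = Ly M := Ly_Ly
      generalize Ly M = E at *
      refine s.ly EG hL RE (CM.trans ME) (hP ▸ ?_)
      have a1 := inf_cent_normal k0
      have a2 : Oc {p} (H ⊓ C(W)) ≤ W := (le_inf ((Oc_le_Oc a1).trans oH)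
        ((Oc_le _ _).trans inf_le_right)).trans cW
      have a3 := ((h.normal a1).st (norms_inf h1 (norms_cent RW))
        (cH.coprime_dvd_left (card_dvd inf_le_left))).trans a2
      rw [inf_eq_left.2 (inf_le_right.trans (cent_mono a2))] at a3
      have a4 : E ⊓ C[a] ≤ N(P ⊓ E) := by
        rw [← commg_sup_cent (s.nb ha RE) (s.cop.coprime_dvd_left (card_dvd (inf_le_left.trans EG)))
          (Or.inl s.sol)]
        exact sup_le (norms_of_cents (((commutator_mono (le_inf ((inf_le_inf_right _ EG).trans h0)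
          (inf_le_left.trans EW)) le_rfl).trans a3).trans ((cents_symm EW).trans
          (cent_mono inf_le_right)))) ((inf_le_inf_right _ (inf_le_left.trans EG)).trans
          (norms_inf cP (CM.trans ME)))
      have za := zpowers_le.2 ha
      have a5 : ∀ {B}, B ≤ N(E) → B ≤ C[a] → B ≤ N(Om p E (zpowers a)) := fun b c =>
        nOm b (c.trans (cent1_le_norm_zpowers a))
      have a6 : P ⊓ E = Om p E (zpowers a) := le_antisymm
        (le_Om inf_le_right (pP.infl _) (za.trans (norms_inf RP RE)) (by rwa [cent_zpowers]))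
        (le_inf (leP (Om_le.trans EG) (Om_pg (za.trans RE) ((s.cop.coprime_dvd_left
          (card_dvd EG)).coprime_dvd_right (card_dvd za)) (sol_zpowers a)) (a5 RE (s.cb ha))
          (a5 (CM.trans ME) (c0.trans inf_le_right))) Om_le)
      have a7 : G ⊓ C[a] ⊔ P ⊓ H ≤ N(P ⊓ E) := sup_le (a6 ▸ a5 ((h0.trans HM).trans ME) inf_le_right)
        (norms_inf (norms_of_le inf_le_left) ((inf_le_right.trans HM).trans ME))
      have a8 : G ⊓ C[a] ⊔ P ⊓ H ≤ H := sup_le h0 inf_le_right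
      have a9 : R ≤ N(G ⊓ C[a] ⊔ P ⊓ H) := norms_sup (s.nb ha s.nG) (norms_inf RP h1)
      have b0 : G ⊓ C[a] ≤ G ⊓ C[a] ⊔ P ⊓ H := le_sup_left
      have b1 : P ⊓ H ≤ G ⊓ C[a] ⊔ P ⊓ H := le_sup_right
      generalize G ⊓ C[a] ⊔ P ⊓ H = J at *
      have pU : PG p (P ⊓ E) := pP.infl _
      have b2 : P ⊓ E ⊔ Oc {p} H ≤ Oc {p} (P ⊓ E ⊔ J) := le_Oc ⟨sup_le_sup_left (oH.trans b1) _,
        sup_le (norms_of_le le_sup_left) (norms_sup a7 (a8.trans (Oc_norm _ _)))⟩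
        (pU.sup (Oc_pi _ _) ((oH.trans b1).trans a7))
      have b3 := hm (P ⊓ E ⊔ J) (sup_le (inf_le_left.trans PG') (a8.trans hH))
        (le_sup_of_le_right b0) (norms_sup (norms_inf RP RE) a9)
        (Ce.of s.pp (norms_sup (norms_inf RP RE) a9) ((h.st h1 cH).trans (le_sup_right.trans b2))
          fun y y1 y2 y3 => ⟨?_, cent_mono (le_sup_right.trans b2) y2⟩) (le_sup_of_le_right b1)
      · exact (le_inf (le_inf inf_le_left ((le_inf inf_le_left le_sup_left).trans b3))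
          (inf_le_right.trans EW)).trans (cW.trans (cents_symm EW))
      obtain ⟨k, b4, b5⟩ := exists_cj_le_of_le_sup a7 (zpowers_le.2 y1)
        (pU.coprime (piG_zpowers.2 y3)) (Or.inr pU.sol)
      rw [cj_of_mem_cent (cents_symm (zpowers_le.2 (cent_mono (le_sup_left.trans b2) y2)) b4)] at b5
      exact a8 (zpowers_le.1 b5)
    have y1 := (Oc_le {q} M).trans MG
    have y2 := norms_Oc {q} RM
    have y3 := CM.trans (Oc_norm {q} M)
    have y4 := (Oc_pi {q} M).sing_ne e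
    by_cases e2 : q = 2
    swap
    · exact s.odd y1 y2 y3 y4 ((Oc_pi _ _).sing_ne e2)
    have y5 := (inf_le_inf_right C(R) y1).trans cP
    have y6 : P ⊓ N(W) ≤ C(Oc {q} M ⊓ C(R)) := cents_pi
      ((commutator_mono inf_le_left le_rfl).trans (commg_le_left y5))
      ((commutator_mono nM inf_le_left).trans (commg_le_right (Oc_norm _ _))) pP y4
    have := PxQ pP pW (y4.infl _) ((le_inf (WS.trans inf_le_left) le_normalizer).trans y6)
      (norms_of_le (WS.trans inf_le_left)) y5 ((inf_le_inf_left _ (cent_le_norm _)).trans y6)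
    exact s.even y1 y2 y3 y4 (hP ▸ this)
  have := hm M MG (h0.trans HM) RM ce (inf_le_right.trans HM)
  exact ⟨inf_eq_left.1 (nil_eq_of_norm_le pP.nil inf_le_left (le_inf inf_le_left ((le_inf inf_le_left
    ((inf_le_inf_left _ nW).trans nM)).trans this))), ce⟩

theorem Su.main (s : Su p r G R) : Ce p R G := by
  have key : ∀ a ∈ R, a ≠ 1 → G ⊓ C[a] ≤ N(Kf (Om p G R)) ∧ Ce p R (G ⊓ N(Kf (Om p G R))) := by
    intro a ha e
    obtain ⟨H, ⟨a1, a2, a3, a4⟩, hm⟩ := Set.exists_max_image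
      {H | H ≤ G ∧ G ⊓ C[a] ≤ H ∧ R ≤ N(H) ∧ Ce p R H} (fun H => #(Om p G R ⊓ H)) (Set.toFinite _)
      ⟨_, inf_le_left, le_rfl, s.nb ha s.nG, s.ce a ha e⟩
    obtain ⟨b1, b2⟩ := s.step ha a1 a2 a3 a4 fun J c1 c2 c3 c4 c5 =>
      (eq_of_le_of_card_ge (le_inf inf_le_left c5) (hm J ⟨c1, c2, c3, c4⟩)).ge.trans inf_le_right
    have b3 := norm_Kf s.pp s.h5 s.nG s.cop s.sol a1 a3
      ((inf_le_inf_left _ (cent_le_cent1 ha)).trans a2) a4
    rw [inf_eq_left.2 b1] at b2 b3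
    exact ⟨a2.trans b3, b2⟩
  obtain ⟨a, ha, e⟩ := exists_ne_one s.el.ne_bot
  have := (key a ha e).2
  rwa [inf_eq_left.2 (le_of_cent1_le s.el.comm s.el.not_cyc s.nG s.cop
    fun a ha e => (key a ha e).1)] at this

theorem ab_el2 (hr : r.Prime) (hR : PG r R) (h : Ab R) (hn : ¬ Cyc R) : ∃ E, El r 2 E R := by
  haveI := Fact.mk hr
  refine exists_el hr (not_lt.1 fun e => hn (isCyclic_of_card_omega_le hR.isPGroup h ?_))
  refine (card_le (fun x hx => mem_Ohm1 hx.1 hx.2 : omegaComm R h r ≤ Ohm1 r R)).trans ?_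
  rw [(el_Ohm1 hr h).card]
  exact (Nat.pow_le_pow_right hr.pos (Nat.lt_succ_iff.1 e)).trans (pow_one r).le

theorem ce_main (hr : r.Prime) (hR : PG r R) (h : Ab R) (hn : ¬ Cyc R) (hG : R ≤ N(G))
    (hc : (#G).Coprime #R) (hp : p.Prime) (h5 : 5 ≤ p)
    (ce : ∀ b ∈ R, b ≠ 1 → Ce p R (G ⊓ C[b])) : Ce p R G := by
  obtain ⟨E, hE⟩ := ab_el2 hr hR h hn
  have s : Su p r G E := ⟨hE.self, hE.le.trans hG, hc.coprime_dvd_right (card_dvd hE.le), hp, h5,
    fun b hb e => (ce b (hE.le hb) e).mono hE.le⟩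
  obtain ⟨a, ha, e⟩ := exists_ne_one hE.ne_bot
  have c := ce a (hE.le ha) e
  have c1 := cent_le_cent1 ha
  have := c.normal (Ly_nl.of_le (le_inf Ly_le (s.main.ly.trans c1)) inf_le_left)
  exact ⟨Ly_Ly.ge.trans this.ly, fun q a b => (le_Oc ((Oc_normal _ _).of_le (le_inf (Oc_le _ _)
    ((s.main.oq q a b).trans c1)) inf_le_left) (Oc_pi _ _)).trans (c.oq q a b)⟩

theorem ce_iff (hp : p.Prime) : Ce p R H ↔ R ≤ C(((pResidual p (generalizedFittingSubgroup H)).map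
    (generalizedFittingSubgroup H).subtype).map H.subtype) := by
  have e := gfOf_eq H
  refine ⟨fun h => cents_symm (map_le_iff_le_comap.2 (H3.map_subtype_pResidual_le_iff.2
    fun y a b => ?_)), fun h => ?_⟩
  · have a1 : (y : X) ∈ Ly H ⊔ Fit H := e.le (mem_map_of_mem _ a)
    have a2 : zpowers (y : X) ≤ Ly H ⊔ Oc {p}ᶜ (Fit H) := by
      refine le_of_pi_of_relIndex ((zpowers_le.2 y.2).trans (Ly_nl.sup ((Fit_normal H).Oc _)).norm)
        le_sup_left ((zpowers_le.2 a1).trans ((sup_le_sup_left (nil_dprod (Fit_nil H) {p}ᶜ).cp.sup.ge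
        _).trans (sup_assoc _ _ _).ge)) (piG_zpowers.2 (PiN.of_coprime (by simpa using b))) ?_
      rw [relIndex_sup_of_norm
        (((Oc_le _ _).trans (Fit_le _)).trans (Ly_nl.sup ((Fit_normal H).Oc _)).norm)]
      exact (Oc_pi _ _).relIndex _
    exact sup_le h.ly (fit_le (Oc_le _ _) (Oc_pi _ _) h.oq) (zpowers_le.1 a2)
  · have k : ∀ y ∈ Ly H ⊔ Fit H, PiE {p}ᶜ y → y ∈ C(R) := fun y a b => by
      obtain ⟨z, c, rfl⟩ := e.ge a
      exact cents_symm h (mem_map_of_mem _ (H3.mem_map_subtype_pResidual c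
        (by simpa using b.coprime_prime hp)))
    exact ⟨perf_le hp Ly_pf fun y a => k y (mem_sup_left a), fun q _ b y a =>
      k y (mem_sup_right (Oc_le_Fit q H a)) (((Oc_pi _ _).sing_ne b).elt a)⟩

end H4.FC
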