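import Cfsg.Agent.H8.FS9

/-! Class sizes of elements of prime power order in a normal subgroup. -/

set_option autoImplicit false
set_option linter.unusedSectionVars false

namespace H4.FX
open Cfsg Subgroup H19

universe u
variable {G : Type u} [Group G] [Finite G] {A K L N P : Subgroup G} {p k : ℕ} {x : G}

theorem dvd_ncard {X : Set G} (h1 : ∀ g ∈ L, ∀ x ∈ X, g * x * g⁻¹ ∈ X) (h2 : ∀ x ∈ X, k ∣ C[x].relIndex L) : k ∣ X.ncard := by
  let _ : MulAction L G := MulAction.compHom G (MulAut.conj.comp L.subtype)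
  let T : SubMulAction L G := { carrier := X, smul_mem' := fun g s hs => h1 g g.2 s hs }
  have := Fintype.ofFinite (MulAction.orbitRel.Quotient L T)
  rw [← Nat.card_coe_set_eq, show Nat.card X = Nat.card T from rfl, Nat.card_congr (MulAction.selfEquivSigmaOrbits L T), Nat.card_sigma]
  refine Finset.dvd_sum fun w _ => ?_
  rw [Nat.card_coe_set_eq, ← MulAction.index_stabilizer]
  refine (h2 _ w.out.2).trans (dvd_of_eq (congrArg index (Subgroup.ext fun g => ?_)))
  symm
  rw [MulAction.mem_stabilizer_iff, mem_subgroupOf, Subtype.ext_iff, mem_centralizer_singleton_iff, ← mul_inv_eq_iff_eq_mul]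
  rfl

/-- fixed point free coprime action modulo the centre -/
theorem sol_of_cent (n : A ≤ N(K)) (c : (#K).Coprime #A) (h : K ⊓ C(A) ≤ C(K)) : Sol K := by
  have nZ : A ≤ N(Z(K)) := norms_inf n (norms_cent n)
  refine sol_of_quo (K := Z(K)) (center_normal K).norm (sol_of_ab (comm_mono (comm_center K) inf_le_left)) ?_
  refine H8.FS.main _ (quo Z(K) A) _ ⟨_, le_rfl, le_normalizer, cop_quo c.symm _, 0, le_rfl⟩ (quo_norms n) ?_
  rw [quo_inf_cent' nZ inf_le_left (c.coprime_dvd_left (card_dvd inf_le_left)) (.inr (sol_of_ab (comm_center K)))]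
  exact quo_eq_bot (le_inf inf_le_left h)

theorem pp (hp : PiE {p} x) (h : x ≠ 1) : IsPrimePow (orderOf x) := by
  obtain ⟨j, e⟩ := hp.exists_pow (orderOf_pos x).ne'
  have h1 := mt orderOf_eq_one_iff.1 h
  exact (isPrimePow_nat_iff _).2 ⟨p, j, (hp.dvd_of_ne_one h1).1, Nat.pos_of_ne_zero (by rintro rfl; exact h1 e), e.symm⟩

theorem dvd_rel (hP : Syl p P ⊤) (hp : p.Prime) (h : p ^ k ∣ K.index) : p ^ k ∣ K.relIndex P := by
  obtain ⟨Q, hQ, l⟩ := (hP.pi.infr K).exists_syl inf_le_left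
  have h1 : #Q * p ^ k ∣ #P := hP.dvd (hQ.pi.mul (.prime_pow hp k))
    ((Nat.mul_dvd_mul (card_dvd hQ.le) h).trans (by rw [card_top, K.card_mul_index]))
  replace h1 := h1.trans (inf_comm P K ▸ card_inf_mul_relIndex P K).symm.dvd
  exact Nat.dvd_of_mul_dvd_mul_left (card_pos _) ((Nat.mul_dvd_mul_right (card_dvd l) _).trans h1)

theorem main [N.Normal] (hN : ¬ Sol N) (hp : p.Prime) (k0 : k ≠ 0)
    (h : ∀ x ∈ N, x ∉ C(N) → IsPrimePow (orderOf x) → p ^ k ∣ C[x].index) : p ^ k ∣ #Z(N) := by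
  obtain ⟨P, hP⟩ := exists_syl p (⊤ : Subgroup G)
  have nN : ∀ L : Subgroup G, L ≤ N(N) := fun _ => le_top.trans le_normalizer_of_normal
  have s := hP.inf_normal (K := N) normalIn_top
  by_cases c : P ⊓ N ≤ C(N)
  · obtain ⟨K, hK⟩ := s.exists_compl (cents_symm c |>.trans (cent_le_norm _))
    have hh := hK.hall_right s
    have nK : N ≤ N(K) := hK.sup ▸ sup_le ((c.trans (cent_mono hh.le)).trans (cent_le_norm _)) le_normalizer
    refine absurd (hK.sup ▸ sol_sup s.pi.sol (sol_of_cent (A := P) ?_ (hh.pi.coprime' hP.pi) ?_) hK.norm) hN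
    · rw [hh.eq_Oc nK]; exact (nN P).trans (norm_le_norm_Oc _ _)
    · refine le_of_syl fun r R hr hR y hy => by_contra fun n => hP.not_dvd_relIndex hp (K := C[y])
        (le_cent1_iff.2 (hR.le hy).2) ?_
      rw [relIndex_top_right]
      exact (dvd_pow_self p k0).trans (h y (hh.le (hR.le hy).1) (fun e => n (cent_mono hh.le e))
        (pp (hR.pi.elt hy) (by rintro rfl; exact n (one_mem _))))
  have l : (P ⊓ N ⊓ C(N) : Subgroup G) ≤ P ⊓ N := inf_le_left
  have d : p ^ k ∣ ((P ⊓ N : Subgroup G) \ (P ⊓ N ⊓ C(N) : Subgroup G) : Set G).ncard :=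
    dvd_ncard (L := P) (fun g hg x hx => ⟨conj_mem_of_norm (norms_inf le_normalizer (nN P) hg) hx.1, fun e => hx.2
      ((mem_normalizer_iff.1 (norms_inf (norms_inf le_normalizer (nN P)) (norms_cent (nN P)) hg) x).2 e)⟩) fun x hx =>
      dvd_rel hP hp (h x hx.1.2 (fun e => hx.2 ⟨hx.1, e⟩) (pp (s.pi.elt hx.1) (by rintro rfl; exact hx.2 (one_mem _))))
  rw [Set.ncard_sdiff l, ← Nat.card_coe_set_eq, ← Nat.card_coe_set_eq, SetLike.coe_sort_coe, SetLike.coe_sort_coe,
    ← card_mul_relIndex l, ← Nat.mul_sub_one] at d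
  have e := (s.pi.relIndex (P ⊓ N ⊓ C(N))).dvd_of_ne_one fun e => c ((relIndex_eq_one.1 e).trans inf_le_right)
  refine (Nat.Coprime.dvd_of_dvd_mul_right (Nat.Coprime.pow_left k ?_) d).trans (card_dvd (inf_le_inf_right _ inf_le_right))
  exact Nat.Coprime.coprime_dvd_left e.2 ((Nat.coprime_self_sub_right (relIndex_pos _ _)).2 (Nat.coprime_one_right _))

end H4.FX
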