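import Cfsg.Agent.H2.Action
import Cfsg.Agent.H3.FrobAction

/-! Frobenius groups of automorphisms with fixed-point-free kernel: the abelian layer. -/

namespace H4.Fa

open Subgroup H2 Cfsg SemidirectProduct
open scoped Pointwise IsMulCommutative

universe u v

variable {A : Type v} [Group A] {G : Type u} [Group G]

/-- fixed points of `B ≤ A` -/
def fx (φ : A →* MulAut G) (B : Subgroup A) : Subgroup G := autFixed (φ.comp B.subtype)

theorem mem_fx {φ : A →* MulAut G} {B : Subgroup A} {g : G} :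
    g ∈ fx φ B ↔ ∀ b ∈ B, φ b g = g :=
  ⟨fun h b hb => h ⟨b, hb⟩, fun h b => h b b.2⟩

/-- invariance under `B ≤ A` -/
def Iv (φ : A →* MulAut G) (B : Subgroup A) (W : Subgroup G) : Prop :=
  ∀ b ∈ B, ∀ w ∈ W, φ b w ∈ W

theorem Iv.ainv {φ : A →* MulAut G} {B : Subgroup A} {W : Subgroup G} (h : Iv φ B W) :
    AInv (φ.comp B.subtype) W := fun b w hw => h b b.2 w hw

theorem iv_of_ainv {φ : A →* MulAut G} (B : Subgroup A) {W : Subgroup G} (h : AInv φ W) :
    Iv φ B W := fun b _ w hw => h b w hw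

theorem fx_anti {φ : A →* MulAut G} {B C : Subgroup A} (h : B ≤ C) : fx φ C ≤ fx φ B :=
  fun _ hg => mem_fx.2 fun b hb => mem_fx.1 hg b (h hb)

theorem fx_sup {φ : A →* MulAut G} {B C : Subgroup A} {g : G} (h1 : g ∈ fx φ B)
    (h2 : g ∈ fx φ C) : g ∈ fx φ (B ⊔ C) := by
  have : B ⊔ C ≤ (MulAction.stabilizer (MulAut G) g).comap φ :=
    sup_le (fun b hb => mem_fx.1 h1 b hb) (fun b hb => mem_fx.1 h2 b hb)
  exact mem_fx.2 fun b hb => this hb

theorem fx_zpowers {φ : A →* MulAut G} {a : A} {g : G} (h : φ a g = g) :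
    g ∈ fx φ (zpowers a) := by
  have : zpowers a ≤ (MulAction.stabilizer (MulAut G) g).comap φ := zpowers_le.2 h
  exact mem_fx.2 fun b hb => this hb

theorem fx_norm {φ : A →* MulAut G} {B : Subgroup A} {a : A}
    (ha : a ∈ normalizer (B : Set A)) {g : G} (hg : g ∈ fx φ B) : φ a g ∈ fx φ B := by
  refine mem_fx.2 fun b hb => ?_
  have h1 : a⁻¹ * b * a ∈ B := by
    have := (mem_normalizer_iff.1 (inv_mem ha) b).1 hb
    simpa using this
  have h2 := mem_fx.1 hg _ h1
  have : φ b (φ a g) = φ a (φ (a⁻¹ * b * a) g) := by simp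
  rw [this, h2]

theorem ainv_fx {φ : A →* MulAut G} (B : Subgroup A) [B.Normal] : AInv φ (fx φ B) :=
  fun a _ hg => fx_norm (by rw [normalizer_eq_top]; trivial) hg

/-- the `p'`-part of a nilpotent subgroup -/
def pc (p : ℕ) (F : Subgroup A) : Subgroup A := (pResidual p F).map F.subtype

theorem pc_le (p : ℕ) (F : Subgroup A) : pc p F ≤ F := map_subtype_le _

theorem norm_pc (p : ℕ) (F : Subgroup A) :
    normalizer (F : Set A) ≤ normalizer (pc p F : Set A) :=
  normalizer_le_normalizer_map_of_characteristic F _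

instance pc_normal (p : ℕ) (F : Subgroup A) [F.Normal] : (pc p F).Normal := by
  unfold pc; infer_instance

variable [Finite A] [Finite G] {φ : A →* MulAut G}

theorem not_dvd_pc (p : ℕ) [Fact p.Prime] {F : Subgroup A} (hF : Group.IsNilpotent F) :
    ¬ p ∣ Nat.card (pc p F) := by
  rw [pc, card_map_of_injective F.subtype_injective]
  exact H3.hasNPC_iff_not_dvd.1 H3.hasNPC_of_isNilpotent

theorem cop_pc {p : ℕ} [Fact p.Prime] {F : Subgroup A} (hF : Group.IsNilpotent F)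
    {W : Subgroup G} (hW : IsPGroup p W) : (Nat.card (pc p F)).Coprime (Nat.card W) := by
  obtain ⟨n, hn⟩ := IsPGroup.iff_card.1 hW
  rw [hn]
  exact Nat.Coprime.pow_right _
    ((Nat.Prime.coprime_iff_not_dvd Fact.out).2 (not_dvd_pc p hF)).symm

theorem solv_pc (p : ℕ) {F : Subgroup A} (hF : Group.IsNilpotent F) :
    Group.IsSolvable (pc p F) := by
  haveI := hF
  haveI : Group.IsNilpotent (pResidual p F) := inferInstance
  exact isSolvable_map _ _

omit [Finite A] in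
/-- a `p`-group of automorphisms fixes a nontrivial element of an invariant subgroup of order
divisible by `p` -/
theorem exists_fixed_of_pgroup {p : ℕ} [Fact p.Prime] {P : Subgroup A} (hP : IsPGroup p P)
    {X : Subgroup G} (hX : Iv φ P X) (hd : p ∣ Nat.card X) :
    ∃ x ∈ X, x ≠ 1 ∧ x ∈ fx φ P := by
  let ψ := restrictAut (φ.comp P.subtype) X hX.ainv
  letI : MulAction P X := MulAction.compHom X ψ
  have h1 : (1 : X) ∈ MulAction.fixedPoints P X := fun a => map_one (ψ a)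
  obtain ⟨b, hb, hb1⟩ := hP.exists_fixed_point_of_prime_dvd_card_of_fixed_point X hd h1
  refine ⟨b, b.2, fun e => hb1 (Subtype.ext e.symm), fun a => ?_⟩
  exact congrArg Subtype.val (hb a)

theorem exists_fixed_of_pc {p : ℕ} [Fact p.Prime] {F : Subgroup A}
    {X : Subgroup G} (hX : Iv φ F X) (hc : X ≤ fx φ (pc p F)) (hd : p ∣ Nat.card X) :
    ∃ x ∈ X, x ≠ 1 ∧ x ∈ fx φ F := by
  obtain ⟨P⟩ : Nonempty (Sylow p F) := inferInstance
  obtain ⟨x, hx, h1, h2⟩ := exists_fixed_of_pgroup (φ := φ)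
    (P := (P : Subgroup F).map F.subtype) (P.isPGroup'.map _)
    (fun b hb => hX b (map_subtype_le _ hb)) hd
  refine ⟨x, hx, h1, ?_⟩
  have e : pc p F ⊔ (P : Subgroup F).map F.subtype = F := by
    rw [pc, ← Subgroup.map_sup, H3.pResidual_sup_sylow, ← MonoidHom.range_eq_map, range_subtype]
  exact e ▸ fx_sup (hc hx) h2

theorem inf_pc_bot {p : ℕ} [Fact p.Prime] {F : Subgroup A} {W : Subgroup G} (hW : IsPGroup p W)
    (hi : Iv φ F W) (h0 : W ⊓ fx φ F = ⊥) : W ⊓ fx φ (pc p F) = ⊥ := by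
  by_contra hne
  have hp : IsPGroup p (W ⊓ fx φ (pc p F) : Subgroup G) := hW.to_le inf_le_left
  obtain ⟨n, hn⟩ := IsPGroup.iff_card.1 hp
  have hd : p ∣ Nat.card (W ⊓ fx φ (pc p F) : Subgroup G) := by
    rw [hn]
    refine dvd_pow_self _ fun e => hne ?_
    rw [e, pow_zero] at hn
    exact card_eq_one.1 hn
  obtain ⟨x, hx, h1, h2⟩ := exists_fixed_of_pc (φ := φ) (F := F)
    (X := W ⊓ fx φ (pc p F))
    (fun b hb w hw => mem_inf.2 ⟨hi b hb w hw.1, fx_norm (norm_pc p F (le_normalizer hb)) hw.2⟩)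
    inf_le_right hd
  exact h1 (mem_bot.1 (h0 ▸ (⟨hx.1, h2⟩ : x ∈ W ⊓ fx φ F)))

/-- the kernel stays fixed-point-free modulo an invariant normal `p`-subgroup -/
theorem fx_quot {p : ℕ} [Fact p.Prime] {F : Subgroup A} (hF : Group.IsNilpotent F)
    (h0 : fx φ F = ⊥) (V : Subgroup G) [V.Normal] (hV : AInv φ V) (hp : IsPGroup p V) :
    fx (quotAut φ V hV) F = ⊥ := by
  rw [eq_bot_iff]
  intro x hx
  obtain ⟨g, rfl⟩ := QuotientGroup.mk_surjective x
  have h1 : ∀ b ∈ F, g⁻¹ * φ b g ∈ V := fun b hb =>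
    QuotientGroup.eq.1 ((mem_fx.1 hx b hb).symm.trans (quotAut_mk φ V hV b g))
  obtain ⟨n, hn, h2⟩ := aut_exists_mul_fixed' (φ := φ.comp (pc p F).subtype)
    (iv_of_ainv _ hV).ainv (cop_pc hF hp) (Or.inl (solv_pc p hF)) (k := g)
    fun a => h1 a (pc_le p F a.2)
  have h3 := inf_pc_bot hp (iv_of_ainv F hV) (by rw [h0, inf_bot_eq])
  have h4 : g * n ∈ fx φ F := by
    refine mem_fx.2 fun b hb => ?_
    have h5 : (g * n)⁻¹ * φ b (g * n) ∈ V ⊓ fx φ (pc p F) := by
      have h2' : g * n ∈ fx φ (pc p F) := h2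
      refine mem_inf.2
        ⟨?_, mul_mem (inv_mem h2') (fx_norm (norm_pc p F (le_normalizer hb)) h2')⟩
      have : (g * n)⁻¹ * φ b (g * n) = n⁻¹ * (g⁻¹ * φ b g) * φ b n := by
        rw [map_mul]; group
      rw [this]
      exact mul_mem (mul_mem (inv_mem hn) (h1 b hb)) (hV b n hn)
    rw [h3, mem_bot, inv_mul_eq_one] at h5
    exact h5.symm
  rw [h0, mem_bot, mul_eq_one_iff_eq_inv] at h4
  rw [mem_bot, QuotientGroup.eq_one_iff, h4]
  exact inv_mem hn

/-- the fixed-point-freeness of `H` on `F` -/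
def Fpf (F H : Subgroup A) : Prop := ∀ h ∈ H, ∀ f ∈ F, h * f = f * h → h = 1 ∨ f = 1

omit [Finite A] in
theorem Fpf.mono {F H F' H' : Subgroup A} (h : Fpf F H) (h1 : F' ≤ F) (h2 : H' ≤ H) :
    Fpf F' H' := fun a ha f hf => h a (h2 ha) f (h1 hf)

/-- the complement has nontrivial fixed points on an abelian `p`-group -/
theorem inf_fx_ne_bot {p : ℕ} [Fact p.Prime] {F H : Subgroup A} (hF : Group.IsNilpotent F)
    (hn : H ≤ normalizer (F : Set A)) (hf : Fpf F H) {W : Subgroup G} [IsMulCommutative W]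
    (hW : IsPGroup p W) (iF : Iv φ F W) (iH : Iv φ H W) (h0 : W ⊓ fx φ F = ⊥)
    (h1 : W ⊓ fx φ H = ⊥) : W = ⊥ := by
  have h3 := inf_pc_bot hW iF h0
  haveI := isMulCommutative_sdK (φ := φ) W
  have nm : ∀ B : Subgroup A, Iv φ B W → B.map (inr : A →* G ⋊[φ] A) ≤
      normalizer ((sdK φ W : Subgroup _) : Set (G ⋊[φ] A)) := by
    intro B hB
    rw [le_normalizer_iff]
    rintro _ ⟨b, hb, rfl⟩ _ ⟨w, hw, rfl⟩
    rw [inr_mul_inl_mul_inv]
    exact inl_mem_sdK.2 (hB b hb w hw)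
  have ce : ∀ (B : Subgroup A) (w : G), (inl w : G ⋊[φ] A) ∈
      centralizer ((B.map (inr : A →* G ⋊[φ] A) : Subgroup _) : Set (G ⋊[φ] A)) →
      w ∈ fx φ B := by
    intro B w hw
    refine mem_fx.2 fun b hb => inl_injective (φ := φ) ?_
    rw [← inr_mul_inl_mul_inv, mem_centralizer_iff.1 hw _ ⟨b, hb, rfl⟩, mul_inv_cancel_right]
  have h6 := H3.le_centralizer_of_frobenius (A := H.map (inr : A →* G ⋊[φ] A))
    (K := (pc p F).map (inr : A →* G ⋊[φ] A)) (W := sdK φ W)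
    ((map_mono (hn.trans (norm_pc p F))).trans (le_normalizer_map _)) (nm H iH)
    (nm _ fun b hb => iF b (pc_le p F hb))
    (by rw [card_map_of_injective inr_injective, card_sdK]; exact cop_pc hF hW)
    (by
      rintro _ ⟨a, ha, rfl⟩ ha1
      rw [eq_bot_iff]
      rintro _ ⟨⟨f, hf', rfl⟩, e⟩
      have e1 := mem_centralizer_singleton_iff.1 e
      rw [← map_mul, ← map_mul] at e1
      rcases hf a ha f (pc_le p F hf') (inr_injective e1).symm with e2 | e2
      · exact absurd (by rw [e2, map_one]) ha1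
      · rw [e2, map_one]; exact one_mem _)
    (by
      rw [eq_bot_iff]
      rintro _ ⟨⟨w, hw, rfl⟩, e⟩
      have : w ∈ W ⊓ fx φ H := ⟨hw, ce H w e⟩
      rw [h1, mem_bot] at this
      rw [this, map_one]; exact one_mem _)
  rw [← h3, eq_comm, inf_eq_left]
  intro w hw
  refine ce _ w (mem_centralizer_iff.2 fun y hy => ?_)
  exact (mem_centralizer_iff.1 (h6 hy) _ (inl_mem_sdK.2 hw)).symm

end H4.Fa
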