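import Cfsg.Agent.H4.Fa1

/-! Frobenius groups of automorphisms: covering of fixed points and the Clifford step. -/

namespace H4.Fa

open Subgroup H2 Cfsg
open scoped Pointwise IsMulCommutative

universe u v w

variable {A : Type v} [Group A]

theorem exists_kappa {F H : Subgroup A} (hn : H ≤ normalizer (F : Set A)) (hf : Fpf F H) :
    ∃ κ : A → A, (∀ f, κ f ∈ H) ∧
      ∀ f ∈ F, f ≠ 1 → ∀ h ∈ H, κ (h * f * h⁻¹) = h * κ f := by
  classical
  let R : A → A → Prop := fun f x => ∃ h ∈ H, f = h * x * h⁻¹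
  let ρ : A → A := fun f => Classical.epsilon (R f)
  have hρ : ∀ f, R f (ρ f) := fun f =>
    Classical.epsilon_spec (p := R f) ⟨f, 1, one_mem _, by simp⟩
  choose κ hκ hκ' using hρ
  refine ⟨κ, hκ, fun f hF f1 h hh => ?_⟩
  have e : R (h * f * h⁻¹) = R f := by
    funext x
    apply propext
    constructor
    · rintro ⟨k, hk, e⟩
      refine ⟨h⁻¹ * k, mul_mem (inv_mem hh) hk, ?_⟩
      have : f = h⁻¹ * (h * f * h⁻¹) * h := by group
      rw [this, e]; group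
    · rintro ⟨k, hk, e⟩
      exact ⟨h * k, mul_mem hh hk, by rw [e]; group⟩
  have e1 : ρ (h * f * h⁻¹) = ρ f := by simp only [ρ, e]
  have e2 := hκ' (h * f * h⁻¹)
  rw [e1] at e2
  have e3 := hκ' f
  set k := κ (h * f * h⁻¹)
  have hk : k ∈ H := hκ _
  set l := κ f
  have hl : l ∈ H := hκ _
  have e4 : (h * l * k⁻¹) * (h * f * h⁻¹) = (h * f * h⁻¹) * (h * l * k⁻¹) := by
    have e5 : ρ f = l⁻¹ * f * l := by rw [eq_comm]; nth_rw 1 [e3]; group
    nth_rw 1 [e2]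
    rw [e5]; group
  rcases hf _ (mul_mem (mul_mem hh hl) (inv_mem hk)) _
    ((mem_normalizer_iff.1 (hn hh) f).1 hF) e4 with e6 | e6
  · exact (mul_inv_eq_one.1 e6).symm
  · exact absurd (by simpa using e6) f1

section Comm

variable {V : Type u} [CommGroup V] [Finite A] {ψ : A →* MulAut V}

open Classical in
theorem prod_fixed [Fintype A] (B : Subgroup A) (w : V) :
    (∏ f ∈ Finset.univ.filter (· ∈ B), ψ f w) ∈ fx ψ B := by
  refine mem_fx.2 fun b hb => ?_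
  rw [map_prod]
  refine Finset.prod_bij (fun f _ => b * f) ?_ ?_ ?_ ?_
  · intro f hf
    simpa using mul_mem hb (by simpa using hf)
  · intro f _ g _ e
    exact mul_left_cancel e
  · intro g hg
    exact ⟨b⁻¹ * g, by simpa using mul_mem (inv_mem hb) (by simpa using hg), by simp⟩
  · intro f _
    simp

theorem cocycle_triv {F H : Subgroup A} (hn : H ≤ normalizer (F : Set A)) (hf : Fpf F H)
    (h0 : fx ψ F = ⊥) (c : A → V) (hc : ∀ h ∈ H, ∀ k ∈ H, c (h * k) = c h * ψ h (c k)) :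
    ∃ v, ∀ h ∈ H, c h * ψ h v = v := by
  classical
  letI := Fintype.ofFinite A
  obtain ⟨κ, hκ, hκ'⟩ := exists_kappa hn hf
  let S : Finset A := (Finset.univ.filter (· ∈ F)).erase 1
  have hS : ∀ f, f ∈ S ↔ f ≠ 1 ∧ f ∈ F := fun f => by simp [S]
  have h1 : ∀ w : V, ∏ f ∈ S, ψ f w = w⁻¹ := by
    intro w
    have h2 := prod_fixed (ψ := ψ) F w
    rw [h0, mem_bot, ← Finset.mul_prod_erase _ _ (a := 1) (by simp)] at h2
    rw [map_one, MulAut.one_apply] at h2
    exact eq_inv_of_mul_eq_one_right h2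
  refine ⟨(∏ f ∈ S, ψ f (c (κ f)))⁻¹, fun h hh => ?_⟩
  have h3 : ψ h (∏ f ∈ S, ψ f (c (κ f))) = ∏ f ∈ S, (ψ f (c h)⁻¹ * ψ f (c (κ f))) := by
    rw [map_prod]
    refine Finset.prod_bij (fun f _ => h * f * h⁻¹) ?_ ?_ ?_ ?_
    · intro f hf
      rw [hS] at hf ⊢
      exact ⟨by simpa using hf.1, (mem_normalizer_iff.1 (hn hh) f).1 hf.2⟩
    · intro f _ g _ e
      simpa using e
    · intro g hg
      rw [hS] at hg
      refine ⟨h⁻¹ * g * h, (hS _).2 ⟨fun e => hg.1 ?_, ?_⟩, by group⟩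
      · have : g = h * (h⁻¹ * g * h) * h⁻¹ := by group
        rw [this, e]; group
      · simpa using (mem_normalizer_iff.1 (inv_mem (hn hh)) g).1 hg.2
    · intro f hf
      rw [hS] at hf
      rw [hκ' f hf.2 hf.1 h hh, hc h hh _ (hκ f), ← map_mul, inv_mul_cancel_left]
      simp
  rw [map_inv, h3, Finset.prod_mul_distrib, h1, inv_inv, mul_inv, mul_inv_cancel_left]

open Classical in
/-- the product over the orbit -/
theorem orbit_prod [Fintype A] (B : Subgroup A) (w : V) (N : Subgroup V)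
    (h : ∀ b ∈ B, ψ b w = w ∨ ψ b w ∈ N) : ∃ y ∈ fx ψ B, w⁻¹ * y ∈ N := by
  let O : Finset V := (Finset.univ.filter (· ∈ B)).image fun b => ψ b w
  have hO : ∀ v, v ∈ O ↔ ∃ b ∈ B, ψ b w = v := fun v => by simp [O]
  refine ⟨∏ v ∈ O, v, mem_fx.2 fun b hb => ?_, ?_⟩
  · rw [map_prod]
    refine Finset.prod_bij (fun v _ => ψ b v) ?_ ?_ ?_ ?_
    · intro v hv
      obtain ⟨c, hc, rfl⟩ := (hO v).1 hv
      exact (hO _).2 ⟨b * c, mul_mem hb hc, by simp⟩
    · intro f _ g _ e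
      exact (ψ b).injective e
    · intro v hv
      obtain ⟨c, hc, rfl⟩ := (hO v).1 hv
      exact ⟨ψ (b⁻¹ * c) w, (hO _).2 ⟨_, mul_mem (inv_mem hb) hc, rfl⟩, by simp⟩
    · intro f _
      rfl
  · rw [← Finset.mul_prod_erase O _ (a := w) ((hO w).2 ⟨1, one_mem _, by simp⟩),
      inv_mul_cancel_left]
    refine prod_mem fun v hv => ?_
    rw [Finset.mem_erase] at hv
    obtain ⟨c, hc, rfl⟩ := (hO v).1 hv.2
    exact (h c hc).resolve_left hv.1

end Comm

/-- fixed points of the complement are covered modulo an abelian invariant normal subgroup -/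
theorem cover {G : Type u} [Group G] [Finite A] {φ : A →* MulAut G} {F H : Subgroup A}
    (hn : H ≤ normalizer (F : Set A)) (hf : Fpf F H) (V : Subgroup G) [IsMulCommutative V]
    (hV : AInv φ V) (h0 : V ⊓ fx φ F = ⊥) {g : G} (hg : ∀ h ∈ H, g⁻¹ * φ h g ∈ V) :
    ∃ v ∈ V, g * v ∈ fx φ H := by
  classical
  let ψ : A →* MulAut V := restrictAut φ V hV
  have h1 : fx ψ F = ⊥ := by
    rw [eq_bot_iff]
    intro v hv
    have : (v : G) ∈ V ⊓ fx φ F :=
      mem_inf.2 ⟨v.2, mem_fx.2 fun b hb => congrArg Subtype.val (mem_fx.1 hv b hb)⟩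
    rw [h0, mem_bot] at this
    exact mem_bot.2 (Subtype.ext this)
  let c : A → V := fun h => if hh : h ∈ H then ⟨_, hg h hh⟩ else 1
  have hc : ∀ h ∈ H, (c h : G) = g⁻¹ * φ h g := fun h hh => by simp [c, hh]
  obtain ⟨v, hv⟩ := cocycle_triv (ψ := ψ) hn hf h1 c fun h hh k hk => Subtype.ext (by
    rw [coe_mul, hc _ (mul_mem hh hk), hc h hh]
    show _ = _ * φ h (c k)
    rw [hc k hk]
    simp [mul_assoc])
  refine ⟨v, v.2, mem_fx.2 fun h hh => ?_⟩
  have := congrArg Subtype.val (hv h hh)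
  rw [coe_mul, hc h hh] at this
  change _ * φ h v = _ at this
  have e : φ h g * φ h v = g * (g⁻¹ * φ h g * φ h v) := by group
  rw [map_mul, e, this]

section Cliff

variable {V : Type u} [CommGroup V] [Finite V] {U : Type w} [Group U] [Finite U]
  [IsMulCommutative U]

omit [Finite V] [Finite U] in
theorem fx_ainv_comm (ρ : U →* MulAut V) (K : Subgroup U) : AInv ρ (fx ρ K) :=
  ainv_fx K

/-- a hyperplane with nontrivial fixed points missing `x` -/
theorem exists_hyp {p q : ℕ} [Fact p.Prime] [Fact q.Prime] (hpq : p ≠ q) (hV : IsPGroup p V)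
    (hU : ∀ u : U, u ^ q = 1) (ρ : U →* MulAut V) {x : U} (hx : ¬ ∀ v, ρ x v = v) :
    ∃ K : Subgroup U, x ∉ K ∧ fx ρ K ≠ ⊥ ∧ ∀ y ∉ K, K ⊔ zpowers y = ⊤ := by
  obtain ⟨K, hK⟩ := Set.Finite.exists_maximal
    (s := {K : Subgroup U | ¬ fx ρ K ≤ fx ρ (zpowers x)}) (Set.toFinite _)
    ⟨⊥, fun h => hx fun v => mem_fx.1 (h (mem_fx.2 fun b hb => by
      rw [mem_bot.1 hb]; simp)) x (mem_zpowers x)⟩
  have hK1 : ¬ fx ρ K ≤ fx ρ (zpowers x) := hK.1
  have hxK : x ∉ K := fun h => hK1 (fx_anti (zpowers_le.2 h))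
  refine ⟨K, hxK, fun e => hK1 (e ▸ bot_le), ?_⟩
  have hq : ∀ u : U ⧸ K, u ^ q = 1 := fun u => by
    obtain ⟨u, rfl⟩ := QuotientGroup.mk_surjective u
    rw [← QuotientGroup.mk_pow, hU, QuotientGroup.mk_one]
  have hcyc : IsCyclic (U ⧸ K) := by
    by_contra hc
    let W := fx ρ K
    let ρ1 : U →* MulAut W := restrictAut ρ W (fx_ainv_comm ρ K)
    let ρ2 : U ⧸ K →* MulAut W := QuotientGroup.lift K ρ1 fun k hk => by
      ext w
      exact congrArg (fun z : V => z) (mem_fx.1 w.2 k hk)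
    haveI : IsMulCommutative (U ⧸ K) := ⟨⟨fun a b => by
      obtain ⟨a, rfl⟩ := QuotientGroup.mk_surjective a
      obtain ⟨b, rfl⟩ := QuotientGroup.mk_surjective b
      rw [← QuotientGroup.mk_mul, ← QuotientGroup.mk_mul, mul_comm]⟩⟩
    have hcop : (Nat.card (U ⧸ K)).Coprime (Nat.card (⊤ : Subgroup W)) := by
      obtain ⟨n, hn⟩ := IsPGroup.iff_card.1 (show IsPGroup q (U ⧸ K) from fun u => ⟨1, by
        rw [pow_one, hq]⟩)
      obtain ⟨m, hm⟩ := IsPGroup.iff_card.1 ((hV.to_subgroup W).to_subgroup ⊤)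
      rw [hn, hm]
      exact Nat.Coprime.pow _ _ ((Nat.coprime_primes Fact.out Fact.out).2 hpq.symm)
    have := aut_le_of_fixed_le (φ := ρ2) hc (K := ⊤) (J := (fx ρ (zpowers x)).subgroupOf W)
      aInv_top hcop fun a a1 w _ hw => by
        obtain ⟨a, rfl⟩ := QuotientGroup.mk_surjective a
        have ha : a ∉ K := fun h => a1 ((QuotientGroup.eq_one_iff a).2 h)
        have h1 : (w : V) ∈ fx ρ (K ⊔ zpowers a) :=
          fx_sup w.2 (fx_zpowers (congrArg Subtype.val hw))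
        by_contra h2
        have h3 := hK.2 (y := K ⊔ zpowers a) (fun h => h2 (h h1)) le_sup_left
        exact ha (h3 (mem_sup_right (mem_zpowers a)))
    exact hK1 fun w hw => this (mem_top (⟨w, hw⟩ : W))
  intro y hy
  have y1 : (y : U ⧸ K) ≠ 1 := fun h => hy ((QuotientGroup.eq_one_iff y).1 h)
  have hc : Nat.card (U ⧸ K) = q := by
    have h1 : Nat.card (U ⧸ K) ∣ q := by
      rw [← IsCyclic.exponent_eq_card]
      exact Monoid.exponent_dvd_of_forall_pow_eq_one hq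
    refine ((Nat.dvd_prime Fact.out).1 h1).resolve_left fun e => y1 ?_
    haveI := (Nat.card_eq_one_iff_unique.1 e).1
    exact Subsingleton.elim _ _
  have h2 := zpowers_eq_top_of_prime_card hc y1
  rw [eq_top_iff]
  intro u _
  obtain ⟨n, hn⟩ := (h2 ▸ mem_top (u : U ⧸ K) : (u : U ⧸ K) ∈ zpowers (y : U ⧸ K))
  have h3 : (y ^ n)⁻¹ * u ∈ K := QuotientGroup.eq.1 hn
  have : u = y ^ n * ((y ^ n)⁻¹ * u) := by group
  rw [this]
  exact mul_mem (mem_sup_right (zpow_mem (mem_zpowers y) n)) (mem_sup_left h3)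

theorem clifford [Finite A] {p q : ℕ} [Fact p.Prime] [Fact q.Prime] (hpq : p ≠ q)
    (hV : IsPGroup p V) (hU : ∀ u : U, u ^ q = 1) (ρ : U →* MulAut V) (φ : A →* MulAut U)
    (ψ : A →* MulAut V) (hc : ∀ a u v, ψ a (ρ u v) = ρ (φ a u) (ψ a v)) {F H : Subgroup A}
    (hF : Group.IsNilpotent F) (hn : H ≤ normalizer (F : Set A)) (hf : Fpf F H)
    (h0 : fx ψ F = ⊥) (h1 : fx ρ ⊤ = ⊥) {x : U} (hx : ∀ v ∈ fx ψ H, ρ x v = v) :
    ∀ v, ρ x v = v := by
  classical
  letI := Fintype.ofFinite A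
  letI := Fintype.ofFinite U
  by_contra hne
  obtain ⟨K, hxK, hW, hK⟩ := exists_hyp hpq hV hU ρ hne
  let π : V →* V :=
    { toFun := fun v => ∏ k ∈ Finset.univ.filter (· ∈ K), ρ k v
      map_one' := by simp
      map_mul' := fun a b => by simp [Finset.prod_mul_distrib] }
  have hπ : ∀ v, π v = ∏ k ∈ Finset.univ.filter (· ∈ K), ρ k v := fun _ => rfl
  have hπc : ∀ u v, π (ρ u v) = ρ u (π v) := fun u v => by
    rw [hπ, hπ, map_prod]
    refine Finset.prod_congr rfl fun k _ => ?_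
    rw [← MulAut.mul_apply, ← MulAut.mul_apply, ← map_mul, ← map_mul, mul_comm]
  have ha : ∀ w ∈ fx ρ K, w ∈ π.ker → w = 1 := by
    intro w hw h
    rw [MonoidHom.mem_ker, hπ, Finset.prod_congr rfl (g := fun _ => w)
      (fun k hk => mem_fx.1 hw k (by simpa using hk)), Finset.prod_const] at h
    have e : (Finset.univ.filter (· ∈ K)).card = Nat.card K := by
      rw [Nat.card_eq_fintype_card, Fintype.card_subtype]
    rw [e] at h
    obtain ⟨n, hn⟩ := IsPGroup.iff_card.1 (show IsPGroup q K from fun u => ⟨1, Subtype.ext (by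
      rw [pow_one, coe_pow, hU, coe_one])⟩)
    obtain ⟨m, hm⟩ := hV w
    rw [hn] at h
    have h2 : orderOf w ∣ Nat.gcd (p ^ m) (q ^ n) :=
      Nat.dvd_gcd (orderOf_dvd_of_pow_eq_one hm) (orderOf_dvd_of_pow_eq_one h)
    rw [Nat.Coprime.pow _ _ ((Nat.coprime_primes Fact.out Fact.out).2 hpq), Nat.dvd_one] at h2
    exact orderOf_eq_one_iff.1 h2
  let St : Subgroup A := (MulAction.stabilizer (MulAut U) K).comap φ
  have hSt : ∀ a, a ∈ St ↔ φ a • K = K := fun a => Iff.rfl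
  have hfix : ∀ a, ∀ w ∈ fx ρ K, ∀ k ∈ K, ρ (φ a k) (ψ a w) = ψ a w := fun a w hw k hk => by
    rw [← hc, mem_fx.1 hw k hk]
  have hiv : Iv ψ St (fx ρ K) := by
    intro a ha w hw
    refine mem_fx.2 fun k hk => ?_
    rw [← (hSt a).1 ha] at hk
    obtain ⟨l, hl, rfl⟩ := hk
    exact hfix a w hw l hl
  have hb : ∀ a ∉ St, ∀ w ∈ fx ρ K, ψ a w ∈ π.ker := by
    intro a ha w hw
    have h2 : ¬ φ a • K ≤ K := fun h => ha ((hSt a).2 (eq_of_le_of_card_ge h (le_of_eq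
      (Nat.card_congr (K.equivSMul (φ a)).toEquiv))))
    obtain ⟨_, ⟨l, hl, rfl⟩, hy⟩ := SetLike.not_le_iff_exists.1 h2
    have h3 : π (ψ a w) ∈ fx ρ (K ⊔ zpowers (φ a l)) := by
      refine fx_sup (prod_fixed K _) (fx_zpowers ?_)
      rw [← hπc, hfix a w hw l hl]
    rw [hK (φ a l) hy, h1] at h3
    exact h3
  have h2 : fx ρ K ⊓ fx ψ (F ⊓ St) = ⊥ := by
    rw [eq_bot_iff]
    intro w hw
    obtain ⟨y, hy, h⟩ := orbit_prod (ψ := ψ) F w π.ker fun b hb' => by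
      by_cases hs : b ∈ St
      · exact Or.inl (mem_fx.1 hw.2 b ⟨hb', hs⟩)
      · exact Or.inr (hb b hs w hw.1)
    rw [h0, mem_bot] at hy
    rw [hy, mul_one, inv_mem_iff] at h
    exact ha w hw.1 h
  have h3 : fx ρ K ⊓ fx ψ (H ⊓ St) ≠ ⊥ := fun e => hW (inf_fx_ne_bot (p := p) (φ := ψ)
    (F := F ⊓ St) (H := H ⊓ St) (Group.nilpotent_of_mulEquiv (subgroupOfEquivOfLe inf_le_left))
    (fun h hh => inf_normalizer_le_normalizer_inf ⟨hn hh.1, le_normalizer hh.2⟩)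
    (hf.mono inf_le_left inf_le_left) (hV.to_subgroup _) (fun b hb => hiv b hb.2)
    (fun b hb => hiv b hb.2) h2 e)
  obtain ⟨⟨w, hw⟩, w1⟩ := ne_bot_iff_exists_ne_one.1 h3
  obtain ⟨y, hy, h⟩ := orbit_prod (ψ := ψ) H w π.ker fun b hb' => by
    by_cases hs : b ∈ St
    · exact Or.inl (mem_fx.1 hw.2 b ⟨hb', hs⟩)
    · exact Or.inr (hb b hs w hw.1)
  have h4 : ρ x (w⁻¹ * y) ∈ π.ker := by
    rw [MonoidHom.mem_ker] at h ⊢
    rw [hπc, h, map_one]
  have h5 : w⁻¹ * ρ x w = 1 := by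
    refine ha _ (mul_mem (inv_mem hw.1) (fx_ainv_comm ρ K x w hw.1)) ?_
    have := mul_mem h (inv_mem h4)
    rw [map_mul, map_inv, hx y hy] at this
    simpa [mul_assoc] using this
  have h6 : w ∈ fx ρ (K ⊔ zpowers x) := fx_sup hw.1 (fx_zpowers (inv_mul_eq_one.1 h5).symm)
  rw [hK x hxK, h1] at h6
  exact w1 (Subtype.ext h6)

end Cliff

end H4.Fa
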