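import Cfsg.Agent.H4.G3k

/-! Fusion systems over groups with an extraspecial subgroup of index `p`. -/

set_option autoImplicit false
set_option linter.unusedSectionVars false

namespace H4
namespace G3
open Subgroup H25 H25.FS P5
open scoped commutatorElement

variable {Γ Γ' : Type*} [Group Γ] [Finite Γ] [Group Γ'] [Finite Γ'] {p : ℕ} [hp : Fact p.Prime]
variable {A B E N Q : Subgroup Γ} {c w x y z : Γ} {F : FS Γ}

theorem cz_zp_symm (h : x ∈ cz (zpowers y)) : y ∈ cz (zpowers x) :=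
  le_cz_comm.1 (zpowers_le.2 h) (mem_zpowers y)

theorem card_zp_le_p (h : z ^ p = 1) : Nat.card (zpowers z) ≤ p := by
  rw [Nat.card_zpowers]; exact Nat.le_of_dvd hp.out.pos (orderOf_dvd_of_pow_eq_one h)

/-- a group of transvections with common centre `z` -/
theorem Lc.transv (r : Lc p E N A B) (hQ : Q ≤ N) (hz : z ∈ E) (h1 : Q ≤ stab E (zpowers z))
    (h2 : Q ≤ cz (zpowers z)) : ∃ w ∈ E, Q ⊓ cz (zpowers w) ≤ E := by
  obtain ⟨a, ha, ha'⟩ := SetLike.not_le_iff_exists.1 r.nB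
  by_contra! hn
  have e1 := conj_mem_of_mem_nz (r.An ha) hz
  obtain ⟨x, ⟨hx, hx1⟩, hx'⟩ := SetLike.not_le_iff_exists.1 (hn _ e1)
  obtain ⟨y, ⟨hy, hy1⟩, hy'⟩ := SetLike.not_le_iff_exists.1 (hn _ (conj_mem_of_mem_nz' (r.An ha) hz))
  have hW : zpowers z ⊔ zpowers (a * z * a⁻¹) ≤ E := sup_le (zpowers_le.2 hz) (zpowers_le.2 e1)
  refine ha' (r.pair (K := A ⊓ (stab E (zpowers z ⊔ zpowers (a * z * a⁻¹)) ⊓
    cz (zpowers z ⊔ zpowers (a * z * a⁻¹)))) inf_le_left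
    (fun k hk => pel_of_stab_cz (r.pE.to_le hW) hk.2.1 hk.2.2) ha (hQ hx) hx' (hQ hy) hy'
    ⟨r.NA (hQ hx), (stab_iff hW).2 fun u hu => mem_sup_left (comm_of_stab (h1 hx) hu), ?_⟩
    ⟨A.mul_mem (mul_mem ha (r.NA (hQ hy))) (inv_mem ha), (stab_iff hW).2 fun u hu => mem_sup_right ?_, ?_⟩)
  · rw [cz_sup]; exact ⟨h2 hx, hx1⟩
  · have := conj_mem_cj a (comm_of_stab (h1 hy) (conj_mem_of_mem_nz' (r.An ha) hu))
    rw [cj_zpowers] at this
    convert this using 1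
    simp [commutatorElement_def, mul_assoc]
  · rw [cz_sup]
    have f1 := conj_mem_cj a hy1
    have f2 := conj_mem_cj a (h2 hy)
    rw [cj_cz, cj_zpowers] at f1 f2
    exact ⟨by simpa [mul_assoc] using f1, f2⟩

theorem Lc.ge (r : Lc p E N A B) (g : GE p Q z) (hQ : Q ≤ N) (h1 : E < Q) :
    z ∈ E ∧ Cm E ∧ Nat.card Q ≤ Nat.card E * p ∧
      Nat.card Q ≤ Nat.card (Q ⊓ cz Q : Subgroup Γ) * p * p := by
  have hz : z ∈ E := r.cen (hQ g.mem) (cz_anti h1.le g.cen)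
  have zQ : Q ≤ cz (zpowers z) := le_cz_comm.1 (zpowers_le.2 g.cen)
  have cZ := card_zp_le_p g.pow
  have st : Q ≤ stab E (zpowers z) := fun x hx =>
    (stab_iff (zpowers_le.2 hz)).2 fun y hy => g.comm x hx y (h1.le hy)
  have cm : Cm E := fun x hx y hy => by
    by_contra hn
    have : zpowers z ≤ fr E := le_of_inf (r.pE.to_le (zpowers_le.2 hz)) cZ fun e => hn
      (commutatorElement_eq_one_iff_mul_comm.1 (eq_bot_iff.1 e (mem_inf.2
        ⟨commutator_le_fr r.pE (commutator_mem_commutator hx hy), g.comm x (h1.le hx) y (h1.le hy)⟩)))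
    exact h1.not_ge fun u hu => r.mem_of (D := stab E (fr E))
      (fun a ha => nz_stab (r.An ha) (nz_le_nz_fr E (r.An ha))) (fun k _ hk => pel_of_fr r.pE hk) (hQ hu)
      ((stab_iff (fr_le E)).2 fun v hv => this (comm_of_stab (st hu) hv))
  obtain ⟨w, hw, h2⟩ := r.transv hQ hz st zQ
  have c1 := (card_le_cz (x := w) (fun y hy => g.comm w (h1.le hw) y hy) (zpowers_le.2 g.cen) cZ).trans
    (Nat.mul_le_mul_right _ (card_le_of_le h2))
  obtain ⟨x, hx, hx'⟩ := SetLike.exists_of_lt h1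
  have e := eq_sup_of_card (r.pg.to_le hQ) h1.le c1 hx hx'
  refine ⟨hz, cm, c1, c1.trans (Nat.mul_le_mul_right _ ((card_le_cz (x := x)
    (fun y hy => g.comm x hx y (h1.le hy)) (zpowers_le.2 (cz_anti h1.le g.cen)) cZ).trans
    (Nat.mul_le_mul_right _ (card_le_of_le fun y hy => ⟨h1.le hy.1, ?_⟩))))⟩
  rw [← e, cz_sup]
  exact ⟨cm_iff.1 cm hy.1, hy.2⟩

theorem ess_ge (hF : F.Sat p) (g : GE p Q z) (hQ : Q ≤ F.S) (hE : F.Ess E) (h1 : E < Q) :
    F.S ⊓ Q ≤ nz E ∧ Nat.card Q ≤ Nat.card (Q ⊓ cz Q : Subgroup Γ) * p * p := by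
  have r := lc_of_ess hF hE
  have hz : z ∈ E := r.cen ⟨hQ g.mem, cz_le_nz _ (cz_anti h1.le g.cen)⟩ (cz_anti h1.le g.cen)
  have n : Q ≤ nz E := fun x hx => nz_of_comm fun y hy => zpowers_le.2 hz (g.comm x hx y (h1.le hy))
  exact ⟨inf_le_right.trans n, (r.ge g (le_inf hQ n) h1).2.2.2⟩

theorem ge_center (hF : F.Sat p) (hp2 : p ≠ 2) (h0 : F.core = ⊥) (g : GE p F.S z) (hc : ¬ Cm F.S)
    (c : Nat.card (F.S ⊓ cz F.S : Subgroup Γ) ≤ p * p) : Nat.card (F.S ⊓ cz F.S : Subgroup Γ) ≤ p := by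
  have h1 : F.S ≠ ⊥ := fun e => hc (by rw [e]; exact fun x hx y hy => by simp [mem_bot.1 hx])
  have p1 := hp.out.one_lt
  obtain ⟨E, hE⟩ : ∃ E, F.Ess E := by
    by_contra! h
    refine h1 (eq_bot_iff.2 (h0 ▸ Nm.le_core (hF.nm_iff_ess.2 ?_)))
    rintro P (rfl | hP)
    · exact ⟨le_rfl, F.A_le_nz _⟩
    · exact absurd hP (h P)
  have c4 : Nat.card F.S ≤ p * p ^ 3 := ((ess_ge hF g le_rfl hE hE.lt).2.trans
    (Nat.mul_le_mul_right _ (Nat.mul_le_mul_right _ c))).trans_eq (by ring)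
  have rk : Rk p F.S := fun X hX => by
    rcases hX.eq_or_lt with rfl | hX
    · refine c4.trans (Nat.mul_le_mul_right _ (p_le (hF.pg.to_le (fr_le _)) fun e => hc fun x hx y hy => ?_))
      exact commutatorElement_eq_one_iff_mul_comm.1
        (eq_bot_iff.1 e (commutator_le_fr hF.pg (commutator_mem_commutator hx hy)))
    · have := (card_mul_le_lt hF.pg le_rfl hX).trans c4
      have h2 : 0 < Nat.card (fr X) := Nat.card_pos
      nlinarith
  rcases allnormal hF rk hp2 h0 h1 (fun E hE => by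
    simpa using (ess_ge hF g le_rfl hE hE.lt).1) with ⟨-, h, -⟩ | ⟨_, _, -, -, o⟩
  exacts [h, o.cZ]

theorem xs_center (hF : F.Sat p) (hp2 : p ≠ 2) (h0 : F.core = ⊥) (g : GE p Q z) (hz : z ≠ 1)
    (hZ : Q ⊓ cz Q ≤ zpowers z) (hc : ¬ Cm Q) (hQ : Q ≤ F.S) (hn : F.S ≤ nz Q)
    (c : Nat.card F.S ≤ Nat.card Q * p) : F.S ⊓ cz F.S = Q ⊓ cz Q := by
  have cZ := card_zp_le_p g.pow
  have e : Q ⊓ cz Q = zpowers z := le_antisymm hZ (zpowers_le.2 ⟨g.mem, g.cen⟩)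
  have z1 : zpowers z ≤ cz F.S := le_of_inf (hF.pg.to_le (zpowers_le.2 (hQ g.mem))) cZ (by
    rw [inf_comm]
    exact inf_cz_ne hF.pg (zpowers_le.2 (hQ g.mem))
      (fun s hs => e ▸ mem_nz_inf (hn hs) (mem_nz_cz (hn hs))) (zpowers_ne_bot.2 hz))
  have z2 : zpowers z ≤ F.S ⊓ cz F.S := le_inf (zpowers_le.2 (hQ g.mem)) z1
  refine le_antisymm (fun u hu => ?_) (hZ.trans z2)
  by_contra hu'
  have uQ : u ∉ Q := fun h => hu' ⟨h, cz_anti hQ hu.2⟩
  have es := eq_sup_of_card hF.pg hQ c hu.1 uQ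
  have nz1 : F.S ≤ nz (zpowers z) := (le_cz_comm.1 z1).trans (cz_le_nz _)
  have up : u ^ p ∈ zpowers z := hZ ⟨pow_mem_of_card hF.pg hQ c hu.1, cz_anti hQ (pow_mem hu.2 p)⟩
  have cm : ∀ x ∈ F.S, ∀ y ∈ F.S, ⁅x, y⁆ ∈ zpowers z := by
    rw [← es] at nz1 ⊢
    exact comm_gen nz1 g.comm fun v hv => comm_symm (comm_one hu.2 (hQ hv) ▸ one_mem _)
  obtain ⟨O, hO⟩ := exists_om_mod (p := p) (z2.trans inf_le_left) nz1 cm
  have g' : GE p F.S z := ⟨hQ g.mem, z1 (mem_zpowers z), g.pow, cm, fun x hx => ((hO x).1 (es.ge.trans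
    (sup_le (fun v hv => (hO v).2 ⟨hQ hv, g.pw v hv⟩) (zpowers_le.2 ((hO u).2 ⟨hu.1, up⟩))) hx)).2⟩
  have := ge_center hF hp2 h0 g' (fun h => hc (h.mono hQ)) ((card_le_inf inf_le_left hQ c).trans
    (Nat.mul_le_mul_right _ ((card_le_of_le fun v (hv : v ∈ F.S ⊓ cz F.S ⊓ Q) => hZ ⟨hv.2, cz_anti hQ hv.1.2⟩).trans cZ)))
  exact hu' (e ▸ (eq_of_le_of_card_le z2 (this.trans
    (p_le (hF.pg.to_le (z2.trans inf_le_left)) (zpowers_ne_bot.2 hz)))).ge hu)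

theorem ge_range {G : Type*} [Group G] [Finite G] (h : Cfsg.IsExtraspecial p G) {f : G →* Γ}
    (hf : Function.Injective f) :
    ∃ z, GE p f.range z ∧ z ≠ 1 ∧ f.range ⊓ cz f.range ≤ zpowers z ∧ ¬ Cm f.range := by
  obtain ⟨z, hz⟩ := (Subgroup.isCyclic_iff_exists_zpowers_eq_top _).1 (isCyclic_of_prime_card h.2)
  have o : orderOf z = p := by rw [← Nat.card_zpowers, hz, h.2]
  have k : ∀ u ∈ center G, f u ∈ zpowers (f z) := fun u hu => by
    obtain ⟨i, rfl⟩ := hz ▸ hu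
    exact ⟨i, (map_zpow f z i).symm⟩
  have z1 : z ≠ 1 := fun e => hp.out.ne_one (by rw [← o, e, orderOf_one])
  refine ⟨f z, ⟨⟨z, rfl⟩, ?_, by rw [← map_pow, ← o, pow_orderOf_eq_one, map_one], ?_, ?_⟩,
    fun e => z1 (hf (by rw [e, map_one])), ?_, fun cm => z1 ?_⟩
  · rintro _ ⟨x, rfl⟩
    rw [← map_mul, ← map_mul, mem_center_iff.1 (hz ▸ mem_zpowers z : z ∈ center G) x]
  · rintro _ ⟨x, rfl⟩ _ ⟨y, rfl⟩
    simpa [commutatorElement_def] using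
      k ⁅x, y⁆ (h.1.2.2 ▸ commutator_mem_commutator (mem_top x) (mem_top y))
  · rintro _ ⟨x, rfl⟩
    simpa using k (x ^ p) (h.1.2.1 ▸ pow_mem_frattini h.1.1 x)
  · rintro _ ⟨⟨x, rfl⟩, hx⟩
    exact k x (mem_center_iff.2 fun y => hf (by simpa using hx _ ⟨y, rfl⟩))
  · have : commutator G ≤ ⊥ := commutator_le.2 fun x _ y _ => commutatorElement_eq_one_iff_mul_comm.2
      (hf (by simpa using cm _ ⟨x, rfl⟩ _ ⟨y, rfl⟩))
    exact this (h.1.2.2 ▸ hz ▸ mem_zpowers z)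

theorem ge_im {Ω : Type*} [Group Ω] {S P : Subgroup Ω} [Finite S] {θ : S →* Γ} (hθ : Function.Injective θ)
    (hP : P ≤ S) (h : Cfsg.IsExtraspecial p P) :
    ∃ z, GE p (im θ P) z ∧ z ≠ 1 ∧ im θ P ⊓ cz (im θ P) ≤ zpowers z ∧ ¬ Cm (im θ P) := by
  haveI : Finite P := .of_injective _ (inclusion_injective hP)
  have := ge_range h (f := (im θ P).subtype.comp (imEquiv hθ hP).toMonoidHom)
    (Subtype.val_injective.comp (imEquiv hθ hP).injective)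
  rwa [MonoidHom.range_comp, MonoidHom.range_eq_top.2 (imEquiv hθ hP).surjective,
    ← MonoidHom.range_eq_map, range_subtype] at this

end G3
end H4
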