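import Cfsg.Agent.H4.G81
import Cfsg.Agent.H18.G1

/-! Standard `U₄(2)`: five commuting conjugates, the chunks DL and CX. -/

set_option autoImplicit false
set_option linter.unusedSectionVars false

namespace H4.G38
open Cfsg Subgroup H19 H28.CY H18.U2 H18.G38 Matrix
open H15.GC (ω ν cases4)
universe u
variable {G : Type u} [Group G] [Finite G] {ι : Γ4 →* G} {d e g k o r s t w x y : G} {X : Subgroup G} {l l' : Γ4}
  {a b : Hm 𝔽} {β γ : 𝔽} {f f' : 𝔽 → G} {m n : 𝔽 → ℤ}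

/-- a product of powers of four elements -/
def A (f : 𝔽 → G) (n : 𝔽 → ℤ) : G := f 0 ^ n 0 * f 1 ^ n 1 * f ω ^ n ω * f ν ^ n ν
theorem A_add (c : ∀ β γ, Commute (f β) (f γ)) (m n : 𝔽 → ℤ) : A f (m + n) = A f m * A f n := by
  have c' := fun β γ i j => (c β γ).zpow_zpow i j
  rw [A, A, A, (((c' ..).mul_right (c' ..)).mul_right (c' ..)).mul_mul_mul_comm, ((c' ..).mul_right (c' ..)).mul_mul_mul_comm,
    (c' ..).mul_mul_mul_comm]
  simp only [Pi.add_apply, _root_.zpow_add]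
theorem A_0 : A f 0 = 1 := by simp [A]
theorem A_sg (β : 𝔽) (k : ℤ) : A f (Pi.single β k) = f β ^ k := by
  rcases cases4 β with rfl | rfl | rfl | rfl <;> rw [A] <;> repeat (first | rw [Pi.single_eq_same] | rw [Pi.single_eq_of_ne (by decide)])
  all_goals simp
theorem A_neg (c : ∀ β γ, Commute (f β) (f γ)) (n : 𝔽 → ℤ) : A f (-n) = (A f n)⁻¹ :=
  eq_inv_of_mul_eq_one_left (by rw [← A_add c, neg_add_cancel, A_0])
theorem A_congr {N : ℕ} (p : ∀ β, f β ^ N = 1) (h : ∀ β, (N : ℤ) ∣ m β - n β) : A f m = A f n := by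
  have : ∀ β, f β ^ m β = f β ^ n β := fun β => by
    obtain ⟨k, e⟩ := h β
    rw [sub_eq_iff_eq_add.1 e, _root_.zpow_add, _root_.zpow_mul, zpow_natCast, p, _root_.one_zpow, one_mul]
  simp only [A, this]
theorem ind4 {p : (𝔽 → ℤ) → Prop} (add : ∀ m n, p m → p n → p (m + n)) (sg : ∀ β k, p (Pi.single β k)) (n : 𝔽 → ℤ) : p n :=
  Finset.univ_sum_single n ▸ Finset.sum_induction_nonempty _ _ add Finset.univ_nonempty fun β _ => sg β _
theorem A_cj (c : ∀ β γ, Commute (f β) (f γ)) (π : 𝔽 → 𝔽) (i : ∀ β, π (π β) = β) (ε : ℤ) (e : ∀ β, g * f β * g⁻¹ = f (π β) ^ ε)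
    (n : 𝔽 → ℤ) : g * A f n * g⁻¹ = A f fun β => ε * n (π β) := by
  induction n using ind4 with
  | add m n p q => rw [A_add c, ← conj_mul, p, q, ← A_add c]; congr 1; ext; simp [mul_add]
  | sg β k =>
    rw [A_sg, ← conj_zpow, e, ← _root_.zpow_mul, ← A_sg]; congr 1; ext γ
    by_cases h : γ = π β
    · rw [h, i, Pi.single_eq_same, Pi.single_eq_same]
    · rw [Pi.single_eq_of_ne h, Pi.single_eq_of_ne fun k => h (by rw [← k, i]), mul_zero]
theorem A_cm (c : ∀ β, Commute g (f β)) (n : 𝔽 → ℤ) : Commute g (A f n) :=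
  ((((c _).zpow_right _).mul_right ((c _).zpow_right _)).mul_right ((c _).zpow_right _)).mul_right ((c _).zpow_right _)
theorem A_mem {M : Subgroup G} (c : ∀ β, f β ∈ M) (n : 𝔽 → ℤ) : A f n ∈ M :=
  mul_mem (mul_mem (mul_mem (zpow_mem (c _) _) (zpow_mem (c _) _)) (zpow_mem (c _) _)) (zpow_mem (c _) _)
theorem A_1 : A f 1 = f 0 * f 1 * f ω * f ν := by simp [A]

variable (ι) in
/-- `e` centralizes `C_L(z)` -/
def Cz (e : G) : Prop := ∀ l : Γ4, l * zz = zz * l → ι l * e = e * ι l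
theorem wb_u (β γ : 𝔽) : ι (up β 0) * wb ι e γ * (ι (up β 0))⁻¹ = wb ι e (γ + β) := by
  rw [wb, wb, ← cj2, ← map_mul, ← mul_assoc, u_mul, add_comm]
theorem wb0 : wb ι e 0 = ι nn * e * (ι nn)⁻¹ := by rw [wb, up_0, one_mul]
theorem wb_n0 : ι nn * wb ι e 0 * (ι nn)⁻¹ = e := by rw [wb0, ← cj2, ← map_mul, nn2]; simp
theorem wb_t (H : Hyp ι t) (β : 𝔽) : wb ι (t * e) β = t * wb ι e β := by rw [wb, wb, ← conj_mul, H.tcj]
theorem wb_s (o : Ou ι t s) (c : s * e = e * s) (β : 𝔽) : s * wb ι e β * s⁻¹ = wb ι e (star β) := by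
  rw [wb, wb, ← conj_mul, ← conj_mul, ← conj_inv, o.ac, c, mul_inv_cancel_right]
  congr 3 <;> revert β <;> decide +kernel
namespace Cz
variable (C : Cz ι e)
include C
theorem eq {y : Γ4} (h : l * zz = y * l) (h' : l' * zz = y * l') : ι l * e * (ι l)⁻¹ = ι l' * e * (ι l')⁻¹ := by
  rw [show l = l' * (l'⁻¹ * l) by group, map_mul, cj2, C _ (by rw [mul_assoc, h, ← mul_assoc, ← mul_assoc, ← mul_inv_eq_iff_eq_mul.2 h']; group),
    mul_inv_cancel_right]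
theorem wn (h : β ≠ 0) : ι nn * wb ι e β * (ι nn)⁻¹ = wb ι e (star β) := by
  rw [wb, wb, ← cj2, ← map_mul]
  exact C.eq (y := zb (star β)) (by revert β; decide +kernel) (by generalize star β = β; revert β; decide +kernel)
theorem wh (h : T 𝔽) (β : 𝔽) : ι (hh h) * wb ι e β * (ι (hh h))⁻¹ = wb ι e (ta h / td h * β) := by
  rw [wb, wb, ← cj2, ← map_mul, show hh h * (up β 0 * nn) = up (ta h / td h * β) 0 * nn * hh (tn h) by
    rw [← hh_u, ← nn_hh, nn_inv, ← mul_assoc, ← mul_assoc, ← mul_assoc, mul_assoc _ nn nn, nn2]; group, map_mul, cj2, C _ (h3 _).2, mul_inv_cancel_right]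
theorem wu (β : 𝔽) : ι (up β 0) * e * (ι (up β 0))⁻¹ = e := by rw [C _ (up_z ..), mul_inv_cancel_right]
variable (c : Commute e (wb ι e 0))
include c
theorem c5 (β : 𝔽) : Commute e (wb ι e β) := by simpa only [C.wu, wb_u, zero_add] using c.conj (ι (up β 0))
theorem cc (β γ : 𝔽) : Commute (wb ι e β) (wb ι e γ) := by
  obtain ⟨γ, rfl⟩ : ∃ δ, γ = δ + β := ⟨γ + β, by rw [add_assoc, H15.GC.aa, add_zero]⟩
  have : Commute (wb ι e 0) (wb ι e γ) := by
    by_cases h : γ = 0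
    · rw [h]
    · simpa only [← wb0, C.wn (star_ne_zero.2 h), star_star] using (C.c5 c (star γ)).conj (ι nn)
  simpa only [wb_u, zero_add] using this.conj (ι (up β 0))
theorem one (H : Sr ι t X) (p : Mv ι t e (1, 0, 0)) (e4 : e ^ 4 = 1) : e * A (wb ι e) 1 = 1 := by
  have q := p.five H.H
  rw [← A_1] at q
  have c5 := A_cm (C.c5 c) 1
  have w4 : ∀ β, wb ι e β ^ 4 = 1 := fun β => by rw [wb, conj_pow, e4]; simp
  obtain ⟨y, k | k⟩ := H.cV2 (mem_cent1.2 (mul_inv_eq_iff_eq_mul.1 (q.2.trans (by rw [up_0, map_one, mul_one]))))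
    (by rintro _ ⟨_, ⟨y, rfl⟩, rfl⟩; exact q.1 y) (two_of_pow (j := 2) (by
      rw [show 2 ^ 2 = 4 from rfl, c5.mul_pow, e4, one_mul, show 4 = 1 + 1 + 1 + 1 from rfl, pow_succ, pow_succ, pow_succ, pow_one, ← A_add (C.cc c),
        ← A_add (C.cc c), ← A_add (C.cc c), A_congr w4 (n := 0) fun _ => by simp, A_0]))
  · have f1 : ∀ β, act β y = y := fun β => (up_inj ((up_a ..).symm.trans (H.inj (by
      rw [← ι_cj, ← k, ← conj_mul, C.wu, A_cj (C.cc c) (· + β) (fun γ => by rw [add_assoc, H15.GC.aa, add_zero]) 1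
        (fun γ => by rw [wb_u, zpow_one])]; rfl)))).2
    have f2 : nact y = y := (up_inj ((nn_up _).symm.trans (H.inj (by
      rw [← ι_cj, ← k, A_1, ← conj_mul, ← conj_mul, ← conj_mul, ← conj_mul, ← wb0, wb_n0, C.wn (by decide), C.wn (by decide),
        C.wn (by decide), star_one, show star ω = ν by decide, show star ν = ω by decide, mul_assoc _ (wb ι e ν), (C.cc c ν ω).eq]
      simp only [← mul_assoc, (C.c5 c 0).eq])))).2
    rw [k, (by decide +kernel : ∀ y : Hm 𝔽, (∀ β, act β y = y) → nact y = y → y = 0) y f1 f2, up_0, map_one]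
  · have := ((Commute.refl e).mul_right c5).eq
    rw [k, mul_assoc t, p.1, ← mul_assoc, ← mul_assoc, mul_left_inj, ← mul_inv_eq_iff_eq_mul, p.2, mul_eq_left] at this
    exact (z1 H.H this).elim
end Cz

/-- the coefficients of a vector of `V` -/
def cf (a : Hm 𝔽) (β : 𝔽) : ℤ := if (act β a).1 = a.2.2 then 0 else 1
theorem indV {p : Hm 𝔽 → Prop} (add : ∀ a b, p a → p b → p (a + b)) (z : ∀ β, p (nm β, β, 1)) (a : Hm 𝔽) : p a := by
  obtain ⟨β, γ, δ, e | ⟨ε, e⟩⟩ := (by decide +kernel : ∀ a : Hm 𝔽, ∃ β γ δ : 𝔽, a = (nm β, β, 1) + (nm γ, γ, 1) + (nm δ, δ, 1) ∨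
    ∃ ε : 𝔽, a = (nm β, β, 1) + (nm γ, γ, 1) + (nm δ, δ, 1) + (nm ε, ε, 1)) a
  exacts [e ▸ add _ _ (add _ _ (z _) (z _)) (z _), e ▸ add _ _ (add _ _ (add _ _ (z _) (z _)) (z _)) (z _)]

theorem B1.mv (H : Hyp ι t) (B : B1 ι t w) : Mv ι t w (1, 0, 0) := ⟨fun _ => B.cz _ (a_comm ..), B.wt H⟩

theorem dl : DL.{u} := fun G _ _ ι t X H w B k => by
  have C : Cz ι (t * w) := fun l h => by rw [← mul_assoc, ← H.cen, mul_assoc, B.cz l h, mul_assoc]
  have p0 := B1.mv H.H B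
  have p : Mv ι t (t * w) (1, 0, 0) := by simpa using (Mv.tt H.H).mul p0
  have tw : ∀ {w}, t * w * t⁻¹ = w⁻¹ → ∀ w', t * w * (t * w') = w⁻¹ * w' := fun e w' => by rw [← e, H.H.tinv]; group
  have t0 : t * wb ι w 0 * t⁻¹ = (wb ι w 0)⁻¹ := by
    rw [wb0, ← conj_mul, ← conj_mul, ← conj_inv, B.tw, H.cen, mul_inv_cancel_right, conj_inv]
  have c : Commute (t * w) (wb ι (t * w) 0) := by
    have e : (wb ι w 0)⁻¹ = ι (zb 0) * wb ι w 0 := by
      rw [wb0, conj_inv, w4 H.H B.toBd, B.toBd.wz, ← conj_mul, ι_cj]; congr 2; rw [← one_mul nn, ← up_0, zb_cj]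
    rw [wb_t H.H, Commute, SemiconjBy, tw B.tw, tw t0, w4 H.H B.toBd, B.toBd.wz, e, mul_assoc, k, ← mul_assoc, ← map_mul, mul_assoc]
    congr 2; decide +kernel
  have e2 : (t * w) ^ 2 = 1 := by rw [sq, tw B.tw, inv_mul_cancel]
  have co : ∀ o ∈ Oo ι t, ∀ β, Commute o (wb ι (t * w) β) := fun o ho β =>
    ((Commute.symm (oL ho _)).mul_right ((Commute.symm (ot ho)).mul_right (mem_cent.1 B.co o ho))).mul_right (Commute.symm (oL ho _)).inv_right
  generalize t * w = e at *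
  have w2 : ∀ β, wb ι e β ^ 2 = 1 := fun β => by rw [wb, conj_pow, e2]; simp
  have cc := C.cc c
  have ad : ∀ a b, A (wb ι e) (cf (a + b)) = A (wb ι e) (cf a) * A (wb ι e) (cf b) := fun a b => by
    rw [← A_add cc]; exact A_congr w2 (by revert a b; decide +kernel)
  have zz' : ∀ β, A (wb ι e) (cf (nm β, β, 1)) = wb ι e β := fun β => by
    rw [show cf (nm β, β, 1) = Pi.single β 1 from funext (by revert β; decide +kernel), A_sg, zpow_one]
  have z5 : A (wb ι e) (cf (1, 0, 0)) = e := by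
    rw [show cf (1, 0, 0) = 1 from funext (by decide +kernel), eq_inv_of_mul_eq_one_right (C.one c H p (by rw [show 4 = 2 * 2 from rfl, pow_mul, e2, one_pow])),
      inv_eq_of_mul_eq_one_right (sq e ▸ e2)]
  have mv : ∀ a, Mv ι t (A (wb ι e) (cf a)) a := indV (fun a b p q => ad a b ▸ p.mul q) fun β => (zz' β).symm ▸ p.wb H.H β
  refine ⟨fun a => A (wb ι e) (cf a), ad, fun a => (mv a).2, fun a b => (mv a).1 b, fun β => indV (fun a b p q => ?_) fun γ => ?_,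
    fun h => indV (fun a b p q => ?_) fun γ => ?_, indV (fun a b p q => ?_) fun γ => ?_, fun c => ?_, fun k hk kt => ?_⟩
  · rw [ad, ← conj_mul, p, q, act_add, ad]
  · rw [zz', wb_u, ← zz']; congr 2; revert β γ; decide +kernel
  · rw [ad, ← conj_mul, p, q, tact_add, ad]
  · rw [zz', C.wh, ← zz']; congr 2
    exact (by decide +kernel : ∀ a d γ : 𝔽, a ≠ 0 → d ≠ 0 → ((nm (a / d * γ), a / d * γ, 1) : Hm 𝔽) =
      (nm a * nm γ, a * star d * γ, nm d * 1)) _ _ γ (ta0 h) (td0 h)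
  · rw [ad, ← conj_mul, p, q, nact_add, ad]
  · by_cases h : γ = 0
    · rw [zz', h, wb_n0]; simpa [nact] using z5.symm
    · rw [zz', C.wn h, ← zz']; congr 2; revert γ; decide +kernel
  · rcases k01 c with rfl | rfl
    · rw [show cf (0, 0, 0) = 0 from funext (by decide +kernel), A_0]; exact one_mem _
    · rw [z5]; rintro _ ⟨l, hl, rfl⟩; exact C l (mem_cent1.1 (X0_z 1 hl))
  · obtain ⟨o, ho, rfl | rfl⟩ := dec H hk kt
    · exact .inl fun a => A_cm (co _ ho) _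
    · exact .inr fun a => by rw [← mul_assoc, H.tt, one_mul]; exact A_cm (co _ ho) _

/-- the action of `w₀ w₁` on `T` -/
def fa (β : 𝔽) (y : Hm 𝔽) : Γ4 := if β = 0 ∨ β = 1 then up β y else up β y * v0
/-- the exponent of `w` -/
def fk (β : 𝔽) : ℕ := if β = 0 ∨ β = 1 then 0 else 1
theorem wb_sq (B : Bd ι t w) (β : 𝔽) : wb ι w β * wb ι w β = ι (zb β) := by rw [wb, conj_mul, B.ww, ι_cj, zb_cj]
theorem w_4 (B : Bd ι t w) : w ^ 4 = 1 := by rw [show 4 = 2 * 2 from rfl, pow_mul, sq, sq, B.ww, ia2]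

theorem cx : CX.{u} := fun G _ _ ι t X H w B c => by
  have C : Cz ι w := B.cz
  have p := B1.mv H.H B
  have cc := C.cc c
  have one := C.one c H p (w_4 B.toBd)
  have p01 := (p.wb H.H 0).mul (p.wb H.H 1)
  have aw : Commute w (wb ι w 0 * wb ι w 1) := (C.c5 c 0).mul_right (C.c5 c 1)
  have a2 : wb ι w 0 * wb ι w 1 * (wb ι w 0 * wb ι w 1) = ι (up 0 (1, 1, 0)) := by
    rw [(cc 1 0).mul_mul_mul_comm, wb_sq B.toBd, wb_sq B.toBd, ← map_mul]; congr 1; decide +kernel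
  have ac : ∀ β y, wb ι w 0 * wb ι w 1 * ι (up β y) * (wb ι w 0 * wb ι w 1)⁻¹ = ι (fa β y) * w ^ fk β := fun β y => by
    have : wb ι w 0 * wb ι w 1 * ι (up β y) = ι (up β y) * (wb ι w (0 + β) * wb ι w (1 + β)) := by
      rw [← u_a, map_mul, mul_assoc (ι _), ((p.wb H.H _).mul (p.wb H.H _)).1, ← wb_u, ← wb_u, conj_mul, ← mul_assoc, ← mul_assoc,
        ← mul_assoc, ← mul_assoc, ← map_mul, u_sq, ← map_inv, u_inv, map_one, one_mul]
    have k : wb ι w ω * wb ι w ν * (wb ι w 0 * wb ι w 1)⁻¹ = ι v0 * w := by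
      rw [A_1, mul_assoc _ (wb ι w ω), ← mul_assoc] at one
      rw [eq_inv_of_mul_eq_one_right one, ← _root_.mul_inv_rev, ← mul_assoc, ← aw.eq, mul_assoc, a2, _root_.mul_inv_rev, iai, w4 H.H B.toBd,
        B.toBd.wz, ← mul_assoc, ← map_mul]
      congr 2; decide +kernel
    rw [this, mul_assoc, fa, fk]
    rcases cases4 β with rfl | rfl | rfl | rfl
    · simp
    · rw [zero_add, H15.GC.aa, (cc 1 0).eq]; simp
    · rw [zero_add, show 1 + ω = ν by decide, k, if_neg (by decide), if_neg (by decide), map_mul, pow_one, mul_assoc]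
    · rw [zero_add, show 1 + ν = ω by decide, (cc ν ω).eq, k, if_neg (by decide), if_neg (by decide), map_mul, pow_one, mul_assoc]
  replace p01 := p01.2
  rw [show ((nm 0, 0, 1) + (nm 1, 1, 1) : Hm 𝔽) = (1, 1, 0) by decide +kernel] at p01
  generalize wb ι w 0 * wb ι w 1 = a at aw ac p01
  have sL : ∀ {c : G} {l q q' : Γ4} (k : ℕ), (∀ l, c * ι l = ι l * c) → l * zz = zz * l → l * q = q' * l →
      ι l * (c * ι q * w ^ k) * (ι l)⁻¹ = c * ι q' * w ^ k := fun k hc hl e => by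
    rw [← conj_mul, ← conj_mul, ← conj_pow, C _ hl, ← hc, ι_cj, e]; simp
  have rz : θ0 * η0 * zz = zz * (θ0 * η0) := by decide +kernel
  have sI : ∀ {c : G} {q q' : Γ4} (k : ℕ), (∀ l, c * ι l = ι l * c) → q * (θ0 * η0) = θ0 * η0 * q' →
      ι (θ0 * η0)⁻¹ * (c * ι q * w ^ k) * (ι (θ0 * η0)⁻¹)⁻¹ = c * ι q' * w ^ k := fun k hc e =>
    sL k hc (Commute.inv_left rz) (by rw [inv_mul_eq_iff_eq_mul, ← mul_assoc, ← e, mul_inv_cancel_right])
  have sA : ∀ {c : G} {y : Γ4} β y' (k : ℕ), a * c * a⁻¹ = c * ι y → a * (c * ι (up β y') * w ^ k) * a⁻¹ =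
      c * ι (y * fa β y') * w ^ (fk β + k) := fun β y' k e => by
    rw [← conj_mul, ← conj_mul, ← conj_pow, e, ac, ← aw.eq, map_mul, pow_add]; group
  have ch : ∀ {c : G} {y : Γ4} β1 y1 β2 y2 β3 y3 β4 y4 q, (∀ l, c * ι l = ι l * c) → a * c * a⁻¹ = c * ι y →
      y * fa β1 y1 * (θ0 * η0) = θ0 * η0 * up β2 y2 ∧ θ0 * η0 * (y * fa β2 y2) = up β3 y3 * (θ0 * η0) ∧
      y * fa β3 y3 * (θ0 * η0) = θ0 * η0 * up β4 y4 ∧ up ν 0 * up β4 y4 = q * up ν 0 →
      ι (up ν 0) * (ι (θ0 * η0)⁻¹ * (a * (ι (θ0 * η0) * (a * (ι (θ0 * η0)⁻¹ * a))))) * (c * ι (up β1 y1) * w ^ 0) *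
      (ι (up ν 0) * (ι (θ0 * η0)⁻¹ * (a * (ι (θ0 * η0) * (a * (ι (θ0 * η0)⁻¹ * a))))))⁻¹ = c * ι q * w ^ (fk β3 + (fk β2 + (fk β1 + 0))) :=
    fun β1 y1 β2 y2 β3 y3 β4 y4 q hc e h => by
      rw [cj2, cj2, cj2, cj2, cj2, cj2, sA _ _ _ e, sI _ hc h.1, sA _ _ _ e, sL _ hc rz h.2.1, sA _ _ _ e, sI _ hc h.2.2.1,
        sL _ hc (up_z ..) h.2.2.2]
  have xw : Commute w (ι (up ν 0) * (ι (θ0 * η0)⁻¹ * (a * (ι (θ0 * η0) * (a * (ι (θ0 * η0)⁻¹ * a)))))) := by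
    have h1 : Commute w (ι (θ0 * η0)⁻¹) := (C _ (Commute.inv_left rz)).symm
    exact (Commute.symm (C _ (up_z ..))).mul_right (h1.mul_right (aw.mul_right ((Commute.symm (C _ rz)).mul_right (aw.mul_right (h1.mul_right aw)))))
  generalize ι (up ν 0) * (ι (θ0 * η0)⁻¹ * (a * (ι (θ0 * η0) * (a * (ι (θ0 * η0)⁻¹ * a))))) = x at ch xw
  have c1 : ∀ β1 y1 β2 y2 β3 y3 β4 y4 q, _ → fk β3 + (fk β2 + (fk β1 + 0)) = 2 → x * ι (up β1 y1) * x⁻¹ = ι (q * zz) :=
    fun β1 y1 β2 y2 β3 y3 β4 y4 q h e => by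
      simpa only [e, sq, B.ww, one_mul, pow_zero, mul_one, map_mul] using ch (c := 1) (y := 1) β1 y1 β2 y2 β3 y3 β4 y4 q (by simp) (by simp) h
  have ta : Ta ι x := ⟨(c1 ω (0, ν, 0) ν (1, 0, 0) 1 (1, ω, 0) ν (1, 1, 0) j1 (by decide +kernel) rfl).trans
      (eq_inv_of_mul_eq_one_right (by rw [← map_mul, ← map_one ι]; congr 1; decide +kernel)),
    (c1 ν (0, 1, 0) 0 (0, 1, 0) ν (0, 0, 0) ω (0, ν, 0) i1 (by decide +kernel) rfl).trans
      (eq_inv_of_mul_eq_one_right (by rw [← map_mul, ← map_one ι]; congr 1; decide +kernel)),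
    (c1 ω (1, 1, 0) 0 (1, ν, 0) ω (1, 0, 0) ω (1, 1, 0) (up ω (0, 1, 0)) (by decide +kernel) rfl).trans (by congr 1; decide +kernel),
    (c1 ν (1, ω, 0) 1 (0, 0, 0) ν (1, ν, 0) ν (1, ω, 0) (up ν (0, ω, 0)) (by decide +kernel) rfl).trans (by congr 1; decide +kernel)⟩
  have xt : x * t * x⁻¹ = t * w := by
    simpa [fk, up_0, show ¬ (ω = 0 ∨ ω = 1) by decide] using ch 0 0 ω (0, ω, 0) 0 (1, 1, 0) 0 0 1 H.cen p01 (by decide +kernel)
  have xw' : x * w * x⁻¹ = w := by rw [← xw.eq, mul_inv_cancel_right]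
  obtain ⟨s, o, sw⟩ := B.ty.resolve_left fun I => by
    have wq : ∀ l ∈ Qs 𝔽, w * ι l * w⁻¹ = ι l := fun l h => by rw [← mem_cent.1 B.wq _ ⟨l, h, rfl⟩, mul_inv_cancel_right]
    have ee : (ι e0)⁻¹ = ι e0 := iai _
    refine outQ (l := e0) H.inj (fun q hq => ?_) (I (w * (x * (ι e0 * x * ι e0))) (mem_cent1.2 (mul_inv_eq_iff_eq_mul.1 ?_)))
    · refine Q_le (M := ((MulAut.conj (w * (x * (ι e0 * x * ι e0)))).toMonoidHom.comp ι).eqLocus
        (ι.comp ((MulAut.conj e0).toMonoidHom.comp (φ st)))) ?_ ?_ ?_ ?_ hq <;>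
      refine (show _ * _ * _ = ι (e0 * _ * e0⁻¹) from ?_) <;> rw [cj2, cj2, cj2, cj2, ι_cj]
      · rw [show e0 * i1 * e0⁻¹ = i2 from mul_inv_eq_iff_eq_mul.2 (by decide +kernel), ta.a2, ι_cj,
          show e0 * i2 * e0⁻¹ = i1 from mul_inv_eq_iff_eq_mul.2 (by decide +kernel), ta.a1, ← map_inv, wq _ (inv_mem j1Q)]
        exact congrArg ι (inv_eq_of_mul_eq_one_right (by rw [← mul_assoc, mul_inv_eq_one]; decide +kernel))
      · rw [show e0 * j1 * e0⁻¹ = j2 from mul_inv_eq_iff_eq_mul.2 (by decide +kernel), ta.b2, ι_cj,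
          show e0 * j2 * e0⁻¹ = j1 from mul_inv_eq_iff_eq_mul.2 (by decide +kernel), ta.b1, ← map_inv, wq _ (inv_mem i1Q)]
        exact congrArg ι (inv_eq_of_mul_eq_one_right (by rw [← mul_assoc, mul_inv_eq_one]; decide +kernel))
      · rw [show e0 * i2 * e0⁻¹ = i1 from mul_inv_eq_iff_eq_mul.2 (by decide +kernel), ta.a1, ← conj_inv, ι_cj,
          show e0 * j1 * e0⁻¹ = j2 from mul_inv_eq_iff_eq_mul.2 (by decide +kernel), ← conj_inv, ta.b2, ← map_inv, wq _ (inv_mem j2Q)]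
        exact congrArg ι (inv_eq_of_mul_eq_one_right (by rw [← mul_assoc, mul_inv_eq_one]; decide +kernel))
      · rw [show e0 * j2 * e0⁻¹ = j1 from mul_inv_eq_iff_eq_mul.2 (by decide +kernel), ta.b1, ← conj_inv, ι_cj,
          show e0 * i1 * e0⁻¹ = i2 from mul_inv_eq_iff_eq_mul.2 (by decide +kernel), ← conj_inv, ta.a2, ← map_inv, wq _ (inv_mem i2Q)]
        exact congrArg ι (inv_eq_of_mul_eq_one_right (by rw [← mul_assoc, mul_inv_eq_one]; decide +kernel))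
    · rw [cj2, cj2, cj2, cj2, H.H.tcj, xt, ← conj_mul (b := ι e0), H.H.tcj, C e0 (a_comm ..), mul_inv_cancel_right, ← conj_mul (b := x), xt, xw',
        mul_assoc t, B.ww, ← conj_mul, p.2, B.toBd.wz, mul_inv_cancel_right, mul_assoc, ia2, mul_one]
  exact ⟨s, x, B, o, sw, c, xt, .inl xw', ta⟩

end H4.G38
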