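import Cfsg.Agent.H4.G82
import Cfsg.Agent.H24.G38c

/-! Standard `U₄(2)`: the Sylow 2-subgroup `Z₄⁴ : (D₈ × Z₂)`, the chunks CS and CT. -/

set_option autoImplicit false
set_option linter.unusedSectionVars false

namespace H4.G38
open Cfsg Subgroup H19 H28.CY H18.U2 H18.G38 Matrix
open H15.GC (ω ν cases4)
universe u
variable {G : Type u} [Group G] [Finite G] {ι : Γ4 →* G} {g k o r s t w x y : G} {X : Subgroup G} {l l' : Γ4}
  {β γ : 𝔽} {m n : 𝔽 → ℤ} {i j : Bool}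

theorem zi (h : A zb n = 1) (β : 𝔽) : 2 ∣ n β := by
  have f : ∀ β, ∃ a : Fin 2, n β % 2 = a.1 := fun β => (Int.emod_two_eq_zero_or_one (n β)).elim (⟨0, ·⟩) (⟨1, ·⟩)
  choose a ha using f
  rw [A_congr (N := 2) (n := fun β => (a β).1) (by decide +kernel) fun β => by rw [← ha]; omega, A] at h
  have := (by decide +kernel : ∀ a b c d : Fin 2, zb 0 ^ (a.1 : ℤ) * zb 1 ^ (b.1 : ℤ) * zb ω ^ (c.1 : ℤ) * zb ν ^ (d.1 : ℤ) = 1 →
    a = 0 ∧ b = 0 ∧ c = 0 ∧ d = 0) _ _ _ _ h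
  refine Int.dvd_of_emod_eq_zero ((ha β).trans ?_)
  rcases cases4 β with rfl | rfl | rfl | rfl <;> simp only [this] <;> rfl
/-- the action of the complement -/
def ac (β : 𝔽) (i j : Bool) (n : 𝔽 → ℤ) (γ : 𝔽) : ℤ := (bif j then -1 else 1) * n (bif i then star (γ + β) else γ + β)
theorem ac_sub (m n : 𝔽 → ℤ) : ac β i j (m - n) = ac β i j m - ac β i j n := funext fun _ => mul_sub ..
variable (ι s t) in
/-- the complement -/
def D (β : 𝔽) (i j : Bool) : G := ι (up β 0) * (bif i then s else 1) * bif j then t else 1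
variable (ι w) in
/-- the abelian subgroup -/
abbrev A0 : Subgroup G := closure (Set.range (wb ι w))
theorem Z42 (H : Sr ι t X) (h : g ∈ C[t]) (h' : k ∈ C[t]) (a : Ac ι g 1) (a' : Ac ι k 1) (c : g * k = k * g) (p : PiE {2} g) (p' : PiE {2} k) :
    g * g = 1 ∨ k * k = 1 ∨ g * g = k * k := by
  have f : ∀ {g}, g ∈ C[t] → Ac ι g 1 → PiE {2} g → ∃ l, ∃ e ∈ C(ι.range), e * e = 1 ∧ e ∈ zpowers t ∧ g = ι l * e ∧ PiE {2} l := fun h a p => by
    obtain ⟨l, e⟩ := H.inn2 h a p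
    obtain ⟨j, q⟩ := pow_of_two p
    rcases e with rfl | rfl
    · exact ⟨l, 1, one_mem _, one_mul _, one_mem _, (mul_one _).symm, two_of_pow (H.inj (by rw [map_pow, q, map_one]))⟩
    · exact ⟨l, t, H.tK, H.tt, mem_zpowers t, rfl, two_of_pow (H.H.pw1 H.tK q)⟩
  obtain ⟨l, e, he, ee, ⟨i, hi⟩, rfl, q⟩ := f h a p
  obtain ⟨l', e', he', ee', ⟨i', hi'⟩, rfl, q'⟩ := f h' a' p'
  have m : ∀ l l' {e : G} e', e ∈ C(ι.range) → ι l * e * (ι l' * e') = ι (l * l') * (e * e') := fun l l' e e' h => by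
    rw [mul_assoc, ← mul_assoc e, ← mem_cent.1 h _ ⟨l', rfl⟩, map_mul]; group
  rw [m _ _ _ he, m _ _ _ he', show e * e' = e' * e by rw [← hi, ← hi']; exact zpow_mul_comm .., mul_left_inj] at c
  rw [m _ _ _ he, m _ _ _ he', ee, ee', mul_one, mul_one, ← map_one ι, H.inj.eq_iff, H.inj.eq_iff, H.inj.eq_iff]
  obtain ⟨b, -, hb⟩ := syl_U.scj_le le_top ((piG_zpowers.2 q).sup (piG_zpowers.2 q')
    (zpowers_le.2 (cent1_le_norm_zpowers l (mem_cent1.2 (H.inj c).symm))))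
  obtain ⟨β, y, e1⟩ := hb (conj_mem_cj.2 (mem_sup_left (mem_zpowers l)))
  obtain ⟨β', y', e2⟩ := hb (conj_mem_cj.2 (mem_sup_right (mem_zpowers l')))
  have c' : up β y * up β' y' = up β' y' * up β y := by rw [← e1, ← e2, conj_mul, conj_mul, H.inj c]
  rw [up_mul, up_mul] at c'
  have := (by decide +kernel : ∀ (β β' : 𝔽) (y y' : Hm 𝔽), act β' y + y' = act β y' + y → act β y + y = 0 ∨ act β' y' + y' = 0 ∨
    act β y + y = act β' y' + y') β β' y y' (up_inj c').2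
  rw [← conj_eq_one_iff (a := b), ← conj_eq_one_iff (a := b) (b := l' * l'), ← mul_right_inj b (b := l * l), ← mul_left_inj b⁻¹ (b := b * (l * l)), ← conj_mul, ← conj_mul, e1, e2, up_mul, up_mul,
    H15.GC.aa, H15.GC.aa]
  exact this.imp (fun e => by rw [e, up_0]) (Or.imp (fun e => by rw [e, up_0]) fun e => by rw [e])

local notation "𝐀" => A (wb ι w)
namespace Ca
variable (H : Sr ι t X) (C : Ca ι t s w x)
include H C
theorem cc (β γ : 𝔽) : Commute (wb ι w β) (wb ι w γ) := Cz.cc C.cz C.c1 β γ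
theorem ad (m n : 𝔽 → ℤ) : 𝐀 (m + n) = 𝐀 m * 𝐀 n := A_add (cc H C) m n
theorem ng (n : 𝔽 → ℤ) : 𝐀 (-n) = (𝐀 n)⁻¹ := A_neg (cc H C) n
theorem one : 𝐀 1 = w⁻¹ := eq_inv_of_mul_eq_one_right (Cz.one C.cz C.c1 H (B1.mv H.H C.toB1) (w_4 C.toBd))
theorem cg (h : ∀ β, 4 ∣ m β - n β) : 𝐀 m = 𝐀 n := A_congr (N := 4) (fun β => by rw [wb, conj_pow, w_4 C.toBd]; simp) h
theorem sq (n : 𝔽 → ℤ) : 𝐀 (n + n) = ι (A zb n) := by
  simp only [A, Pi.add_apply, ← two_mul, _root_.zpow_mul, zpow_two, wb_sq C.toBd, map_mul, map_zpow]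
theorem inj (h : 𝐀 m = 𝐀 n) (β : 𝔽) : 4 ∣ m β - n β := by
  have e : 𝐀 (m - n) = 1 := by rw [sub_eq_add_neg, ad H C, ng H C, h, mul_inv_cancel]
  choose k hk using zi (H.inj ((sq H C _).symm.trans (by rw [ad H C, e, one_mul, map_one])))
  rw [show m - n = k + k from funext fun β => (hk β).trans (two_mul _), sq H C, ← map_one ι] at e
  have := zi (H.inj e) β
  have := hk β
  simp only [Pi.sub_apply] at this
  omega
theorem mem : g ∈ A0 ι w ↔ ∃ n, g = 𝐀 n := by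
  refine ⟨fun h => ?_, fun ⟨n, e⟩ => e ▸ A_mem (fun β => Subgroup.subset_closure (Set.mem_range_self β)) n⟩
  induction h using closure_induction with
  | mem _ h => obtain ⟨β, rfl⟩ := h; exact ⟨Pi.single β 1, by rw [A_sg, zpow_one]⟩
  | one => exact ⟨0, A_0.symm⟩
  | mul _ _ _ _ p q => obtain ⟨m, rfl⟩ := p; obtain ⟨n, rfl⟩ := q; exact ⟨_, (ad H C ..).symm⟩
  | inv _ _ p => obtain ⟨m, rfl⟩ := p; exact ⟨_, (ng H C _).symm⟩
theorem memV : g ∈ Vm ι ↔ ∃ n, g = 𝐀 (n + n) :=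
  ⟨by rintro ⟨_, ⟨a, rfl⟩, rfl⟩; exact ⟨cf a, by rw [sq H C]; congr 1; revert a; decide +kernel⟩,
    fun ⟨n, e⟩ => ⟨_, A_mem (f := zb) (fun _ => aA _) n, by rw [e, sq H C]⟩⟩
theorem cD (β : 𝔽) (i j : Bool) (n : 𝔽 → ℤ) : D ι s t β i j * 𝐀 n * (D ι s t β i j)⁻¹ = 𝐀 (ac β i j n) := by
  have h1 := A_cj (cc H C) (· + β) (fun γ => by rw [add_assoc, H15.GC.aa, add_zero]) 1 fun γ => by rw [wb_u, zpow_one]
  have h2 := A_cj (cc H C) star star_star 1 fun γ => by rw [wb_s C.os.toOu C.sw, zpow_one]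
  have h3 := A_cj (g := t) (cc H C) id (fun _ => rfl) (-1) fun γ => by
    rw [wb, ← conj_mul, ← conj_mul, ← conj_inv, C.tw, H.cen, mul_inv_cancel_right, _root_.zpow_neg_one, id, wb, conj_inv]
  rw [D, cj2, cj2]
  cases i <;> cases j <;> simp only [cond_true, cond_false, one_mul, inv_one, mul_one, h1, h2, h3] <;> congr 1 <;> ext <;> simp [ac]
theorem cT (n : 𝔽 → ℤ) : t * 𝐀 n * t⁻¹ = 𝐀 (-n) := by
  simpa [D, up_0, show ac 0 false true n = -n from funext fun _ => by simp [ac]] using cD H C 0 false true n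
theorem nA (β : 𝔽) (i j : Bool) : D ι s t β i j ∈ N(A0 ι w) := mem_norm_of fun _ h => by
  obtain ⟨n, rfl⟩ := (mem H C).1 h; exact (mem H C).2 ⟨_, cD H C ..⟩
theorem VA (y : Hm 𝔽) : ι (up 0 y) ∈ A0 ι w := let ⟨_, e⟩ := (memV H C).1 ⟨_, aA y, rfl⟩; (mem H C).2 ⟨_, e⟩
theorem nT : Tm ι ⊔ zpowers s ≤ N(A0 ι w) := sup_le (by
  rintro _ ⟨_, ⟨β, y, rfl⟩, rfl⟩
  rw [← u_a, map_mul]
  exact mul_mem (by simpa [D] using nA H C β false false) (le_normalizer (VA H C y))) (zpowers_le.2 (by simpa [D, up_0] using nA H C 0 true false))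
theorem tP : t ∈ N(Pc ι s w) := zpowers_le.1 (norms_sup (norms_sup (zpowers_le.2 (by simpa [D, up_0] using nA H C 0 false true))
  (zpowers_le.2 (tN H.H))) (zpowers_le.2 (cent1_le_norm_zpowers s (mem_cent1.2 C.os.ct.symm))))
theorem nf (h : g ∈ Pc ι s w) : ∃ n β i, g = 𝐀 n * D ι s t β i false := by
  rw [Pc, sup_assoc, mem_sup_of_norm (nT H C)] at h
  obtain ⟨a, ha, b, hb, rfl⟩ := h
  have : ∀ l ∈ U 𝔽, ∃ n β, a * ι l = 𝐀 n * ι (up β 0) := by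
    rintro _ ⟨β, y, rfl⟩
    obtain ⟨n, e⟩ := (mem H C).1 (mul_mem ha (VA H C (act β y)))
    exact ⟨n, β, by rw [← e, mul_assoc, ← map_mul, ← up_a β 0, u_inv, mul_assoc, u_sq, mul_one, u_a]⟩
  rcases (mem_ext C.os.toOu.nT (C.os.ss ▸ one_mem _)).1 hb with ⟨l, hl, e⟩ | ⟨l, hl, e⟩ <;> obtain ⟨n, β, k⟩ := this l hl
  · exact ⟨n, β, false, by simp [D, ← e, k]⟩
  · exact ⟨n, β, true, by rw [mul_inv_eq_iff_eq_mul.1 e.symm, ← mul_assoc, k]; simp [D, mul_assoc]⟩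
theorem nf' (h : g ∈ Pc ι s w ⊔ zpowers t) : ∃ n β i j, g = 𝐀 n * D ι s t β i j := by
  rcases (mem_ext (tP H C) (H.tt ▸ one_mem _)).1 h with h | h <;> obtain ⟨n, β, i, e⟩ := nf H C h
  exacts [⟨n, β, i, false, e⟩, ⟨n, β, i, true, by rw [mul_inv_eq_iff_eq_mul.1 e]; simp [D, mul_assoc]⟩]
theorem cA (m : 𝔽 → ℤ) (e : g = 𝐀 n * D ι s t β i j) : g * 𝐀 m * g⁻¹ = 𝐀 (ac β i j m) := by
  rw [e, cj2, cD H C, ← ad H C, add_comm, ad H C, mul_inv_cancel_right]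
theorem cB (m : 𝔽 → ℤ) (e : g = 𝐀 n * D ι s t β i j) : 𝐀 m * g * (𝐀 m)⁻¹ = 𝐀 (m - ac β i j m) * g := by
  rw [sub_eq_add_neg, ad H C, ng H C, ← cA H C m e]; group
theorem AS (n : 𝔽 → ℤ) : 𝐀 n ∈ Pc ι s w ⊔ zpowers t := mem_sup_left (mem_sup_left (mem_sup_left ((mem H C).2 ⟨n, rfl⟩)))
theorem SA : Pc ι s w ⊔ zpowers t ≤ N(A0 ι w) := fun g h => by
  obtain ⟨n, β, i, j, rfl⟩ := nf' H C h; exact mul_mem (le_normalizer ((mem H C).2 ⟨n, rfl⟩)) (nA H C _ _ _)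
theorem Dt (β : 𝔽) (i j : Bool) : D ι s t β i j * t * (D ι s t β i j)⁻¹ = t := by
  rw [D, cj2, cj2]; cases i <;> cases j <;> simp [C.os.ct, H.H.tcj]
theorem nrm (hy : y ∈ N(Pc ι s w ⊔ zpowers t)) : y ∈ N(A0 ι w) := by
  refine mem_norm_of_cj_le (cj_le_iff.2 ((closure_le _).2 ?_))
  rintro _ ⟨δ, rfl⟩
  have wA : wb ι w δ ∈ A0 ι w := Subgroup.subset_closure ⟨δ, rfl⟩
  obtain ⟨n, β, i, j, e⟩ := nf' H C (conj_mem_of_norm hy (mem_sup_left (mem_sup_left (mem_sup_left wA))))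
  have : ∀ m γ, 4 ∣ ac β i j (m - ac β i j m) γ - (m - ac β i j m) γ := fun m => inj H C (by
    obtain ⟨k, p⟩ := (mem H C).1 (conj_mem_of_norm (SA H C (conj_mem_of_norm' hy (AS H C m))) wA)
    have c := (A_cm (cc H C δ) k).conj y
    rw [← p, show y * (y⁻¹ * 𝐀 m * y * wb ι w δ * (y⁻¹ * 𝐀 m * y)⁻¹) * y⁻¹ = 𝐀 m * (y * wb ι w δ * y⁻¹) * (𝐀 m)⁻¹ by group, cB H C m e] at c
    rw [← cA H C _ e, mul_inv_eq_iff_eq_mul, ← mul_left_inj (y * wb ι w δ * y⁻¹), mul_assoc, c.eq])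
  obtain ⟨rfl, rfl⟩ := (by decide +kernel : ∀ (β : 𝔽) (i j : Bool), (∀ δ γ, 4 ∣ ac β i j (Pi.single δ 1 - ac β i j (Pi.single δ 1)) γ -
    (Pi.single δ 1 - ac β i j (Pi.single δ 1) : 𝔽 → ℤ) γ) → β = 0 ∧ i = false) β i j fun δ => this _
  cases j
  · exact mem_cj_inv.2 ((mem H C).2 ⟨n, by simpa [D, up_0] using e⟩)
  · have k : y * wb ι w δ * y⁻¹ * (y * wb ι w δ * y⁻¹) = 1 := by
      have := cT H C n
      rw [H.H.tinv, ng H C] at this
      rw [e, show D ι s t 0 false true = t by simp [D, up_0], mul_assoc, ← mul_assoc t, this, mul_inv_cancel]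
    rw [conj_mul, wb_sq C.toBd, conj_eq_one_iff, ← map_one ι, H.inj.eq_iff] at k
    exact (by decide +kernel : ∀ δ, zb δ ≠ 1) δ k |>.elim
theorem xz : x * ι zz * x⁻¹ = ι zz := by
  rw [← C.ww, ← conj_mul]
  rcases C.xw with e | e <;> rw [e]
  rw [← _root_.mul_inv_rev, C.ww, iai]
theorem zA : ι zz = 𝐀 (1 + 1) := by rw [ad H C, one H C, ← _root_.mul_inv_rev, C.ww, iai]
theorem Pz (h : g ∈ Pc ι s w ⊔ zpowers t) : g * ι zz * g⁻¹ = ι zz := by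
  obtain ⟨n, β, i, j, e⟩ := nf' H C h
  rw [zA H C, cA H C _ e]
  exact cg H C fun γ => by cases j <;> simp [ac]
theorem S0 : Tm ι ⊔ zpowers t ⊔ zpowers s ≤ Pc ι s w ⊔ zpowers t :=
  sup_le (sup_le (le_sup_of_le_left (le_sup_of_le_left le_sup_right)) le_sup_right) (le_sup_of_le_left le_sup_right)
theorem pg : PG 2 (Pc ι s w ⊔ zpowers t) := pg_sup (by
  rw [Pc, sup_assoc]
  exact (PiN.of_elt fun g h => by
    obtain ⟨n, rfl⟩ := (mem H C).1 h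
    refine two_of_sq_two (two_of_sq ?_)
    rw [← ad H C, ← ad H C, cg H C (n := 0) fun β => ⟨n β, by simp; ring⟩, A_0]).sup (pg_sup pg_T C.os.toOu.nT (C.os.ss ▸ one_mem _)) (nT H C))
  (tP H C) (H.tt ▸ one_mem _)
theorem cs : Syl 2 (Pc ι s w ⊔ zpowers t) ⊤ := by
  refine (tower (pg H C)).resolve_right fun ⟨y, hy, y1, yy⟩ => ?_
  have tS : t ∈ Pc ι s w ⊔ zpowers t := mem_sup_right (mem_zpowers t)
  have uS : ∀ β, ι (up β 0) ∈ Pc ι s w ⊔ zpowers t := fun β => S0 H C (mem_sup_left (mem_sup_left ⟨_, upU .., rfl⟩))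
  have uA : ∀ β n, ι (up β 0) * 𝐀 n * (ι (up β 0))⁻¹ = 𝐀 (ac β false false n) := fun β n => by simpa [D] using cD H C β false false n
  have nV : ∀ {y}, y ∈ N(Pc ι s w ⊔ zpowers t) → ∀ k, ∃ k', y * 𝐀 (k + k) * y⁻¹ = 𝐀 (k' + k') := fun hy k =>
    let ⟨k', e⟩ := (mem H C).1 (conj_mem_of_norm (nrm H C hy) ((mem H C).2 ⟨k, rfl⟩)); ⟨k', by rw [ad H C, ← conj_mul, e, ad H C]⟩
  obtain ⟨n, β, i, j, e⟩ := nf' H C (conj_mem_of_norm hy tS)
  obtain ⟨rfl, rfl, rfl⟩ := (by decide +kernel : ∀ (β : 𝔽) (i j : Bool), (∀ δ γ, 4 ∣ ac β i j (Pi.single δ 1) γ -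
    (-Pi.single δ 1 : 𝔽 → ℤ) γ) → β = 0 ∧ i = false ∧ j = true) β i j fun δ => inj H C (by
      obtain ⟨k, p⟩ := (mem H C).1 (conj_mem_of_norm' (nrm H C hy) ((mem H C).2 ⟨Pi.single δ 1, rfl⟩))
      rw [← cA H C _ e, ng H C, show 𝐀 (Pi.single δ 1) = y * 𝐀 k * y⁻¹ by rw [← p]; group, cj3, cT H C, ng H C, conj_inv])
  rw [show D ι s t 0 false true = t by simp [D, up_0]] at e
  have ct : ∀ m n, 𝐀 m * (𝐀 n * t) * (𝐀 m)⁻¹ = 𝐀 (m + n + m) * t := fun m n => by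
    have := cT H C (-m)
    rw [neg_neg, ng H C] at this
    rw [ad H C, ad H C, mul_assoc _ _ t, ← mul_inv_eq_iff_eq_mul.1 this]; group
  have par : ∀ β, 2 ∣ n β - n 0 := fun β => by
    obtain ⟨k, β', i, j, p⟩ := nf' H C (conj_mem_of_norm' hy (uS β))
    obtain ⟨k', q⟩ := nV hy k
    have := inj H C (m := ac β false false n) (n := k' + k' + n) (by
      have c := ct k 0
      rw [A_0, one_mul, add_zero] at c
      rw [← mul_left_inj t, ← uA, ad H C (k' + k'), mul_assoc (𝐀 _), ← e, ← q, conj_mul, ← c]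
      nth_rw 1 [← H.H.tcj (up β 0)]
      nth_rw 2 [← Dt H C β' i j]
      rw [conj_mul, ← e, ← cj2 (𝐀 k), ← p]; group) 0
    simp only [ac, cond_false, one_mul, zero_add, Pi.add_apply] at this
    omega
  obtain ⟨y', hy', y2, y3, e'⟩ : ∃ y' ∈ N(Pc ι s w ⊔ zpowers t), y' ∈ Pc ι s w ⊔ zpowers t ⊔ zpowers y ∧ y' ∉ Pc ι s w ⊔ zpowers t ∧
      (y' * t * y'⁻¹ = t ∨ y' * t * y'⁻¹ = t * w) := by
    refine ⟨𝐀 (fun β => -(n β / 2)) * y, mul_mem (le_normalizer (AS H C _)) hy, mul_mem_sup (AS H C _) (mem_zpowers y),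
      fun h => y1 ((mul_mem_cancel_left (AS H C _)).1 h), ?_⟩
    rw [cj2, e, ct]
    refine (Int.emod_two_eq_zero_or_one (n 0)).imp (fun h => ?_) fun h => ?_
    · rw [cg H C (n := 0) fun β => by have := par β; simp only [Pi.add_apply, Pi.zero_apply]; omega, A_0, one_mul]
    · rw [cg H C (n := 1) fun β => by have := par β; simp only [Pi.add_apply, Pi.one_apply]; omega, one H C, ← C.tw, inv_mul_cancel_right]
  rcases e' with e' | e'
  · exact y3 (S0 H C (((C.os.syl H).max (K := (Pc ι s w ⊔ zpowers t ⊔ zpowers y) ⊓ C[t])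
      (le_inf ((S0 H C).trans le_sup_left) (C.os.toOu.le H.H)) inf_le_right ((pg_sup (pg H C) hy yy).infl _)).le
      ⟨y2, mem_cent1.2 (mul_inv_eq_iff_eq_mul.1 e')⟩))
  have yz : y'⁻¹ * ι zz * y'⁻¹⁻¹ = ι zz := by
    obtain ⟨k, q⟩ := nV (inv_mem hy') 1
    have f : ∀ β, 2 ∣ k β - k 0 := fun β => by
      have := inj H C (m := ac β false false (k + k)) (n := k + k) (by
        rw [← uA, ← q, ← zA H C]; nth_rw 2 [← Pz H C (conj_mem_of_norm hy' (uS β))]; group) 0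
      simp only [ac, cond_false, one_mul, zero_add, Pi.add_apply] at this
      omega
    rw [zA H C, q]
    rcases Int.emod_two_eq_zero_or_one (k 0) with h | h
    · rw [cg H C (m := k + k) (n := 0) fun β => by have := f β; simp only [Pi.add_apply, Pi.zero_apply]; omega, A_0, ← zA H C,
        conj_eq_one_iff] at q
      exact (z1 H.H q).elim
    · exact cg H C fun β => by have := f β; simp only [Pi.add_apply, Pi.one_apply]; omega
  have fV : ∀ l a, x * ι l * x⁻¹ = ι (up 0 a) → y'⁻¹ * x * ι l * (y'⁻¹ * x)⁻¹ ∈ Vm ι := fun l a h => by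
    obtain ⟨k, q⟩ := (memV H C).1 ⟨_, aA a, rfl⟩
    obtain ⟨k', q'⟩ := nV (inv_mem hy') k
    exact (memV H C).2 ⟨k', by rw [cj2, h, q, q']⟩
  refine fam (g := y'⁻¹ * x) H.H (mem_cent1.2 (mul_inv_eq_iff_eq_mul.1 (by rw [cj2, C.xt, ← e']; group)))
    (mul_inv_eq_iff_eq_mul.1 (by rw [cj2, xz H C, yz])) (fV _ (1, ω, 0) ?_) (fV _ (1, 1, 0) ?_)
  · rw [show up 1 0 = j1 * i2 by decide +kernel, map_mul, ← conj_mul, C.ta.b1, C.ta.a2, inv_mul_eq_iff_eq_mul, ← map_mul]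
    congr 1; decide +kernel
  · rw [show v0 = i1 * (j1 * (i2 * j2)) by decide +kernel, map_mul, map_mul, map_mul, ← conj_mul, ← conj_mul, ← conj_mul, C.ta.a1, C.ta.b1,
      C.ta.a2, C.ta.b2, inv_mul_eq_iff_eq_mul, inv_mul_eq_iff_eq_mul, ← map_mul, ← map_mul, ← map_mul]
    congr 1; decide +kernel

end Ca
theorem cs : CS.{u} := fun _ _ _ _ _ _ H _ _ _ C => Ca.cs H C

end H4.G38
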