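import Cfsg.Agent.H4.G83

/-! Standard `U₄(2)`: the chunk CT. -/

set_option autoImplicit false
set_option linter.unusedSectionVars false

namespace H4.G38
open Cfsg Subgroup H19 H28.CY H18.U2 H18.G38 Matrix
open H15.GC (ω ν cases4)
universe u
variable {G : Type u} [Group G] [Finite G] {ι : Γ4 →* G} {g k o r s t w x y : G} {X : Subgroup G} {l l' : Γ4}
  {β γ : 𝔽} {m n : 𝔽 → ℤ} {i j : Bool}

theorem two_out (H : St ι t X) (hg : g ∉ X) (hk : k ∉ X) : g * k ∈ X := by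
  simpa [mul_assoc, ← mul_assoc t t, H.tt, H.toHyp.tinv] using
    mul_mem ((H.gen g).resolve_left hg) (H.nX.conj_mem _ ((H.gen k).resolve_left hk) t)
theorem oddX (H : St ι t X) (p : PiE {2}ᶜ g) : g ∈ X := by_contra fun h => h (mem_of_odd p (two_out H h h))

local notation "𝐀" => A (wb ι w)
namespace Ca
variable (H : Sr ι t X) (C : Ca ι t s w x)
include H C
theorem wX : w ∈ X := by_contra fun h => by
  have f : ∀ β, wb ι w β ∉ X := fun β k => h (by convert H.nX.conj_mem _ k (ι (up β 0 * nn))⁻¹ using 1; rw [wb]; group)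
  refine h (inv_mem_iff.1 ?_)
  rw [← one H C, A_1, mul_assoc]
  exact mul_mem (two_out H.toSt (f _) (f _)) (two_out H.toSt (f _) (f _))
theorem sX : s ∈ X := by
  have ew : ι e0 * w = w * ι e0 := C.cz _ (a_comm ..)
  have cw : Commute (x * ι e0 * x⁻¹) w := by
    have := Commute.conj ew x
    rcases C.xw with e | e <;> rw [e] at this
    exacts [this, Commute.inv_right_iff.1 this]
  have ct : Commute (x * ι e0 * x⁻¹) t := by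
    have := Commute.conj (H.cen e0).symm x
    rw [C.xt] at this
    simpa using this.mul_right cw.inv_right
  have f : ∀ a b : Γ4, ∀ c d, e0 * a = b * e0 → x * ι a * x⁻¹ = c → x * ι b * x⁻¹ = d → x * ι e0 * x⁻¹ * c * (x * ι e0 * x⁻¹)⁻¹ = d :=
    fun a b c d e p q => by rw [← p, cj3, ι_cj, e, mul_inv_cancel_right, q]
  have f' : ∀ {g c d : G}, g * c⁻¹ * g⁻¹ = d → g * c * g⁻¹ = d⁻¹ := fun e => by rw [← e]; group
  have e1 := f i1 i2 _ _ (by decide +kernel) C.ta.a1 C.ta.a2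
  have e2 := f j1 j2 _ _ (by decide +kernel) C.ta.b1 C.ta.b2
  have e3 := f i2 i1 _ _ (by decide +kernel) C.ta.a2 C.ta.a1
  have e4 := f j2 j1 _ _ (by decide +kernel) C.ta.b2 C.ta.b1
  have eX : x * ι e0 * x⁻¹ ∈ X := H.nX.conj_mem _ (H.LX ⟨_, rfl⟩) x
  generalize x * ι e0 * x⁻¹ = e at *
  have k : ∀ a b : Γ4, b * φ st a = 1 → e * ι a * e⁻¹ = (ι b)⁻¹ → ι a ∈ C[s⁻¹ * e] := fun a b p q => mem_cent1.2 (by
    rw [← map_inv, inv_eq_of_mul_eq_one_right p, ← C.os.ac] at q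
    rw [mul_assoc, mul_inv_eq_iff_eq_mul.1 q]; group)
  obtain ⟨a, ha, o, ho, p⟩ := H.cQ (mul_mem (inv_mem C.os.toOu.Ct) (mem_cent1.2 ct)) (le_cent1_iff.1 (map_le_iff_le_comap.2
    (Q_le (k _ j2 (by decide +kernel) (f' e2)) (k _ i2 (by decide +kernel) (f' e1)) (k _ j1 (by decide +kernel) e3) (k _ i1 (by decide +kernel) e4))))
  have aw : Commute a w := by
    simpa [p] using (((Commute.inv_left C.sw).mul_left cw).mul_left (Commute.inv_left (mem_cent.1 C.co o ho)))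
  have aX : a ∈ X := by
    rcases ha with rfl | rfl | rfl | rfl
    · exact one_mem _
    · exact (wtn H.H C.toBd aw.symm).elim
    · exact H.LX ⟨_, rfl⟩
    · exact (wtn H.H C.toBd (by simpa using (aw.mul_left (Commute.inv_left C.toBd.wz.symm)).symm.eq)).elim
  exact inv_mem_iff.1 ((mul_mem_cancel_right eX).1 (p ▸ mul_mem aX (oddX H.toSt (oo ho))))
theorem PX : Pc ι s w ≤ X := sup_le (sup_le ((closure_le _).2 (by rintro _ ⟨β, rfl⟩; exact H.nX.conj_mem _ (wX H C) _))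
  ((map_le_range ..).trans H.LX)) (zpowers_le.2 (sX H C))
theorem Z43 (e : g * t * g⁻¹ = 𝐀 n * D ι s t β i j) (a b c : 𝔽 → ℤ) (h : ∀ m ∈ [a, b, c], ac β i j m = m)
    (d : ∀ p ∈ [(a, b), (a, c), (b, c), (a, b + c), (b, a + c), (c, a + b), (a + c, b + c)],
      ¬ ((∀ γ, 2 ∣ p.1 γ) ∨ (∀ γ, 2 ∣ p.2 γ) ∨ ∀ γ, 2 ∣ p.1 γ - p.2 γ)) : False := by
  have f : ∀ m, ac β i j m = m → g⁻¹ * 𝐀 m * g⁻¹⁻¹ ∈ C[t] := fun m h => by
    have := cA H C m e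
    rw [h, mul_inv_eq_iff_eq_mul] at this
    exact mem_cent1.2 ((MulAut.conj g).injective (by simpa [mul_assoc] using this.symm))
  have ad' : ∀ m m', g⁻¹ * 𝐀 (m + m') * g⁻¹⁻¹ = g⁻¹ * 𝐀 m * g⁻¹⁻¹ * (g⁻¹ * 𝐀 m' * g⁻¹⁻¹) := fun m m' => by rw [ad H C, conj_mul]
  have f2 : ∀ m m', g⁻¹ * 𝐀 m * g⁻¹⁻¹ ∈ C[t] ∧ Ac ι (g⁻¹ * 𝐀 m * g⁻¹⁻¹) st → g⁻¹ * 𝐀 m' * g⁻¹⁻¹ ∈ C[t] ∧ Ac ι (g⁻¹ * 𝐀 m' * g⁻¹⁻¹) st →
      g⁻¹ * 𝐀 (m + m') * g⁻¹⁻¹ ∈ C[t] ∧ Ac ι (g⁻¹ * 𝐀 (m + m') * g⁻¹⁻¹) 1 := fun m m' p q =>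
    ad' m m' ▸ ⟨mul_mem p.1 q.1, st2 ▸ p.2.mul q.2⟩
  have k : ∀ m m', g⁻¹ * 𝐀 m * g⁻¹⁻¹ ∈ C[t] ∧ Ac ι (g⁻¹ * 𝐀 m * g⁻¹⁻¹) 1 → g⁻¹ * 𝐀 m' * g⁻¹⁻¹ ∈ C[t] ∧ Ac ι (g⁻¹ * 𝐀 m' * g⁻¹⁻¹) 1 →
      (∀ γ, 2 ∣ m γ) ∨ (∀ γ, 2 ∣ m' γ) ∨ ∀ γ, 2 ∣ m γ - m' γ := fun m m' p q => by
    have := Z42 H p.1 q.1 p.2 q.2 (by rw [← ad', add_comm, ad']) (((pg H C).elt (AS H C _)).e_conj _) (((pg H C).elt (AS H C _)).e_conj _)
    rw [← ad', ← ad', conj_eq_one_iff, conj_eq_one_iff, mul_left_inj, mul_right_inj, ← A_0 (f := wb ι w)] at this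
    refine this.imp (fun e γ => ?_) (Or.imp (fun e γ => ?_) fun e γ => ?_) <;> have := inj H C e γ <;>
      simp only [Pi.add_apply, Pi.zero_apply] at this <;> omega
  simp only [List.forall_mem_cons] at h d
  have fa := f _ h.1
  have fb := f _ h.2.1
  have fc := f _ h.2.2.1
  rcases ac2 H.H fa with p | p <;> rcases ac2 H.H fb with q | q <;> rcases ac2 H.H fc with r | r
  exacts [d.1 (k _ _ ⟨fa, p⟩ ⟨fb, q⟩), d.1 (k _ _ ⟨fa, p⟩ ⟨fb, q⟩), d.2.1 (k _ _ ⟨fa, p⟩ ⟨fc, r⟩),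
    d.2.2.2.1 (k _ _ ⟨fa, p⟩ (f2 _ _ ⟨fb, q⟩ ⟨fc, r⟩)), d.2.2.1 (k _ _ ⟨fb, q⟩ ⟨fc, r⟩), d.2.2.2.2.1 (k _ _ ⟨fb, q⟩ (f2 _ _ ⟨fa, p⟩ ⟨fc, r⟩)),
    d.2.2.2.2.2.1 (k _ _ ⟨fc, r⟩ (f2 _ _ ⟨fa, p⟩ ⟨fb, q⟩)), d.2.2.2.2.2.2.1 (k _ _ (f2 _ _ ⟨fa, p⟩ ⟨fc, r⟩) (f2 _ _ ⟨fb, q⟩ ⟨fc, r⟩))]
theorem nP (g : G) : g * t * g⁻¹ ∉ Pc ι s w := fun h => by
  obtain ⟨n, β, i, e⟩ := nf H C h
  have uu : g * t * g⁻¹ * (g * t * g⁻¹) = 1 := by rw [conj_mul, H.tt]; simp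
  cases i
  · have dd : D ι s t β false false = ι (up β 0) := by simp [D]
    have p := inj H C (m := n + ac β false false n) (n := 0) (by
      rw [ad H C, ← cD H C, A_0, ← uu, e, dd, ← map_inv, u_inv]; group)
    simp only [Pi.add_apply, Pi.zero_apply, ac, cond_false, one_mul] at p
    by_cases b : β = 0
    · obtain ⟨l, -, q⟩ := (memV H C).2 ⟨fun γ => n γ / 2, cg H C (m := n) fun γ => by
        have := p γ; rw [b, add_zero] at this; simp only [Pi.add_apply]; omega⟩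
      exact H.NL l (isConj_iff.2 ⟨g, by rw [e, dd, b, up_0, map_one, mul_one, q]⟩)
    obtain ⟨δ, q⟩ := (by decide +kernel : ∀ β : 𝔽, β ≠ 0 → ∃ δ : 𝔽, ∀ γ, (γ = 0 ∨ γ = δ) ↔ ¬ (γ + β = 0 ∨ γ + β = δ)) β b
    refine H.NL (up β 0) (isConj_iff.2 ⟨𝐀 (fun γ => if γ = 0 ∨ γ = δ then -n γ else 0) * g, ?_⟩)
    rw [cj2, cB H C _ e, e, ← mul_assoc, ← ad H C, cg H C (n := 0) fun γ => ?_, A_0, one_mul, dd]
    have := p γ
    simp only [Pi.add_apply, Pi.sub_apply, Pi.zero_apply, ac, cond_false, one_mul]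
    by_cases k : γ = 0 ∨ γ = δ
    · rw [if_pos k, if_neg ((q γ).1 k)]; omega
    · rw [if_neg k, if_pos (not_not.1 (mt (q γ).2 k))]; omega
  rcases (by decide +kernel : ∀ β : 𝔽, (∀ γ, 4 ∣ ac β true false (ac β true false (Pi.single 0 1)) γ - (Pi.single 0 1 : 𝔽 → ℤ) γ) →
    β = 0 ∨ β = 1) β (inj H C (by rw [← cA H C _ e, ← cA H C _ e, ← cj2, uu]; simp)) with rfl | rfl
  · exact Z43 H C e (Pi.single 0 1) (Pi.single 1 1) (Pi.single ω 1 + Pi.single ν 1) (by decide +kernel) (by decide +kernel)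
  · exact Z43 H C e (Pi.single ω 1) (Pi.single ν 1) (Pi.single 0 1 + Pi.single 1 1) (by decide +kernel) (by decide +kernel)
end Ca

theorem ct : CT.{u} := fun G _ _ ι t X H s w x C hS => by
  have n := H24.G38.thomC H.toSt hS (Ca.tP H C) rfl (piG_zpowers.2 (two_of_sq H.tt)) (zpowers_le.2 (mem_cent1_self t)) (mem_zpowers t)
    fun g _ => Ca.nP H C g
  refine ⟨n, (?_ : _ = Pc ι s w) ▸ H.toSt.syl hS⟩
  exact le_antisymm (fun g hg => ((mem_ext (Ca.tP H C) (H.tt ▸ one_mem _)).1 hg.1).resolve_right fun k =>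
    n (inv_mem_iff.1 ((mul_mem_cancel_left hg.2).1 (Ca.PX H C k)))) (le_inf le_sup_left (Ca.PX H C))

end H4.G38
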