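import Cfsg.Agent.H4.Hy1

/-!
# The centralizer of a `p`-central element of `PSp₄(q)` is the Jacobi group
-/

set_option autoImplicit false

namespace H4.Hy

open Subgroup H19 Matrix Jac Sum
open scoped MatrixGroups

variable {F : Type*} [Field F]

local notation "Sp4" => symplecticGroup (Fin 2) F

theorem mem_range_rho (g : Sp4) (h0 : g.1 (inl 0) (inl 0) = 1) (h1 : g.1 (inl 1) (inl 0) = 0)
    (h2 : g.1 (inr 0) (inl 0) = 0) (h3 : g.1 (inr 1) (inl 0) = 0) : ∃ j, rho j = g := by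
  have e := SymplecticGroup.mem_iff'.1 g.2
  have e1 := congrFun (congrFun e (inl 0)) (inl 1)
  have e2 := congrFun (congrFun e (inl 0)) (inr 0)
  have e3 := congrFun (congrFun e (inl 0)) (inr 1)
  have e4 := congrFun (congrFun e (inl 1)) (inr 0)
  have e5 := congrFun (congrFun e (inl 1)) (inr 1)
  have e6 := congrFun (congrFun e (inr 0)) (inr 1)
  simp [J, mul_apply, Fintype.sum_sum_type, Fin.sum_univ_two, h0, h1, h2, h3] at e1 e2 e3
  simp [J, mul_apply, Fintype.sum_sum_type, Fin.sum_univ_two, e1, e2, e3] at e4 e5 e6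
  refine ⟨⟨g.1 (inl 0) (inr 0), g.1 (inl 1) (inr 0), g.1 (inr 1) (inr 0), g.1 (inl 1) (inl 1),
    g.1 (inl 1) (inr 1), g.1 (inr 1) (inl 1), g.1 (inr 1) (inr 1), by linear_combination -e5⟩, ?_⟩
  ext (i | i) (k | k) <;> fin_cases i <;> fin_cases k <;> simp [rho_val, *]
  · linear_combination e4
  · linear_combination -e6

/-- the Jacobi group in `PSp₄` -/
def psi : Jac F →* Cfsg.PSp 2 F := (QuotientGroup.mk' _).comp rho

theorem psi_apply (j : Jac F) : psi j = ((rho j : Sp4) : Cfsg.PSp 2 F) := rfl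

theorem psi_inj (h2 : (2 : F) ≠ 0) : Function.Injective (psi : Jac F → _) := by
  rw [injective_iff_map_eq_one]
  intro j hj
  rw [psi_apply, QuotientGroup.eq_one_iff, H11.sp_mem_center_iff, rho_val] at hj
  rcases hj with e | e
  · have e1 := congrFun (congrFun e (inl 0)) (inr 0)
    have e2 := congrFun (congrFun e (inl 1)) (inr 0)
    have e3 := congrFun (congrFun e (inr 1)) (inr 0)
    have e4 := congrFun (congrFun e (inl 1)) (inl 1)
    have e5 := congrFun (congrFun e (inl 1)) (inr 1)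
    have e6 := congrFun (congrFun e (inr 1)) (inl 1)
    have e7 := congrFun (congrFun e (inr 1)) (inr 1)
    simp at e1 e2 e3 e4 e5 e6 e7
    ext <;> simp [*]
  · have e1 := congrFun (congrFun e (inl 0)) (inl 0)
    simp at e1
    exact absurd (by linear_combination e1) h2

theorem mk_neg (g : Sp4) : ((⟨-g.1, SymplecticGroup.neg_mem g.2⟩ : Sp4) : Cfsg.PSp 2 F) = g := by
  rw [QuotientGroup.eq, H11.sp_mem_center_iff]
  right
  have e : (⟨-g.1, SymplecticGroup.neg_mem g.2⟩ : Sp4) * ⟨-1, SymplecticGroup.neg_mem (one_mem _)⟩ = g :=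
    Subtype.ext (by simp)
  rw [eq_inv_mul_iff_mul_eq.2 e |>.symm]

theorem cent_psi (h2 : (2 : F) ≠ 0) {a : F} (ha : a ≠ 0) : C[psi (m a 0 0)] = psi.range := by
  refine le_antisymm (fun y hy => ?_) ?_
  swap
  · rintro _ ⟨j, rfl⟩
    rw [mem_cent1, ← map_mul, ← map_mul, z_comm]
  obtain ⟨g, rfl⟩ := QuotientGroup.mk_surjective y
  rw [mem_cent1, psi_apply, ← QuotientGroup.mk_mul, ← QuotientGroup.mk_mul, QuotientGroup.eq,
    H11.sp_mem_center_iff] at hy
  have k : (g * rho (m a 0 0)).1 * ((g * rho (m a 0 0))⁻¹ * (rho (m a 0 0) * g)).1 = (rho (m a 0 0) * g).1 := by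
    rw [← Submonoid.coe_mul, mul_inv_cancel_left]
  have hg := SymplecticGroup.mem_iff.1 g.2
  rcases hy with e | e <;> rw [e, Submonoid.coe_mul, Submonoid.coe_mul, rho_val] at k
  · have e1 := congrFun (congrFun k (inl 1)) (inr 0)
    have e2 := congrFun (congrFun k (inr 0)) (inr 0)
    have e3 := congrFun (congrFun k (inr 1)) (inr 0)
    have e4 := congrFun (congrFun k (inl 0)) (inr 0)
    have e5 := congrFun (congrFun (SymplecticGroup.mem_iff'.1 g.2) (inl 0)) (inr 0)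
    simp [mul_apply, Fintype.sum_sum_type, Fin.sum_univ_two, ha] at e1 e2 e3 e4
    simp [J, mul_apply, Fintype.sum_sum_type, Fin.sum_univ_two, e1, e2, e3] at e5
    have e6 : g.1 (inr 0) (inr 0) = g.1 (inl 0) (inl 0) := mul_left_cancel₀ ha (by linear_combination -e4)
    rw [e6] at e5
    rcases mul_self_eq_one_iff.1 e5 with e7 | e7
    · obtain ⟨j, hj⟩ := mem_range_rho g e7 e1 e2 e3
      exact ⟨j, by rw [psi_apply, hj]⟩
    · obtain ⟨j, hj⟩ := mem_range_rho ⟨-g.1, SymplecticGroup.neg_mem g.2⟩ (by simp [e7]) (by simp [e1])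
        (by simp [e2]) (by simp [e3])
      exact ⟨j, by rw [psi_apply, hj, mk_neg]⟩
  · exfalso
    have e1 := congrFun (congrFun k (inl 1)) (inl 0)
    have e2 := congrFun (congrFun k (inl 1)) (inl 1)
    have e3 := congrFun (congrFun k (inl 1)) (inr 1)
    have e4 := congrFun (congrFun k (inr 1)) (inl 0)
    have e5 := congrFun (congrFun hg (inl 1)) (inr 1)
    simp [mul_apply, Fintype.sum_sum_type, Fin.sum_univ_two] at e1 e2 e3 e4
    have f1 : g.1 (inl 1) (inl 0) = 0 := mul_left_cancel₀ h2 (by linear_combination -e1)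
    have f2 : g.1 (inl 1) (inl 1) = 0 := mul_left_cancel₀ h2 (by linear_combination -e2)
    have f3 : g.1 (inl 1) (inr 1) = 0 := mul_left_cancel₀ h2 (by linear_combination -e3)
    have f4 : g.1 (inr 1) (inl 0) = 0 := mul_left_cancel₀ h2 (by linear_combination -e4)
    simp [J, mul_apply, Fintype.sum_sum_type, Fin.sum_univ_two, f1, f2, f3, f4] at e5

theorem two_ne_zero_of_card [Fintype F] {p n : ℕ} [hp : Fact p.Prime] (h : p ≠ 2) (hF : Fintype.card F = p ^ n) :
    (2 : F) ≠ 0 :=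
  H11.two_ne_zero_of_odd_card (hF ▸ (hp.out.odd_of_ne_two h).pow)

theorem not_dvd_pow_sub_one {p n k : ℕ} (hp : p.Prime) (hn : n ≠ 0) (hk : k ≠ 0) : ¬ p ∣ (p ^ n) ^ k - 1 := by
  intro h
  have h1 : p ∣ (p ^ n) ^ k := dvd_pow (dvd_pow_self _ hn) hk
  have := (Nat.dvd_sub_iff_right (Nat.one_le_pow _ _ (pow_pos hp.pos _)) h1).1 h
  exact hp.one_lt.ne' (Nat.dvd_one.1 this)

theorem exists_psi [Fintype F] {p n : ℕ} [hp : Fact p.Prime] (h : p ≠ 2) (hF : Fintype.card F = p ^ n)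
    {x : Cfsg.PSp 2 F} (hx : x ≠ 1) (Px : Sylow p (Cfsg.PSp 2 F)) (hxP : x ∈ (Px : Subgroup _))
    (hxc : ∀ y ∈ (Px : Subgroup (Cfsg.PSp 2 F)), y * x = x * y) :
    ∃ ψ : Jac F →* Cfsg.PSp 2 F, Function.Injective ψ ∧ ψ.range = C[x] := by
  have h2 := two_ne_zero_of_card h hF
  have hn : n ≠ 0 := by rintro rfl; exact absurd hF Fintype.one_lt_card.ne'
  have c1 : #((P F).map psi) = p ^ (n * 4) := by
    rw [card_map_of_injective (psi_inj h2), card_P, Nat.card_eq_fintype_card, hF, pow_mul]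
  have hS : Syl p ((P F).map psi) ⊤ := by
    refine syl_mk le_top (PiN.of_card_pow hp.out c1) fun hd => ?_
    have c2 := H11.card_psp (F := F) (m := 2) (by norm_num)
    have c3 := card_mul_relIndex (le_top (a := (P F).map psi))
    rw [card_top, c1] at c3
    rw [← c3, hF, mul_left_comm, pow_mul] at c2
    have c4 := Nat.eq_of_mul_eq_mul_left (pow_pos (pow_pos hp.out.pos n) 4) c2
    have : p ∣ _ := c4 ▸ hd.mul_left _
    simp only [Finset.prod_range_succ, Finset.prod_range_zero, one_mul] at this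
    rcases (Nat.Prime.dvd_mul hp.out).1 this with k | k <;> exact not_dvd_pow_sub_one hp.out hn (by norm_num) k
  obtain ⟨g, -, hg⟩ := (syl_sylow_top Px).sconj hS
  obtain ⟨j, hj, ej⟩ : g * x * g⁻¹ ∈ (P F).map psi := hg ▸ conj_mem_cj.2 hxP
  have e := center_P h2 hj fun k hk => psi_inj h2 (by
    have : psi k ∈ cj g Px := hg ▸ mem_map_of_mem _ hk
    have := hxc _ (mem_cj.1 this)
    rw [map_mul, map_mul, ej]
    calc _ = g * (g⁻¹ * psi k * g * x) * g⁻¹ := by group
      _ = _ := by rw [this]; group)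
  have ha : j.a ≠ 0 := fun h0 => hx (by
    rw [e, h0, m_zero, map_one] at ej
    calc x = g⁻¹ * (g * x * g⁻¹) * g := by group
      _ = 1 := by rw [← ej]; group)
  refine ⟨(MulAut.conj g⁻¹).toMonoidHom.comp psi, (MulAut.conj g⁻¹).injective.comp (psi_inj h2), ?_⟩
  rw [MonoidHom.range_comp, ← cent_psi h2 ha, ← e, ej, ← cj_def, cj_cent1]
  congr 2; group

theorem center_jac (h2 : (2 : F) ≠ 0) {j : Jac F} (h : ∀ k, k * j = j * k) : j = m j.a 0 0 := by
  have h1 := Jac.ext_iff.1 (h (v 0 1 0))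
  have h3 := Jac.ext_iff.1 (h (v 0 0 1))
  simp only [mul_x, mul_y, v_x, v_y, v_p, v_q, v_r, v_s] at h1 h3
  exact center_P h2 ⟨by linear_combination -h1.2.2.1, by linear_combination -h1.2.1,
    by linear_combination -h3.2.2.1⟩ fun k _ => h k

variable {G : Type*} [Group G]

/-- The hypothesis of Hayden's theorems -/
structure HH (p : ℕ) (φ : Jac F →* G) : Prop where
  pp : p.Prime
  ch : CharP F p
  two : (2 : F) ≠ 0
  inj : Function.Injective φ
  cent : ∀ a : F, a ≠ 0 → C[φ (m a 0 0)] = φ.range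

theorem exists_hh [Fintype F] {p n : ℕ} [hp : Fact p.Prime] (h : p ≠ 2) (hF : Fintype.card F = p ^ n)
    {x : Cfsg.PSp 2 F} (hx : orderOf x = p) (Px : Sylow p (Cfsg.PSp 2 F)) (hxP : x ∈ (Px : Subgroup _))
    (hxc : ∀ y ∈ (Px : Subgroup (Cfsg.PSp 2 F)), y * x = x * y) {α : G} (e : C[α] ≃* C[x])
    (hb : ∀ z ∈ C[α], z ≠ 1 → (∀ c ∈ C[α], c * z = z * c) → C[z] = C[α]) :
    ∃ φ : Jac F →* G, HH p φ ∧ φ.range = C[α] := by
  have h2 := two_ne_zero_of_card h hF
  obtain ⟨ψ, h1, h3⟩ := exists_psi h hF (fun k => hp.out.one_lt.ne (by rw [← hx, k, orderOf_one])) Px hxP hxc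
  let χ : Jac F →* C[x] := ψ.codRestrict _ fun j => h3 ▸ ⟨j, rfl⟩
  let φ : Jac F →* G := (C[α]).subtype.comp (e.symm.toMonoidHom.comp χ)
  have i : Function.Injective φ := fun j k hjk => h1 (congrArg Subtype.val (e.symm.injective (Subtype.ext hjk)))
  have r : φ.range = C[α] := by
    refine le_antisymm (by rintro _ ⟨j, rfl⟩; exact (e.symm (χ j)).2) fun y hy => ?_
    obtain ⟨j, hj⟩ : (e ⟨y, hy⟩).1 ∈ ψ.range := h3.ge (e ⟨y, hy⟩).2
    refine ⟨j, ?_⟩
    have : χ j = e ⟨y, hy⟩ := Subtype.ext hj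
    simp [φ, this]
  refine ⟨φ, ⟨hp.out, charP_of_card_eq_prime_pow hF, h2, i, fun a ha => (hb _ (r.le ⟨_, rfl⟩) (fun k => ha ?_) fun c hc => ?_).trans r.symm⟩, r⟩
  · exact (m_inj.1 ((i (k.trans φ.map_one.symm)).trans m_zero.symm)).1
  · obtain ⟨j, rfl⟩ := r.ge hc
    rw [← map_mul, ← map_mul, z_comm]

theorem HH.conj {p : ℕ} {φ : Jac F →* G} (h : HH p φ) (g : G) : HH p ((MulAut.conj g).toMonoidHom.comp φ) :=
  ⟨h.pp, h.ch, h.two, (MulAut.conj g).injective.comp h.inj, fun a ha => by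
    rw [MonoidHom.range_comp, ← h.cent a ha, ← cj_def, cj_cent1]; rfl⟩

end H4.Hy
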