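import Cfsg.Agent.H4.Hy2
import Cfsg.Agent.H11.SL2

/-!
# Hayden's hypothesis: basic `p`-local structure
-/

set_option autoImplicit false

namespace H4.Hy

open Subgroup H19 Jac
open scoped MatrixGroups

variable {F : Type*} [Field F] {G : Type*} [Group G]

section defs
variable (φ : Jac F →* G)

def mu (a b c : F) : G := φ (m a b c)
def tt : G := φ t
def ys (s : F) : G := φ (v 0 0 s)
def hh (d : Fˣ) : G := φ (h d)
def nn : G := φ n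

variable {φ}
theorem mu_mul (a b c a' b' c' : F) : mu φ a b c * mu φ a' b' c' = mu φ (a + a') (b + b') (c + c') := by
  rw [mu, mu, ← map_mul, m_mul, mu]
theorem mu_zero : mu φ 0 0 0 = 1 := φ.map_one
theorem mu_inv (a b c : F) : (mu φ a b c)⁻¹ = mu φ (-a) (-b) (-c) := by rw [mu, ← map_inv, m_inv, mu]
theorem mu_comm (a b c a' b' c' : F) : mu φ a b c * mu φ a' b' c' = mu φ a' b' c' * mu φ a b c := by
  rw [mu_mul, mu_mul, add_comm a, add_comm b, add_comm c]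
theorem mu_pow (a b c : F) (k : ℕ) : mu φ a b c ^ k = mu φ (k * a) (k * b) (k * c) := by
  rw [mu, ← map_pow, m_pow, mu]
theorem ys_mu (s a b c : F) : ys φ s * mu φ a b c * (ys φ s)⁻¹ = mu φ (a - 2 * b * s + c * s ^ 2) (b - c * s) c := by
  rw [ys, mu, mu, ← map_inv, ← map_mul, ← map_mul]; congr 1; ext <;> simp <;> ring
theorem hh_mu (d : Fˣ) (a b c : F) : hh φ d * mu φ a b c * (hh φ d)⁻¹ = mu φ a (d * b) (d ^ 2 * c) := by
  rw [hh, mu, mu, ← map_inv, ← map_mul, ← map_mul]; congr 1; ext <;> simp; ring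
theorem tt_mu (a b c : F) : tt φ * mu φ a b c * (tt φ)⁻¹ = mu φ a (-b) c := by
  rw [tt, mu, mu, ← map_inv, ← map_mul, ← map_mul]; congr 1; ext <;> simp
theorem tt_sq : tt φ * tt φ = 1 := by
  rw [tt, ← map_mul, ← φ.map_one]; congr 1; ext <;> simp
theorem tt_inv : (tt φ)⁻¹ = tt φ := inv_eq_of_mul_eq_one_right tt_sq
theorem ys_mul (s s' : F) : ys φ s * ys φ s' = ys φ (s + s') := by
  rw [ys, ys, ys, ← map_mul]; congr 1; ext <;> simp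
theorem ys_zero : ys φ 0 = 1 := φ.map_one
theorem ys_inv (s : F) : (ys φ s)⁻¹ = ys φ (-s) := inv_eq_of_mul_eq_one_right (by rw [ys_mul, add_neg_cancel, ys_zero])
theorem hh_mul (d e : Fˣ) : hh φ d * hh φ e = hh φ (d * e) := by
  rw [hh, hh, hh, ← map_mul]; congr 1; ext <;> simp [mul_comm]
theorem hh_one : hh φ 1 = 1 := by rw [hh, ← φ.map_one]; exact congrArg φ (by ext <;> simp)
theorem hh_inv (d : Fˣ) : (hh φ d)⁻¹ = hh φ d⁻¹ := inv_eq_of_mul_eq_one_right (by rw [hh_mul, mul_inv_cancel, hh_one])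
theorem hh_neg_one : hh φ (-1) = tt φ := congrArg φ (by ext <;> simp)
theorem hh_ys (d : Fˣ) (s : F) : hh φ d * ys φ s * (hh φ d)⁻¹ = ys φ ((d : F)⁻¹ * s) := by
  rw [hh, ys, ys, ← map_inv, ← map_mul, ← map_mul]; congr 1; ext <;> simp
theorem tt_hh (d : Fˣ) : tt φ * hh φ d = hh φ d * tt φ := by rw [← hh_neg_one, hh_mul, hh_mul, mul_comm]
theorem z_cm (j : Jac F) (a : F) : φ j * mu φ a 0 0 = mu φ a 0 0 * φ j := by
  rw [mu, ← map_mul, ← map_mul, z_comm]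

variable (φ)

def ms (S : F → F → F → Prop) (h0 : S 0 0 0)
    (h1 : ∀ a b c a' b' c', S a b c → S a' b' c' → S (a - a') (b - b') (c - c')) : Subgroup G :=
  Subgroup.ofDiv {g | ∃ a b c, S a b c ∧ mu φ a b c = g} ⟨1, 0, 0, 0, h0, mu_zero⟩ (by
    rintro _ ⟨a, b, c, k, rfl⟩ _ ⟨a', b', c', k', rfl⟩
    exact ⟨_, _, _, h1 _ _ _ _ _ _ k k', by rw [mu_inv, mu_mul]; simp only [sub_eq_add_neg]⟩)

def Ms : Subgroup G := ms φ (fun _ _ _ => True) trivial fun _ _ _ _ _ _ _ _ => trivial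
def Zs : Subgroup G := ms φ (fun _ b c => b = 0 ∧ c = 0) ⟨rfl, rfl⟩ fun _ _ _ _ _ _ h k => by simp [h, k]
def Ws : Subgroup G := ms φ (fun a _ c => a = 0 ∧ c = 0) ⟨rfl, rfl⟩ fun _ _ _ _ _ _ h k => by simp [h, k]
def Us : Subgroup G := ms φ (fun a b _ => a = 0 ∧ b = 0) ⟨rfl, rfl⟩ fun _ _ _ _ _ _ h k => by simp [h, k]
def As : Subgroup G := ms φ (fun _ b _ => b = 0) rfl fun _ _ _ _ _ _ h k => by simp [h, k]
def Ps : Subgroup G := (P F).map φ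
def Qs : Subgroup G := (pr : Jac F →* SL(2, F)).ker.map φ
def Ls : Subgroup G := (φ.comp sl).range

variable {φ} {g : G}
theorem mem_M : g ∈ Ms φ ↔ ∃ a b c, mu φ a b c = g := by
  change (∃ a b c, True ∧ _) ↔ _; simp
theorem mem_Z : g ∈ Zs φ ↔ ∃ a, mu φ a 0 0 = g := by
  change (∃ a b c, (b = 0 ∧ c = 0) ∧ _) ↔ _; simp
theorem mem_W : g ∈ Ws φ ↔ ∃ b, mu φ 0 b 0 = g := by
  change (∃ a b c, (a = 0 ∧ c = 0) ∧ _) ↔ _; simp
theorem mem_U : g ∈ Us φ ↔ ∃ c, mu φ 0 0 c = g := by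
  change (∃ a b c, (a = 0 ∧ b = 0) ∧ _) ↔ _; simp
theorem mem_A : g ∈ As φ ↔ ∃ a c, mu φ a 0 c = g := by
  change (∃ a b c, b = 0 ∧ _) ↔ _; simp
theorem mem_ker_pr {j : Jac F} : j ∈ (pr : Jac F →* SL(2, F)).ker ↔ j = v j.a j.x j.y := by
  rw [MonoidHom.mem_ker]
  constructor
  · intro h; conv_lhs => rw [← v_mul_sl j, h, map_one, mul_one]
  · intro h; rw [h]; ext i k; fin_cases i <;> fin_cases k <;> simp
theorem mem_Q : g ∈ Qs φ ↔ ∃ a x y, φ (v a x y) = g :=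
  ⟨by rintro ⟨j, hj, rfl⟩; exact ⟨_, _, _, congrArg φ (mem_ker_pr.1 hj).symm⟩,
    by rintro ⟨a, x, y, rfl⟩; exact ⟨_, mem_ker_pr.2 rfl, rfl⟩⟩
theorem mem_L : g ∈ Ls φ ↔ ∃ l : SL(2, F), φ (sl l) = g := Iff.rfl
theorem mem_P' : g ∈ Ps φ ↔ ∃ a b c s, mu φ a b c * ys φ s = g := by
  constructor
  · rintro ⟨j, ⟨h1, h2, h3⟩, rfl⟩
    refine ⟨j.a - j.x * j.y + j.q * j.y ^ 2, j.x - j.q * j.y, j.q, j.y, ?_⟩
    rw [mu, ys, ← map_mul]; congr 1; ext <;> simp [*]; ring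
  · rintro ⟨a, b, c, s, rfl⟩
    exact ⟨m a b c * v 0 0 s, by simp [mem_P], map_mul _ _ _⟩
theorem mu_M (a b c : F) : mu φ a b c ∈ Ms φ := mem_M.2 ⟨_, _, _, rfl⟩
theorem mu_Z (a : F) : mu φ a 0 0 ∈ Zs φ := mem_Z.2 ⟨_, rfl⟩
theorem mu_W (a : F) : mu φ 0 a 0 ∈ Ws φ := mem_W.2 ⟨_, rfl⟩
theorem mu_U (a : F) : mu φ 0 0 a ∈ Us φ := mem_U.2 ⟨_, rfl⟩
theorem mu_A (a c : F) : mu φ a 0 c ∈ As φ := mem_A.2 ⟨_, _, rfl⟩
theorem mu_C (a b c : F) : mu φ a b c ∈ φ.range := ⟨_, rfl⟩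
theorem tt_C : tt φ ∈ φ.range := ⟨_, rfl⟩
theorem hh_C (d : Fˣ) : hh φ d ∈ φ.range := ⟨_, rfl⟩
theorem ys_P (s : F) : ys φ s ∈ Ps φ := ⟨_, ⟨rfl, rfl, rfl⟩, rfl⟩
theorem ys_Q (s : F) : ys φ s ∈ Qs φ := mem_Q.2 ⟨_, _, _, rfl⟩
theorem M_le_P : Ms φ ≤ Ps φ := fun _ h => by
  obtain ⟨a, b, c, rfl⟩ := mem_M.1 h; exact ⟨_, ⟨rfl, rfl, rfl⟩, rfl⟩
theorem Q_le_P : Qs φ ≤ Ps φ := fun _ h => by
  obtain ⟨a, b, c, rfl⟩ := mem_Q.1 h; exact ⟨_, ⟨rfl, rfl, rfl⟩, rfl⟩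
theorem P_le_C : Ps φ ≤ φ.range := map_le_range _ _
theorem L_le_C : Ls φ ≤ φ.range := by rintro _ ⟨l, rfl⟩; exact ⟨_, rfl⟩
theorem A_le_M : As φ ≤ Ms φ := fun _ h => by obtain ⟨a, c, rfl⟩ := mem_A.1 h; exact mu_M _ _ _
theorem W_le_M : Ws φ ≤ Ms φ := fun _ h => by obtain ⟨a, rfl⟩ := mem_W.1 h; exact mu_M _ _ _
theorem Z_le_A : Zs φ ≤ As φ := fun _ h => by obtain ⟨a, rfl⟩ := mem_Z.1 h; exact mu_A _ _
theorem U_le_A : Us φ ≤ As φ := fun _ h => by obtain ⟨a, rfl⟩ := mem_U.1 h; exact mu_A _ _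
theorem Z_le_M : Zs φ ≤ Ms φ := Z_le_A.trans A_le_M
theorem Z_le_Q : Zs φ ≤ Qs φ := fun _ h => by obtain ⟨a, rfl⟩ := mem_Z.1 h; exact mem_Q.2 ⟨a, 0, 0, rfl⟩
theorem W_le_Q : Ws φ ≤ Qs φ := fun _ h => by obtain ⟨a, rfl⟩ := mem_W.1 h; exact mem_Q.2 ⟨0, a, 0, rfl⟩
theorem M_le_C : Ms φ ≤ φ.range := M_le_P.trans P_le_C
theorem M_cm : Ms φ ≤ C(Ms φ) := fun _ h => H19.mem_cent.2 fun _ k => by
  obtain ⟨a, b, c, rfl⟩ := mem_M.1 h; obtain ⟨a, b, c, rfl⟩ := mem_M.1 k; exact mu_comm ..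
theorem M_ab : Ab (Ms φ) := comm_iff_le_cent.2 M_cm
theorem C_le_CZ : φ.range ≤ C(Zs φ) := by
  rintro _ ⟨j, rfl⟩; refine H19.mem_cent.2 fun _ k => ?_
  obtain ⟨a, rfl⟩ := mem_Z.1 k; exact (z_cm ..).symm
theorem C_le_N : φ.range ≤ N(Zs φ) := C_le_CZ.trans (cent_le_norm _)
theorem C_le_NQ : φ.range ≤ N(Qs φ) := by
  rw [φ.range_eq_map, ← normalizer_eq_top (pr : Jac F →* SL(2, F)).ker]; exact le_normalizer_map _
theorem A_le_K : As φ ≤ C[tt φ] := fun _ h => by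
  obtain ⟨a, c, rfl⟩ := mem_A.1 h
  rw [mem_cent1_symm, mem_cent1, ← mul_inv_eq_iff_eq_mul, tt_mu, neg_zero]
theorem L_le_K : Ls φ ≤ C[tt φ] := by
  rintro _ ⟨l, rfl⟩
  rw [mem_cent1, tt, MonoidHom.comp_apply, ← map_mul, ← map_mul]; congr 1; ext <;> simp
theorem hh_K (d : Fˣ) : hh φ d ∈ C[tt φ] := mem_cent1.2 (tt_hh d).symm

theorem conj_mu {j : Jac F} (h : j.r = 0) (a b c : F) : φ j * mu φ a b c * (φ j)⁻¹ =
    mu φ (a - 2 * j.p * b * j.y + j.p ^ 2 * c * j.y ^ 2) (j.p * b - j.p ^ 2 * c * j.y) (j.p ^ 2 * c) := by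
  have e := j.det
  rw [h, mul_zero, sub_zero] at e
  rw [mu, mu, ← map_inv, ← map_mul, ← map_mul]; congr 1; ext <;> simp [h]
  · linear_combination (j.x * j.p * j.y + j.p * b * j.p * j.y - j.p * j.x * j.y - j.p * b * j.y
      - j.x * j.y - j.p ^ 2 * b * j.y + j.x * j.y) * e
  · linear_combination (-j.x) * e
  · linear_combination (-j.y) * e
  · exact e
  · ring
  · linear_combination e

variable [Finite G]
theorem mem_NM {j : Jac F} (h : j.r = 0) : φ j ∈ N(Ms φ) := mem_norm_of_cj_le fun _ k => by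
  obtain ⟨y, k', rfl⟩ := mem_cj'.1 k
  obtain ⟨a, b, c, rfl⟩ := mem_M.1 k'
  rw [conj_mu h]; exact mu_M ..
theorem P_le_NM : Ps φ ≤ N(Ms φ) := by rintro _ ⟨j, h, rfl⟩; exact mem_NM h.1
theorem tt_NM : tt φ ∈ N(Ms φ) := mem_NM rfl
theorem hh_NM (d : Fˣ) : hh φ d ∈ N(Ms φ) := mem_NM rfl
end defs

theorem card_of_param {ι : Type*} {H : Subgroup G} (e : ι → G) (he : Function.Injective e)
    (h : ∀ g, g ∈ H ↔ ∃ i, e i = g) : #H = Nat.card ι := by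
  rw [← Nat.card_range_of_injective he]
  exact Nat.card_congr (Equiv.subtypeEquivRight h)

variable {φ : Jac F →* G} {g : G} {a b c a' b' c' : F}

namespace HH
variable {p : ℕ} (h : HH p φ)
include h

theorem mu_inj : mu φ a b c = mu φ a' b' c' ↔ a = a' ∧ b = b' ∧ c = c' := h.inj.eq_iff.trans m_inj
theorem mu_one : mu φ a b c = 1 ↔ a = 0 ∧ b = 0 ∧ c = 0 := by rw [← mu_zero (φ := φ), h.mu_inj]
theorem mu_in_Z : mu φ a b c ∈ Zs φ ↔ b = 0 ∧ c = 0 := by simp [mem_Z, h.mu_inj, eq_comm]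
theorem mu_in_W : mu φ a b c ∈ Ws φ ↔ a = 0 ∧ c = 0 := by simp [mem_W, h.mu_inj, eq_comm]
theorem mu_in_U : mu φ a b c ∈ Us φ ↔ a = 0 ∧ b = 0 := by simp [mem_U, h.mu_inj, eq_comm]
theorem mu_in_A : mu φ a b c ∈ As φ ↔ b = 0 := by simp [mem_A, h.mu_inj, eq_comm]
theorem tt_ne : tt φ ≠ 1 := fun e => by
  have := congrArg Jac.p (h.inj (e.trans φ.map_one.symm))
  exact h.two (by simp at this; linear_combination -this)
theorem card_Z : #(Zs φ) = Nat.card F :=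
  card_of_param (fun a => mu φ a 0 0) (fun _ _ e => (h.mu_inj.1 e).1) fun _ => mem_Z
theorem card_W : #(Ws φ) = Nat.card F :=
  card_of_param (fun a => mu φ 0 a 0) (fun _ _ e => (h.mu_inj.1 e).2.1) fun _ => mem_W
theorem card_U : #(Us φ) = Nat.card F :=
  card_of_param (fun a => mu φ 0 0 a) (fun _ _ e => (h.mu_inj.1 e).2.2) fun _ => mem_U
theorem card_A : #(As φ) = Nat.card F ^ 2 := by
  rw [card_of_param (fun a : F × F => mu φ a.1 0 a.2) (fun _ _ e => Prod.ext (h.mu_inj.1 e).1 (h.mu_inj.1 e).2.2)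
    fun _ => mem_A.trans (by simp), Nat.card_prod, sq]
theorem card_M : #(Ms φ) = Nat.card F ^ 3 := by
  rw [card_of_param (fun a : F × F × F => mu φ a.1 a.2.1 a.2.2) (fun _ _ e => Prod.ext (h.mu_inj.1 e).1
    (Prod.ext (h.mu_inj.1 e).2.1 (h.mu_inj.1 e).2.2)) fun _ => mem_M.trans (by simp), Nat.card_prod, Nat.card_prod]
  ring
theorem card_Q : #(Qs φ) = Nat.card F ^ 3 := by
  rw [card_of_param (fun a : F × F × F => φ (v a.1 a.2.1 a.2.2)) (fun _ _ e => by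
    simpa [Jac.ext_iff, Prod.ext_iff] using h.inj e) fun _ => mem_Q.trans (by simp), Nat.card_prod, Nat.card_prod]
  ring
theorem card_Ps : #(Ps φ) = Nat.card F ^ 4 := by rw [Ps, card_map_of_injective h.inj, card_P]
theorem cent' (ha : a ≠ 0) : C[mu φ a 0 0] = φ.range := h.cent a ha
theorem cent_of_mem (hg : g ∈ Zs φ) (h1 : g ≠ 1) : C[g] = φ.range := by
  obtain ⟨a, rfl⟩ := mem_Z.1 hg
  exact h.cent a fun e => h1 (by rw [e, mu_zero])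
theorem cent_Z : C(Zs φ) = φ.range := le_antisymm ((cent_le_cent1 (mu_Z 1)).trans (h.cent' one_ne_zero).le) C_le_CZ
theorem Z_eq : Z(φ.range) = Zs φ := by
  refine le_antisymm ?_ (le_inf (Z_le_M.trans M_le_C) (cents_symm C_le_CZ))
  rintro _ ⟨⟨j, rfl⟩, k⟩
  rw [center_jac h.two (j := j) fun i => h.inj (by rw [map_mul, map_mul]; exact k _ ⟨i, rfl⟩)]
  exact mu_Z _
theorem Z_eq_P : Z(Ps φ) = Zs φ := by
  refine le_antisymm ?_ (le_inf (Z_le_M.trans M_le_P) (cents_symm (P_le_C.trans C_le_CZ)))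
  rintro _ ⟨⟨j, hj, rfl⟩, k⟩
  rw [center_P h.two hj fun i hi => h.inj (by rw [map_mul, map_mul]; exact k _ ⟨i, hi, rfl⟩)]
  exact mu_Z _
theorem norm_C : N(φ.range) = N(Zs φ) :=
  le_antisymm (h.Z_eq ▸ norms_inf le_rfl (norm_le_norm_cent _)) (h.cent_Z ▸ norm_le_norm_cent _)
theorem NP_le : N(Ps φ) ≤ N(Zs φ) := h.Z_eq_P ▸ norms_inf le_rfl (norm_le_norm_cent _)
theorem ti {z : G} (hz : z ∈ Zs φ) (h1 : z ≠ 1) (e : g * z * g⁻¹ ∈ Zs φ) : g ∈ N(Zs φ) := by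
  rw [← h.norm_C, mem_norm_iff_cj]
  conv_lhs => rw [← h.cent_of_mem hz h1, cj_cent1]
  exact h.cent_of_mem e fun k => h1 (by simpa using k)
theorem ti' {z : G} (hz : z ∈ Zs φ) (h1 : z ≠ 1) (e : z ∈ cj g (Zs φ)) : cj g (Zs φ) = Zs φ :=
  cj_of_mem_norm (inv_mem_iff.1 (h.ti hz h1 (by simpa using mem_cj.1 e)))
theorem ti2 {z g' : G} (hz : z ∈ cj g' (Zs φ)) (h1 : z ≠ 1) (e : z ∈ cj g (Zs φ)) : cj g (Zs φ) = cj g' (Zs φ) := by
  have := h.ti' (g := g'⁻¹ * g) (mem_cj.1 hz) (fun k => h1 (by simpa [mul_assoc, inv_mul_eq_one] using k))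
    (by rw [cj_mul, mem_cj_inv]; simpa [mul_assoc] using e)
  rwa [cj_mul, cj_eq_iff, inv_inv] at this
theorem cent_cj {z : G} (hz : z ∈ cj g (Zs φ)) (h1 : z ≠ 1) : C[z] = C(cj g (Zs φ)) := by
  obtain ⟨y, hy, rfl⟩ := mem_cj'.1 hz
  rw [← cj_cent1, ← cj_cent, h.cent_Z, h.cent_of_mem hy fun k => h1 (by simp [k])]

theorem r_of_NM {j : Jac F} (e : φ j ∈ N(Ms φ)) : j.r = 0 := by
  obtain ⟨a, b, c, k⟩ := mem_M.1 (conj_mem_of_norm e (mu_M 0 1 0))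
  rw [mu, mu, ← map_inv, ← map_mul, ← map_mul] at k
  have := congrArg Jac.y (h.inj k)
  simp at this
  linear_combination -this + j.y * j.det
theorem cent_M : C(Ms φ) = Ms φ := by
  refine le_antisymm (fun g hg => ?_) M_cm
  obtain ⟨j, rfl⟩ := h.cent_Z ▸ cent_mono Z_le_M hg
  have k := hg _ (mu_M 0 1 0)
  rw [mu, ← map_mul, ← map_mul] at k
  have e := Jac.ext_iff.1 (h.inj k)
  simp at e
  have e1 : j.p = 1 := by linear_combination -e.2.1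
  have e2 : j.s = 1 := by linear_combination j.det + j.q * e.2.2 - j.s * e1
  have e3 : j.y = 0 := mul_left_cancel₀ h.two (by linear_combination e.1 + j.x * e.2.2 - j.y * e1)
  exact mem_M.2 ⟨j.a, j.x, j.q, congrArg φ (by ext <;> simp [*])⟩
theorem cent_u {j : Jac F} (hc : c ≠ 0) (e : φ j ∈ C[mu φ a 0 c]) : φ j ∈ Ms φ ∨ φ j * tt φ ∈ Ms φ := by
  rw [mem_cent1, mu, ← map_mul, ← map_mul] at e
  have e := Jac.ext_iff.1 (h.inj e)
  simp [hc] at e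
  obtain ⟨-, e1, e2, e3, -⟩ := e
  have e4 : j.s = j.p := mul_left_cancel₀ hc (by linear_combination -e3)
  have e5 := j.det
  rw [e2, e4, mul_zero, sub_zero] at e5
  rcases mul_self_eq_one_iff.1 e5 with k | k
  · exact .inl (mem_M.2 ⟨j.a, j.x, j.q, congrArg φ (by ext <;> simp [*])⟩)
  · exact .inr (mem_M.2 ⟨j.a, j.x, -j.q, by rw [tt, ← map_mul]; exact congrArg φ (by ext <;> simp [*])⟩)
theorem cent_A (hg : g ∈ C(As φ)) : g ∈ Ms φ ∨ g * tt φ ∈ Ms φ := by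
  obtain ⟨j, rfl⟩ := h.cent_Z ▸ cent_mono Z_le_A hg
  exact h.cent_u one_ne_zero (cent_le_cent1 (mu_A 0 1) hg)
theorem mem_A_of (h1 : g ∈ Ms φ) (h2 : g ∈ C[tt φ]) : g ∈ As φ := by
  obtain ⟨a, b, c, rfl⟩ := mem_M.1 h1
  rw [mem_cent1_symm, mem_cent1, ← mul_inv_eq_iff_eq_mul, tt_mu, h.mu_inj] at h2
  exact h.mu_in_A.2 (mul_left_cancel₀ h.two (by linear_combination -h2.2.1))
theorem mem_W_of (h1 : g ∈ Ms φ) (h2 : tt φ * g * (tt φ)⁻¹ = g⁻¹) : g ∈ Ws φ := by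
  obtain ⟨a, b, c, rfl⟩ := mem_M.1 h1
  rw [tt_mu, mu_inv, h.mu_inj] at h2
  exact h.mu_in_W.2 ⟨mul_left_cancel₀ h.two (by linear_combination h2.1),
    mul_left_cancel₀ h.two (by linear_combination h2.2.2)⟩
theorem A_eq : As φ = Ms φ ⊓ C[tt φ] := le_antisymm (le_inf A_le_M A_le_K) fun _ k => h.mem_A_of k.1 k.2
theorem invol (hg : g ∈ φ.range) (h1 : g ≠ 1) (h2 : g * g = 1) : ∃ x y, φ (v 0 x y) * g * (φ (v 0 x y))⁻¹ = tt φ := by
  obtain ⟨j, rfl⟩ := hg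
  have e0 := h.inj ((map_mul φ j j).trans (h2.trans φ.map_one.symm))
  have e := Jac.ext_iff.1 e0
  have k := H11.sl2_eq_of_mul_self h.two (pr j) (by rw [← map_mul, e0, map_one])
  simp only [mul_a, mul_x, mul_y, one_a, one_x, one_y] at e
  rcases k with k | k
  all_goals
    have k1 := congrFun (congrFun k 0) 0; have k2 := congrFun (congrFun k 0) 1
    have k3 := congrFun (congrFun k 1) 0; have k4 := congrFun (congrFun k 1) 1
    simp at k1 k2 k3 k4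
    rw [k1, k2, k3, k4] at e
    have e1 : j.a = 0 := mul_left_cancel₀ h.two (by linear_combination e.1)
  · have e2 : j.x = 0 := mul_left_cancel₀ h.two (by linear_combination e.2.1)
    have e3 : j.y = 0 := mul_left_cancel₀ h.two (by linear_combination e.2.2.1)
    exact absurd ((congrArg φ (by ext <;> simp [*])).trans φ.map_one) h1
  · refine ⟨-j.x / 2, -j.y / 2, ?_⟩
    have := h.two
    rw [tt, ← map_inv, ← map_mul, ← map_mul]; congr 1; ext <;> simp [*] <;> field_simp <;> ring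
end HH

end H4.Hy
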