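import Cfsg.Agent.H4.Hy4
import Cfsg.Agent.H4.Centralizer

/-!
# Hayden's hypothesis: the conjugates of `Z` in `M`
-/

set_option autoImplicit false

namespace H4.Hy

open Subgroup H19 Jac
open scoped MatrixGroups

variable {F : Type*} [Field F] {G : Type*} [Group G]
  {φ : Jac F →* G} {g x : G} {a b c a' b' c' s u : F} {R S X : Subgroup G} {p : ℕ} {f f' : F →+ F}

variable (φ) in
/-- not all elements of `Z#` are conjugate -/
def NC : Prop := ∃ a b : F, a ≠ 0 ∧ b ≠ 0 ∧ ∀ g, g * mu φ a 0 0 * g⁻¹ ≠ mu φ b 0 0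

variable (φ) in
def Vs (f : F →+ F) (s : F) : Subgroup G :=
  ms φ (fun a b c => a = f c + c * s ^ 2 ∧ b = -(c * s)) (by simp) fun _ _ _ _ _ _ h k => by
    rw [h.1, h.2, k.1, k.2, map_sub]; constructor <;> ring

theorem tt_tt (g : G) : tt φ * (tt φ * g) = g := by rw [← mul_assoc, tt_sq, one_mul]
theorem mem_V : g ∈ Vs φ f s ↔ ∃ c, mu φ (f c + c * s ^ 2) (-(c * s)) c = g := by
  change (∃ a b c, (a = _ ∧ b = _) ∧ _) ↔ _; simp
theorem mu_V (c : F) : mu φ (f c + c * s ^ 2) (-(c * s)) c ∈ Vs φ f s := mem_V.2 ⟨_, rfl⟩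
theorem V_le_M : Vs φ f s ≤ Ms φ := fun _ h => by obtain ⟨a, rfl⟩ := mem_V.1 h; exact mu_M ..
theorem V_le_A : Vs φ f 0 ≤ As φ := fun _ h => by obtain ⟨a, rfl⟩ := mem_V.1 h; simpa using mu_A _ _
theorem cj_ys_V : cj (ys φ u) (Vs φ f s) = Vs φ f (s + u) := by
  ext g; rw [mem_cj', mem_V]
  constructor
  · rintro ⟨_, h, rfl⟩; obtain ⟨c, rfl⟩ := mem_V.1 h
    exact ⟨c, by rw [ys_mu]; congr 1 <;> ring⟩
  · rintro ⟨c, rfl⟩; exact ⟨_, mu_V c, by rw [ys_mu]; congr 1 <;> ring⟩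

namespace HH
variable (h : HH p φ)
include h

theorem mu_in_V : mu φ a b c ∈ Vs φ f s ↔ a = f c + c * s ^ 2 ∧ b = -(c * s) := by
  simp only [mem_V, h.mu_inj]
  exact ⟨by rintro ⟨c, h1, h2, rfl⟩; exact ⟨h1.symm, h2.symm⟩, fun k => ⟨c, k.1.symm, k.2.symm, rfl⟩⟩
theorem V_inj (e : Vs φ f s = Vs φ f' u) : s = u ∧ f = f' := by
  have k := fun c => h.mu_in_V.1 (e ▸ mu_V (φ := φ) (f := f) (s := s) c)
  obtain rfl : s = u := by simpa using (k 1).2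
  exact ⟨rfl, AddMonoidHom.ext fun c => by simpa using (k c).1⟩
theorem V_ne : Vs φ f s ≠ Zs φ := fun e => one_ne_zero (h.mu_in_Z.1 (e ▸ mu_V (φ := φ) (f := f) (s := s) 1)).2

theorem nw (k : NC φ) : NW φ := by
  intro g a b hb e
  have e1 : mu φ 0 b 0 ∈ cj g⁻¹ (Zs φ) := mem_cj_inv.2 (e ▸ mu_Z a)
  have n1 : mu φ 0 b 0 ≠ 1 := fun k => hb (h.mu_one.1 k).2.1
  have e2 : cj g⁻¹ (Zs φ) ≤ Ms φ := h.cent_M ▸ cents_symm (h.cent_cj e1 n1 ▸ M_cm.trans (cent_le_cent1 (mu_M ..)))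
  have e3 : cj (tt φ * g⁻¹) (Zs φ) = cj g⁻¹ (Zs φ) := h.ti2 (inv_mem e1) (inv_ne_one.2 n1) (by
    rw [cj_mul, mu_inv, neg_zero, ← tt_mu]; exact conj_mem_cj.2 e1)
  have e4 : ∀ a, ∃ b, mu φ 0 b 0 = g⁻¹ * mu φ a 0 0 * g := fun a => by
    have k1 : g⁻¹ * mu φ a 0 0 * g ∈ cj g⁻¹ (Zs φ) := mem_cj_inv.2 (by simpa [mul_assoc] using mu_Z a)
    obtain ⟨a', b', c', k2⟩ := mem_M.1 (e2 k1)
    rw [← k2] at k1 ⊢
    have k3 := mul_mem k1 (e3.le ((cj_mul _ _ _).ge (conj_mem_cj.2 k1)))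
    rw [tt_mu, mu_mul, add_neg_cancel] at k3
    by_cases k4 : mu φ (a' + a') 0 (c' + c') = 1
    · obtain ⟨k5, -, k6⟩ := h.mu_one.1 k4
      exact ⟨b', h.mu_inj.2 ⟨mul_left_cancel₀ h.two (by linear_combination -k5), rfl,
        mul_left_cancel₀ h.two (by linear_combination -k6)⟩⟩
    · have := cent_le_cent1 e1 (h.cent_cj k3 k4 ▸ mem_cent1_symm.1 (A_le_K (mu_A _ _)))
      exact absurd (h.mu_in_A.1 (h.mem_A_of (mu_M ..) (mem_cent1_symm.1 this))) hb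
  obtain ⟨a1, a2, h1, h2, k⟩ := k
  obtain ⟨b1, k1⟩ := e4 a1
  obtain ⟨b2, k2⟩ := e4 a2
  have n : ∀ {a b}, a ≠ 0 → mu φ 0 b 0 = g⁻¹ * mu φ a 0 0 * g → b ≠ 0 := by
    rintro a b ha e rfl
    rw [mu_zero, eq_comm, mul_assoc, inv_mul_eq_one, eq_comm, mul_eq_right] at e
    exact ha (h.mu_one.1 e).1
  have := hh_mu (φ := φ) (Units.mk0 (b2 / b1) (div_ne_zero (n h2 k2) (n h1 k1))) 0 b1 0
  rw [Units.val_mk0, div_mul_cancel₀ _ (n h1 k1), mul_zero, k1, k2] at this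
  generalize hh φ _ = y at this
  refine k (g * y * g⁻¹) ?_
  calc _ = g * (y * (g⁻¹ * mu φ a1 0 0 * g) * y⁻¹) * g⁻¹ := by group
    _ = _ := by rw [this]; group

theorem c_zero (w : NW φ) (h2 : cj g (Zs φ) ≠ Zs φ) (e : mu φ a b 0 ∈ cj g (Zs φ)) : a = 0 ∧ b = 0 := by
  by_cases hb : b = 0
  · subst hb
    by_contra k
    exact h2 (h.ti' (mu_Z a) (fun e => k ⟨(h.mu_one.1 e).1, rfl⟩) e)
  · obtain ⟨a', k⟩ := mem_Z.1 (mem_cj.1 e)
    have k1 := ys_mu (φ := φ) (a / (2 * b)) a b 0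
    rw [mul_div_cancel₀ _ (mul_ne_zero h.two hb)] at k1
    simp only [zero_mul, sub_self, add_zero, sub_zero] at k1
    exact absurd (by rw [← k1, k]; group) (w (g⁻¹ * (ys φ (a / (2 * b)))⁻¹) a' b hb)

variable [Finite F]

theorem c_surj (w : NW φ) (h1 : cj g (Zs φ) ≤ Ms φ) (h2 : cj g (Zs φ) ≠ Zs φ) (c : F) :
    ∃ a b, mu φ a b c ∈ cj g (Zs φ) := by
  choose A B C e using fun z : cj g (Zs φ) => mem_M.1 (h1 z.2)
  have i : Function.Injective C := fun z z' k => by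
    have k1 := mul_mem z.2 (inv_mem z'.2)
    rw [← e z, ← e z', mu_inv, mu_mul, k, add_neg_cancel] at k1
    obtain ⟨k2, k3⟩ := h.c_zero w h2 k1
    refine Subtype.ext ?_
    rw [← e z, ← e z', k, add_neg_eq_zero.1 k2, add_neg_eq_zero.1 k3]
  obtain ⟨z, rfl⟩ := ((Nat.bijective_iff_injective_and_card C).2 ⟨i, by rw [card_cj, h.card_Z]⟩).2 c
  exact ⟨_, _, e z ▸ z.2⟩

theorem graph (w : NW φ) (h1 : cj g (Zs φ) ≤ As φ) (h2 : cj g (Zs φ) ≠ Zs φ) : ∃ f, cj g (Zs φ) = Vs φ f 0 := by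
  choose A B e using h.c_surj w (h1.trans A_le_M) h2
  have k : ∀ {a c}, mu φ a 0 c ∈ cj g (Zs φ) → a = A c := fun {a c} k => by
    have k1 := mul_mem k (inv_mem (e c))
    rw [mu_inv, mu_mul, add_neg_cancel] at k1
    exact add_neg_eq_zero.1 (h.c_zero w h2 k1).1
  have e' : ∀ c, mu φ (A c) 0 c ∈ cj g (Zs φ) := fun c => h.mu_in_A.1 (h1 (e c)) ▸ e c
  refine ⟨AddMonoidHom.mk' A fun c c' => (k (by simpa [mu_mul] using mul_mem (e' c) (e' c'))).symm,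
    le_antisymm (fun z hz => ?_) fun z hz => ?_⟩
  · obtain ⟨a, c, rfl⟩ := mem_A.1 (h1 hz)
    exact h.mu_in_V.2 ⟨by simpa using k hz, by simp⟩
  · obtain ⟨c, rfl⟩ := mem_V.1 hz
    simpa using e' c

variable [Finite G]

theorem cls (w : NW φ) (h1 : cj g (Zs φ) ≤ Ms φ) (h2 : cj g (Zs φ) ≠ Zs φ) : ∃ f s, cj g (Zs φ) = Vs φ f s := by
  obtain ⟨a, b, e⟩ := h.c_surj w h1 h2 1
  have e1 : ys φ b * mu φ a b 1 * (ys φ b)⁻¹ ∈ cj (ys φ b * g) (Zs φ) := (cj_mul _ _ _).ge (conj_mem_cj.2 e)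
  rw [ys_mu, one_mul b, sub_self] at e1
  have e2 := h.cent_cj e1 (fun k => one_ne_zero (h.mu_one.1 k).2.2) ▸ mem_cent1_symm.1 (A_le_K (mu_A _ _))
  obtain ⟨f, k⟩ := h.graph w (g := ys φ b * g) (h.A_eq ▸ le_inf ((cj_mul _ _ _).trans_le (cj_le_of_mem_norm
    (P_le_NM (ys_P b)) h1)) (le_cent1_iff.2 e2)) fun k => h2 (by
      rw [cj_mul, cj_eq_iff, cj_of_mem_norm (inv_mem (C_le_N (P_le_C (ys_P b))))] at k; exact k)
  exact ⟨f, -b, by rw [cj_mul, cj_eq_iff, ys_inv, cj_ys_V, zero_add] at k; exact k⟩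

theorem trans_A (h1 : cj g (Zs φ) ≤ As φ) : ∃ k ∈ C[tt φ] ⊓ N(Ms φ), cj k (Zs φ) = cj g (Zs φ) := by
  obtain ⟨n, hn, e⟩ := h.fusZ (h1.trans A_le_M)
  have k : tt φ ∈ cj n φ.range := by
    rw [← h.cent_Z, cj_cent, e]; exact le_cent1_iff.1 (h1.trans A_le_K)
  obtain ⟨x, y, k1⟩ := h.invol (mem_cj.1 k) (fun e => h.tt_ne (by simpa [mul_assoc, inv_mul_eq_one] using e))
    (by simp [mul_assoc, tt_tt])
  have k2 : φ (v 0 x y) ∈ Ps φ := Q_le_P (mem_Q.2 ⟨_, _, _, rfl⟩)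
  refine ⟨n * (φ (v 0 x y))⁻¹, ⟨mem_cent1.2 ?_, Subgroup.mul_mem _ hn (inv_mem (P_le_NM k2))⟩, ?_⟩
  · nth_rewrite 1 [← k1]; group
  · rw [cj_mul, cj_of_mem_norm (inv_mem (C_le_N (P_le_C k2))), e]

theorem pi_idx : PiN {p} (C[tt φ].relIndex (N(Zs φ) ⊓ N(Ms φ))) := by
  have k : ∀ D : Subgroup G, Nat.card ((fun g => g * tt φ * g⁻¹) '' D) = C[tt φ].relIndex D := fun D =>
    card_image_eq_relIndex _ _ _ fun x _ y _ => by
      rw [mem_cent1]; constructor <;> intro e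
      · calc _ = x⁻¹ * (y * tt φ * y⁻¹) * y := by group
          _ = _ := by rw [← e]; group
      · calc _ = x * (tt φ * (x⁻¹ * y)) * y⁻¹ := by group
          _ = _ := by rw [← e]; group
  have : (fun g => g * tt φ * g⁻¹) '' (N(Zs φ) ⊓ N(Ms φ) : Subgroup G) = (fun g => g * tt φ * g⁻¹) '' Qs φ := by
    refine le_antisymm ?_ (Set.image_mono (le_inf (Q_le_P.trans (P_le_C.trans C_le_N)) (Q_le_P.trans P_le_NM)))
    rintro _ ⟨g, hg, rfl⟩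
    obtain ⟨x, y, k1⟩ := h.invol (conj_mem_of_norm (h.norm_C.ge hg.1) tt_C) (fun e => h.tt_ne (by simpa using e))
      (by simp [mul_assoc, tt_tt])
    exact ⟨(φ (v 0 x y))⁻¹, inv_mem (mem_Q.2 ⟨_, _, _, rfl⟩), by beta_reduce; nth_rewrite 1 [← k1]; group⟩
  rw [← k, this, k]
  exact h.pg_Q.relIndex _

theorem count (w : NW φ) : 1 + {f | ∃ g, cj g (Zs φ) = Vs φ f 0}.ncard ∣ Nat.card F - 1 := by
  set Γ := {f | ∃ g, cj g (Zs φ) = Vs φ f 0}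
  have : Finite (F →+ F) := Finite.of_injective _ DFunLike.coe_injective
  have k : ∀ D : Subgroup G, ((fun g => cj g (Zs φ)) '' D).ncard = N(Zs φ).relIndex D := fun D =>
    card_image_eq_relIndex _ _ _ fun x _ y _ => by rw [mem_norm_iff_cj, cj_mul, cj_eq_iff, eq_comm]
  have c1 : N(Zs φ).relIndex N(Ms φ) = Nat.card F * Γ.ncard + 1 := by
    have : (fun g => cj g (Zs φ)) '' N(Ms φ) =
        insert (Zs φ) ((fun e : F × (F →+ F) => Vs φ e.2 e.1) '' (Set.univ ×ˢ Γ)) := by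
      ext X; constructor
      · rintro ⟨g, hg, rfl⟩
        refine or_iff_not_imp_left.2 fun n => ?_
        obtain ⟨f, s, e⟩ := h.cls w (cj_le_of_mem_norm hg Z_le_M) n
        exact ⟨(s, f), ⟨trivial, ys φ (-s) * g, by rw [cj_mul, e, cj_ys_V, add_neg_cancel]⟩, e.symm⟩
      · rintro (rfl | ⟨⟨s, f⟩, ⟨-, g, e⟩, rfl⟩)
        · exact ⟨1, one_mem _, cj_one _⟩
        · have e1 : cj (ys φ s * g) (Zs φ) = Vs φ f s := by rw [cj_mul, e, cj_ys_V, zero_add]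
          obtain ⟨n, hn, e2⟩ := h.fusZ (e1 ▸ V_le_M)
          exact ⟨n, hn, e2.trans e1⟩
    rw [← k, this, Set.ncard_insert_of_notMem (by rintro ⟨_, -, e⟩; exact h.V_ne e),
      Set.ncard_image_of_injective _ fun _ _ e => Prod.ext (h.V_inj e).1 (h.V_inj e).2, Set.ncard_prod,
      Set.ncard_univ]
  have c2 : N(Zs φ).relIndex (C[tt φ] ⊓ N(Ms φ)) = Γ.ncard + 1 := by
    have : (fun g => cj g (Zs φ)) '' (C[tt φ] ⊓ N(Ms φ) : Subgroup G) = insert (Zs φ) ((fun f => Vs φ f 0) '' Γ) := by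
      ext X; constructor
      · rintro ⟨g, hg, rfl⟩
        refine or_iff_not_imp_left.2 fun n => ?_
        obtain ⟨f, e⟩ := h.graph w (cj_le_of_mem_norm (h.K1_le_NA hg) Z_le_A) n
        exact ⟨f, ⟨g, e⟩, e.symm⟩
      · rintro (rfl | ⟨f, ⟨g, e⟩, rfl⟩)
        · exact ⟨1, one_mem _, cj_one _⟩
        · obtain ⟨n, hn, e2⟩ := h.trans_A (e ▸ V_le_A)
          exact ⟨n, hn, e2.trans e⟩
    rw [← k, this, Set.ncard_insert_of_notMem (by rintro ⟨_, -, e⟩; exact h.V_ne e),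
      Set.ncard_image_of_injective _ fun _ _ e => (h.V_inj e).2]
  have c3 := ((h.syl_A w).of_le (le_inf A_le_K (A_le_M.trans le_normalizer)) inf_le_left).not_dvd_relIndex h.pp
    ((A_le_M.trans M_le_C).trans C_le_N)
  have c4 := relIndex_mul_relIndex (C[tt φ] ⊓ (N(Zs φ) ⊓ N(Ms φ))) _ N(Ms φ) inf_le_right inf_le_right
  have c5 := relIndex_mul_relIndex (N(Zs φ) ⊓ (C[tt φ] ⊓ N(Ms φ))) _ N(Ms φ) inf_le_right inf_le_right
  rw [inf_relIndex_right, inf_relIndex_right (N(Zs φ)), c1, inf_left_comm, ← c5, inf_relIndex_right, c2,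
    mul_comm _ (_ + 1)] at c4
  rw [c2] at c3
  have c6 := (PiN.of_not_dvd c3).dvd_of_dvd_mul h.pi_idx.compl_compl ⟨_, c4⟩
  rw [add_comm]
  have c7 : Nat.card F * Γ.ncard + 1 + (Nat.card F - 1) = (Γ.ncard + 1) * Nat.card F := by
    have := (Nat.card_pos (α := F)); rw [add_mul, mul_comm]; omega
  exact (Nat.dvd_add_right c6).1 ⟨_, c7⟩

end HH

end H4.Hy
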