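import Cfsg.Agent.H4.Hy5

/-!
# Hayden's hypothesis: `N(M)/M ≅ GL₂(q)/±1`
-/

set_option autoImplicit false

namespace H4.Hy

open Subgroup H19 Jac Matrix
open scoped MatrixGroups

variable {F : Type*} [Field F] {G : Type*} [Group G]
  {φ : Jac F →* G} {g g' x : G} {a b c a' b' c' s u : F} {R S X : Subgroup G} {p : ℕ} {f f' : F →+ F}

theorem sq_of_nsq [Finite F] (ha : ¬ IsSquare a) (hb : ¬ IsSquare b) : IsSquare (a * b) := by
  classical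
  have := Fintype.ofFinite F
  have h1 : a ≠ 0 := by rintro rfl; exact ha IsSquare.zero
  have h2 : b ≠ 0 := by rintro rfl; exact hb IsSquare.zero
  rw [← quadraticChar_neg_one_iff_not_isSquare] at ha hb
  rw [← quadraticChar_one_iff_isSquare (mul_ne_zero h1 h2), map_mul, ha, hb]; rfl

theorem nsq_neg_one [Finite F] (h : Nat.card F % 4 = 3) : ¬ IsSquare (-1 : F) := by
  have := Fintype.ofFinite F
  rw [FiniteField.isSquare_neg_one_iff, ← Nat.card_eq_fintype_card, h]; simp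

theorem sq_or_neg [Finite F] (h : Nat.card F % 4 = 3) (a : F) : IsSquare a ∨ IsSquare (-a) :=
  or_iff_not_imp_left.2 fun k => neg_one_mul a ▸ sq_of_nsq (nsq_neg_one h) k

theorem card_sq [Finite F] (h : Nat.card F % 4 = 3) :
    #(powMonoidHom 2 : Fˣ →* Fˣ).range = (Nat.card F - 1) / 2 := by
  rw [IsCyclic.card_powMonoidHom_range, Nat.card_units, Nat.gcd_eq_right (by omega)]

def sc (f : F →+ F) (u : F) : F →+ F := f.comp (AddMonoidHom.mulLeft u)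
theorem sc_apply (c : F) : sc f u c = f (u * c) := rfl

theorem cj_hh_V (d : Fˣ) : cj (hh φ d⁻¹) (Vs φ f 0) = Vs φ (sc f (d ^ 2 : Fˣ)) 0 := by
  ext g; rw [mem_cj', mem_V]
  constructor
  · rintro ⟨_, h, rfl⟩; obtain ⟨c, rfl⟩ := mem_V.1 h
    exact ⟨(d⁻¹ : Fˣ) ^ 2 * c, by rw [hh_mu]; simp [sc_apply]⟩
  · rintro ⟨c, rfl⟩; exact ⟨_, mu_V (d ^ 2 * c), by rw [hh_mu]; simp [sc_apply]⟩

variable (φ f x) in
structure St : Prop where
  fsq : ∀ (d : Fˣ) c, f (d ^ 2 * c) = f c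
  cls : ∀ g, cj g (Zs φ) ≤ Ms φ → cj g (Zs φ) = Zs φ ∨ ∃ s, cj g (Zs φ) = Vs φ f s
  xK : x ∈ C[tt φ]
  xN : x ∈ N(Ms φ)
  xZ : cj x (Zs φ) = Vs φ f 0

theorem HH.exists_st [Finite F] [Finite G] (h : HH p φ) (w : NW φ) (hq : Nat.card F % 4 = 3)
    (hn : ¬ N(Ms φ) ≤ N(Zs φ)) : ∃ f x, St φ x f := by
  have k := h.count w
  set Γ := {f | ∃ g, cj g (Zs φ) = Vs φ f 0}
  have : Finite (F →+ F) := Finite.of_injective _ DFunLike.coe_injective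
  have g1 : ∀ {g f s}, cj g (Zs φ) = Vs φ f s → f ∈ Γ := fun {g f s} e =>
    ⟨ys φ (-s) * g, by rw [cj_mul, e, cj_ys_V, add_neg_cancel]⟩
  obtain ⟨n, n1, n2⟩ := SetLike.not_le_iff_exists.1 hn
  obtain ⟨f, s, e⟩ := h.cls w (cj_le_of_mem_norm n1 Z_le_M) (mem_norm_iff_cj.not.1 n2)
  have hf := g1 e
  have g2 : ∀ f ∈ Γ, ∀ d : Fˣ, sc f (d ^ 2 : Fˣ) ∈ Γ := fun f ⟨g, e⟩ d => ⟨hh φ d⁻¹ * g, by rw [cj_mul, e, cj_hh_V]⟩
  let O : (F →+ F) → Set (F →+ F) := fun f => (fun u : Fˣ => sc f u) '' (powMonoidHom 2 : Fˣ →* Fˣ).range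
  have o1 : ∀ f ∈ Γ, O f ⊆ Γ := by rintro f hf _ ⟨_, ⟨d, rfl⟩, rfl⟩; exact g2 f hf d
  have o2 : ∀ f ≠ 0, (O f).ncard = (Nat.card F - 1) / 2 := fun f hf => by
    rw [Set.ncard_image_of_injective _ fun u u' e => ?_, ← card_sq hq]; rfl
    by_contra k
    have k1 : (u : F) - u' ≠ 0 := sub_ne_zero.2 (Units.val_injective.ne k)
    refine hf (AddMonoidHom.ext fun c => ?_)
    have := DFunLike.congr_fun e (c / (u - u'))
    rw [sc_apply, sc_apply, ← sub_eq_zero, ← map_sub, ← sub_mul, mul_div_cancel₀ _ k1] at this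
    exact this
  have r1 : Γ.ncard = 1 := by
    by_cases h0 : ∀ f ∈ Γ, f = 0
    · exact Set.ncard_eq_one.2 ⟨0, Set.eq_singleton_iff_unique_mem.2 ⟨h0 f hf ▸ hf, h0⟩⟩
    push Not at h0
    obtain ⟨f1, h1, h2⟩ := h0
    have l1 := Set.ncard_le_ncard (o1 f1 h1) (Set.toFinite _)
    rw [o2 f1 h2] at l1
    obtain ⟨m, hm⟩ := k
    obtain rfl : m = 1 := by
      rcases m with _ | _ | m
      · omega
      · rfl
      · rw [mul_add, mul_add] at hm; omega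
    by_contra n
    have l2 : ¬ Γ ⊆ insert 0 (O f1) := fun l => by
      have := (Set.ncard_le_ncard l (Set.toFinite _)).trans (Set.ncard_insert_le _ _)
      rw [o2 f1 h2] at this; omega
    obtain ⟨f2, h3, h4⟩ := Set.not_subset.1 l2
    rw [Set.mem_insert_iff, not_or] at h4
    have l3 : Disjoint (O f1) (O f2) := by
      rw [Set.disjoint_left]
      rintro _ ⟨u, hu, rfl⟩ ⟨u', hu', e⟩
      refine h4.2 ⟨u * u'⁻¹, mul_mem hu (inv_mem hu'), AddMonoidHom.ext fun c => ?_⟩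
      have := DFunLike.congr_fun e ((u'⁻¹ : Fˣ) * c)
      simpa [sc_apply, mul_assoc] using this.symm
    have l4 := Set.ncard_le_ncard (Set.union_subset (o1 f1 h1) (o1 f2 h3)) (Set.toFinite _)
    rw [Set.ncard_union_eq l3, o2 f1 h2, o2 f2 h4.1] at l4
    omega
  obtain ⟨f0, e0⟩ := Set.ncard_eq_one.1 r1
  have u : ∀ f' ∈ Γ, f' = f := fun f' h' => (e0.le h').trans (e0.le hf).symm
  obtain ⟨g, e1⟩ := hf
  obtain ⟨x, hx, e2⟩ := h.trans_A (e1 ▸ V_le_A)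
  refine ⟨f, x, fun d c => ?_, fun g k => or_iff_not_imp_left.2 fun n => ?_, hx.1, hx.2, e2.trans e1⟩
  · simpa [sc_apply] using DFunLike.congr_fun (u _ (g2 f ⟨g, e1⟩ d)) c
  · obtain ⟨f', s, e⟩ := h.cls w k n
    exact ⟨s, u _ (g1 e) ▸ e⟩

variable (φ f) in
def nu (a b c : F) : G := mu φ (a + f c) b c

theorem nu_mul (a b c a' b' c' : F) : nu φ f a b c * nu φ f a' b' c' = nu φ f (a + a') (b + b') (c + c') := by
  rw [nu, nu, nu, mu_mul, map_add]; congr 1; ring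
theorem nu_z (a b : F) : nu φ f a b 0 = mu φ a b 0 := by rw [nu, map_zero, add_zero]
theorem nu_M (a b c : F) : nu φ f a b c ∈ Ms φ := mu_M ..
theorem mem_M' : g ∈ Ms φ ↔ ∃ a b c, nu φ f a b c = g :=
  ⟨fun h => let ⟨a, b, c, e⟩ := mem_M.1 h; ⟨a - f c, b, c, by rw [nu, sub_add_cancel, e]⟩,
    by rintro ⟨a, b, c, rfl⟩; exact nu_M ..⟩
theorem mem_V' : g ∈ Vs φ f s ↔ ∃ c, nu φ f (c * s ^ 2) (-(c * s)) c = g := by simp [mem_V, nu, add_comm]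
theorem mem_V0 : g ∈ Vs φ f 0 ↔ ∃ c, nu φ f 0 0 c = g := by simp [mem_V']
theorem nu_V (c : F) : nu φ f 0 0 c ∈ Vs φ f 0 := mem_V0.2 ⟨c, rfl⟩
theorem nu_split (a b c : F) : nu φ f a b c = mu φ a 0 0 * mu φ 0 b 0 * nu φ f 0 0 c := by
  rw [nu, nu, mu_mul, mu_mul]; simp
theorem HH.nu_inj (h : HH p φ) : nu φ f a b c = nu φ f a' b' c' ↔ a = a' ∧ b = b' ∧ c = c' := by
  rw [nu, nu, h.mu_inj]
  exact ⟨by rintro ⟨k, rfl, rfl⟩; exact ⟨add_right_cancel k, rfl, rfl⟩, by rintro ⟨rfl, rfl, rfl⟩; simp⟩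

variable (φ f) in
/-- `g` acts on `M` as the matrix `A` on symmetric matrices -/
def Ac (g : G) (A : Matrix (Fin 2) (Fin 2) F) : Prop := ∀ a b c, g * nu φ f a b c * g⁻¹ =
  nu φ f (A 0 0 ^ 2 * a + 2 * A 0 0 * A 0 1 * b + A 0 1 ^ 2 * c)
    (A 0 0 * A 1 0 * a + (A 0 0 * A 1 1 + A 0 1 * A 1 0) * b + A 0 1 * A 1 1 * c)
    (A 1 0 ^ 2 * a + 2 * A 1 0 * A 1 1 * b + A 1 1 ^ 2 * c)

variable {A B : Matrix (Fin 2) (Fin 2) F}

theorem Ac.mul (h : Ac φ f g A) (k : Ac φ f g' B) : Ac φ f (g * g') (A * B) := fun a b c => by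
  rw [conj_mul', k, h]; congr 1 <;> simp only [mul_apply, Fin.sum_univ_two] <;> ring
where conj_mul' {y : G} : g * g' * y * (g * g')⁻¹ = g * (g' * y * g'⁻¹) * g⁻¹ := by group

theorem Ac.trans' (h : Ac φ f g A) (e : A = B) : Ac φ f g B := e ▸ h
theorem ac_cent (h : g ∈ C(Ms φ)) : Ac φ f g 1 := fun a b c => by
  rw [← h _ (nu_M a b c)]; simp
theorem ac_one : Ac φ f 1 1 := ac_cent (one_mem _)
theorem Ac.cent (h : Ac φ f g 1) : g ∈ C(Ms φ) := fun y hy => by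
  obtain ⟨a, b, c, rfl⟩ := (mem_M' (f := f)).1 hy
  have := h a b c
  simp at this
  rw [eq_comm, ← mul_inv_eq_iff_eq_mul, this]
theorem Ac.neg (h : Ac φ f g A) : Ac φ f g (-A) := fun a b c => by rw [h]; simp
theorem Ac.inv (h : Ac φ f g A) (e : A * B = 1) : Ac φ f g⁻¹ B := fun a b c => by
  rw [inv_inv, mul_assoc, inv_mul_eq_iff_eq_mul, eq_comm, ← mul_inv_eq_iff_eq_mul, h]
  have e1 := congrFun (congrFun e 0) 0; have e2 := congrFun (congrFun e 0) 1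
  have e3 := congrFun (congrFun e 1) 0; have e4 := congrFun (congrFun e 1) 1
  simp [mul_apply, Fin.sum_univ_two] at e1 e2 e3 e4
  congr 1
  · linear_combination (a * (A 0 0 * B 0 0 + A 0 1 * B 1 0 + 1) + 2 * b * (A 0 0 * B 0 1 + A 0 1 * B 1 1)) * e1 +
      (2 * b + c * (A 0 0 * B 0 1 + A 0 1 * B 1 1)) * e2
  · linear_combination (a * (A 0 0 * B 0 0 + A 0 1 * B 1 0) + b * (A 0 0 * B 0 1 + A 0 1 * B 1 1)) * e3 +
      (c * (A 1 0 * B 0 1 + A 1 1 * B 1 1)) * e2 + b * (A 1 0 * B 0 1 + A 1 1 * B 1 1) * e1 + b * e4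
  · linear_combination (c * (A 1 0 * B 0 1 + A 1 1 * B 1 1 + 1) + 2 * b * (A 1 0 * B 0 0 + A 1 1 * B 1 0)) * e4 +
      (2 * b + a * (A 1 0 * B 0 0 + A 1 1 * B 1 0)) * e3
theorem Ac.eq (h : Ac φ f g A) (k : Ac φ f g' A) {y : G} (hy : y ∈ Ms φ) : g * y * g⁻¹ = g' * y * g'⁻¹ := by
  obtain ⟨a, b, c, rfl⟩ := (mem_M' (f := f)).1 hy
  rw [h, k]
theorem Ac.norm [Finite G] (h : Ac φ f g A) : g ∈ N(Ms φ) := mem_norm_of_cj_le fun _ k => by
  obtain ⟨y, k', rfl⟩ := mem_cj'.1 k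
  obtain ⟨a, b, c, rfl⟩ := (mem_M' (f := f)).1 k'
  rw [h]; exact nu_M ..
theorem HH.ac_one (h : HH p φ) (k : Ac φ f 1 A) : A = 1 ∨ A = -1 := by
  have h1 := k 1 0 0; have h2 := k 0 1 0; have h3 := k 0 0 1
  simp only [one_mul, inv_one, mul_one, h.nu_inj, mul_zero, add_zero, zero_add] at h1 h2 h3
  have e1 : A 0 1 = 0 := pow_eq_zero_iff two_ne_zero |>.1 h3.1.symm
  have e2 : A 1 0 = 0 := pow_eq_zero_iff two_ne_zero |>.1 h1.2.2.symm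
  rcases mul_self_eq_one_iff.1 ((sq _).symm.trans h1.1.symm) with e | e
  · have : A 1 1 = 1 := by linear_combination -h2.2.1 - A 1 1 * e - A 1 0 * e1
    left; ext i j; fin_cases i <;> fin_cases j <;> simp [e, e1, e2, this]
  · have : A 1 1 = -1 := by linear_combination h2.2.1 + A 1 1 * e + A 1 0 * e1
    right; ext i j; fin_cases i <;> fin_cases j <;> simp [e, e1, e2, this]
theorem ac_ys (s : F) : Ac φ f (ys φ s) !![1, -s; 0, 1] := fun a b c => by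
  rw [nu, nu, ys_mu]; simp; congr 1 <;> ring

namespace St
variable (k : St φ x f)
include k

theorem ac_j {j : Jac F} (hj : j.r = 0) : Ac φ f (φ j) !![1, -(j.p * j.y); 0, j.p] := fun a b c => by
  have : j.p ≠ 0 := fun e => by simpa [e, hj] using j.det
  have e := k.fsq (Units.mk0 _ this) c
  rw [Units.val_mk0] at e
  rw [nu, nu, conj_mu hj]; simp [e]; congr 1 <;> ring
theorem ac_hh (d : Fˣ) : Ac φ f (hh φ d) !![1, 0; 0, d] := by simpa [hh] using k.ac_j (j := Jac.h d) rfl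

variable [Finite G] (h : HH p φ)
include h

theorem xA : x ∈ N(As φ) := h.K1_le_NA ⟨k.xK, k.xN⟩
theorem xW : x ∈ N(Ws φ) := h.K1_le_NW ⟨k.xK, k.xN⟩
omit [Finite G] in
theorem cls_A (e : cj g (Zs φ) ≤ As φ) : cj g (Zs φ) = Zs φ ∨ cj g (Zs φ) = Vs φ f 0 :=
  (k.cls g (e.trans A_le_M)).imp_right fun ⟨s, e1⟩ => by
    have := h.mu_in_A.1 (e (e1.ge (mu_V 1)))
    rw [e1]; congr; simpa using this
theorem xV : cj x (Vs φ f 0) = Zs φ := by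
  rcases k.cls_A h (cj_le_of_mem_norm (inv_mem (k.xA h)) Z_le_A) with e | e
  · exact absurd (by rw [← k.xZ]; nth_rewrite 1 [← e]; rw [cj_cj_inv]) (h.V_ne (f := f) (s := 0))
  · rw [← e, cj_cj_inv]
omit [Finite G] in
theorem rk1 (e : nu φ f a b c ∈ cj g (Zs φ)) : a * c = b ^ 2 := by
  by_cases n : nu φ f a b c = 1
  · obtain ⟨rfl, rfl, rfl⟩ := h.nu_inj.1 (n.trans (mu_zero.symm.trans (nu_z (f := f) 0 0).symm)); simp
  rcases k.cls g (h.cent_M ▸ cents_symm (h.cent_cj e n ▸ M_cm.trans (cent_le_cent1 (nu_M ..)))) with e1 | ⟨s, e1⟩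
  · obtain ⟨rfl, rfl⟩ := h.mu_in_Z.1 (e1 ▸ e); simp
  · obtain ⟨c', e2⟩ := mem_V'.1 (e1 ▸ e)
    obtain ⟨rfl, rfl, rfl⟩ := h.nu_inj.1 e2; ring

variable [Finite F]

theorem ac_B (h1 : g ∈ N(Zs φ)) (h2 : g ∈ C[tt φ]) (h3 : g ∈ N(Ms φ)) (h4 : g ∈ C(Vs φ f 0)) :
    ∃ l : F, l ≠ 0 ∧ Ac φ f g !![l, 0; 0, 1] := by
  obtain ⟨a, y1, y, e⟩ := mem_Q.1 (conj_mem_of_norm (h.N_le_NQ h1) (ys_Q 1))
  have k1 := k.ac_j (j := v a y1 y) rfl
  rw [e] at k1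
  choose α hα using fun a => mem_Z.1 (conj_mem_of_norm h1 (mu_Z a))
  choose γ hγ using fun b => mem_W.1 (conj_mem_of_norm (h.K1_le_NW ⟨h2, h3⟩) (mu_W b))
  have k2 : ∀ a b c, g * nu φ f a b c * g⁻¹ = nu φ f (α a) (γ b) c := fun a b c => by
    rw [nu_split, nu_split (α a), hα, hγ]
    calc _ = g * mu φ a 0 0 * mu φ 0 b 0 * g⁻¹ * (g * nu φ f 0 0 c * g⁻¹) := by group
      _ = _ := by rw [← h4 _ (nu_V c)]; group
  have k3 : ∀ c, α c = y ^ 2 * c ∧ γ (-c) = -(y * c) := fun c => by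
    have e1 := k1 0 0 c
    have e2 := ac_ys (φ := φ) (f := f) 1 0 0 c
    simp at e1 e2
    have : g * (ys φ 1 * nu φ f 0 0 c * (ys φ 1)⁻¹) * g⁻¹ = nu φ f (y ^ 2 * c) (-(y * c)) c := by
      rw [← e1]
      calc _ = g * ys φ 1 * g⁻¹ * (g * nu φ f 0 0 c * g⁻¹) * (g * (ys φ 1)⁻¹ * g⁻¹) := by group
        _ = _ := by rw [← h4 _ (nu_V c)]; group
    rw [e2, k2, h.nu_inj] at this
    exact ⟨this.1, this.2.1⟩
  refine ⟨y, fun e => ?_, fun a b c => ?_⟩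
  · have := hα 1
    rw [(k3 1).1, e] at this
    simp only [mul_one, sq, mu_zero, mul_zero] at this
    exact one_ne_zero (h.mu_one.1 (by simpa using this.symm)).1
  · have := (k3 (-b)).2
    rw [neg_neg] at this
    rw [k2, (k3 a).1, this]; simp

theorem hx_N (d : Fˣ) : x * hh φ d * x⁻¹ ∈ N(Zs φ) := by
  rw [← k.xV h, ← cj_norm, conj_mem_cj, mem_norm_iff_cj, ← inv_inv d, cj_hh_V]
  congr; ext c; simpa [sc_apply] using k.fsq d⁻¹ c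

theorem ac_hx (l : F) (hl : l ≠ 0) : ∃ d, Ac φ f (x * hh φ d * x⁻¹) !![l, 0; 0, 1] := by
  choose L h1 h2 using fun d => k.ac_B h (k.hx_N h d) (conj_mem_of_norm (le_normalizer k.xK) (hh_K d))
    (conj_mem_of_norm (le_normalizer k.xN) (hh_NM d))
    (by rw [← k.xZ, ← cj_cent, conj_mem_cj]; exact C_le_CZ (hh_C d))
  have i : Function.Injective fun d => Units.mk0 _ (h1 d) := fun d d' e => by
    have e1 : L d = L d' := congrArg Units.val e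
    have := (h2 d).eq (e1 ▸ h2 d') (conj_mem_of_norm k.xN (mu_M 0 1 0))
    have e2 : hh φ d * mu φ 0 1 0 * (hh φ d)⁻¹ = hh φ d' * mu φ 0 1 0 * (hh φ d')⁻¹ := by
      simpa [← mul_assoc] using (by simpa [mul_assoc] using this : hh φ d * (mu φ 0 1 0 * ((hh φ d)⁻¹ * x⁻¹)) =
        hh φ d' * (mu φ 0 1 0 * ((hh φ d')⁻¹ * x⁻¹)))
    rw [hh_mu, hh_mu, h.mu_inj] at e2
    exact Units.ext (by simpa using e2.2.1)
  obtain ⟨d, e⟩ := (Finite.injective_iff_surjective.1 i) (Units.mk0 l hl)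
  have e' : L d = l := congrArg Units.val e
  exact ⟨d, e' ▸ h2 d⟩

omit [Finite F] in
theorem ac_low : ∃ e : F, e ≠ 0 ∧ Ac φ f (x * ys φ 1 * x⁻¹) !![1, 0; e, 1] := by
  set l := x * ys φ 1 * x⁻¹ with hl
  have cj' : ∀ y, l * (x * y * x⁻¹) * l⁻¹ = x * (ys φ 1 * y * (ys φ 1)⁻¹) * x⁻¹ := fun y => by rw [hl]; group
  have zv : ∀ a, ∃ c, x * mu φ a 0 0 * x⁻¹ = nu φ f 0 0 c := fun a =>
    let ⟨c, e⟩ := mem_V0.1 (k.xZ.le (conj_mem_cj.2 (mu_Z a))); ⟨c, e.symm⟩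
  have ww : ∀ a, ∃ c, x * mu φ 0 a 0 * x⁻¹ = mu φ 0 c 0 := fun a =>
    let ⟨c, e⟩ := mem_W.1 (conj_mem_of_norm (k.xW h) (mu_W a)); ⟨c, e.symm⟩
  have k1 : ∀ c, l * nu φ f 0 0 c * l⁻¹ = nu φ f 0 0 c := fun c => by
    obtain ⟨y, hy, e⟩ := mem_cj'.1 (k.xZ.ge (nu_V c))
    rw [← e, cj', ← C_le_CZ (P_le_C (ys_P 1)) y hy, mul_inv_cancel_right]
  have k2 : ∀ b, ∃ c, l * mu φ 0 b 0 * l⁻¹ = nu φ f 0 b c := fun b => by
    obtain ⟨b', e⟩ := mem_W.1 (conj_mem_of_norm' (k.xW h) (mu_W b))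
    have e1 : mu φ 0 b 0 = x * mu φ 0 b' 0 * x⁻¹ := by rw [e]; group
    obtain ⟨c, e2⟩ := zv (-(2 * b'))
    refine ⟨c, ?_⟩
    rw [nu_split, mu_zero, one_mul, ← e2, e1, cj', ys_mu, conj_mul, mu_mul]; simp
  have k3 : ∀ a, ∃ b c, l * mu φ a 0 0 * l⁻¹ = nu φ f a b c := fun a => by
    obtain ⟨y, hy, e⟩ := mem_cj'.1 ((k.xV h).ge (mu_Z a))
    obtain ⟨c, rfl⟩ := mem_V0.1 hy
    obtain ⟨c', e2⟩ := zv c
    obtain ⟨b', e3⟩ := ww (-c)
    refine ⟨b', c', ?_⟩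
    rw [nu_split, ← e, ← e2, ← e3, cj', ac_ys, conj_mul, conj_mul, ← nu_z (f := f), ← nu_z (f := f), nu_mul, nu_mul]
    simp
  choose τ hτ using k2
  choose β γ hβ using k3
  have k4 : ∀ a b c, l * nu φ f a b c * l⁻¹ = nu φ f a (β a + b) (γ a + τ b + c) := fun a b c => by
    rw [nu_split, ← conj_mul, ← conj_mul, k1, hτ, hβ, nu_mul, nu_mul]; simp
  have lN : l ∈ N(Ms φ) := conj_mem_of_norm (le_normalizer k.xN) (P_le_NM (ys_P 1))
  obtain ⟨s, hs⟩ := (k.cls l (cj_le_of_mem_norm lN Z_le_M)).resolve_left fun e => by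
    rw [hl, cj_mul, cj_mul, ← k.xV h, cj_inv_cj, cj_ys_V, cj_inj] at e
    simpa using (h.V_inj e).1
  have k5 : ∀ a, a = γ a * s ^ 2 ∧ β a = -(γ a * s) := fun a => by
    obtain ⟨c, e⟩ := mem_V'.1 (hs.le (conj_mem_cj.2 (mu_Z a)))
    rw [hβ, h.nu_inj] at e
    rw [← e.2.2]; exact ⟨e.1.symm, e.2.1.symm⟩
  have s0 : s ≠ 0 := by rintro rfl; simpa using (k5 1).1
  have k6 : ∀ a, γ a = a / s ^ 2 := fun a => by rw [eq_div_iff (pow_ne_zero _ s0), ← (k5 a).1]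
  have k7 : ∀ a, β a = -(a / s) := fun a => by rw [(k5 a).2, k6]; field_simp
  have k8 : ∀ b, τ b = -(2 * b / s) := fun b => by
    have : nu φ f (1 * (-b) ^ 2) (-(1 * -b)) 1 ∈ cj (ys φ (-b) * x) (Zs φ) := by
      rw [cj_mul, k.xZ, cj_ys_V, zero_add]; exact mem_V'.2 ⟨1, rfl⟩
    have e := (cj_mul l _ _).ge (conj_mem_cj.2 this)
    rw [k4] at e
    have e1 := k.rk1 h e
    rw [k6, k7] at e1
    by_cases hb : b = 0
    · have := hτ 0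
      rw [mu_zero, mul_one, mul_inv_cancel, ← mu_zero (φ := φ), ← nu_z (f := f), h.nu_inj] at this
      rw [hb, ← this.2.2]; simp
    · refine mul_left_cancel₀ (pow_ne_zero 2 hb) ?_
      rw [show τ (-(1 * -b)) = τ b by simp] at e1
      linear_combination e1
  refine ⟨-s⁻¹, by simpa using s0, fun a b c => ?_⟩
  rw [k4, k6, k7, k8]; simp; congr 1 <;> field_simp <;> ring

theorem ac_upper (h1 : a ≠ 0) (h2 : c ≠ 0) : ∃ g, Ac φ f g !![a, b; 0, c] := by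
  obtain ⟨d, e⟩ := k.ac_hx h a h1
  refine ⟨_, ((ac_ys (-(b / c))).mul (k.ac_hh (Units.mk0 c h2))).mul e |>.trans' ?_⟩
  ext i j; fin_cases i <;> fin_cases j <;> simp [h2]

theorem ac_all (hA : A.det ≠ 0) : ∃ g, Ac φ f g A := by
  rw [det_fin_two] at hA
  by_cases hr : A 1 0 = 0
  · rw [hr, mul_zero, sub_zero] at hA
    obtain ⟨g, e⟩ := k.ac_upper h (b := A 0 1) (left_ne_zero_of_mul hA) (right_ne_zero_of_mul hA)
    exact ⟨g, e.trans' (by ext i j; fin_cases i <;> fin_cases j <;> simp [hr])⟩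
  obtain ⟨e, e0, he⟩ := k.ac_low h
  obtain ⟨g, hg⟩ := k.ac_upper h (a := A 1 0 / e) (b := A 0 1 - (A 0 0 / A 1 0 - e⁻¹) * A 1 1)
    (c := e * (A 0 0 * A 1 1 - A 0 1 * A 1 0) / A 1 0) (div_ne_zero hr e0) (div_ne_zero (mul_ne_zero e0 hA) hr)
  refine ⟨_, (((ac_ys (-(A 0 0 / A 1 0 - e⁻¹))).mul he).mul hg).trans' ?_⟩
  ext i j; fin_cases i <;> fin_cases j <;> simp <;> field_simp <;> ring

theorem N_eq (nc : NC φ) (h1 : g ∈ N(Zs φ)) : ∃ d, (x * hh φ d * x⁻¹)⁻¹ * g ∈ φ.range := by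
  have k1 : ∀ l ≠ 0, ∃ d, ∀ a, (x * hh φ d * x⁻¹) * mu φ a 0 0 * (x * hh φ d * x⁻¹)⁻¹ = mu φ (l * l * a) 0 0 :=
    fun l hl => by
      obtain ⟨d, e⟩ := k.ac_hx h l hl
      exact ⟨d, fun a => by simpa [nu_z, sq] using e a 0 0⟩
  obtain ⟨e, he⟩ := mem_Z.1 (conj_mem_of_norm h1 (mu_Z 1))
  have e0 : e ≠ 0 := by
    rintro rfl; exact one_ne_zero (h.mu_one.1 (by simpa [mu_zero] using he.symm)).1
  by_cases hs : IsSquare e
  · obtain ⟨l, rfl⟩ := hs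
    obtain ⟨d, hd⟩ := k1 l (left_ne_zero_of_mul e0)
    refine ⟨d, h.cent' one_ne_zero ▸ mem_cent1.2 ?_⟩
    have := hd 1
    rw [mul_one, he] at this
    generalize x * hh φ d * x⁻¹ = y at this
    calc _ = y⁻¹ * (g * mu φ 1 0 0 * g⁻¹) * g := by group
      _ = _ := by rw [← this]; group
  have k2 : ∀ a ≠ 0, IsConj (mu φ 1 0 0) (mu φ a 0 0) := fun a ha => by
    by_cases ha' : IsSquare a
    · obtain ⟨l, rfl⟩ := ha'
      obtain ⟨d, hd⟩ := k1 l (left_ne_zero_of_mul ha)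
      exact isConj_iff.2 ⟨_, by rw [hd, mul_one]⟩
    · obtain ⟨l, hl⟩ := sq_of_nsq ha' hs
      have l0 : l ≠ 0 := left_ne_zero_of_mul (hl ▸ mul_ne_zero ha e0)
      obtain ⟨d, hd⟩ := k1 (l / e) (div_ne_zero l0 e0)
      refine (isConj_iff.2 ⟨g, he.symm⟩).trans (isConj_iff.2 ⟨_, (hd e).trans ?_⟩)
      congr 1; field_simp; linear_combination -hl
  obtain ⟨a, b, ha, hb, n⟩ := nc
  obtain ⟨c, hc⟩ := isConj_iff.1 ((k2 a ha).symm.trans (k2 b hb))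
  exact absurd hc (n c)

theorem ac_N2 (nc : NC φ) (h1 : g ∈ N(Ms φ)) : ∃ A : Matrix (Fin 2) (Fin 2) F, A.det ≠ 0 ∧ Ac φ f g A := by
  have k1 : ∀ g ∈ N(Ms φ), g ∈ N(Zs φ) → ∃ A : Matrix (Fin 2) (Fin 2) F, A.det ≠ 0 ∧ Ac φ f g A := fun g h1 h2 => by
    obtain ⟨d, j, e⟩ := k.N_eq h nc h2
    have e1 := conj_mem_of_norm (le_normalizer k.xN) (hh_NM (φ := φ) d)
    obtain ⟨l, l0, hl⟩ := k.ac_B h (k.hx_N h d) (conj_mem_of_norm (le_normalizer k.xK) (hh_K d)) e1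
      (by rw [← k.xZ, ← cj_cent, conj_mem_cj]; exact C_le_CZ (hh_C d))
    have hj := h.r_of_NM (e ▸ mul_mem (inv_mem e1) h1)
    have := hl.mul (k.ac_j hj)
    rw [e, mul_inv_cancel_left] at this
    exact ⟨_, by simpa [l0] using fun e => by simpa [e, hj] using j.det, this⟩
  rcases k.cls g (cj_le_of_mem_norm h1 Z_le_M) with e | ⟨s, e⟩
  · exact k1 g h1 (mem_norm_iff_cj.2 e)
  obtain ⟨y, hy⟩ := k.ac_all h (A := !![-s, 1; 1, 0]) (by simp)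
  have e1 : y * mu φ 1 0 0 * y⁻¹ ∈ cj g (Zs φ) := by
    rw [e, ← nu_z (f := f), hy]; exact mem_V'.2 ⟨1, by simp⟩
  have e2 := h.ti2 (conj_mem_cj.2 (mu_Z 1)) (fun e => one_ne_zero (h.mu_one.1 (by simpa using e)).1) e1
  obtain ⟨A, h2, h3⟩ := k1 (y⁻¹ * g) (mul_mem (inv_mem hy.norm) h1) (by rw [mem_norm_iff_cj, cj_mul, e2, cj_inv_cj])
  have := hy.mul h3
  rw [mul_inv_cancel_left] at this
  exact ⟨_, by rw [det_mul]; simpa using h2, this⟩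

end St

end H4.Hy
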