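import Cfsg.Agent.H4.Hy6
import Cfsg.Agent.S0051

/-!
# Hayden's hypothesis: the complement of `M` in `N(M)`
-/

set_option autoImplicit false

namespace H4.Hy

open Subgroup H19 Jac Matrix
open scoped MatrixGroups

theorem equiv_of_graph {A B : Type*} [Group A] [Group B] (Γ : Subgroup (A × B)) (t1 : ∀ a, ∃ b, (a, b) ∈ Γ)
    (t2 : ∀ b, ∃ a, (a, b) ∈ Γ) (k1 : ∀ b, (1, b) ∈ Γ → b = 1) (k2 : ∀ a, (a, 1) ∈ Γ → a = 1) : Nonempty (A ≃* B) :=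
  ⟨(MulEquiv.ofBijective ((MonoidHom.fst A B).comp Γ.subtype) ⟨(injective_iff_map_eq_one _).2 (by
      rintro ⟨⟨a, b⟩, h⟩ (rfl : a = 1); exact Subtype.ext (Prod.ext rfl (k1 b h))),
      fun a => let ⟨b, h⟩ := t1 a; ⟨⟨_, h⟩, rfl⟩⟩).symm.trans
    (MulEquiv.ofBijective ((MonoidHom.snd A B).comp Γ.subtype) ⟨(injective_iff_map_eq_one _).2 (by
      rintro ⟨⟨a, b⟩, h⟩ (rfl : b = 1); exact Subtype.ext (Prod.ext (k2 a h) rfl)),
      fun a => let ⟨b, h⟩ := t2 a; ⟨⟨_, h⟩, rfl⟩⟩)⟩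

variable {F : Type*} [Field F] [Finite F] {G : Type*} [Group G] [Finite G]
  {φ : Jac F →* G} {g x : G} {p : ℕ} {f : F →+ F}

theorem exists_kappa (hq : Nat.card F % 4 = 3) :
    ∃ κ : GL (Fin 2) F →* ProjGenLinGroup (Fin 2) F × Multiplicative (ZMod ((Nat.card F - 1) / 2)),
      Function.Surjective κ ∧ ∀ A, κ A = 1 ↔ A.1 = 1 ∨ A.1 = -1 := by
  let e := zmodCyclicMulEquiv (inferInstance : IsCyclic (powMonoidHom 2 : Fˣ →* Fˣ).range)
  rw [card_sq hq] at e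
  let δ := (powMonoidHom 2 : Fˣ →* Fˣ).rangeRestrict.comp (GeneralLinearGroup.det : GL (Fin 2) F →* Fˣ)
  refine ⟨ProjGenLinGroup.mk.prod (e.symm.toMonoidHom.comp δ), fun ⟨B, y⟩ => ?_, fun A => ?_⟩
  · obtain ⟨B, rfl⟩ := ProjGenLinGroup.mk_surjective B
    obtain ⟨⟨_, u, rfl⟩, rfl⟩ := e.symm.surjective y
    have : ∃ c : Fˣ, (c ^ 2 * GeneralLinearGroup.det B) ^ 2 = u ^ 2 := by
      generalize GeneralLinearGroup.det B = b
      rcases sq_or_neg hq (u / b : Fˣ) with ⟨c, hc⟩ | ⟨c, hc⟩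
      all_goals
        have c0 : c ≠ 0 := by rintro rfl; simp at hc
        refine ⟨Units.mk0 c c0, Units.ext ?_⟩
        simp only [Units.val_pow_eq_pow_val, Units.val_mul, Units.val_mk0, sq c, ← hc, Units.val_div_eq_div_val]
        field_simp
    obtain ⟨c, hc⟩ := this
    refine ⟨B * GeneralLinearGroup.scalar _ c, Prod.ext (by simp) (congrArg e.symm (Subtype.ext ?_))⟩
    change (GeneralLinearGroup.det _) ^ 2 = u ^ 2
    rw [← hc, map_mul, mul_comm]; congr 2; ext; simp [GeneralLinearGroup.scalar]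
  · rw [MonoidHom.prod_apply, Prod.mk_eq_one, ProjGenLinGroup.mk_eq_one,
      GeneralLinearGroup.mem_center_iff_val_mem_range_scalar, MonoidHom.comp_apply, MulEquiv.coe_toMonoidHom,
      map_eq_one_iff _ e.symm.injective, Subtype.ext_iff, Units.ext_iff]
    change _ ∧ A.1.det ^ 2 = 1 ↔ _
    constructor
    · rintro ⟨⟨c, hc⟩, h⟩
      rw [← hc] at h ⊢
      simp only [scalar_apply, det_diagonal, Finset.prod_const, Finset.card_univ, Fintype.card_fin] at h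
      rcases sq_eq_one_iff_of_ne_zero_or h with k | k
      · rcases sq_eq_one_iff_of_ne_zero_or k with rfl | rfl
        · simp
        · exact .inr (map_neg (scalar (Fin 2)) 1)
      · exact absurd ⟨c, by rw [← k, sq]⟩ (nsq_neg_one hq)
    · rintro (h | h) <;> rw [h]
      · exact ⟨⟨1, by simp⟩, by simp⟩
      · exact ⟨⟨-1, by rw [map_neg, map_one]⟩, by simp [det_neg]⟩
where sq_eq_one_iff_of_ne_zero_or {a : F} (h : a ^ 2 = 1) : a = 1 ∨ a = -1 := mul_self_eq_one_iff.1 (sq a ▸ h)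

variable (φ) in
def Es : Subgroup G := Subgroup.ofDiv {g | ∃ s, ys φ s = g} ⟨1, 0, ys_zero⟩ (by
    rintro _ ⟨a, rfl⟩ _ ⟨a', rfl⟩
    exact ⟨_, by rw [ys_inv, ys_mul]⟩)

omit [Finite F] [Finite G] in
theorem mem_E : g ∈ Es φ ↔ ∃ s, ys φ s = g := Iff.rfl

omit [Finite F] [Finite G] in
theorem HH.ys_M (h : HH p φ) {s : F} (k : ys φ s ∈ Ms φ) : s = 0 := by
  obtain ⟨a, b, c, e⟩ := mem_M.1 k
  simpa using (congrArg Jac.y (h.inj e)).symm

theorem HH.exists_compl (h : HH p φ) : ∃ J : Subgroup G, Sdprod (Ms φ) J N(Ms φ) := by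
  have := (normalIn_norm (Ms φ)).subgroupOf
  have : IsMulCommutative ((Ms φ).subgroupOf N(Ms φ)) := ⟨⟨fun a b => Subtype.ext (Subtype.ext
    (mul_comm_of_comm M_ab a.2 b.2))⟩⟩
  have e1 : Es φ ≤ Ps φ := by rintro _ ⟨s, rfl⟩; exact ys_P s
  obtain ⟨H, hH⟩ := Cfsg.Agent.S0051.result ((Ms φ).subgroupOf N(Ms φ)) ((Ps φ).subgroupOf N(Ms φ))
    (subgroupOf_mono _ M_le_P) (by rw [card_subgroupOf' le_normalizer]; exact h.pg_M.coprime h.syl_N2.idx)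
    ((Es φ).subgroupOf N(Ms φ)) (subgroupOf_mono _ e1)
    (eq_bot_iff.2 fun ⟨y, _⟩ ⟨⟨s, k1⟩, k2⟩ => by
      obtain rfl : ys φ s = y := k1
      exact Subtype.ext (by simp only [h.ys_M k2, ys_zero]; rfl))
    (le_antisymm (sup_le (subgroupOf_mono _ M_le_P) (subgroupOf_mono _ e1)) fun ⟨y, _⟩ hy => by
      obtain ⟨a, b, c, s, rfl⟩ := mem_P'.1 hy
      exact mul_mem (a := (⟨_, le_normalizer (mu_M a b c)⟩ : N(Ms φ))) (b := ⟨_, P_le_NM (ys_P s)⟩)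
        (mem_sup_left (mu_M a b c)) (mem_sup_right (mem_E.2 ⟨s, rfl⟩)))
  have := sdprod_of_isComplement' hH
  rw [subgroupOf_map_subtype, inf_eq_left.2 le_normalizer] at this
  exact ⟨_, this⟩

theorem St.iso (k : St φ x f) (h : HH p φ) (nc : NC φ) (hq : Nat.card F % 4 = 3) {J : Subgroup G}
    (hJ : Sdprod (Ms φ) J N(Ms φ)) :
    Nonempty (J ≃* ProjGenLinGroup (Fin 2) F × Multiplicative (ZMod ((Nat.card F - 1) / 2))) := by
  obtain ⟨κ, h1, h2⟩ := exists_kappa hq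
  let Γ : Subgroup (J × GL (Fin 2) F) :=
    { carrier := {e | Ac φ f e.1 e.2}
      mul_mem' := fun a b => a.mul b
      one_mem' := ac_one
      inv_mem' := fun a => a.inv (Units.mul_inv _) }
  refine equiv_of_graph (Γ.map ((MonoidHom.id J).prodMap κ)) (fun j => ?_) (fun y => ?_) ?_ ?_
  · obtain ⟨A, h3, h4⟩ := k.ac_N2 h nc (hJ.right_le j.2)
    exact ⟨_, (j, GeneralLinearGroup.mkOfDetNeZero A h3), h4, rfl⟩
  · obtain ⟨A, rfl⟩ := h1 y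
    obtain ⟨g, hg⟩ := k.ac_all h A.det_ne_zero
    obtain ⟨m, hm, j, hj, rfl⟩ := hJ.mem hg.norm
    have := (ac_cent (M_cm (inv_mem hm))).mul hg
    rw [inv_mul_cancel_left, one_mul] at this
    exact ⟨⟨j, hj⟩, (⟨j, hj⟩, A), this, rfl⟩
  · rintro _ ⟨⟨j, A⟩, h3, e⟩
    obtain rfl : j = 1 := congrArg Prod.fst e
    exact (congrArg Prod.snd e).symm.trans ((h2 A).2 (h.ac_one h3))
  · rintro _ ⟨⟨j, A⟩, h3, e⟩
    obtain ⟨rfl, e2⟩ := Prod.ext_iff.1 e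
    have h4 : Ac φ f j 1 := by
      rcases (h2 A).1 e2 with e | e
      · exact Ac.trans' h3 e
      · exact (Ac.neg h3).trans' (by rw [e, neg_neg])
    exact Subtype.ext (hJ.inf.le ⟨h.cent_M.le h4.cent, j.2⟩)

theorem HH.nc_of (h : HH p φ) {u v : G} {S T : Subgroup G} (hS : Syl p S ⊤) (hT : Syl p T ⊤) (h1 : u ∈ Z(S))
    (h2 : v ∈ Z(T)) (u1 : u ≠ 1) (v1 : v ≠ 1) (n : ∀ g, g * u * g⁻¹ ≠ v) : NC φ := by
  have k : ∀ {u S}, Syl p S ⊤ → u ∈ Z(S) → u ≠ 1 → ∃ g a, a ≠ 0 ∧ mu φ a 0 0 = g * u * g⁻¹ := fun {u S} hS h1 u1 => by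
    obtain ⟨g, -, e⟩ := hS.sconj h.syl_P
    obtain ⟨a, ha⟩ := mem_Z.1 (h.Z_eq_P.le (by rw [← e, ← cj_cent, ← cj_inf]; exact conj_mem_cj.2 h1))
    exact ⟨g, a, by rintro rfl; exact u1 (by simpa [mu_zero] using ha.symm), ha⟩
  obtain ⟨g, a, ha, e⟩ := k hS h1 u1
  obtain ⟨g', b, hb, e'⟩ := k hT h2 v1
  refine ⟨a, b, ha, hb, fun y hy => n (g'⁻¹ * y * g) ?_⟩
  calc _ = g'⁻¹ * (y * (g * u * g⁻¹) * y⁻¹) * g' := by group
    _ = _ := by rw [← e, hy, e']; group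

omit [Finite F] [Finite G] in
theorem range_conj (g : G) : ((MulAut.conj g).toMonoidHom.comp φ).range = cj g φ.range := MonoidHom.range_comp _ _
omit [Finite F] [Finite G] in
theorem Ps_conj (g : G) : Ps ((MulAut.conj g).toMonoidHom.comp φ) = cj g (Ps φ) := (map_map _ _ _).symm

theorem HH.adjust (h : HH p φ) {S : Subgroup G} (hS : Syl p S ⊤) :
    ∃ (g : G) (ψ : Jac F →* G), HH p ψ ∧ ψ.range = cj g φ.range ∧ Ps ψ = S := by
  obtain ⟨g, -, e⟩ := h.syl_P.sconj hS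
  exact ⟨g, _, h.conj g, range_conj g, (Ps_conj g).trans e⟩

theorem HH.s3324 (h : HH p φ) (hq : Nat.card F % 4 = 3) (nc : NC φ) (hn : ¬ N(Ms φ) ≤ N(Zs φ)) :
    ∃ J : Subgroup G, J ≤ N(Ms φ) ∧ Ms φ ⊔ J = N(Ms φ) ∧ Ms φ ⊓ J = ⊥ ∧
      Nonempty (J ≃* ProjGenLinGroup (Fin 2) F × Multiplicative (ZMod ((Nat.card F - 1) / 2))) := by
  obtain ⟨f, x, k⟩ := h.exists_st (h.nw nc) hq hn
  obtain ⟨J, hJ⟩ := h.exists_compl
  exact ⟨J, hJ.right_le, hJ.sup, hJ.inf, k.iso h nc hq hJ⟩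

end H4.Hy
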