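import Cfsg.Agent.H19.NS2
import Cfsg.Agent.H12.Zsig
import Cfsg.Agent.H11.SL

/-! Elementary facts on `SL₂(2ⁿ)` and its modules over the field with two elements. -/

set_option autoImplicit false
set_option linter.unusedSectionVars false

namespace H4.LU
open Matrix Subgroup
open scoped MatrixGroups

section
variable {F : Type} [Field F] [Fintype F] [CharP F 2] {a b c l : F} {g : SL(2, F)}

theorem t2 : (2 : F) = 0 := CharTwo.two_eq_zero
theorem aa (a : F) : a + a = 0 := CharTwo.add_self_eq_zero a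

def tt (a : F) : SL(2, F) := ⟨!![1, a; 0, 1], by simp [det_fin_two]⟩
def uu (a : F) : SL(2, F) := ⟨!![1, 0; a, 1], by simp [det_fin_two]⟩
def ss : SL(2, F) := ⟨!![0, 1; 1, 0], by simp [det_fin_two, CharTwo.neg_eq]⟩
open Classical in
noncomputable def ee (l : F) : SL(2, F) := if h : l = 0 then 1 else ⟨!![l⁻¹, 0; 0, l], by simp [det_fin_two, h]⟩

theorem ee_val (h : l ≠ 0) : (ee l).1 = !![l⁻¹, 0; 0, l] := by simp [ee, h]

theorem ext2 {g h : SL(2, F)} (h1 : g.1 0 0 = h.1 0 0) (h2 : g.1 0 1 = h.1 0 1) (h3 : g.1 1 0 = h.1 1 0) (h4 : g.1 1 1 = h.1 1 1) :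
    g = h := Subtype.ext (Matrix.ext fun i j => by fin_cases i <;> fin_cases j <;> assumption)

theorem det2 (g : SL(2, F)) : g.1 0 0 * g.1 1 1 + g.1 0 1 * g.1 1 0 = 1 := by
  have := g.2; rw [det_fin_two, CharTwo.sub_eq_add] at this; exact this

theorem me (g h : SL(2, F)) (i j : Fin 2) : (g * h).1 i j = g.1 i 0 * h.1 0 j + g.1 i 1 * h.1 1 j := by
  show (g.1 * h.1) i j = _
  rw [Matrix.mul_apply, Fin.sum_univ_two]
theorem tt_val (a : F) : (tt a).1 = !![1, a; 0, 1] := rfl
theorem uu_val (a : F) : (uu a).1 = !![1, 0; a, 1] := rfl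
theorem ss_val : (ss : SL(2, F)).1 = !![0, 1; 1, 0] := rfl

/-- entries of products -/
macro "ent" : tactic => `(tactic| (refine ext2 ?_ ?_ ?_ ?_ <;> simp only [me] <;>
  simp [tt_val, uu_val, ss_val, ee_val, *] <;> (try field_simp) <;> (try grind [t2])))

theorem tt_mul (a b : F) : tt a * tt b = tt (a + b) := by ent
theorem tt_zero : tt (0 : F) = 1 := Subtype.ext (by simp [tt_val, one_fin_two])
theorem tt_tt (a : F) : tt a * tt a = 1 := by rw [tt_mul, aa, tt_zero]
theorem tt_inv (a : F) : (tt a)⁻¹ = tt a := inv_eq_of_mul_eq_one_right (tt_tt a)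
theorem tt_inj (h : tt a = tt b) : a = b := congrArg (·.1 0 1) h
theorem ss_ss : (ss : SL(2, F)) * ss = 1 := by rw [← tt_zero]; ent
theorem ss_inv : (ss : SL(2, F))⁻¹ = ss := inv_eq_of_mul_eq_one_right ss_ss
theorem ss_tt (a : F) : ss * tt a * ss = uu a := by ent
theorem ee_mul (h : a ≠ 0) (k : b ≠ 0) : ee a * ee b = ee (a * b) := by have := mul_ne_zero h k; ent
theorem ee_one : ee (1 : F) = 1 := Subtype.ext (by simp [ee_val, one_fin_two])
theorem tt_ee (h : l ≠ 0) (a : F) : tt a * ee l = ee l * tt (l ^ 2 * a) := by ent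
theorem ss_eq : (ss : SL(2, F)) = tt 1 * uu 1 * tt 1 := by have := t2 (F := F); ent
theorem bru1 (h : 1 + a * b ≠ 0) : uu b * tt (a / (1 + a * b)) * ss = tt a * ss * ee (1 + a * b) * tt (b * (1 + a * b)) := by
  have := t2 (F := F); ent
theorem bru2 (h : b ≠ 0) : uu b * tt b⁻¹ * ss = ee b * tt b := by have := t2 (F := F); ent
theorem up (h : g.1 1 0 = 0) : g.1 1 1 ≠ 0 ∧ g = ee (g.1 1 1) * tt (g.1 0 1 * g.1 1 1) := by
  have d := det2 g
  have k : g.1 1 1 ≠ 0 := fun k => by simp [h, k] at d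
  exact ⟨k, by ent⟩
theorem low (h : g.1 1 0 ≠ 0) : g = tt (g.1 0 0 / g.1 1 0) * ss * ee (g.1 1 0)⁻¹ * tt (g.1 1 1 / g.1 1 0) := by
  have d := det2 g
  have := inv_ne_zero h
  have := t2 (F := F); ent

/-- the unique maximal subgroup over the unipotent group -/
theorem gen_top {H : Subgroup SL(2, F)} (t : ∀ a, tt a ∈ H) (hg : g ∈ H) (h : g.1 1 0 ≠ 0) : H = ⊤ := by
  have n : ss * ee (g.1 1 0)⁻¹ ∈ H := by
    have := low h ▸ hg
    rwa [mul_mem_cancel_right (t _), mul_assoc, mul_mem_cancel_left (t _)] at this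
  have i := inv_ne_zero h
  have u : ∀ b, uu b ∈ H := fun b => by
    have := mul_mem (mul_mem n (t ((g.1 1 0)⁻¹ ^ 2 * b))) (inv_mem n)
    rwa [mul_assoc ss, ← tt_ee i, _root_.mul_inv_rev, ss_inv, show ∀ x y z w : SL(2, F), x * (y * z) * (z⁻¹ * w) = x * y * w by
      intros; group, ss_tt] at this
  have s : ss ∈ H := ss_eq (F := F) ▸ mul_mem (mul_mem (t _) (u _)) (t _)
  have e : ∀ b, b ≠ 0 → ee b ∈ H := fun b k => (mul_mem_cancel_right (t b)).1 (bru2 k ▸ mul_mem (mul_mem (u _) (t _)) s)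
  refine eq_top_iff.2 fun x _ => ?_
  by_cases k : x.1 1 0 = 0
  · exact (up k).2 ▸ mul_mem (e _ (up k).1) (t _)
  · exact low k ▸ mul_mem (mul_mem (mul_mem (t _) s) (e _ (inv_ne_zero k))) (t _)

theorem ex_sq (a : F) : ∃ b, b ^ 2 = a := by
  have : Fact (Nat.Prime 2) := ⟨Nat.prime_two⟩
  exact surjective_frobenius F 2 a

theorem ex01 (h4 : 4 ≤ Fintype.card F) : ∃ c : F, c ≠ 0 ∧ c ≠ 1 := by
  obtain ⟨a, b, c, h1, h2, h3⟩ := Fintype.two_lt_card_iff.1 (show 2 < Fintype.card F by omega)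
  by_contra! k
  by_cases a0 : a = 0 <;> by_cases b0 : b = 0 <;> by_cases c0 : c = 0 <;> simp_all

theorem sum0 (h4 : 4 ≤ Fintype.card F) : ∑ a : F, a = 0 := by
  obtain ⟨c, c0, c1⟩ := ex01 h4
  have := Equiv.sum_comp (Equiv.mulLeft₀ c c0) (fun a : F => a)
  simp only [Equiv.mulLeft₀_apply] at this
  rw [← Finset.mul_sum] at this
  by_contra k
  exact c1 (mul_right_cancel₀ k (this.trans (one_mul _).symm))

variable {V : Type*} [CommGroup V] (ρ : SL(2, F) →* MulAut V)

/-- fixed points of the unipotent group -/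
theorem lm0 (h4 : 4 ≤ Fintype.card F) (v2 : ∀ v : V, v * v = 1) (h : ∀ v, (∀ a, ρ (tt a) v = v) → ∀ g, ρ g v = v) {y : V}
    (hy : ∀ a g, ρ g (ρ (tt a) y * y) = ρ (tt a) y * y) (a : F) : ρ (tt a) y = y := by
  classical
  have m : ∀ g h v, ρ g (ρ h v) = ρ (g * h) v := fun g h v => by rw [map_mul]; rfl
  have i2 : ∀ {v w : V}, v * w = 1 → v = w := fun {v w} k => by rw [← mul_left_inj w, k, v2]
  let φ : V → F → V := fun y a => ρ (tt a) y * y
  let N : V → Prop := fun y => ∀ a g, ρ g (φ y a) = φ y a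
  have φt : ∀ y a, ρ (tt a) y = φ y a * y := fun y a => by simp only [φ, mul_assoc, v2, mul_one]
  have φ0 : ∀ y, φ y 0 = 1 := fun y => by simp [φ, tt_zero, v2]
  have φa : ∀ y, N y → ∀ a b, φ y (a + b) = φ y a * φ y b := fun y k a b => by
    have : ρ (tt (a + b)) y = φ y a * φ y b * y := by
      rw [← tt_mul, ← m, φt y b, map_mul, k, φt y a]; exact (mul_left_comm ..).trans (mul_assoc ..).symm
    simp only [φ] at this ⊢
    rw [this, mul_assoc _ y, v2, mul_one]
  have φm : ∀ y w a, φ (y * w) a = φ y a * φ w a := fun y w a => by simp only [φ, map_mul]; exact mul_mul_mul_comm ..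
  have φe : ∀ y, N y → ∀ l, l ≠ 0 → ∀ a, φ (ρ (ee l) y) a = φ y (l ^ 2 * a) := fun y k l l0 a => by
    rw [← k _ (ee l)]; simp only [φ, m, tt_ee l0, map_mul (ρ (ee l))]
  have φs : ∀ y, N y → ∀ (s : Finset F) (f : F → F), ∏ a ∈ s, φ y (f a) = φ y (∑ a ∈ s, f a) := fun y k s f => by
    induction s using Finset.induction_on with
    | empty => simp [φ0]
    | insert a s n ih => rw [Finset.prod_insert n, Finset.sum_insert n, φa y k, ih]
  let act : F → V → V := fun l y => if l = 0 then 1 else ρ (ee l) y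
  have φc : ∀ y, N y → ∀ l a, φ (act l y) a = φ y (l ^ 2 * a) := fun y k l a => by
    by_cases l0 : l = 0
    · simp [act, l0, φ0, φ]
    · simp only [act, l0, if_false, φe y k l l0]
  have Nc : ∀ y, N y → ∀ l, N (act l y) := fun y k l a g => by rw [φc y k, k]
  have cc : ∀ y a b, act a (act b y) = act (a * b) y := fun y a b => by
    by_cases a0 : a = 0 <;> by_cases b0 : b = 0 <;> simp [act, a0, b0, m, ee_mul]
  have cm : ∀ l y w, act l (y * w) = act l y * act l w := fun l y w => by by_cases l0 : l = 0 <;> simp [act, l0]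
  let ε : V → V := fun y => ∏ l, act l y
  have εm : ∀ y w, ε (y * w) = ε y * ε w := fun y w => by simp only [ε, cm, Finset.prod_mul_distrib]
  have εw : ∀ w, (∀ g, ρ g w = w) → ε w = w := fun w k => by
    obtain ⟨n, -, e⟩ := FiniteField.card F 2
    have : ε w * w = 1 := by
      have : ∀ l : F, act l w * (if l = 0 then w else 1) = w := fun l => by by_cases l0 : l = 0 <;> simp [act, l0, k]
      have := Finset.prod_congr (s₁ := Finset.univ) rfl fun l _ => this l
      rw [Finset.prod_mul_distrib, Finset.prod_ite_eq' Finset.univ (0 : F), Finset.prod_const, Finset.card_univ, e] at this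
      obtain ⟨j, hj⟩ := Nat.exists_eq_succ_of_ne_zero n.ne_zero
      simpa [ε, hj, pow_succ', pow_mul, sq, v2] using this
    exact i2 this
  have εc : ∀ y l, ε y = 1 → ε (act l y) = 1 := fun y l k => by
    by_cases l0 : l = 0
    · simp only [act, l0, if_true]; exact εw 1 fun g => map_one _
    · simp only [ε, cc]; exact (Equiv.prod_comp (Equiv.mulRight₀ l l0) (fun a => act a y)).trans k
  have fx : ∀ y, (∀ a, φ y a = 1) → ∀ g, ρ g y = y := fun y k => h y fun a => by rw [φt, k, one_mul]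
  have ca : ∀ y, N y → ε y = 1 → ∀ a b, act (a + b) y = act a y * act b y := fun y k e a b => by
    have := εw (act (a + b) y * (act a y * act b y)) (fx _ fun c => by
      rw [φm, φm, φc y k, φc y k, φc y k, ← φa y k, ← φa y k, ← φ0 y]; congr 1; grind [t2])
    rw [εm, εm, εc _ _ e, εc _ _ e, εc _ _ e, one_mul, one_mul] at this
    exact i2 this.symm
  have c1 : ∀ y, act 1 y = y := fun y => by simp [act, ee_one]
  let X : V → V := fun y => (∏ a, ρ (tt a * ss) (act a y)) * y
  have key : ∀ y, N y → ε y = 1 → ∀ b, b ≠ 0 → X (act b y) = φ y b := fun y k e b b0 => by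
    let ι : F → F := fun a => if 1 + a * b = 0 then a else a / (1 + a * b)
    have inv : Function.Involutive ι := fun a => by
      by_cases z : 1 + a * b = 0
      · simp [ι, z]
      · have : 1 + a / (1 + a * b) * b = (1 + a * b)⁻¹ := by field_simp; grind [t2]
        simp only [ι, z, if_false, this, inv_eq_zero]; field_simp
    have E : ∀ g, ρ g (∏ a, ρ (tt a * ss) y) = ∏ a, ρ (tt a * ss) y := h _ fun c => by
      simp only [map_prod, m, ← mul_assoc, tt_mul]
      exact Equiv.prod_comp (Equiv.addLeft c) fun a => ρ (tt a * ss) y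
    have E1 := E (uu b)
    rw [map_prod, ← Equiv.prod_comp (inv.toPerm ι)] at E1
    have T : ∀ a : F, ρ (uu b) (ρ (tt (inv.toPerm ι a) * ss) y) = ρ (tt a * ss) y * ρ (tt a * ss) (act a (act b y)) *
        φ y (b * (1 + a * b)) * (if a = b⁻¹ then act b y * φ y b else 1) := fun a => by
      rw [cc, ← map_mul, show y * act (a * b) y = act (1 + a * b) y by rw [ca _ k e, c1], m, ← mul_assoc]
      by_cases z : 1 + a * b = 0
      · have ab : a = b⁻¹ := eq_inv_of_mul_eq_one_left (by grind [t2])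
        have : inv.toPerm ι a = b⁻¹ := by show ι a = _; simp only [ι, z, if_true]; exact ab
        rw [this, bru2 b0, ← m, φt, map_mul, k, z, if_pos ab]
        simp [act, b0, φ0, mul_comm]
      · have ab : a ≠ b⁻¹ := fun ab => z (by rw [ab, inv_mul_cancel₀ b0, aa])
        have : inv.toPerm ι a = a / (1 + a * b) := by show ι a = _; simp only [ι, z, if_false]
        rw [this, bru1 z, ← m, φt, map_mul, k, if_neg ab, ← m]
        simp only [act, z, if_false, mul_one]; exact mul_comm ..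
    simp only [T, Finset.prod_mul_distrib, Finset.prod_ite_eq', Finset.mem_univ, if_true, φs y k] at E1
    have s0 : ∑ a : F, b * (1 + a * b) = 0 := by
      rw [← Finset.mul_sum, Finset.sum_add_distrib, ← Finset.sum_mul, sum0 h4]; simp
    rw [s0, φ0, mul_one, mul_assoc, mul_eq_left, ← mul_assoc] at E1
    exact i2 E1
  have εy : ∀ a, φ (ε y) a = 1 := fun a => by
    have : φ (ε y) a = ∏ l, φ (act l y) a := by simp only [φ, ε, map_prod, Finset.prod_mul_distrib]
    rw [this]; simp only [φc y hy, φs y hy]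
    rw [← Finset.sum_mul, ← φ0 y]; congr 1
    have : Fact (Nat.Prime 2) := ⟨Nat.prime_two⟩
    have := Equiv.sum_comp (frobeniusEquiv F 2).toEquiv fun a : F => a
    rw [sum0 h4] at this
    exact mul_eq_zero_of_left this _
  have e1 : ∀ a, φ (y * ε y) a = φ y a := fun a => by rw [φm, εy, mul_one]
  have N1 : N (y * ε y) := fun a g => by rw [e1]; exact hy a g
  have e2 : ε (y * ε y) = 1 := by rw [εm, εw _ (fx _ εy), v2]
  obtain ⟨b, b0, b1⟩ := ex01 h4
  have bb : b + b ^ 2 ≠ 0 := fun k => b1 (mul_left_cancel₀ b0 (by grind [t2]))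
  obtain ⟨l, hl⟩ := ex_sq (a / (b + b ^ 2))
  have N2 := Nc _ N1 l
  have e3 := εc _ l e2
  have k1 := key _ N2 e3 b b0
  have k2 := key _ (Nc _ N2 b) (εc _ b e3) 1 one_ne_zero
  rw [c1, k1, φc _ N2, φc _ N1, φc _ N1, e1, e1] at k2
  rw [φt, show a = l ^ 2 * b + l ^ 2 * (b ^ 2 * 1) by rw [hl, mul_one, ← mul_add, div_mul_cancel₀ _ bb], φa y hy, k2, v2, one_mul]

def T0 (F : Type) [Field F] [Fintype F] [CharP F 2] : Subgroup SL(2, F) where
  carrier := Set.range tt
  mul_mem' := by rintro _ _ ⟨a, rfl⟩ ⟨b, rfl⟩; exact ⟨_, (tt_mul a b).symm⟩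
  one_mem' := ⟨0, tt_zero⟩
  inv_mem' := by rintro _ ⟨a, rfl⟩; exact ⟨_, (tt_inv a).symm⟩

open H19 in
theorem sylT0 : Syl 2 (T0 F) ⊤ := by
  obtain ⟨n, -, e⟩ := FiniteField.card F 2
  have c : #(T0 F) = Fintype.card F := by
    rw [← Nat.card_eq_fintype_card]
    exact (Nat.card_congr (Equiv.ofInjective tt fun _ _ => tt_inj)).symm
  refine ⟨le_top, PiN.of_card_pow Nat.prime_two (c.trans e), fun p pp d k => ?_⟩
  obtain rfl : p = 2 := k
  have := (T0 F).card_mul_index
  rw [c, H11.card_sl_two, Nat.mul_right_inj Fintype.card_ne_zero] at this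
  rw [relIndex_top_right, this, e] at d
  have := (Nat.dvd_sub_iff_right (Nat.one_le_pow _ _ (by positivity)) (Dvd.dvd.pow (dvd_pow_self 2 n.ne_zero) two_ne_zero)).1 d
  omega
end

/-- averaging over an orbit of odd length -/
theorem avg {Γ V : Type*} [Group Γ] [Finite Γ] [CommGroup V] [Finite V] (ρ : Γ →* MulAut V) (v2 : ∀ v : V, v * v = 1)
    {L P : Subgroup Γ} {w : V} (o : Odd (P.relIndex L)) (hw : ∀ p ∈ P, ρ p w = w) : ∃ u, (∀ l ∈ L, ρ l u = u) ∧
    ∀ t ∈ normalizer (L : Set Γ), (∀ l ∈ L, ρ l (ρ t w * w) = ρ t w * w) → ρ t (w * u) = w * u := by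
  classical
  letI : MulAction L V := MulAction.compHom V (ρ.comp L.subtype)
  have m : ∀ g h v, ρ g (ρ h v) = ρ (g * h) v := fun g h v => by rw [map_mul]; rfl
  let O := (Set.toFinite (MulAction.orbit L w)).toFinset
  have mO : ∀ x, x ∈ O ↔ ∃ l ∈ L, ρ l w = x := fun x => by
    simp only [O, Set.Finite.mem_toFinset]
    exact ⟨fun ⟨l, e⟩ => ⟨l, l.2, e⟩, fun ⟨l, hl, e⟩ => ⟨⟨l, hl⟩, e⟩⟩
  have oO : Odd O.card := by
    rw [← Set.ncard_eq_toFinset_card, ← MulAction.index_stabilizer]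
    exact o.of_dvd_nat (index_dvd_of_le fun p hp => hw p hp)
  have key : ∀ t c, (∀ x ∈ O, ρ t x * c ∈ O) → ρ t (∏ x ∈ O, x) * c = ∏ x ∈ O, x := fun t c h => by
    have i : Set.InjOn (fun x => ρ t x * c) O := fun x _ y _ e => (ρ t).injective (mul_right_cancel e)
    have e : O.image (fun x => ρ t x * c) = O :=
      Finset.eq_of_subset_of_card_le (Finset.image_subset_iff.2 h) (Finset.card_image_of_injOn i).ge
    obtain ⟨k, hk⟩ := oO
    conv_rhs => rw [← e, Finset.prod_image i, Finset.prod_mul_distrib, ← map_prod, Finset.prod_const, hk, pow_succ, pow_mul,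
      sq, v2, one_pow, one_mul]
  refine ⟨∏ x ∈ O, x, fun l hl => by
    simpa using key l 1 fun x hx => let ⟨k, hk, e⟩ := (mO x).1 hx; (mO _).2 ⟨l * k, mul_mem hl hk, by rw [← e, m, mul_one]⟩,
    fun t ht c => ?_⟩
  have := key t (ρ t w * w) fun x hx => by
    obtain ⟨k, hk, rfl⟩ := (mO x).1 hx
    have j := (mem_normalizer_iff.1 ht k).1 hk
    refine (mO _).2 ⟨_, j, ?_⟩
    rw [← c _ j, m t k, show ρ (t * k) w = ρ (t * k * t⁻¹) (ρ t w) by rw [m, inv_mul_cancel_right], ← map_mul, ← mul_assoc, v2, one_mul]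
  rw [map_mul, ← this, mul_comm w, mul_assoc, mul_assoc, v2, mul_one, mul_comm, this]

end H4.LU
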