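import Cfsg.Agent.H4.Lim1
import Cfsg.Agent.H25.Tate

/-! Quadratic subgroups normalised by all their conjugates. -/

set_option autoImplicit false
set_option linter.unusedSectionVars false

namespace H4
namespace Lim
open Module Subgroup H25
open scoped commutatorElement

variable {F R G : Type*} [Field F] [Ring R] [Algebra F R] [Group G] {ρ : G →* R} {x y : R}
  {U U' A B C : Submodule F R} {g h b : G} {p n : ℕ}

/-- `1 + U` is a quadratic subgroup of the image of `ρ` -/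
structure QS (ρ : G →* R) (U : Submodule F R) : Prop where
  mul : ∀ x ∈ U, ∀ y ∈ U, x * y = 0
  mem : ∀ x ∈ U, ∃ g, ρ g = 1 + x

/-- the subgroup `1 + U` -/
def gp (ρ : G →* R) (U : Submodule F R) : Subgroup G := closure {g | ρ g - 1 ∈ U}

theorem inv_eq (h : (ρ g - 1) * (ρ g - 1) = 0) : ρ g⁻¹ = 1 - (ρ g - 1) := by
  have : (1 - (ρ g - 1)) * ρ g = 1 := by
    rw [← sub_eq_zero, ← neg_eq_zero, ← h]; noncomm_ring
  calc ρ g⁻¹ = (1 - (ρ g - 1)) * ρ g * ρ g⁻¹ := by rw [this, one_mul]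
    _ = _ := by rw [mul_assoc, ← map_mul]; simp

theorem QS.mem_gp (q : QS ρ U) : g ∈ gp ρ U ↔ ρ g - 1 ∈ U := by
  refine ⟨fun h => ?_, fun h => subset_closure h⟩
  induction h using closure_induction with
  | mem _ h => exact h
  | one => simp
  | mul a b _ _ ha hb =>
    have : ρ (a * b) - 1 = (ρ a - 1) + (ρ b - 1) + (ρ a - 1) * (ρ b - 1) := by rw [map_mul]; noncomm_ring
    rw [this, q.mul _ ha _ hb, add_zero]; exact add_mem ha hb
  | inv a _ ha => rw [inv_eq (q.mul _ ha _ ha), sub_sub_cancel_left]; exact neg_mem ha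

/-- conjugation -/
def cn (F : Type*) [Field F] [Algebra F R] (ρ : G →* R) (g : G) : R ≃ₗ[F] R where
  toFun x := ρ g * x * ρ g⁻¹
  invFun x := ρ g⁻¹ * x * ρ g
  map_add' x y := by simp [mul_add, add_mul]
  map_smul' c x := by simp
  left_inv x := by simp [mul_assoc, ← map_mul, ← mul_assoc (ρ g⁻¹)]
  right_inv x := by simp [mul_assoc, ← map_mul, ← mul_assoc (ρ g)]

theorem cn_apply : cn F ρ g x = ρ g * x * ρ g⁻¹ := rfl
theorem cn_mul : cn F ρ g x * cn F ρ g y = cn F ρ g (x * y) := by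
  simp [cn_apply, mul_assoc, ← map_mul, ← mul_assoc (ρ g⁻¹)]
theorem cn_sub : cn F ρ g (ρ h - 1) = ρ (g * h * g⁻¹) - 1 := by
  simp [cn_apply, mul_sub, sub_mul, ← map_mul]

/-- the conjugate subspace -/
abbrev cU (ρ : G →* R) (g : G) (U : Submodule F R) : Submodule F R := U.map (cn F ρ g).toLinearMap

theorem QS.cj (q : QS ρ U) (g : G) : QS ρ (cU ρ g U) := ⟨by
  rintro _ ⟨x, hx, rfl⟩ _ ⟨y, hy, rfl⟩
  simp [cn_mul, q.mul x hx y hy], by
  rintro _ ⟨x, hx, rfl⟩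
  obtain ⟨a, ha⟩ := q.mem x hx
  exact ⟨g * a * g⁻¹, by rw [← sub_eq_iff_eq_add', ← cn_sub (F := F), ha]; simp⟩⟩

theorem QS.gp_cj (q : QS ρ U) (g : G) : gp ρ (cU ρ g U) = H25.cj g (gp ρ U) := by
  ext a
  rw [(q.cj g).mem_gp, mem_cj, q.mem_gp, Submodule.mem_map_equiv]
  have : ρ a - 1 = cn F ρ g (ρ (g⁻¹ * a * g) - 1) := by rw [cn_sub]; simp [mul_assoc]
  rw [this, LinearEquiv.symm_apply_apply]

theorem half (h2 : (2 : F) ≠ 0) (h : x + x ∈ U) : x ∈ U := by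
  rwa [← two_smul F, U.smul_mem_iff h2] at h

theorem QS.conj (q : QS ρ U) (hg : g ∈ nz (gp ρ U)) (hx : x ∈ U) : cn F ρ g x ∈ U := by
  obtain ⟨a, ha⟩ := q.mem x hx
  have := q.mem_gp.1 (conj_mem_of_mem_nz hg ((q.mem_gp (g := a)).2 (by simpa [ha] using hx)))
  rwa [← cn_sub (F := F), ha, add_sub_cancel_left] at this

theorem cn_quad (h : (ρ g - 1) * (ρ g - 1) = 0) :
    cn F ρ g x = x - (x * (ρ g - 1) - (ρ g - 1) * x) - (ρ g - 1) * x * (ρ g - 1) ∧
    cn F ρ g⁻¹ x = x + (x * (ρ g - 1) - (ρ g - 1) * x) - (ρ g - 1) * x * (ρ g - 1) := by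
  rw [cn_apply, cn_apply, inv_inv, inv_eq h]
  constructor <;> noncomm_ring

theorem le_three (h2 : (2 : F) ≠ 0) (h : (ρ g - 1) * (ρ g - 1) = 0) (h0 : x ∈ U) (h1 : cn F ρ g x ∈ U)
    (h3 : cn F ρ g⁻¹ x ∈ U) :
    x * (ρ g - 1) - (ρ g - 1) * x ∈ U ∧ (ρ g - 1) * x * (ρ g - 1) ∈ U := by
  rw [(cn_quad h).1] at h1
  rw [(cn_quad h).2] at h3
  constructor <;> refine half h2 ?_
  · convert sub_mem h3 h1 using 1; abel
  · convert sub_mem (sub_mem (add_mem h0 h0) h3) h1 using 1; abel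

theorem QS.br (h2 : (2 : F) ≠ 0) (q : QS ρ U) (q' : QS ρ U') (h : gp ρ U' ≤ nz (gp ρ U)) (hx : x ∈ U)
    (hy : y ∈ U') : x * y - y * x ∈ U := by
  obtain ⟨a, ha⟩ := q'.mem y hy
  obtain rfl : y = ρ a - 1 := by simp [ha]
  have := h (q'.mem_gp.2 hy)
  exact (le_three h2 (q'.mul _ hy _ hy) hx (q.conj this hx) (q.conj (inv_mem this) hx)).1

/-- the two subspaces normalise each other -/
def Br (U U' : Submodule F R) : Prop := ∀ x ∈ U, ∀ y ∈ U', x * y - y * x ∈ U ⊓ U'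

theorem QS.Br (h2 : (2 : F) ≠ 0) (q : QS ρ U) (q' : QS ρ U') (h : gp ρ U' ≤ nz (gp ρ U))
    (h' : gp ρ U ≤ nz (gp ρ U')) : Br U U' := fun x hx y hy =>
  ⟨q.br h2 q' h hx hy, by simpa using neg_mem (q'.br h2 q h' hy hx)⟩

theorem three (h2 : (2 : F) ≠ 0) (qA : QS ρ A) (qB : QS ρ B) (qC : QS ρ C) (hAB : Br A B) (hAC : Br A C)
    (hBC : Br B C) (hx : x ∈ A ⊔ B ⊔ C) (h : x * x = 0) : ∃ g, ρ g = 1 + x := by
  obtain ⟨_, h0, c, hc, rfl⟩ := Submodule.mem_sup.1 hx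
  obtain ⟨a, ha, b, hb, rfl⟩ := Submodule.mem_sup.1 h0
  obtain ⟨a, rfl⟩ : ∃ a', a = a' + a' := ⟨(2 : F)⁻¹ • a, by rw [← two_smul F, smul_smul, mul_inv_cancel₀ h2, one_smul]⟩
  obtain ⟨b, rfl⟩ : ∃ a', b = a' + a' := ⟨(2 : F)⁻¹ • b, by rw [← two_smul F, smul_smul, mul_inv_cancel₀ h2, one_smul]⟩
  replace ha := half h2 ha
  replace hb := half h2 hb
  have u := hAB a ha b hb
  have v := hAC a ha c hc
  have w := hBC b hb c hc
  obtain ⟨g1, e1⟩ := qA.mem _ (sub_mem (sub_mem (sub_mem (add_mem ha ha) u.1) u.1) v.1)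
  obtain ⟨g2, e2⟩ := qB.mem _ (sub_mem (add_mem hb hb) w.1)
  obtain ⟨g3, e3⟩ := qC.mem _ hc
  refine ⟨g1 * g2 * g3, ?_⟩
  rw [map_mul, map_mul, e1, e2, e3]
  have aa := qA.mul a ha a ha
  have bb := qB.mul b hb b hb
  have cc := qC.mul c hc c hc
  have ub := qB.mul _ u.2 b hb
  have au := qA.mul a ha _ u.1
  have av := qA.mul a ha _ v.1
  have vc := qC.mul _ v.2 c hc
  have wc := qC.mul _ w.2 c hc
  have wb := qB.mul _ w.1 b hb
  have uw := qB.mul _ u.2 _ w.1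
  have vw := qC.mul _ v.2 _ w.2
  have k : a * b + a * b + b * a + b * a + a * c + c * a + b * c + c * b = 0 :=
    half (U := ⊥) h2 (show _ = (0 : R) by linear_combination (norm := noncomm_ring) h - 4 * aa - 4 * bb - cc)
  have k1 : a * b * c + a * c * b = 0 := by
    linear_combination (norm := noncomm_ring) a * k + 2 * au + av - 4 * aa * b - 2 * aa * c
  have k2 : a * c * b + c * a * b = 0 := by
    linear_combination (norm := noncomm_ring) k * b + 2 * ub - wb - 4 * a * bb - 2 * c * bb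
  have k3 : a * b * c + b * a * c = 0 := half (U := ⊥) h2 (show _ = (0 : R) by
    linear_combination (norm := noncomm_ring) k * c + vc + wc - 2 * a * cc - 2 * b * cc)
  have vbc : (a * c - c * a) * b * c = 0 := by linear_combination (norm := noncomm_ring) vw + vc * b
  linear_combination (norm := noncomm_ring) k - 4 * ub + 2 * uw + vw - vc - wc - 4 * ub * c + 2 * uw * c +
    vw * c - 2 * a * wc - 2 * vbc + 2 * k2 + 2 * k3 - 2 * k1

/-- right annihilator -/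
def ann (U : Submodule F R) : Submodule F R where
  carrier := {x | ∀ u ∈ U, u * x = 0}
  add_mem' := fun ha hb u hu => by rw [mul_add, ha u hu, hb u hu, add_zero]
  zero_mem' := fun u _ => mul_zero u
  smul_mem' := fun c x hx u hu => by rw [mul_smul_comm, hx u hu, smul_zero]

theorem exists_two_subnormal [Finite G] [Fact p.Prime] [FiniteDimensional F R] (hG : IsPGroup p G)
    (h2 : (2 : F) ≠ 0) (W : ℕ → Submodule F R) (a : ∀ i, W (i + 1) ≤ W i) (hn : W n = ⊥)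
    (l : ∀ g i, ∀ u ∈ W i, (ρ g - 1) * u ∈ W (i + 1)) (r : ∀ g i, ∀ u ∈ W i, u * (ρ g - 1) ∈ W (i + 1))
    (h0 : ∀ g, ρ g - 1 ∈ W 0) (q : QS ρ U) :
    ∃ A : Submodule F R, QS ρ A ∧ finrank F U ≤ finrank F A ∧ finrank F (ann U) ≤ finrank F (ann A) ∧
      ∀ g, cj g (gp ρ A) ≤ nz (gp ρ A) := by
  let w : Submodule F R → ℕ := fun A => ∑ i ∈ Finset.range (n + 1), finrank F (A ⊓ W i : Submodule F R)
  let P : Submodule F R → Prop := fun A =>
    QS ρ A ∧ finrank F U ≤ finrank F A ∧ finrank F (ann U) ≤ finrank F (ann A)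
  obtain ⟨A, hA, mx⟩ : ∃ A, P A ∧ ∀ B, P B → w B ≤ w A := by
    have bd : ∀ B, w B ≤ (n + 1) * finrank F R := fun B => by
      simpa using Finset.sum_le_card_nsmul (Finset.range (n + 1)) _ _ fun i _ => Submodule.finrank_le (B ⊓ W i)
    obtain ⟨A, h⟩ := exists_minimalFor_of_wellFoundedLT P (fun B => (n + 1) * finrank F R - w B)
      ⟨U, q, le_rfl, le_rfl⟩
    exact ⟨A, h.1, fun B hB => by have := h.le hB; have := bd A; have := bd B; omega⟩
  have cW : ∀ g i, ∀ u ∈ W i, cn F ρ g u ∈ W i := fun g i u hu => by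
    have h1 : ρ g * u ∈ W i := by simpa [sub_mul] using add_mem (a i (l g i u hu)) hu
    simpa [mul_sub, cn_apply] using add_mem (a i (r g⁻¹ i _ h1)) h1
  have cP : ∀ g B, P B ∧ w A ≤ w B → P (cU ρ g B) ∧ w A ≤ w (cU ρ g B) := fun g B ⟨⟨h1, h3, h4⟩, h5⟩ => by
    refine ⟨⟨h1.cj g, h3.trans (LinearEquiv.finrank_map_eq _ _).ge, h4.trans
      ((LinearEquiv.finrank_map_eq (cn F ρ g) _).ge.trans (Submodule.finrank_mono ?_))⟩,
      h5.trans (Finset.sum_le_sum fun i _ =>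
        (LinearEquiv.finrank_map_eq (cn F ρ g) _).ge.trans (Submodule.finrank_mono ?_))⟩
    · rintro _ ⟨x, hx, rfl⟩ _ ⟨y, hy, rfl⟩
      simp [cn_mul, hx y hy]
    · rintro _ ⟨x, hx, rfl⟩
      exact ⟨⟨x, hx.1, rfl⟩, cW g i x hx.2⟩
  have key : ∀ k B C, P B ∧ w A ≤ w B → P C ∧ w A ≤ w C → Nat.card (gp ρ B ⊔ gp ρ C : Subgroup G) = k →
      gp ρ C ≤ nz (gp ρ B) := fun k => by
    induction k using Nat.strong_induction_on with
    | _ k ih =>
    intro B C hB hC e b hb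
    set T := gp ρ B ⊔ gp ρ C with hT
    by_cases hM : fr T ⊔ gp ρ B = T
    · exact (eq_of_fr_sup le_sup_left hM.ge).symm ▸ le_nz_self T (mem_sup_right hb)
    have lt : fr T ⊔ gp ρ B < T := lt_of_le_of_ne (sup_le (fr_le T) le_sup_left) hM
    have nM : T ≤ nz (fr T ⊔ gp ρ B) := fun t ht => mem_nz_of_conj_mem fun y hy => by
      simpa [commutatorElement_def] using mul_mem (mem_sup_left (commutator_le_fr (hG.to_subgroup T)
        (commutator_mem_commutator ht (lt.le hy)))) hy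
    have le : ∀ t ∈ T, gp ρ (cU ρ t B) ≤ fr T ⊔ gp ρ B := fun t ht => by
      rw [hB.1.1.gp_cj]; exact (cj_mono t le_sup_right).trans (cj_eq_of_mem_nz (nM ht)).le
    have br : ∀ {D E}, P D ∧ w A ≤ w D → P E ∧ w A ≤ w E → gp ρ D ≤ fr T ⊔ gp ρ B → gp ρ E ≤ fr T ⊔ gp ρ B →
        Br D E := fun hD hE h1 h3 => hD.1.1.Br h2 hE.1.1
      (ih _ (e ▸ card_lt_of_lt ((sup_le h1 h3).trans_lt lt)) _ _ hD hE rfl)
      (ih _ (e ▸ card_lt_of_lt ((sup_le h3 h1).trans_lt lt)) _ _ hE hD rfl)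
    have bT : b ∈ T := mem_sup_right hb
    have b1 := hC.1.1.mem_gp.1 hb
    have bb := hC.1.1.mul _ b1 _ b1
    have qB := hB.1.1
    have t3 := fun u (hu : u ∈ B) => le_three (U := B ⊔ cU ρ b B ⊔ cU ρ b⁻¹ B) h2 bb
      (Submodule.mem_sup_left (Submodule.mem_sup_left hu))
      (Submodule.mem_sup_left (Submodule.mem_sup_right ⟨u, hu, rfl⟩)) (Submodule.mem_sup_right ⟨u, hu, rfl⟩)
    have m := fun x hx y hy => lc_mul (x := x) (y := y) bb qB.mul hx hy
    have PL : P (lc (ρ b - 1) B) := ⟨⟨m, fun x hx => three h2 qB (qB.cj b) (qB.cj b⁻¹)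
      (br hB (cP b B hB) le_sup_right (le b bT)) (br hB (cP b⁻¹ B hB) le_sup_right (le _ (inv_mem bT)))
      (br (cP b B hB) (cP b⁻¹ B hB) (le b bT) (le _ (inv_mem bT)))
      (lc_le (le_sup_left.trans le_sup_left) (fun u hu => (t3 u hu).1) (fun u hu => (t3 u hu).2) hx)
      (m x hx x hx)⟩, hB.1.2.1.trans (rk_le bb), hB.1.2.2.trans ((rk_le bb).trans (Submodule.finrank_mono
        fun y hy x hx => lc_mul (U' := ann B) bb (fun u hu v hv => hv u hu) hx hy))⟩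
    have i1 : ∀ i ∈ Finset.range (n + 1), finrank F (B ⊓ W i : Submodule F R) ≤
        finrank F (lc (ρ b - 1) B ⊓ W i : Submodule F R) := fun i _ =>
      (rk_le bb).trans (Submodule.finrank_mono (le_inf (lc_mono inf_le_left) (lc_le inf_le_right
        (fun u hu => a i (sub_mem (r b i u hu.2) (l b i u hu.2)))
        fun u hu => a i (a _ (r b _ _ (l b i u hu.2))))))
    have i2 := (Finset.sum_eq_sum_iff_of_le i1).1
      (le_antisymm (Finset.sum_le_sum i1) ((mx _ PL).trans hB.2))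
    have st := stable bb W a hn (l b) (r b) (fun i hi => (i2 i (Finset.mem_range_succ_iff.2 hi)).ge) 0
      (Nat.zero_le n)
    refine mem_nz_of_conj_mem fun y hy => qB.mem_gp.2 ?_
    have y1 : ρ y - 1 ∈ B ⊓ W 0 := ⟨qB.mem_gp.1 hy, h0 y⟩
    rw [← cn_sub (F := F), (cn_quad bb).1]
    exact sub_mem (sub_mem y1.1 (st.1 _ y1).1) (st.2 _ y1).1
  exact ⟨A, hA.1, hA.2.1, hA.2.2, fun g => hA.1.gp_cj g ▸ key _ A _ ⟨hA, le_rfl⟩ (cP g A ⟨hA, le_rfl⟩) rfl⟩

theorem QS.card_gp (q : QS ρ U) (hρ : Function.Injective ρ) : Nat.card (gp ρ U) = Nat.card U :=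
  Nat.card_eq_of_bijective (fun g => ⟨ρ g - 1, q.mem_gp.1 g.2⟩) ⟨fun a b h =>
    Subtype.ext (hρ (by simpa using h)), fun x => by
      obtain ⟨g, e⟩ := q.mem x x.2
      exact ⟨⟨g, q.mem_gp.2 (by simp [e])⟩, by simp [e]⟩⟩

theorem exists_QS [Fact p.Prime] [Algebra (ZMod p) R] {A : Subgroup G}
    (h : ∀ a ∈ A, ∀ b ∈ A, (ρ a - 1) * (ρ b - 1) = 0) : 
    ∃ U : Submodule (ZMod p) R, QS ρ U ∧ A ≤ gp ρ U ∧ ∀ u ∈ U, ∃ a ∈ A, ρ a - 1 = u := by
  let U : AddSubgroup R :=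
    { carrier := {x | ∃ a ∈ A, ρ a - 1 = x}
      add_mem' := by
        rintro _ _ ⟨a, ha, rfl⟩ ⟨b, hb, rfl⟩
        exact ⟨a * b, mul_mem ha hb, by rw [map_mul]; linear_combination (norm := noncomm_ring) h a ha b hb⟩
      zero_mem' := ⟨1, one_mem _, by simp⟩
      neg_mem' := by
        rintro _ ⟨a, ha, rfl⟩
        exact ⟨a⁻¹, inv_mem ha, by rw [inv_eq (h a ha a ha)]; abel⟩ }
  refine ⟨AddSubgroup.toZModSubmodule p U, ⟨?_, ?_⟩, fun a ha => subset_closure ⟨a, ha, rfl⟩, fun _ h => h⟩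
  · rintro _ ⟨a, ha, rfl⟩ _ ⟨b, hb, rfl⟩; exact h a ha b hb
  · rintro _ ⟨a, -, rfl⟩; exact ⟨a, by simp⟩

variable {M : Type*} [AddCommGroup M] [Module F M]

/-- common kernel -/
def fx (U : Submodule F (End F M)) : Submodule F M := ⨅ u ∈ U, LinearMap.ker u

theorem mem_fx {U : Submodule F (End F M)} {v : M} : v ∈ fx U ↔ ∀ u ∈ U, u v = 0 := by simp [fx]

theorem rk_ann [FiniteDimensional F M] (U : Submodule F (End F M)) :
    finrank F (ann U) = finrank F M * finrank F (fx U) := by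
  have : ann U = LinearMap.range (LinearMap.compRight F (M := M) (fx U).subtype) := by
    ext f
    refine ⟨fun h => ⟨f.codRestrict _ fun v => mem_fx.2 fun u hu => congr($(h u hu) v), rfl⟩, ?_⟩
    rintro ⟨f, rfl⟩ u hu
    ext v; exact mem_fx.1 (f v).2 u hu
  rw [this, LinearMap.finrank_range_of_inj, finrank_linearMap]
  exact fun f g h => LinearMap.ext fun v => Subtype.ext congr($h v)

/-- the filtration of the endomorphism ring given by a chain -/
def fl (C : ℕ → Submodule F M) (i : ℕ) : Submodule F (End F M) where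
  carrier := {f | ∀ j, ∀ v ∈ C j, f v ∈ C (j + i)}
  add_mem' := fun ha hb j v hv => add_mem (ha j v hv) (hb j v hv)
  zero_mem' := fun _ _ _ => zero_mem _
  smul_mem' := fun c _ h j v hv => Submodule.smul_mem _ c (h j v hv)

theorem exists_two_subnormal' [Finite G] [Fact p.Prime] [FiniteDimensional F M] {ρ : G →* End F M}
    {U : Submodule F (End F M)} (hG : IsPGroup p G)
    (h2 : (2 : F) ≠ 0) (C : ℕ → Submodule F M) (a : ∀ i, C (i + 1) ≤ C i) (h0 : C 0 = ⊤) (hn : C n = ⊥)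
    (l : ∀ g i, ∀ v ∈ C i, (ρ g - 1) v ∈ C (i + 1)) (q : QS ρ U) :
    ∃ A : Submodule F (End F M), QS ρ A ∧ finrank F U ≤ finrank F A ∧ finrank F (fx U) ≤ finrank F (fx A) ∧
      ∀ g, cj g (gp ρ A) ≤ nz (gp ρ A) := by
  obtain ⟨A, h1, h3, h4, h5⟩ := exists_two_subnormal (n := n) hG h2 (fl C) (fun i f hf j v hv => a _ (hf j v hv))
    (eq_bot_iff.2 fun f hf => LinearMap.ext fun v => by simpa [hn] using hf 0 v (by simp [h0]))
    (fun g i u hu j v hv => l g _ _ (hu j v hv))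
    (fun g i u hu j v hv => by simpa [add_assoc, add_comm 1] using hu (j + 1) _ (l g j v hv))
    (fun g j v hv => a j (l g j v hv)) q
  refine ⟨A, h1, h3, ?_, h5⟩
  rw [rk_ann, rk_ann] at h4
  rcases Nat.eq_zero_or_pos (finrank F M) with h | h
  · exact ((Submodule.finrank_le _).trans h.le).trans (Nat.zero_le _)
  · exact Nat.le_of_mul_le_mul_left h4 h

end Lim
end H4
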