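import Cfsg.Agent.H25.Model2
import Cfsg.Agent.H25.Solv2
import Cfsg.Prelude.Def_CaseTheorems
import Cfsg.Prelude.Def_Classical
import Cfsg.Prelude.Def_Spor_J3
import Cfsg.Prelude.Def_Local

/-! Minimal `2`-fusion systems, pushing-up case: interface, part one (coordinates, matching). -/

set_option autoImplicit false
set_option linter.unusedVariables false

namespace H4.MF
open Subgroup H25 H25.FS
open scoped MatrixGroups Matrix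

universe u v

/-- `x₁(a) x₂(s) x₃(c) x₄(d)`: the unipotent group of `Sp₄(K)`; modulo `x₄` that of `SL₃(K)` -/
@[ext] structure Uc (K : Type) where
  a : K
  s : K
  c : K
  d : K

namespace Uc
variable {K : Type} [Field K]
instance : Mul (Uc K) := ⟨fun u v => ⟨u.a + v.a, u.s + v.s, u.c + v.c + u.s * v.a, u.d + v.d + u.s * v.a ^ 2⟩⟩
instance : One (Uc K) := ⟨⟨0, 0, 0, 0⟩⟩
instance : Inv (Uc K) := ⟨fun u => ⟨u.a, u.s, u.c + u.s * u.a, u.d + u.s * u.a ^ 2⟩⟩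
variable (u v : Uc K)
@[simp] theorem mul_a : (u * v).a = u.a + v.a := rfl
@[simp] theorem mul_s : (u * v).s = u.s + v.s := rfl
@[simp] theorem mul_c : (u * v).c = u.c + v.c + u.s * v.a := rfl
@[simp] theorem mul_d : (u * v).d = u.d + v.d + u.s * v.a ^ 2 := rfl
@[simp] theorem one_a : (1 : Uc K).a = 0 := rfl
@[simp] theorem one_s : (1 : Uc K).s = 0 := rfl
@[simp] theorem one_c : (1 : Uc K).c = 0 := rfl
@[simp] theorem one_d : (1 : Uc K).d = 0 := rfl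
@[simp] theorem inv_a : u⁻¹.a = u.a := rfl
@[simp] theorem inv_s : u⁻¹.s = u.s := rfl
@[simp] theorem inv_c : u⁻¹.c = u.c + u.s * u.a := rfl
@[simp] theorem inv_d : u⁻¹.d = u.d + u.s * u.a ^ 2 := rfl
theorem two (K : Type) [Field K] [CharP K 2] : (2 : K) = 0 := CharTwo.two_eq_zero
instance [CharP K 2] : Group (Uc K) := Group.ofLeftAxioms
  (fun u v w => by
    ext <;> simp only [mul_a, mul_s, mul_c, mul_d]
    · ring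
    · ring
    · ring
    · linear_combination (-(u.s * v.a * w.a)) * two K)
  (fun u => by ext <;> simp)
  (fun u => by
    ext <;> simp only [mul_a, mul_s, mul_c, mul_d, inv_a, inv_s, inv_c, inv_d, one_a, one_s, one_c, one_d]
    · linear_combination u.a * two K
    · linear_combination u.s * two K
    · linear_combination (u.c + u.s * u.a) * two K
    · linear_combination (u.d + u.s * u.a ^ 2) * two K)
/-- bijection with `K⁴` -/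
def eqv : Uc K ≃ K × K × K × K := ⟨fun u => (u.a, u.s, u.c, u.d), fun p => ⟨p.1, p.2.1, p.2.2.1, p.2.2.2⟩,
  fun _ => rfl, fun _ => rfl⟩
instance [Finite K] : Finite (Uc K) := Finite.of_equiv _ eqv.symm
end Uc

section
variable {K : Type} [Field K] [CharP K 2]

/-- diagonal times field automorphism -/
def dg (σ : K ≃+* K) (l m : K) (u : Uc K) : Uc K := ⟨l * σ u.a, m * σ u.s, l * m * σ u.c, l ^ 2 * m * σ u.d⟩
/-- graph (times field) automorphism; `ε = true` is type `Sp₄`, `ε = false` type `SL₃` -/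
def sw (ε : Bool) (ρ : K ≃+* K) (u : Uc K) : Uc K :=
  if ε then ⟨ρ u.s, ρ u.a ^ 2, ρ u.d + ρ u.a ^ 2 * ρ u.s, ρ u.c ^ 2 + ρ u.a ^ 2 * ρ u.s ^ 2⟩
  else ⟨ρ u.s, ρ u.a, ρ u.c + ρ u.a * ρ u.s, 0⟩

variable (K) in
/-- `A₁` -/
def UA : Subgroup (Uc K) where
  carrier := {u | u.s = 0}
  one_mem' := rfl
  mul_mem' := fun {a b} (h : a.s = 0) (k : b.s = 0) => by simp [h, k]
  inv_mem' := fun h => h
variable (K) in
/-- `A₂` -/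
def UB : Subgroup (Uc K) where
  carrier := {u | u.a = 0}
  one_mem' := rfl
  mul_mem' := fun {a b} (h : a.a = 0) (k : b.a = 0) => by simp [h, k]
  inv_mem' := fun h => h
variable (K) in
/-- `C = A₁ ⊓ A₂` -/
def UC : Subgroup (Uc K) := UA K ⊓ UB K
/-- `Δ = {b | [x, b] ∈ C}` -/
def UE (ε : Bool) (ρ : K ≃+* K) : Subgroup (Uc K) where
  carrier := {u | u.s = (sw ε ρ u).s}
  one_mem' := by cases ε <;> simp [sw]
  mul_mem' := fun {a b} h k => by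
    cases ε <;> simp only [sw, Set.mem_ofPred_eq, Uc.mul_s, Uc.mul_a, map_add, if_true, if_false,
      Bool.false_eq_true] at h k ⊢ <;> rw [h, k]
    rw [CharTwo.add_sq]
  inv_mem' := fun {a} h => by cases ε <;> exact h
theorem mem_UA {u : Uc K} : u ∈ UA K ↔ u.s = 0 := Iff.rfl
theorem mem_UB {u : Uc K} : u ∈ UB K ↔ u.a = 0 := Iff.rfl
theorem mem_UC {u : Uc K} : u ∈ UC K ↔ u.s = 0 ∧ u.a = 0 := Iff.rfl
theorem mem_UE {ε : Bool} {ρ : K ≃+* K} {u : Uc K} : u ∈ UE ε ρ ↔ u.s = (sw ε ρ u).s := Iff.rfl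

variable {Γ : Type u} [Group Γ] {Γ' : Type v} [Group Γ']

/-- `g` acts on `B = ev.range` as `dg σ l m` -/
def Dg (ev : Uc K →* Γ) (g : Γ) (σ : K ≃+* K) (l m : K) : Prop :=
  l ≠ 0 ∧ m ≠ 0 ∧ ∀ u, g * ev u * g⁻¹ = ev (dg σ l m u)
/-- `w` acts on `A₁` as the reflection -/
def Wa (ev : Uc K →* Γ) (w : Γ) : Prop := ∀ a c d, w * ev ⟨a, 0, c, d⟩ * w⁻¹ = ev ⟨c, 0, a, d⟩
/-- `R₀ = Δ ⟨x⟩` -/
def R0 (ε : Bool) (ρ : K ≃+* K) (ev : Uc K →* Γ) (x : Γ) : Subgroup Γ := (UE ε ρ).map ev ⊔ zpowers x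

/-- root coordinates of `B` -/
structure Cb (ε : Bool) (ρ : K ≃+* K) (ev : Uc K →* Γ) (x : Γ) : Prop where
  q : 4 ≤ Nat.card K ∨ ε = true
  ker : ∀ u, ev u = 1 ↔ u.a = 0 ∧ u.s = 0 ∧ u.c = 0 ∧ (ε = true → u.d = 0)
  rL : ε = false → ∀ a, ρ (ρ a) = a
  rS : ε = true → ∀ a, ρ (ρ a) ^ 2 = a
  xx : x * x = 1
  sw : ∀ u, x * ev u * x⁻¹ = ev (sw ε ρ u)

/-- coordinates of `T = B ⟨x⟩` -/
structure Co (ε : Bool) (ρ : K ≃+* K) (T : Subgroup Γ) (ev : Uc K →* Γ) (x : Γ) : Prop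
    extends Cb ε ρ ev x where
  mem : ∀ t, t ∈ T ↔ ∃ u, t = ev u ∨ t = ev u * x

/-- the complement `Y` to `B` in the normalizer of `B` -/
structure Cy (ev : Uc K →* Γ) (x : Γ) (Y : Subgroup Γ) : Prop where
  xY : x ∈ Y
  dg : ∀ y ∈ Y, (∃ σ l m, Dg ev y σ l m) ∨ ∃ σ l m, Dg ev (x * y) σ l m
  fth : ∀ y ∈ Y, y ∈ cz ev.range → y = 1
  y4 : ¬ 4 ∣ Nat.card Y
  tor : ∀ t : K, t ≠ 0 → ∃ y ∈ Y, Dg ev y (.refl K) t⁻¹ (t ^ 2)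

/-- `a` acts on `A₁` as an `F`-automorphism of `B` -/
def Bor (F : FS Γ) (ev : Uc K →* Γ) (a : Γ) : Prop := ∃ g ∈ F.A ev.range, Agree ((UA K).map ev) a g

/-- a fusion system in coordinates -/
structure Cz (ε : Bool) (ρ : K ≃+* K) (F : FS Γ) (ev : Uc K →* Γ) (x w : Γ) (Y : Subgroup Γ) : Prop
    extends Co ε ρ F.S ev x, Cy ev x Y where
  sat : F.Sat 2
  TY : ∀ y ∈ Y, ∀ P, P ≤ F.S → cj y P ≤ F.S → F.T P y
  nb : ∀ P g, ev.range ≤ P → F.T P g → ∃ b ∈ ev.range, ∃ y ∈ Y, Agree P g (b * y)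
  wa : Wa ev w
  wT : F.T ((UA K).map ev) w
  br : ∀ a ∈ F.A ((UA K).map ev), Bor F ev a ∨ ∃ b ∈ ev.range, Bor F ev (w * b * a)

/-- a group in coordinates -/
structure Gz (ε : Bool) (ρ : K ≃+* K) (G T : Subgroup Γ) (ev : Uc K →* Γ) (x w : Γ) (Y : Subgroup Γ) : Prop
    extends Co ε ρ T ev x, Cy ev x Y where
  syl : Syl 2 T G
  YG : Y ≤ G
  wG : w ∈ G
  wa : Wa ev w
  nb : ∀ g ∈ G, g ∈ nz ev.range → ∃ b ∈ ev.range, ∃ y ∈ Y, g = b * y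
  br : ∀ g ∈ G, g ∈ nz ((UA K).map ev) → g ∈ nz ev.range ∨ ∃ b ∈ ev.range, w * b * g ∈ nz ev.range
  con : ∀ Z, Z ≠ ⊥ → Z ≤ T → T ≤ cz Z → ChP 2 (G ⊓ nz Z)

/-- normalizers of central subgroups are constrained -/
def Cn (F : FS Γ) : Prop := ∀ Z, Z ≠ ⊥ → Z ≤ F.S → F.S ≤ cz Z → (F.NF Z).Constr 2
/-- an `F`-automorphism of `R₀` moves `C` -/
def Mo (ε : Bool) (ρ : K ≃+* K) (F : FS Γ) (ev : Uc K →* Γ) (x : Γ) : Prop :=
  ∃ a ∈ F.A (R0 ε ρ ev x), a ∉ nz ((UC K).map ev)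
/-- all automorphisms of odd order of `R` are `F`-automorphisms -/
def OA (F : FS Γ) (R : Subgroup Γ) : Prop :=
  ∀ α : MulAut R, Odd (orderOf α) → ∃ a ∈ F.A R, ∀ r : R, a * r * a⁻¹ = α r
/-- the list of essential subgroups -/
def EL (ε : Bool) (ρ : K ≃+* K) (F : FS Γ) (ev : Uc K →* Γ) (x : Γ) : Prop := ∀ P, F.Ess P →
  P = (UA K).map ev ∨ P = (UB K).map ev ∨ P = ev.range ∨ P = R0 ε ρ ev x ∧ Mo ε ρ F ev x
/-- same diagonal-field automorphisms -/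
def La (ev : Uc K →* Γ) (Y : Subgroup Γ) (ev' : Uc K →* Γ') (Y' : Subgroup Γ') : Prop :=
  ∀ σ l m, (∃ y ∈ Y, Dg ev y σ l m) ↔ ∃ y ∈ Y', Dg ev' y σ l m
/-- `F` is isomorphic to `F'` -/
def Is (F : FS Γ) (F' : FS Γ') : Prop :=
  ∃ j : F.S →* Γ', Function.Injective j ∧ j.range = F'.S ∧ Epi j F F'

/-- a simple group `L` with root coordinates and standard automorphisms `Γ₀`, inside an ambient group -/
structure Tg (ε : Bool) (ρ : K ≃+* K) (L Γ₀ : Subgroup Γ) (ev : Uc K →* Γ) (x w : Γ) : Prop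
    extends Cb ε ρ ev x where
  simple : IsSimpleGroup L
  cL : cz L = ⊥
  nL : Γ₀ ≤ nz L
  syl : Syl 2 ev.range L
  wL : w ∈ L
  wa : Wa ev w
  xΓ : x ∈ Γ₀
  fth : ∀ y ∈ Γ₀, y ∈ cz ev.range → y = 1
  dg : ∀ σ l m, l ≠ 0 → m ≠ 0 → ∃ y ∈ Γ₀, Dg ev y σ l m
  nb : ∀ g ∈ L, g ∈ nz ev.range → ∃ b ∈ ev.range, ∃ y ∈ Γ₀, g = b * y ∧
    ∃ l m, Dg ev y (.refl K) l m ∧ (ε = true ∨ ∃ n, l = m * n ^ 3)
  br : ∀ g ∈ L, g ∈ nz ((UA K).map ev) → g ∈ nz ev.range ∨ ∃ b ∈ ev.range, w * b * g ∈ nz ev.range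
  cz : ∀ c d, c ≠ 0 → (ε = true → d ≠ 0) → ∀ g ∈ L, g * ev ⟨0, 0, c, d⟩ * g⁻¹ = ev ⟨0, 0, c, d⟩ →
    g ∈ nz ev.range

/-- `L ⊴ G`, `G / L` has a subgroup of odd order and index two -/
structure LG (L G : Subgroup Γ) : Prop where
  simple : IsSimpleGroup L
  cL : cz L = ⊥
  nL : G ≤ nz L
  ex : ∃ G₀, L ≤ G₀ ∧ G₀ ≤ G ∧ G₀.relIndex G = 2 ∧ Odd (L.relIndex G₀)

/-- at most index two -/
def Tw (T B : Subgroup Γ) : Prop := ∀ a ∈ T, ∀ b ∈ T, a ∉ B → b ∉ B → a * b ∈ B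

end

/-- the local configuration: `H` is a model of `N_F(A)`, `A / D` is the natural module -/
structure Cg (K : Type) [Field K] {Γ : Type u} [Group Γ] (F : FS Γ) (B A D H : Subgroup Γ) (x : Γ) where
  ψ : Γ → Fin 2 → K
  sat : F.Sat 2
  solv : ∀ U, U ≠ ⊥ → U ≤ F.S → (F.NF U).Solv
  BT : B ≤ F.S
  xT : x ∈ F.S
  xx : cj x (cj x A) = A
  ea : Cfsg.IsElementaryAbelian 2 A
  eB : A ⊔ cj x A = B
  nA : B ≤ nz A
  fn : F.FN A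
  cen : F.Centric A
  mdl : (F.NF A).Mdl 2 H
  SB : F.N A ≤ nz B
  mul : ∀ a ∈ A, ∀ b ∈ A, ψ (a * b) = ψ a + ψ b
  onto : ∀ m, ∃ a ∈ A, ψ a = m
  ker : ∀ a, a ∈ D ↔ a ∈ A ∧ ψ a = 0
  nD : H ≤ nz D
  d0 : D ⊓ cj x D = ⊥
  memC : ∀ a ∈ A, ψ a 1 = 0 ↔ a ∈ cj x A
  up : ∀ b ∈ B, ∃ t, ∀ a ∈ A, ψ (b * a * b⁻¹) = ![ψ a 0 + t * ψ a 1, ψ a 1]
  up2 : ∀ t, ∃ b ∈ B, ∀ a ∈ A, ψ (b * a * b⁻¹) = ![ψ a 0 + t * ψ a 1, ψ a 1]
  sl : ∀ g : SL(2, K), ∃ e ∈ H, e ∈ cz D ∧ ∀ a ∈ A, ψ (e * a * e⁻¹) = g.1 *ᵥ ψ a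
  semi : ∀ h ∈ H, ∃ σ : K ≃+* K, ∀ a ∈ A, ∀ b ∈ A, ∀ k : K, ψ b = k • ψ a →
    ψ (h * b * h⁻¹) = σ k • ψ (h * a * h⁻¹)
  fth : ∀ h ∈ H, (∀ a ∈ A, ψ (h * a * h⁻¹) = ψ a) → h ∈ A

/-- odd complement `O` and involution `y` in the model `L` of `N_F(B)` -/
structure Oc {Γ : Type u} [Group Γ] (F : FS Γ) (B A L O : Subgroup Γ) (y : Γ) : Prop where
  mdl : (F.NF B).Mdl 2 L
  OL : O ≤ L
  OA : O ≤ nz A
  odd : Odd (Nat.card O)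
  yT : y ∈ F.S
  yB : y ∉ B
  yy : y * y = 1
  yO : y ∈ nz O
  dec : ∀ l ∈ L, l ∈ nz A → ∃ b ∈ B, ∃ o ∈ O, l = b * o

/-- the list of conclusions -/
def Cl (S : Type u) [Group S] (G : Type v) [Group G] : Prop :=
  ((∃ m : ℕ, 8 ≤ m ∧ Nonempty (S ≃* DihedralGroup m)) ∧
      ∃ (K : Type) (_ : Field K) (_ : Fintype K), Odd (Fintype.card K) ∧
        (Nonempty (G ≃* Matrix.ProjectiveSpecialLinearGroup (Fin 2) K) ∨
          Nonempty (G ≃* GL (Fin 2) K ⧸ Subgroup.center (GL (Fin 2) K)))) ∨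
    (Cfsg.IsQuasiDihedral S ∧
      ∃ (K : Type) (_ : Field K) (_ : Fintype K) (r : ℕ), Odd r ∧ Fintype.card K = r ^ 2 ∧
        ∃ L : Subgroup G, L.Normal ∧ L.index = 2 ∧ Subgroup.centralizer (L : Set G) = ⊥ ∧
          Nonempty (L ≃* Matrix.ProjectiveSpecialLinearGroup (Fin 2) K)) ∨
    (Cfsg.IsQuasiDihedral S ∧ Nat.card S = 16 ∧
      Nonempty (G ≃* Matrix.ProjectiveSpecialLinearGroup (Fin 3) (ZMod 3))) ∨
    (Nat.card S = 32 ∧ (Nonempty (G ≃* MulAut (alternatingGroup (Fin 6))) ∨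
      Nonempty (G ≃* MulAut (Matrix.ProjectiveSpecialLinearGroup (Fin 3) (ZMod 3))))) ∨
    (Nat.card S = 2 ^ 7 ∧ Cfsg.Spor.IsoJ3 G) ∨
    (∃ (K : Type) (_ : Field K) (_ : Fintype K),
      (Nonempty (Cfsg.generalizedFittingSubgroup G ≃* Matrix.ProjectiveSpecialLinearGroup (Fin 3) K) ∨
        (Nonempty (Cfsg.generalizedFittingSubgroup G ≃* Cfsg.PSp 2 K) ∧
          ∃ e : ℕ, Odd e ∧ Fintype.card K = 2 ^ e)) ∧
      Cfsg.generalizedFittingSubgroup G ≤ Cfsg.pResidual 2 G ∧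
      Odd ((Cfsg.generalizedFittingSubgroup G).subgroupOf (Cfsg.pResidual 2 G)).index ∧
      (Cfsg.pResidual 2 G).index = 2)

/-! ### chunks on the local configuration -/
section
variable (K : Type) [Field K] [Finite K] [CharP K 2] (Γ : Type u) [Group Γ] [Finite Γ]
  (Γ' : Type v) [Group Γ'] [Finite Γ']

def AL : Prop := ∀ (F : FS Γ) (B A D H : Subgroup Γ) (x : Γ), Cg K F B A D H x → F.N A ≤ B
def TB : Prop := ∀ (F : FS Γ) (B A D H : Subgroup Γ) (x : Γ), Cg K F B A D H x → F.N A ≤ B →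
  (4 ≤ Nat.card K ∨ D ≠ ⊥) → Tw F.S B ∧ F.WC B
def YY : Prop := ∀ (F : FS Γ) (B A D H L : Subgroup Γ) (x : Γ), Cg K F B A D H x → F.N A ≤ B →
  Tw F.S B → F.WC B → 4 ≤ Nat.card K → (F.NF B).Mdl 2 L → ∃ O y, Oc F B A L O y
def XX : Prop := ∀ (F : FS Γ) (B A D H L O : Subgroup Γ) (x y : Γ), Cg K F B A D H x → F.N A ≤ B →
  Tw F.S B → F.WC B → 4 ≤ Nat.card K → Oc F B A L O y → ∃ ε ρ ev w Y, Cz (K := K) ε ρ F ev y w Y
def Q2 : Prop := ∀ (F : FS Γ) (B A D H : Subgroup Γ) (x : Γ), Cg K F B A D H x → F.N A ≤ B →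
  Tw F.S B → F.WC B → Nat.card K = 2 → D ≠ ⊥ → ∃ ρ ev y w Y, Cz (K := K) true ρ F ev y w Y

/-! ### chunks in coordinates -/

def ES : Prop := ∀ (ε : Bool) (ρ : K ≃+* K) (F : FS Γ) (ev : Uc K →* Γ) (x : Γ), Co ε ρ F.S ev x →
  F.Sat 2 → Cn F → EL ε ρ F ev x
def EX : Prop := ∀ (ε : Bool) (ρ : K ≃+* K) (ev : Uc K →* Γ) (x : Γ), Cb ε ρ ev x →
  ∀ a ∈ nz (R0 ε ρ ev x), a ∉ nz ((UC K).map ev) →
    Nat.card K = 2 ∧ ε = true ∨ Nat.card K = 4 ∧ ε = false ∧ ρ ≠ .refl K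
def J2 : Prop := ∀ (ρ : K ≃+* K) (F : FS Γ) (ev : Uc K →* Γ) (x : Γ), Co true ρ F.S ev x →
  F.Sat 2 → Nat.card K = 2 → Mo true ρ F ev x → OA F (R0 true ρ ev x)
def J4 : Prop := ∀ (ρ : K ≃+* K) (F : FS Γ) (ev : Uc K →* Γ) (x : Γ), Co false ρ F.S ev x →
  F.Sat 2 → Nat.card K = 4 → ρ ≠ .refl K → Mo false ρ F ev x → OA F (R0 false ρ ev x)
def J1 : Prop := ∀ (ρ : K ≃+* K) (F : FS Γ) (ev : Uc K →* Γ) (x w : Γ) (Y : Subgroup Γ),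
  Cz false ρ F ev x w Y → Nat.card K = 4 → ρ ≠ .refl K → OA F (R0 false ρ ev x) →
    ∀ σ l m, (∃ y ∈ Y, Dg ev y σ l m) ↔ σ = .refl K ∧ l ≠ 0 ∧ m ≠ 0
def ISO : Prop := ∀ (ε : Bool) (ρ : K ≃+* K) (T : Subgroup Γ) (ev : Uc K →* Γ) (x : Γ)
  (T' : Subgroup Γ') (ev' : Uc K →* Γ') (x' : Γ'), Co ε ρ T ev x → Co ε ρ T' ev' x' →
    ∃ j : T →* Γ', Function.Injective j ∧ j.range = T' ∧ (∀ u, ex j (ev u) = ev' u) ∧ ex j x = x'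
def EG : Prop := ∀ (F : FS Γ) (F' : FS Γ') (j : F.S →* Γ'), F.Sat 2 → F'.Sat 2 → Function.Injective j →
  j.range = F'.S →
  (∀ Q, Q = F.S ∨ F.Ess Q → ∀ a ∈ F.A Q, Odd (orderOf a) → ∃ a' ∈ F'.A (im j Q), IC j Q a a') →
  (∀ Q, Q ≤ F.S → im j Q = F'.S ∨ F'.Ess (im j Q) → ∀ a' ∈ F'.A (im j Q), Odd (orderOf a') →
    ∃ a ∈ F.A Q, IC j Q a a') → Epi j F F'
def MT : Prop := ∀ (ε : Bool) (ρ : K ≃+* K) (F : FS Γ) (ev : Uc K →* Γ) (x w : Γ) (Y : Subgroup Γ)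
  (F' : FS Γ') (ev' : Uc K →* Γ') (x' w' : Γ') (Y' : Subgroup Γ'), Cz ε ρ F ev x w Y →
  Cz ε ρ F' ev' x' w' Y' → La ev Y ev' Y' → EL ε ρ F ev x → EL ε ρ F' ev' x' →
  (Mo ε ρ F ev x → OA F' (R0 ε ρ ev' x')) → (Mo ε ρ F' ev' x' → OA F (R0 ε ρ ev x)) → Is F F'
def GC : Prop := ∀ (ε : Bool) (ρ : K ≃+* K) (G T : Subgroup Γ) (ev : Uc K →* Γ) (x w : Γ)
  (Y : Subgroup Γ), Gz ε ρ G T ev x w Y → Cz ε ρ (ofSub G T) ev x w Y ∧ Cn (ofSub G T)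
def KT : Prop := ∀ (K' : Type) [Field K'] [CharP K' 2] (e : K ≃+* K') (ε : Bool) (ρ : K ≃+* K) (F : FS Γ)
  (ev : Uc K →* Γ) (x w : Γ) (Y : Subgroup Γ), Cz ε ρ F ev x w Y → ∃ ev' : Uc K' →* Γ,
    Cz ε ((e.symm.trans ρ).trans e) F ev' x w Y ∧
      (Mo ε ρ F ev x ↔ Mo ε ((e.symm.trans ρ).trans e) F ev' x)
def RL : Prop := ∀ (ε : Bool) (ρ : K ≃+* K) (ev : Uc K →* Γ) (x : Γ) (Y : Subgroup Γ)
  (L Γ₀ : Subgroup Γ') (ev' : Uc K →* Γ') (x' w' : Γ'), Cb ε ρ ev x → Cy ev x Y →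
  Tg ε ρ L Γ₀ ev' x' w' → 4 ≤ Nat.card K → ∃ G T Y', Gz ε ρ G T ev' x' w' Y' ∧ La ev Y ev' Y' ∧
    ¬ Mo ε ρ (ofSub G T) ev' x' ∧ LG L G
def C6 : Prop := ∀ L G : Subgroup Γ, LG L G → Cfsg.generalizedFittingSubgroup G = L.subgroupOf G ∧
  L ≤ G ∧ Cfsg.generalizedFittingSubgroup G ≤ Cfsg.pResidual 2 G ∧
  Odd ((Cfsg.generalizedFittingSubgroup G).subgroupOf (Cfsg.pResidual 2 G)).index ∧
  (Cfsg.pResidual 2 G).index = 2

/-! ### targets -/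

def TL : Prop := ∀ ρ : K ≃+* K, 4 ≤ Nat.card K → (∀ a, ρ (ρ a) = a) →
  ∃ (X : Type) (_ : Group X) (_ : Finite X) (L Γ₀ : Subgroup X) (ev : Uc K →* X) (x w : X),
    Tg false ρ L Γ₀ ev x w ∧ Nonempty (L ≃* Matrix.ProjectiveSpecialLinearGroup (Fin 3) K)
def TS : Prop := ∀ ρ : K ≃+* K, 4 ≤ Nat.card K → (∀ a, ρ (ρ a) ^ 2 = a) →
  ∃ (X : Type) (_ : Group X) (_ : Finite X) (L Γ₀ : Subgroup X) (ev : Uc K →* X) (x w : X),
    Tg true ρ L Γ₀ ev x w ∧ Nonempty (L ≃* Cfsg.PSp 2 K)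
end

def TJ : Prop := ∃ (K : Type) (_ : Field K) (_ : CharP K 2) (ρ : K ≃+* K) (X : Type) (_ : Group X)
  (_ : Finite X) (G T : Subgroup X) (ev : Uc K →* X) (x w : X) (Y : Subgroup X), Nat.card K = 4 ∧
  ρ ≠ .refl K ∧ Gz false ρ G T ev x w Y ∧ Mo false ρ (ofSub G T) ev x ∧ Cfsg.Spor.IsoJ3 G
def TA : Prop := ∃ (X : Type) (_ : Group X) (_ : Finite X) (G T : Subgroup X) (ev : Uc (ZMod 2) →* X)
  (x w : X) (Y : Subgroup X), Gz true (.refl _) G T ev x w Y ∧ ¬ Mo true (.refl _) (ofSub G T) ev x ∧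
  Nonempty (G ≃* MulAut (alternatingGroup (Fin 6)))
def T3 : Prop := ∃ (X : Type) (_ : Group X) (_ : Finite X) (G T : Subgroup X) (ev : Uc (ZMod 2) →* X)
  (x w : X) (Y : Subgroup X), Gz true (.refl _) G T ev x w Y ∧ Mo true (.refl _) (ofSub G T) ev x ∧
  Nonempty (G ≃* MulAut (Matrix.ProjectiveSpecialLinearGroup (Fin 3) (ZMod 3)))

/-- the dihedral and semidihedral case -/
def DS : Prop := ∀ {Ω : Type u} [Group Ω] {S : Subgroup Ω} [Finite S], IsPGroup 2 S →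
  ∀ F : Cfsg.FusionSystem S, F.IsSaturated 2 → F.core = ⊥ →
  (∀ U : Subgroup Ω, U ≠ ⊥ → F.IsFullyNormalized U →
    ∀ E : Cfsg.FusionSystem (Cfsg.FusionSystem.normalizerIn S U), F.IsNormalizerSystem U E →
      E.IsSolvableSystem) →
  ((∃ m, Nonempty (S ≃* DihedralGroup m)) ∨ Cfsg.IsQuasiDihedral S) → 16 ≤ Nat.card S →
  ∃ (G : Type) (_ : Group G) (_ : Finite G) (ι : S →* G), F.IsRealizedBy ι ∧
    (∃ T : Sylow 2 G, (T : Subgroup G) = ι.range) ∧ Cl S G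
/-- invariance of the list -/
def UL : Prop := ∀ (S : Type u) [Group S] (G : Type) [Group G] [Finite G] (G' : Type v) [Group G'],
  Nonempty (G ≃* G') → Cl S G → Cl S G'

end H4.MF
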