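import Cfsg.Agent.H4.MF0
import Cfsg.Agent.H28.GC9
import Cfsg.Agent.H25.KL3

/-! Minimal `2`-fusion systems, pushing-up case: interface, part two (the Baumann subgroup). -/

set_option autoImplicit false
set_option linter.unusedVariables false

namespace H4.MF
open Subgroup H25 H25.FS
open Cfsg (pCoreOf omegaOneCenter)
open H29.PU (bm zj)
open H29.BB (CM Amb)
open H28.GC (Bk Pr)

section
variable {n : ℕ}

/-- standing hypotheses -/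
structure Hy (F N : FS (Univ n)) : Prop where
  sat : F.Sat 2
  satN : N.Sat 2
  le : N ≤ F
  eS : N.S = F.S
  ne : ¬ F ≤ N
  big : Big F.S
  solv : ∀ U, U ≠ ⊥ → F.FN U → (F.NF U).Solv
  par : ∀ R, R ≠ ⊥ → R ≤ F.S → F.S ≤ nz R → F.NF F.S ≤ F.NF R → F.NF R ≤ N

variable {Γ : Type} [Group Γ]

/-- `P` normalizes a nontrivial subgroup whose normalizer system is not in `N` -/
def Pm (F N : FS Γ) (P : Subgroup Γ) : Prop :=
  P ≤ F.S ∧ ∃ U, U ≠ ⊥ ∧ U ≤ F.S ∧ P ≤ nz U ∧ ¬ F.NF U ≤ N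

/-- maximality of the Baumann subgroup `B` -/
structure Ky (F N : FS Γ) (B : Subgroup Γ) : Prop where
  le : B ≤ F.S
  ne : B ≠ ⊥
  key : ∀ g, F.T B g → ∀ S, Pm F N S → cj g B ≤ S → bm 2 S = cj g B

/-- `C_F(V) ≤ C_N(V)` -/
def Sg (F N : FS Γ) (V : Subgroup Γ) : Prop :=
  ∀ P g, V ≤ P → P ≤ nz V → F.T P g → g ∈ cz V → N.T P g
/-- `Sg` for all conjugates of the pair `R`, `V` -/
def Sh (F N : FS Γ) (R V : Subgroup Γ) : Prop := ∀ g, F.T (R ⊔ V) g → Sg F N (cj g V)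
/-- the part of a model `G` inducing `N`-automorphisms on `O₂(G)` -/
def MK (N : FS Γ) (G : Subgroup Γ) : Subgroup Γ := G ⊓ N.A (pCoreOf 2 G)

/-- a block inducing `F`-morphisms not in `N` -/
structure FB (K : Type) [Field K] (F N : FS (Univ n)) (B E : Subgroup (Univ n)) : Prop where
  ky : Ky F N B
  bk : Bk K B E
  good : Good (E ⊔ B)
  sub : ofSub (E ⊔ B) B ≤ F
  out : ¬ E ≤ N.A (pCoreOf 2 (E ⊔ B))

/-- two blocks exchanged by `x`; `H` is a model of the normalizer of `A = O₂(EB)` -/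
structure Cf (K : Type) [Field K] (F : FS Γ) (B E H : Subgroup Γ) (x : Γ) : Prop where
  sat : F.Sat 2
  solv : ∀ U, U ≠ ⊥ → U ≤ F.S → (F.NF U).Solv
  pr : Pr K K B E (cj x E)
  BT : B ≤ F.S
  xT : x ∈ F.S
  xB : x ∈ nz B
  fn : F.FN (pCoreOf 2 (E ⊔ B))
  cen : F.Centric (pCoreOf 2 (E ⊔ B))
  mdl : (F.NF (pCoreOf 2 (E ⊔ B))).Mdl 2 H
  EH : E ≤ H
  HE : H ≤ nz E
  bmS : bm 2 (F.N (pCoreOf 2 (E ⊔ B))) = B
end

variable (n : ℕ)

def P0 : Prop := ∀ F N : FS (Univ n), Hy F N → ∃ B, Ky F N B ∧ Pm F N B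
def P1 : Prop := ∀ (F N : FS (Univ n)) (B : Subgroup (Univ n)), Hy F N → Ky F N B →
  (∀ D, D ≠ ⊥ → D ≤ B → F.A B ≤ nz D → F.NF D ≤ N) ∧ ∀ P g, B ≤ P → F.T P g → N.T P g
def SV : Prop := ∀ F N : FS (Univ n), Hy F N → ∀ U, U ≠ ⊥ → U ≤ F.S → (F.NF U).Solv
def LOC : Prop := ∀ (F N : FS (Univ n)) (B R V : Subgroup (Univ n)), Hy F N → Ky F N B → B ≤ R → R ≤ F.S →
  V ≠ ⊥ → R ≤ nz V → Sh F N R V → ∀ P a, V ≤ P → P ≤ F.S → R ≤ nz P → a ∈ F.A P → a ∈ nz V → N.T V a →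
    N.T P a
def CMK : Prop := ∀ (F N : FS (Univ n)) (B U G : Subgroup (Univ n)), Hy F N → Ky F N B → U ≠ ⊥ → F.FN U →
  B ≤ nz U → (F.NF U).Mdl 2 G → ¬ F.NF U ≤ N → CM 2 G B (MK N G) ∧ bm 2 (F.N U) = B ∧
    ∀ k ∈ MK N G, ∀ P, P ≤ F.N U → cj k P ≤ F.N U → N.T P k
def TR : Prop := ∀ (E : FS (Univ n)) (G L B : Subgroup (Univ n)), E.Mdl 2 G → Good G → Good L → ChP 2 L →
  IsPGroup 2 B → Syl 2 B L → ofSub L B ≤ E → E.Centric (pCoreOf 2 L) → ∃ g ∈ cz B, cj g L ≤ G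
def PA : Prop := ∀ F N : FS (Univ n), Hy F N → ∃ (K : Type) (_ : Field K) (_ : Finite K)
  (B E : Subgroup (Univ n)), FB K F N B E ∧ F.FN B
def QC : Prop := ∀ (K : Type) [Field K] [Finite K] (F N : FS (Univ n)) (B E : Subgroup (Univ n)), Hy F N →
  FB K F N B E → F.Centric (pCoreOf 2 (E ⊔ B)) ∧ (∀ g, F.T B g → FB K F N (cj g B) (cj g E)) ∧
    ∀ U G, U ≠ ⊥ → F.FN U → U ≤ B → E ⊔ B ≤ nz U → (F.NF U).Mdl 2 G → Good G →
      ¬ F.NF U ≤ N ∧ ∃ g ∈ cz B, cj g E ≤ G ∧ FB K F N B (cj g E)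
def PB : Prop := ∀ (K : Type) [Field K] [Finite K] (F N : FS (Univ n)) (B E : Subgroup (Univ n)), Hy F N →
  FB K F N B E → ∃ a ∈ F.A B, Pr K K B E (cj a E)
def PC : Prop := ∀ (K : Type) [Field K] [Finite K] (F N : FS (Univ n)) (B E : Subgroup (Univ n))
  (a : Univ n), Hy F N → FB K F N B E → F.FN B → a ∈ F.A B → Pr K K B E (cj a E) →
    ∃ E' H x, Cf K F B E' H x
def CG : Prop := ∀ (K : Type) [Field K] [Finite K] (F : FS (Univ n)) (B E H : Subgroup (Univ n))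
  (x : Univ n), Cf K F B E H x → Nonempty (Cg K F B (pCoreOf 2 (E ⊔ B)) (B ⊓ cz E) H x)

end H4.MF
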