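import Cfsg.Agent.H4.MF3
import Cfsg.Agent.H28.GC5

/-! Minimal `2`-fusion systems: no field automorphisms, and weak closure of `B`. -/

set_option autoImplicit false
set_option linter.unusedVariables false
set_option linter.unusedSectionVars false

namespace H4.MF
open Subgroup H25 H25.FS

universe u
variable {K : Type} [Field K] {Γ : Type u} [Group Γ] [Finite Γ] {F : FS Γ} {B A D H P Z : Subgroup Γ}
  {x a b f g h u v : Γ} {σ σ' : K ≃+* K} {p q r s p' q' r' s' : K}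

theorem exists_sq_mem (hP : IsPGroup 2 P) (n : ¬ P ≤ B) : ∃ f ∈ P, f ∉ B ∧ f * f ∈ B := by
  classical
  obtain ⟨g, hg, gB⟩ := SetLike.not_le_iff_exists.1 n
  obtain ⟨k, e⟩ := hP ⟨g, hg⟩
  have h : ∃ k, g ^ 2 ^ k ∈ B := ⟨k, by rw [show g ^ 2 ^ k = 1 from congrArg Subtype.val e]; exact one_mem _⟩
  obtain ⟨j, hj⟩ := Nat.exists_eq_succ_of_ne_zero (n := Nat.find h) fun e => gB (by simpa [e] using Nat.find_spec h)
  exact ⟨g ^ 2 ^ j, pow_mem hg _, Nat.find_min h (by omega), by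
    rw [← pow_add, ← mul_two, ← pow_succ, ← Nat.succ_eq_add_one, ← hj]; exact Nat.find_spec h⟩

namespace Cg
variable (c : Cg K F B A D H x)
include c

variable {c} in
theorem M.uσ (m : c.M h σ p q r s) (m' : c.M h σ' p' q' r' s') (p0 : p ≠ 0) (y : K) : σ y = σ' y := by
  obtain ⟨a, ha, e⟩ := c.onto ![y, 0]
  have i := congrFun ((m a ha).symm.trans (m' a ha)) 0
  rw [e, ← (m.uniq m').1] at i
  exact mul_left_cancel₀ p0 (by simpa using i)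
theorem xxD : cj x (cj x D) = D := by
  rw [cj_cj]; exact mem_nz.1 (c.nD (c.NH ⟨mul_mem c.xT c.xT, mem_nz.2 (by rw [← cj_cj, c.xx])⟩))
theorem N₂ (hf : f ∈ F.N A) : f ∈ F.N (cj x A) := ⟨hf.1, c.n₂_of (c.SB hf) hf.2⟩

section
variable (hg : g ∈ H) (n : g ∈ nz B) (o : g ∉ B) (sq : g * g ∈ B)
include hg n o sq
theorem fld : ∃ σ p q s z, c.M g σ p q 0 s ∧ σ z ≠ z ∧ (∀ y, σ (σ y) = y) ∧ p * σ p = 1 ∧ s * σ s = 1 ∧
    c.τ (g * g) = p * σ q + q * σ s := by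
  haveI := c.ch
  haveI := c.finK
  obtain ⟨σ, p, q, r, s, m⟩ := c.exM hg
  obtain rfl := m.r_zero (c.nz_C n)
  have m2 := m.mul m (c.nH hg)
  have e := (c.M_B sq).uniq m2
  simp only [map_zero, mul_zero, add_zero, zero_mul, zero_add] at e
  by_cases h : ∀ z, σ z = z
  · obtain rfl : σ = .refl K := RingEquiv.ext h
    obtain rfl : p = 1 := H28.GC.eq_one_of_pow (k := 1) (by simpa [pow_two] using e.1.symm)
    obtain rfl : s = 1 := H28.GC.eq_one_of_pow (k := 1) (by simpa [pow_two] using e.2.2.2.symm)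
    exact absurd (m.memB hg) o
  · obtain ⟨z, hz⟩ := not_forall.1 h
    exact ⟨σ, p, q, s, z, m, hz, fun y => ((c.M_B sq).uσ m2 one_ne_zero y).symm, e.1.symm, e.2.2.2.symm, e.2.1⟩
theorem fixA : Nat.card ↥(A ⊓ cz (zpowers g)) ^ 2 ≤ Nat.card K * Nat.card ↥(A ⊓ cj x A ⊓ cz (zpowers g)) ^ 2 := by
  haveI := c.finK
  obtain ⟨σ, p, q, s, z, m, hz, -⟩ := c.fld hg n o sq
  have a := card_le_add (V := A ⊓ cz (zpowers g)) (W := cj x A) (fun a => c.ψ a 1) (H28.GC.fixS s σ)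
    (fun a ha b hb => congrFun (c.mul a ha.1 b hb.1) 1) (fun a ha => (c.memC a ha.1).1) fun a ha => by
      have := congrFun (m a ha.1) 1
      rw [mem_cz_z.1 ha.2] at this
      show _ = _; simpa using this.symm
  have b := H28.GC.fix_sq (γ := s) (σ := σ) hz
  rw [← inf_assoc, inf_comm (cj x A)] at a
  exact (Nat.pow_le_pow_left a 2).trans (by rw [mul_pow, pow_two]; exact Nat.mul_le_mul_right _ b)
theorem fixV {V : Subgroup Γ} (l : V ≤ A ⊓ cj x A) :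
    Nat.card ↥(V ⊓ cz (zpowers g)) ^ 2 ≤ Nat.card K * Nat.card ↥(D ⊓ V ⊓ cz (zpowers g)) ^ 2 := by
  haveI := c.finK
  obtain ⟨σ, p, q, s, z, m, hz, -⟩ := c.fld hg n o sq
  have i : ∀ a ∈ V ⊓ cz (zpowers g), c.ψ a 1 = 0 := fun a ha => (c.memC a (l ha.1).1).2 (l ha.1).2
  have a := card_le_add (V := V ⊓ cz (zpowers g)) (W := D) (fun a => c.ψ a 0) (H28.GC.fixS p σ)
    (fun a ha b hb => congrFun (c.mul a (l ha.1).1 b (l hb.1).1) 0)
    (fun a ha e => c.memD (l ha.1).1 (vx e (i a ha))) fun a ha => by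
      have := congrFun (m a (l ha.1).1) 0
      rw [mem_cz_z.1 ha.2, i a ha] at this
      show _ = _; simpa using this.symm
  have b := H28.GC.fix_sq (γ := p) (σ := σ) hz
  rw [← inf_assoc] at a
  exact (Nat.pow_le_pow_left a 2).trans (by rw [mul_pow, pow_two]; exact Nat.mul_le_mul_right _ b)
theorem fixC : Nat.card ↥(A ⊓ cj x A ⊓ cz (zpowers g)) ^ 2 ≤ Nat.card K * Nat.card ↥(D ⊓ cz (zpowers g)) ^ 2 := by
  simpa only [inf_eq_left.2 c.DC] using c.fixV hg n o sq le_rfl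
theorem fixD₂ : Nat.card ↥(cj x D ⊓ cz (zpowers g)) ^ 2 ≤ Nat.card K := by
  simpa [c.d0] using c.fixV hg n o sq c.D₂C
end

theorem fixD (hf : f ∈ F.N A) (o : f ∉ B) (sq : f * f ∈ B) : Nat.card ↥(D ⊓ cz (zpowers f)) ^ 2 ≤ Nat.card D := by
  by_cases h : D = ⊥
  · simp [h]
  · simpa only [c.xxD, c.cardD h] using c.symm.fixD₂ (c.symm.NH (c.N₂ hf)) (c.SB hf) o sq

theorem exists_inv (n : ¬ F.N A ≤ B) : ∃ f ∈ F.N A, f ∉ B ∧ f * f = 1 := by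
  haveI := c.ch
  obtain ⟨f, hf, o, sq⟩ := exists_sq_mem (c.pgT.to_le inf_le_left) n
  obtain ⟨σ, p, q, s, z, m, -, i, e1, e2, -⟩ := c.fld (c.NH hf) (c.SB hf) o sq
  obtain ⟨b, hb, e⟩ := c.τ_onto (q / s)
  have hb := c.A₂B hb
  have s0 : s ≠ 0 := left_ne_zero_of_mul_eq_one e2
  have m1 := (c.M_B hb).mul m hf.2
  simp only [e, RingEquiv.refl_apply, one_mul, mul_zero, add_zero, zero_mul, zero_add, div_mul_cancel₀ _ s0, aa] at m1
  have h1 := mul_mem (c.BN hb) hf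
  have o1 : b * f ∉ B := fun k => o ((mul_mem_cancel_left hb).1 k)
  have m2 := m1.mul m1 h1.2
  rw [show σ.trans (.refl K) = σ from rfl, show σ.trans σ = .refl K from RingEquiv.ext i] at m2
  simp only [map_zero, mul_zero, zero_mul, add_zero, zero_add, e1, e2] at m2
  have hA := m2.memA (c.NH (mul_mem h1 h1))
  generalize b * f = g at *
  obtain ⟨I, i1, i2, i3⟩ := exists_img c.ea h1.2 (c.czA hA)
  have j1 := c.fixA (c.NH h1) (c.SB h1) o1 (c.AB hA)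
  have j2 := c.fixC (c.NH h1) (c.SB h1) o1 (c.AB hA)
  have j3 := c.fixD h1 o1 (c.AB hA)
  have j4 : Nat.card ↥(A ⊓ cz (zpowers g)) ^ 2 ≤ Nat.card A := by
    rw [c.cardA, c.cardC]
    exact j1.trans (Nat.mul_le_mul_left _ (j2.trans (Nat.mul_le_mul_left _ j3)))
  rw [i2, pow_two] at j4
  obtain ⟨v, hv, k⟩ := i3 (g * g) ((eq_of_le_of_card_ge i1 (Nat.le_of_mul_le_mul_left j4 Nat.card_pos)).ge
    ⟨hA, mem_cz_z.2 (by group)⟩)
  refine ⟨v * g, mul_mem (c.BN (c.AB hv)) h1, fun k => o1 ((mul_mem_cancel_left (c.AB hv)).1 k), ?_⟩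
  calc _ = v * (g * v * g⁻¹) * (g * g) := by group
    _ = v * (g * (v * v) * g⁻¹) * v := by rw [k]; group
    _ = 1 := by rw [c.sq hv]; simp [c.sq hv]

theorem exists_fix (hg : g ∈ H) (n : g ∈ nz B) (o : g ∉ B) (sq : g * g = 1)
    (d : Nat.card ↥(D ⊓ cz (zpowers g)) ^ 2 ≤ Nat.card D) : ∃ v ∈ cj x A, v ∉ A ∧ v ∈ cz (zpowers g) := by
  by_contra! k
  haveI := c.finK
  obtain ⟨I, i1, i2, -⟩ := exists_img c.ea₂ (c.n₂_of n (c.nH hg)) (sq ▸ one_mem _)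
  have e : cj x A ⊓ cz (zpowers g) = A ⊓ cj x A ⊓ cz (zpowers g) := le_antisymm
    (fun v hv => ⟨⟨by_contra fun h => k v hv.1 h hv.2, hv.1⟩, hv.2⟩) (inf_le_inf_right _ inf_le_right)
  have j1 := card_le_of_le i1
  have j2 := c.fixC hg n o (sq ▸ one_mem _)
  rw [card_cj, c.cardA, c.cardC] at i2
  rw [e] at i2 j1
  have j3 : Nat.card K * (Nat.card K * Nat.card D) ≤ Nat.card K * (1 * Nat.card D) := by
    rw [i2, one_mul]
    exact (Nat.mul_le_mul_left _ j1).trans ((pow_two _).ge.trans (j2.trans (Nat.mul_le_mul_left _ d)))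
  exact (Nat.le_of_mul_le_mul_right (Nat.le_of_mul_le_mul_left j3 Nat.card_pos) Nat.card_pos).not_gt
    Finite.one_lt_card

section
variable (hf : f ∈ F.N A) (o : f ∉ B) (sq : f * f = 1)
include hf o sq
theorem exists_op : ∃ h ∈ H, h ∈ cz (zpowers f) ∧ ∀ u ∈ A ⊓ cj x A, u ∉ D → h * u * h⁻¹ ∉ cj x A := by
  haveI := c.ch
  obtain ⟨σ, p, q, s, z, m, hz, i, e1, e2, e3⟩ := c.fld (c.NH hf) (c.SB hf) o (sq ▸ one_mem _)
  rw [sq, (c.τ_zero (one_mem _)).2 (one_mem _)] at e3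
  have s0 : s ≠ 0 := left_ne_zero_of_mul_eq_one e2
  have s1 : σ s ≠ 0 := right_ne_zero_of_mul_eq_one e2
  have z0 : z + σ z ≠ 0 := fun e => hz (CharTwo.add_eq_zero.1 e).symm
  obtain ⟨b, hb, e⟩ := c.τ_onto (z * q / (s * (z + σ z)))
  have bi := H28.GC.inv_of_ea c.ea₂ hb
  have hb := c.A₂B hb
  have m1 := (c.M_B hb).mul (m.mul (c.M_B hb) (c.nA hb)) (mul_mem hf.2 (c.nA hb))
  rw [show ((RingEquiv.refl K).trans σ).trans (.refl K) = σ from rfl] at m1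
  simp only [e, RingEquiv.refl_apply, map_one, map_zero, mul_one, one_mul, mul_zero, add_zero, zero_mul,
    zero_add] at m1
  rw [show p * σ (z * q / (s * (z + σ z))) + q + z * q / (s * (z + σ z)) * s = 0 by
    rw [map_div₀, map_mul, map_mul, map_add, i, add_comm (σ z)]
    field_simp
    linear_combination (-σ z) * e3 + (z * q * σ s + q * σ z * σ s - σ z * σ s * q) * Uc.two K] at m1
  obtain ⟨w, w1, w2, m2⟩ := c.sl' (p := 0) (q := 1) (r := 1) (s := 0) (by simp [CharTwo.neg_eq])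
  have m3 : c.M w⁻¹ (.refl K) 0 1 1 0 := by simpa [CharTwo.neg_eq] using m2.inv w1
  have h1 : b * (f * b) ∈ F.N A := mul_mem (c.BN hb) (mul_mem hf (c.BN hb))
  have m4 := m3.mul (m1.mul m2 (c.nH w1)) (mul_mem h1.2 (c.nH w1))
  rw [show ((RingEquiv.refl K).trans σ).trans (.refl K) = σ from rfl] at m4
  simp only [RingEquiv.refl_apply, map_one, map_zero, mul_one, one_mul, mul_zero, add_zero, zero_mul,
    zero_add] at m4
  have h2 := mul_mem (inv_mem w1) (mul_mem (c.NH h1) w1)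
  have sq1 : b * (f * b) * (b * (f * b)) = 1 := by
    conv_lhs => enter [1, 2, 2]; rw [← bi]
    calc _ = b * (f * f) * b := by group
      _ = 1 := by rw [sq, mul_one]; exact mul_eq_one_iff_inv_eq.2 bi
  obtain ⟨v, v1, v2, v3⟩ := c.exists_fix h2 (m4.nzB h2) (fun k => hz (m4.uσ (c.M_B k) s0 z))
    (by calc _ = w⁻¹ * (b * (f * b) * (b * (f * b))) * w := by group
      _ = 1 := by rw [sq1]; simp) (by
      refine le_trans (Nat.pow_le_pow_left (card_le_of_le ?_) 2) (c.fixD h1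
        (fun k => o ((mul_mem_cancel_right hb).1 ((mul_mem_cancel_left hb).1 k))) (sq1 ▸ one_mem _))
      refine fun d hd => ⟨hd.1, mem_cz_z.2 ?_⟩
      have := mem_cz_z.1 hd.2
      rw [← mem_cz.1 w2 d hd.1]
      conv_rhs => rw [← this]
      group)
  have m5 := m2.mul ((c.M_B (c.A₂B v1)).mul m3 (c.nH (inv_mem w1))) (mul_mem (c.nA (c.A₂B v1)) (c.nH (inv_mem w1)))
  refine ⟨b * (w * (v * w⁻¹)) * b⁻¹, mul_mem (mul_mem (c.BH hb) (mul_mem w1 (mul_mem (c.BH (c.A₂B v1))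
    (inv_mem w1)))) (inv_mem (c.BH hb)), mem_cz_z.2 ?_, fun u hu n k => ?_⟩
  · conv_rhs => rw [← mem_cz_z.1 v3]
    conv_rhs => enter [1, 2, 2, 1, 1, 1, 2, 1, 1]; rw [← bi]
    conv_rhs => enter [1, 2, 2, 1, 2, 1, 2, 1, 1]; rw [← bi]
    group
  · rw [show b * (w * (v * w⁻¹)) * b⁻¹ * u * (b * (w * (v * w⁻¹)) * b⁻¹)⁻¹ =
      b * (w * (v * w⁻¹) * (b⁻¹ * u * b⁻¹⁻¹) * (w * (v * w⁻¹))⁻¹) * b⁻¹ by group,
      mem_cz.1 (c.B_czC (inv_mem hb)) u hu] at k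
    have k := (c.memC _ (conj_mem_of_mem_nz (c.nH (mul_mem w1 (mul_mem (c.BH (c.A₂B v1)) (inv_mem w1)))) hu.1)).2
      (by simpa [mul_assoc] using conj_mem_of_mem_nz' (c.nA₂ hb) k)
    have u1 := (c.memC u hu.1).2 hu.2
    rw [m5 u hu.1, u1] at k
    rcases mul_eq_zero.1 (show c.τ v * c.ψ u 0 = 0 by simpa using k) with k | k
    exacts [v2 ((c.τ_zero (c.A₂B v1)).1 k), n (c.memD hu.1 (vx k u1))]
theorem step (hZ : (F.NF (zpowers f)).SC Z) (h1 : u ∈ Z ⊓ cz (zpowers f)) (h2 : u ∈ A ⊓ cj x A) (h3 : u ∉ D) :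
    ∃ v ∈ Z ⊓ cz (zpowers f), v ∈ A ∧ v ∉ cj x A := by
  obtain ⟨h, hh, k, l⟩ := c.exists_op hf o sq
  have m := conj_mem_of_mem_nz (c.nH hh) h2.1
  refine ⟨_, ⟨hZ.conj_mem ((c.T_of hh (P := zpowers u ⊔ zpowers f) (sup_le (zpowers_le.2 (c.BN (c.AB h2.1)))
    (zpowers_le.2 hf)) ?_).toNK (cz_le_nz _ k) le_sup_left le_sup_right (zpowers_le.2 (cz_le_nz _ h1.2)))
    (mem_zpowers u) h1.1, (cz _).mul_mem (mul_mem k h1.2) (inv_mem k)⟩, m, l u h2 h3⟩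
  rw [cj_sup, cj_zpowers, mem_nz.1 (cz_le_nz _ k)]
  exact sup_le (zpowers_le.2 (c.BN (c.AB m))) (zpowers_le.2 hf)
end

theorem cm (ha : a ∈ A) (ha' : a ∉ cj x A) (hb : b ∈ cj x A) (hb' : b ∉ A) :
    b * a * b⁻¹ * a ∈ A ⊓ cj x A ∧ b * a * b⁻¹ * a ∉ D ∧ b * a * b⁻¹ * a ∉ cj x D :=
  ⟨c.comm_C ha (c.A₂B hb), fun k => (c.fx ha (c.A₂B hb) k).elim ha' hb', fun k =>
    (c.symm.fx hb (c.AB ha) (by
      convert inv_mem k using 1
      simp only [mul_inv_rev, inv_inv, c.inv ha, H28.GC.inv_of_ea c.ea₂ hb, mul_assoc])).elim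
      (fun k => hb' (c.xx ▸ k)) ha'⟩

theorem al : F.N A ≤ B := by_contra fun n => by
  classical
  obtain ⟨f, hf, o, sq⟩ := c.exists_inv n
  obtain ⟨b, b1, b2, b3⟩ := c.exists_fix (c.NH hf) (c.SB hf) o sq (c.fixD hf o (sq ▸ one_mem _))
  obtain ⟨a, a1, a2, a3⟩ := c.symm.exists_fix (c.symm.NH (c.N₂ hf)) (c.SB hf) o sq
    (c.symm.fixD (c.N₂ hf) o (sq ▸ one_mem _))
  rw [c.xx] at a1
  obtain ⟨z, z0, ⟨n, hn⟩, -, sc, zc⟩ := c.solv (zpowers f) (fun e => o (by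
    rw [zpowers_eq_bot.1 e]; exact one_mem _)) (zpowers_le.2 hf.1)
  have l : B ⊓ cz (zpowers f) ≤ (F.NF (zpowers f)).S := inf_le_inf c.BT (cz_le_nz _)
  have h1 : ∃ i, z i ⊓ cz (zpowers f) ⊓ B ≠ ⊥ := ⟨n, fun e => a2 (by
    rw [mem_bot.1 (e ▸ ⟨⟨hn ▸ l ⟨c.AB a1, a3⟩, a3⟩, c.AB a1⟩ : a ∈ ⊥)]; exact one_mem _)⟩
  have h2 := Nat.find_spec h1
  obtain ⟨j, hj⟩ := Nat.exists_eq_succ_of_ne_zero (n := Nat.find h1) fun e => h2 (by rw [e, z0]; simp)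
  have h3 := not_not.1 (Nat.find_min h1 (m := j) (by omega))
  rw [hj] at h2
  have s1 := fun u => c.step (u := u) hf o sq (sc (j + 1))
  have s2 := fun u => c.symm.step (u := u) (c.N₂ hf) o sq (sc (j + 1))
  rw [c.xx, inf_comm (cj x A)] at s2
  have nz : ∀ g ∈ B ⊓ cz (zpowers f), ∀ u ∈ z (j + 1), g * u * g⁻¹ ∈ z (j + 1) := fun g hg u hu =>
    (sc _).conj_mem (of_mem _ (sc _).le (l hg)) hu hu
  have fin : ∀ a ∈ cz (zpowers f), ∀ b ∈ cz (zpowers f), a ∈ A → a ∉ cj x A → b ∈ cj x A → b ∉ A →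
      a ∈ z (j + 1) ∨ b ∈ z (j + 1) → False := fun a a3 b b3 a1 a2 b1 b2 h => by
    obtain ⟨k1, k2, k3⟩ := c.cm a1 a2 b1 b2
    have k : b * a * b⁻¹ * a ∈ z (j + 1) ⊓ cz (zpowers f) := ⟨h.elim (fun h => mul_mem (nz b ⟨c.A₂B b1, b3⟩ a h) h)
      fun h => by simpa [mul_assoc, c.inv a1] using mul_mem h (nz a ⟨c.AB a1, a3⟩ _ (inv_mem h)),
      (cz _).mul_mem (mul_mem (mul_mem b3 a3) (inv_mem b3)) a3⟩
    obtain ⟨u, u0, u1, u2⟩ := s1 _ k k1 k2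
    obtain ⟨v, v0, v1, v2⟩ := s2 _ k k1 k3
    obtain ⟨k1, k2, -⟩ := c.cm u1 u2 v1 v2
    refine k2 (mem_bot.1 (h3 ▸ ⟨mem_inf.2 ⟨?_, mul_mem (mul_mem (mul_mem v0.2 u0.2) (inv_mem v0.2)) u0.2⟩, c.AB k1.1⟩ :
      v * u * v⁻¹ * u ∈ ⊥) ▸ one_mem _)
    simpa only [c.inv u1] using commutator_le_iff'.1 (zc j) v v0.1 u u0.1
  obtain ⟨u, u0, u1, u2⟩ := H28.GC.exists_inv (c.pgB.to_le inf_le_right) h2
  by_cases i : u ∈ A <;> by_cases i' : u ∈ cj x A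
  · by_cases d : u ∈ D
    · obtain ⟨v, v0, v1, v2⟩ := s2 u u0.1 ⟨i, i'⟩ fun d' => u2 (mem_bot.1 (c.d0 ▸ ⟨d, d'⟩))
      exact fin a a3 v v0.2 a1 a2 v1 v2 (.inr v0.1)
    · obtain ⟨v, v0, v1, v2⟩ := s1 u u0.1 ⟨i, i'⟩ d
      exact fin v v0.2 b b3 v1 v2 b1 b2 (.inl v0.1)
  · exact fin u u0.1.2 b b3 i i' b1 b2 (.inl u0.1.1)
  · exact fin a a3 u u0.1.2 a1 a2 i' i (.inr u0.1.1)
  · exact (c.inv_or u0.2 u1).elim i i'

variable (n : F.N A ≤ B)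
include n
theorem out (hg : g ∈ F.N B) (o : g ∉ B) : cj g A = cj x A ∧ cj g (cj x A) = A :=
  (c.swap hg.2).resolve_left fun e => o (n ⟨hg.1, e.1⟩)
theorem twN : Tw (F.N B) B := fun a ha b hb a' b' =>
  n ⟨mul_mem ha.1 hb.1, mem_nz.2 (by rw [← cj_cj, (c.out n hb b').1, (c.out n ha a').2])⟩
theorem ea_le_B (q : 4 ≤ Nat.card K ∨ D ≠ ⊥) (a : P ≤ F.N B) (e : ∀ p ∈ P, p * p = 1) (l : Nat.card A ≤ Nat.card P) :
    P ≤ B := fun t ht => by_contra fun o => by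
  obtain ⟨o1, o2⟩ := c.out n (a ht) o
  have k : B ⊓ P ≤ A ⊓ cj x A ⊓ cz (zpowers t) := fun v hv => by
    have f : t * v * t⁻¹ = v := by
      rw [H28.GC.comm_of_ea (H28.GC.ea_of_sq e) ht hv.2, mul_inv_cancel_right]
    exact ⟨(c.inv_or hv.1 (e v hv.2)).elim (fun i => ⟨i, f ▸ o1 ▸ conj_mem_cj t i⟩)
      fun i => ⟨f ▸ o2 ▸ conj_mem_cj t i, i⟩, mem_cz_z.2 f⟩
  have c1 := H28.GC.card_idx B P
  have c2 := H28.GC.two_idx (H := P) (K := B) fun u hu v hv => c.twN n u (a hu) v (a hv)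
  have c3 := card_le_of_le k
  have c4 := c.cardA
  have c5 : Nat.card P ≤ 2 * Nat.card ↥(B ⊓ P) := c1 ▸ Nat.mul_le_mul_right _ c2
  have c6 : 0 < Nat.card ↥(A ⊓ cj x A) := Nat.card_pos
  have := c.finK
  have c7 : 2 ≤ Nat.card K := Finite.one_lt_card
  rcases q with q | q
  · have := card_le_of_le (inf_le_left : A ⊓ cj x A ⊓ cz (zpowers t) ≤ _)
    nlinarith
  · have : Nat.card ↥(A ⊓ cj x A ⊓ cz (zpowers t)) < Nat.card ↥(A ⊓ cj x A) := by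
      refine card_lt_of_lt (lt_of_le_of_ne inf_le_left fun i => q (le_bot_iff.1 (c.d0 ▸ le_inf le_rfl fun d hd => ?_)))
      have j := c.twN n _ (inv_mem ⟨c.xT, c.xB⟩) _ (a ht) (fun k => c.xnB (inv_mem_iff.1 k)) o
      rw [← mem_cz_z.1 (i.ge (c.DC hd)).2, ← mul_inv_cancel_left x t, show x * (x⁻¹ * t) * d * (x * (x⁻¹ * t))⁻¹ =
        x * (x⁻¹ * t * d * (x⁻¹ * t)⁻¹) * x⁻¹ by group, mem_cz.1 (c.B_czC j) d (c.DC hd)]
      exact conj_mem_cj x hd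
    nlinarith
theorem cj_eq (q : 4 ≤ Nat.card K ∨ D ≠ ⊥) (a : cj g B ≤ F.N B) : cj g B = B := cj_eq_of_le (by
  have i := c.ea_le_B n q ((cj_mono g c.AB).trans a) (by
    rintro _ ⟨p, hp, rfl⟩; exact conj_sq (c.sq hp)) (card_cj _ _).ge
  have j := c.ea_le_B n q ((cj_mono g c.A₂B).trans a) (by
    rintro _ ⟨p, hp, rfl⟩; exact conj_sq (H28.GC.sq_of_ea c.ea₂ hp)) (by rw [card_cj, card_cj])
  conv_lhs => rw [← c.eB, cj_sup]
  exact sup_le i j)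
theorem tb (q : 4 ≤ Nat.card K ∨ D ≠ ⊥) : Tw F.S B ∧ F.WC B := by
  have e : F.N B = F.S := by_contra fun e => by
    obtain ⟨g, g1, g2, g3⟩ := exists_mem_nz_of_lt c.pgT (lt_of_le_of_ne inf_le_left e)
    exact g3 ⟨g1, mem_nz.2 (c.cj_eq n q ((cj_mono g (le_N c.BT)).trans (mem_nz.1 g2).le))⟩
  exact ⟨e ▸ c.twN n, c.BT, fun g t => c.cj_eq n q (e ▸ t.cj_le)⟩
end Cg

theorem al (K : Type) [Field K] (Γ : Type u) [Group Γ] [Finite Γ] : AL K Γ := fun _ _ _ _ _ _ c => c.al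
theorem tb (K : Type) [Field K] (Γ : Type u) [Group Γ] [Finite Γ] : TB K Γ := fun _ _ _ _ _ _ c n q => c.tb n q

end H4.MF
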