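import Cfsg.Agent.H4.MF1
import Cfsg.Agent.H4.MF4
import Cfsg.Agent.H4.Rz2
import Cfsg.Agent.H25.KL2

/-! Minimal `2`-fusion systems: assembly. -/

set_option autoImplicit false
set_option linter.unusedVariables false
set_option linter.unusedSectionVars false

namespace H4.MF
open Subgroup H25 H25.FS

universe u

/-- the chunks in coordinates -/
structure AK : Prop where
  yy : ∀ (K : Type) [Field K] [Finite K] [CharP K 2] (Γ : Type) [Group Γ] [Finite Γ], YY K Γ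
  xx : ∀ (K : Type) [Field K] [Finite K] [CharP K 2] (Γ : Type) [Group Γ] [Finite Γ], XX K Γ
  q2 : ∀ (K : Type) [Field K] [Finite K] [CharP K 2] (Γ : Type) [Group Γ] [Finite Γ], Q2 K Γ
  es : ∀ (K : Type) [Field K] [Finite K] [CharP K 2] (Γ : Type) [Group Γ] [Finite Γ], ES K Γ
  ex : ∀ (K : Type) [Field K] [Finite K] [CharP K 2] (Γ : Type) [Group Γ] [Finite Γ], EX K Γ
  j2 : ∀ (K : Type) [Field K] [Finite K] [CharP K 2] (Γ : Type) [Group Γ] [Finite Γ], J2 K Γ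
  j4 : ∀ (K : Type) [Field K] [Finite K] [CharP K 2] (Γ : Type) [Group Γ] [Finite Γ], J4 K Γ
  j1 : ∀ (K : Type) [Field K] [Finite K] [CharP K 2] (Γ : Type) [Group Γ] [Finite Γ], J1 K Γ
  gc : ∀ (K : Type) [Field K] [Finite K] [CharP K 2] (Γ : Type) [Group Γ] [Finite Γ], GC K Γ
  kt : ∀ (K : Type) [Field K] [Finite K] [CharP K 2] (Γ : Type) [Group Γ] [Finite Γ], KT K Γ
  mt : ∀ (K : Type) [Field K] [Finite K] [CharP K 2] (Γ : Type) [Group Γ] [Finite Γ] (Γ' : Type) [Group Γ']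
    [Finite Γ'], MT K Γ Γ'
  rl : ∀ (K : Type) [Field K] [Finite K] [CharP K 2] (Γ : Type) [Group Γ] [Finite Γ] (Γ' : Type) [Group Γ']
    [Finite Γ'], RL K Γ Γ'
  c6 : ∀ (Γ : Type) [Group Γ] [Finite Γ], C6 Γ
  tl : ∀ (K : Type) [Field K] [Finite K] [CharP K 2], TL K
  ts : ∀ (K : Type) [Field K] [Finite K] [CharP K 2], TS K
  tj : TJ
  ta : TA
  t3 : T3

/-- all chunks -/
structure All : Prop extends AK where
  pa : ∀ n, PA n
  pb : ∀ n, PB n
  pc : ∀ n, PC n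
  cg : ∀ n, CG n
  ds : DS.{u}
  ul : UL.{u, u}

/-- the outcome of the matching -/
def Out {Γ : Type} [Group Γ] (F : FS Γ) : Prop := ∃ (X : Type) (_ : Group X) (_ : Finite X) (G T : Subgroup X),
  Syl 2 T G ∧ Is F (ofSub G T) ∧ ∀ (S : Type u) [Group S], Nat.card S = Nat.card F.S → Cl S G

theorem odd_exp {K : Type} [Field K] [Fintype K] [CharP K 2] (ρ : K ≃+* K) (h : ∀ a, ρ (ρ a) ^ 2 = a) :
    ∃ e : ℕ, Odd e ∧ Fintype.card K = 2 ^ e := by
  classical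
  obtain ⟨n, -, e⟩ := FiniteField.card K 2
  refine ⟨n, (Nat.even_or_odd _).resolve_left fun ⟨k, hk⟩ => ?_, e⟩
  haveI : Fact (Nat.Prime 3) := ⟨Nat.prime_three⟩
  obtain ⟨w, hw⟩ := exists_prime_orderOf_dvd_card (G := Kˣ) 3 (by
    rw [Fintype.card_units, e, hk, ← two_mul, pow_mul]
    simpa using Nat.sub_dvd_pow_sub_pow 4 1 k)
  have w3 : (w : K) ^ 3 = 1 := by rw [← Units.val_pow_eq_pow_val, ← hw, pow_orderOf_eq_one, Units.val_one]
  have w1 : (w : K) ≠ 1 := fun c => by rw [Units.val_eq_one.1 c, orderOf_one] at hw; omega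
  have w2 : (w : K) ^ 2 + w + 1 = 0 := mul_left_cancel₀ (sub_ne_zero.2 w1) (by linear_combination w3)
  have r : (ρ w - w) * (ρ w - w ^ 2) = 0 := by
    have := congrArg ρ w2
    rw [map_add, map_add, map_pow, map_one, map_zero] at this
    linear_combination this - ρ w * w2 + w3
  have k : ρ (ρ w) = w := by
    rcases mul_eq_zero.1 r with r | r <;> rw [sub_eq_zero] at r
    · rw [r, r]
    · rw [r, map_pow, r]; linear_combination w * w3
  have := h w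
  rw [k] at this
  exact w1 (mul_left_cancel₀ w.ne_zero (by linear_combination this))

section
variable {K : Type} [Field K] [Finite K] [CharP K 2] {Γ : Type} [Group Γ] [Finite Γ] {F : FS Γ} {ε : Bool}
  {ρ : K ≃+* K} {ev : Uc K →* Γ} {x w : Γ} {Y : Subgroup Γ}

theorem AK.mtch (a : AK) (h : Cz ε ρ F ev x w Y) (c : Cn F) {X : Type} [Group X] [Finite X]
    {G T Y' : Subgroup X} {ev' : Uc K →* X} {x' w' : X} (g : Gz ε ρ G T ev' x' w' Y')
    (l : Cz ε ρ (ofSub G T) ev' x' w' Y' → La ev Y ev' Y') (h1 : Cz ε ρ (ofSub G T) ev' x' w' Y' →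
    Mo ε ρ F ev x → OA (ofSub G T) (R0 ε ρ ev' x')) (h2 : Mo ε ρ (ofSub G T) ev' x' → OA F (R0 ε ρ ev x)) :
    Is F (ofSub G T) :=
  let ⟨z, d⟩ := a.gc K X ε ρ G T ev' x' w' Y' g
  a.mt K Γ X ε ρ F ev x w Y _ ev' x' w' Y' h z (l z) (a.es K Γ ε ρ F ev x h.toCo h.sat c)
    (a.es K X ε ρ _ ev' x' z.toCo z.sat d) (h1 z) h2

theorem la_two {X : Type} [Group X] (ev : Uc (ZMod 2) →* Γ) (Y : Subgroup Γ) (ev' : Uc (ZMod 2) →* X)
    (Y' : Subgroup X) : La ev Y ev' Y' := fun σ l m => by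
  obtain rfl : σ = .refl _ := Subsingleton.elim _ _
  have k : ∀ l : ZMod 2, l ≠ 0 → l = 1 := by decide
  constructor <;> rintro ⟨_, _, d⟩ <;> obtain rfl := k l d.l0 <;> obtain rfl := k m d.m0 <;>
    exact ⟨1, one_mem _, .one _⟩

theorem Co.card' {T : Subgroup Γ} (h : Co ε ρ T ev x) : Nat.card T =
    2 * (Nat.card K * (Nat.card K * if ε then Nat.card K * Nat.card K else Nat.card K)) := by
  rw [h.card, h.cardR, h.cardA, h.cardC]

theorem AK.out2 (a : AK) (h : Cz true ρ F ev x w Y) (c : Cn F) (q : Nat.card K = 2) : Out.{u} F := by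
  haveI := Fintype.ofFinite K
  obtain ⟨ev, h, -⟩ := a.kt K Γ (ZMod 2) (FiniteField.ringEquivOfCardEq (by
    rw [← Nat.card_eq_fintype_card, q, ZMod.card])) true ρ F ev x w Y h
  rw [Subsingleton.elim (RingEquiv.trans _ _) (.refl _)] at h
  have q : Nat.card (ZMod 2) = 2 := Nat.card_zmod 2
  have s : Nat.card F.S = 32 := by simp [h.toCo.card', q]
  by_cases m : Mo true (.refl _) F ev x
  · obtain ⟨X, _, _, G, T, ev', x', w', Y', g, m', i⟩ := a.t3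
    exact ⟨X, _, ‹_›, G, T, g.syl, a.mtch h c g (fun _ => la_two _ _ _ _) (fun z _ => a.j2 _ X _ _ ev' x' z.toCo
      z.sat q m') fun _ => a.j2 _ Γ _ F ev x h.toCo h.sat q m, fun S _ e => .inr (.inr (.inr (.inl ⟨e.trans s, .inr i⟩)))⟩
  · obtain ⟨X, _, _, G, T, ev', x', w', Y', g, m', i⟩ := a.ta
    exact ⟨X, _, ‹_›, G, T, g.syl, a.mtch h c g (fun _ => la_two _ _ _ _) (fun _ k => absurd k m)
      fun k => absurd k m', fun S _ e => .inr (.inr (.inr (.inl ⟨e.trans s, .inl i⟩)))⟩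

theorem AK.out4 (a : AK) (h : Cz false ρ F ev x w Y) (c : Cn F) (q : Nat.card K = 4) (r : ρ ≠ .refl K)
    (m : Mo false ρ F ev x) : Out.{u} F := by
  obtain ⟨L, _, _, ρ', X, _, _, G, T, ev', x', w', Y', q', r', g, m', i⟩ := a.tj
  haveI := g.finK
  haveI := Fintype.ofFinite K
  haveI := Fintype.ofFinite L
  have e : K ≃+* L := FiniteField.ringEquivOfCardEq (by
    rw [← Nat.card_eq_fintype_card, q, ← Nat.card_eq_fintype_card, q'])
  obtain ⟨ev, h, k⟩ := a.kt K Γ L e false ρ F ev x w Y h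
  rw [k] at m
  have := H28.GC.inv_eq_of_cyclic (σ := (e.symm.trans ρ).trans e) (τ := ρ') (RingEquiv.ext (h.rL rfl))
    (RingEquiv.ext (g.rL rfl)) (fun k => r (RingEquiv.ext fun y => by
      simpa using RingEquiv.congr_fun k (e y))) r'
  rw [this] at h m
  have o := a.j4 L Γ _ F ev x h.toCo h.sat q' r' m
  exact ⟨X, _, ‹_›, G, T, g.syl, a.mtch h c g (fun z σ l m => (a.j1 L Γ _ F ev x w Y h q' r' o σ l m).trans
    (a.j1 L X _ _ ev' x' w' Y' z q' r' (a.j4 L X _ _ ev' x' z.toCo z.sat q' r' m') σ l m).symm)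
    (fun z _ => a.j4 L X _ _ ev' x' z.toCo z.sat q' r' m') fun _ => o,
    fun S _ e => .inr (.inr (.inr (.inr (.inl ⟨e.trans (by rw [h.toCo.card', q']; rfl), i⟩))))⟩

theorem AK.outL (a : AK) (h : Cz ε ρ F ev x w Y) (c : Cn F) (q : 4 ≤ Nat.card K) (m : ¬ Mo ε ρ F ev x) :
    Out.{u} F := by
  haveI := Fintype.ofFinite K
  have k : ∀ (X : Type) [Group X] [Finite X] (L Γ₀ : Subgroup X) (ev' : Uc K →* X) (x' w' : X),
      Tg ε ρ L Γ₀ ev' x' w' → (Nonempty (L ≃* Matrix.ProjectiveSpecialLinearGroup (Fin 3) K) ∨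
        Nonempty (L ≃* Cfsg.PSp 2 K) ∧ ∃ e : ℕ, Odd e ∧ Fintype.card K = 2 ^ e) → Out.{u} F :=
    fun X _ _ L Γ₀ ev' x' w' t i => by
      obtain ⟨G, T, Y', g, l, m', d⟩ := a.rl K Γ X ε ρ ev x Y L Γ₀ ev' x' w' h.toCb h.toCy t q
      obtain ⟨d1, d2, d3⟩ := a.c6 X L G d
      have j := subgroupOfEquivOfLe d2
      rw [← d1] at j
      exact ⟨X, _, ‹_›, G, T, g.syl, a.mtch h c g (fun _ => l) (fun _ k => absurd k m) fun k => absurd k m',
        fun S _ _ => .inr (.inr (.inr (.inr (.inr ⟨K, _, ‹_›, i.imp (fun ⟨i⟩ => ⟨j.trans i⟩)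
          fun ⟨⟨i⟩, k⟩ => ⟨⟨j.trans i⟩, k⟩, d3⟩))))⟩
  cases ε
  · obtain ⟨X, _, _, L, Γ₀, ev', x', w', t, i⟩ := a.tl K ρ q (h.rL rfl)
    exact k X L Γ₀ ev' x' w' t (.inl i)
  · obtain ⟨X, _, _, L, Γ₀, ev', x', w', t, i⟩ := a.ts K ρ q (h.rS rfl)
    exact k X L Γ₀ ev' x' w' t (.inr ⟨i, odd_exp ρ (h.rS rfl)⟩)

theorem two_or (K : Type) [Field K] [Finite K] [CharP K 2] : Nat.card K = 2 ∨ 4 ≤ Nat.card K := by
  rcases H28.GC.q_cases K with h | h | h <;> omega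

theorem AK.out (a : AK) (h : Cz ε ρ F ev x w Y) (c : Cn F) : Out.{u} F := by
  rcases two_or K with q | q
  · obtain rfl := h.q.resolve_left (by omega)
    exact a.out2 h c q
  by_cases m : Mo ε ρ F ev x
  · obtain ⟨q', rfl, r⟩ := (m.elim fun g k => a.ex K Γ ε ρ ev x h.toCb g (F.A_le_nz _ k.1) k.2).resolve_left
      fun k => by omega
    exact a.out4 h c q' r m
  · exact a.outL h c q m
end

theorem AK.cg (a : AK) {n : ℕ} {K : Type} [Field K] {F : FS (Univ n)} {B A D H : Subgroup (Univ n)} {x : Univ n}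
    (c : Cg K F B A D H x) (b : Big F.S) : H28.GC.DhQ F.S ∧ 16 ≤ Nat.card F.S ∨ Out.{u} F := by
  haveI := c.ch
  haveI := c.finK
  have cn : Cn F := fun Z z1 z2 z3 => (c.solv Z z1 z2).constr (c.sat.NF (FN_of_le_nz z2 (z3.trans (cz_le_nz Z))))
  by_cases q : 4 ≤ Nat.card K ∨ D ≠ ⊥
  · obtain ⟨t, wc⟩ := c.tb c.al q
    rcases two_or K with r | r
    · obtain ⟨ρ, ev, y, w, Y, z⟩ := a.q2 K _ F B A D H x c c.al t wc r (q.resolve_left (by omega))
      exact .inr (a.out z cn)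
    · obtain ⟨L, m, -⟩ := c.sat.exists_mdl_NF b wc.fn (c.cen.mono c.AB c.BT)
      obtain ⟨O, y, o⟩ := a.yy K _ F B A D H L x c c.al t wc r m
      obtain ⟨ε, ρ, ev, w, Y, z⟩ := a.xx K _ F B A D H L O x y c c.al t wc r o
      exact .inr (a.out z cn)
  · push Not at q
    have r := (two_or K).resolve_right q.1.not_ge
    have e : Nat.card A = 4 := by rw [c.cardA, c.cardC, q.2, r, card_bot]
    have := two_card c.BT fun k => c.xnB (k c.xT)
    exact .inl ⟨H28.GC.dih c.pgT c.ea e c.AT c.CT, by rw [c.cardB, e, r] at this; omega⟩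

section
variable {Ω : Type u} [Group Ω] {S : Subgroup Ω} [Finite S] {F : Cfsg.FusionSystem S} {Γ X : Type} [Group Γ]
  [Group X] {θ : S →* Γ}

theorem is_rep (R : Rep θ F) {E : FS X} (h : Is (fs θ F) E) : ∃ θ' : S →* X, Rep θ' F ∧ fs θ' F = E := by
  obtain ⟨j, hj, -, m⟩ := h
  let θ' : S →* X := j.comp (θ.codRestrict _ fun s => ex_coe θ s ▸ ex_mem_im θ le_rfl s.2)
  have q : Sq θ θ' S.subtype j := ⟨le_rfl, fun s => s.2, le_rfl, fun x hx => by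
    rw [ex_subtype hx, ex_of_mem θ' hx, ex_of_mem j (ex_mem_im θ le_rfl hx)]
    exact congrArg j (Subtype.ext (ex_of_mem θ hx))⟩
  have e : ∀ x ∈ S, ex θ' x = ex j (ex θ x) := fun x hx => by rw [q.eq x hx, ex_subtype hx]
  have i : ∀ P, P ≤ S → im j (im θ P) = im θ' P := fun P hP => by rw [q.im_im hP, im_subtype hP]
  have k : ∀ {P : Subgroup Ω} {φ : P →* Ω} {g g'}, φ ∈ F.Hom P → HC θ φ g → IC j (im θ P) g g' → HC θ' φ g' :=
    fun {P φ g g'} hφ a b x => by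
      rw [e _ (hom_mem hφ x), a, b _ (ex_mem_im θ (hom_le hφ) x.2), e _ (hom_le hφ x.2)]
  have R' : Rep θ' F := ⟨fun a b c => R.inj (congrArg Subtype.val (hj c)), le_rfl, fun hφ =>
    let ⟨g, t, a⟩ := R.exists_T hφ; let ⟨g', _, b⟩ := m.ind t; ⟨g', k hφ a b⟩⟩
  refine ⟨θ', R', ext' fun P' g' => ⟨fun t => ?_, fun t => ?_⟩⟩
  · obtain ⟨P, hP, rfl, φ, hφ, a⟩ := R'.exists_hom' t
    obtain ⟨g, t, b⟩ := R.exists_T hφ
    obtain ⟨g'', t', c⟩ := m.ind t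
    exact (i P hP ▸ t').congr (a.agree (k hφ b c))
  · obtain ⟨P, hP, -, rfl⟩ := exists_im (θ := θ') (K := S) (t.le.trans (m.S_eq.trans (i S le_rfl)).le)
    obtain ⟨g, s, b⟩ := m.lift t
    have : (fs θ F).pr j (im θ' P) = im θ P :=
      (q.pr R'.inj P).trans (by rw [pre_subtype, inf_eq_right.2 hP])
    rw [this] at s b
    obtain ⟨φ, hφ, a⟩ := R.exists_hom hP s
    exact R'.T_of_mem hφ (k hφ a b)

theorem qd_congr {G G' : Type*} [Group G] [Group G'] (e : G ≃* G') (h : Cfsg.IsQuasiDihedral G') :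
    Cfsg.IsQuasiDihedral G :=
  let ⟨n, a, b, x, y, c, d, f⟩ := h
  ⟨n, a, (Nat.card_congr e.toEquiv).trans b, e.symm x, e.symm y, (e.symm.orderOf_eq x).trans c,
    (e.symm.orderOf_eq y).trans d, by rw [← map_inv, ← map_mul, ← map_mul, f, map_pow]⟩

theorem All.fin (a : All.{u}) (hS : IsPGroup 2 S) (F : Cfsg.FusionSystem S) (hF : F.IsSaturated 2)
    (hO : F.core = ⊥) (hmin : ∀ U : Subgroup Ω, U ≠ ⊥ → F.IsFullyNormalized U →
      ∀ E : Cfsg.FusionSystem (Cfsg.FusionSystem.normalizerIn S U), F.IsNormalizerSystem U E → E.IsSolvableSystem)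
    (N : Cfsg.FusionSystem S) (hNsat : N.IsSaturated 2) (hNle : N ≤ F) (hNne : N ≠ F)
    (hpar : ∀ R : Subgroup Ω, R ≠ ⊥ → R ≤ S → S ≤ Subgroup.normalizer (R : Set Ω) →
      (∀ P : Subgroup Ω, F.normalizerHom S P ⊆ F.normalizerHom R P) →
      ∀ P : Subgroup Ω, F.normalizerHom R P ⊆ N.Hom P) :
    ∃ (G : Type u) (_ : Group G) (_ : Finite G) (ι : S →* G), F.IsRealizedBy ι ∧
      (∃ T : Sylow 2 G, (T : Subgroup G) = ι.range) ∧ Cl S G := by
  obtain ⟨n, θ, U⟩ := exists_urep S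
  have R := U.rep le_rfl F
  have R' := U.rep le_rfl N
  have sat := R.sat hS hF
  have hy : Hy (fs θ F) (fs θ N) := ⟨sat, R'.sat hS hNsat, (R.le_iff R').1 hNle, rfl, fun k =>
    hNne ((R.eq_iff R').2 (le_antisymm ((R.le_iff R').1 hNle) k)), U.big_S F, fun V v1 v2 => by
      obtain ⟨V, hV, rfl⟩ := R.exists_im v2.le
      obtain ⟨E, e1, e2, e3⟩ := R.exists_normalizer hV
      rw [← e3, ← e2.solv_iff (p := 2) (e3 ▸ sat.NF v2)]
      exact hmin V (fun e => v1 (by simp [e])) ((R.fn_iff hV).2 v2) E e1, fun V v1 v2 v3 v4 => by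
      obtain ⟨V, hV, rfl⟩ := R.exists_im v2
      obtain ⟨E, e1, e2, e3⟩ := R.exists_normalizer (le_refl S)
      refine (R.NF_le_iff R' hV).1 (hpar V (fun e => v1 (by simp [e])) hV (fun s hs =>
        (ex_mem_nz_iff R.inj hs hV).1 (v3 (ex_mem_im θ le_rfl hs))) fun P φ hφ => ?_)
      exact (R.le_NF_iff e2 hV).2 (e3 ▸ v4) P (((R.NF_le_iff e2 le_rfl).2 e3.ge) P hφ)⟩
  obtain ⟨K, _, _, B, E, fb, fn⟩ := a.pa n _ _ hy
  obtain ⟨g, g1, g2⟩ := a.pb n K _ _ B E hy fb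
  obtain ⟨E', H, x, cf⟩ := a.pc n K _ _ B E g hy fb fn g1 g2
  obtain ⟨c⟩ := a.cg n K _ B E' H x cf
  have e := imEquiv R.inj (le_refl S)
  have fin : (∃ (G : Type) (_ : Group G) (_ : Finite G) (ι : S →* G), F.IsRealizedBy ι ∧
      (∃ T : Sylow 2 G, (T : Subgroup G) = ι.range) ∧ Cl S G) → ∃ (G : Type u) (_ : Group G) (_ : Finite G)
      (ι : S →* G), F.IsRealizedBy ι ∧ (∃ T : Sylow 2 G, (T : Subgroup G) = ι.range) ∧ Cl S G := by
    rintro ⟨G, _, _, ι, h, ⟨T, t⟩, k⟩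
    have e : G ≃* ULift.{u} G := MulEquiv.ulift.symm
    exact ⟨_, _, inferInstance, e.toMonoidHom.comp ι, ⟨e.injective.comp h.1, fun P hP φ hφ => (h.2 P hP φ hφ).trans
      ⟨fun ⟨g, k⟩ => ⟨e g, fun x => by simp [k x]⟩, fun ⟨g, k⟩ => ⟨e.symm g, fun x => e.injective (by
        simpa using k x)⟩⟩⟩, ⟨T.mapSurjective (f := e.toMonoidHom) e.surjective, 
      (Sylow.coe_mapSurjective _ T).trans (by rw [t, MonoidHom.range_comp])⟩, a.ul S G _ ⟨e⟩ k⟩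
  rcases a.toAK.cg c hy.big with ⟨d, l⟩ | ⟨X, _, _, G, T, s, i, k⟩
  · exact fin (a.ds hS F hF hO hmin (d.imp (fun ⟨m, ⟨i⟩⟩ => ⟨m, ⟨e.trans i⟩⟩) (qd_congr e))
      (l.trans (Nat.card_congr e.toEquiv).ge))
  · obtain ⟨θ', R₁, e₁⟩ := is_rep R i
    have e₂ : im θ' S = T := congrArg FS.S e₁
    obtain ⟨G', _, _, ι, j, a1, a2, a3⟩ := R₁.exists_ulift.{u} (e₂ ▸ s.le : im θ' S ≤ G)
    obtain ⟨b1, b2⟩ := real_of R₁ hS a1 a3 (a2 ▸ e₂ ▸ s) (a2 ▸ e₂ ▸ e₁)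
    exact ⟨G', _, ‹_›, ι, b1, b2, a.ul S G G' ⟨(a2 ▸ MonoidHom.ofInjective a1).symm⟩
      (k S (Nat.card_congr e.toEquiv))⟩
end

end H4.MF
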