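import Cfsg.Agent.H4.MF1
import Cfsg.Agent.H4.MF3

/-! Minimal `2`-fusion systems: from two blocks to the local configuration. -/

set_option autoImplicit false
set_option linter.unusedVariables false
set_option linter.unusedSectionVars false

namespace H4.MF

section
open H9 hiding zj
open Matrix hiding mul_inv_rev
open Cfsg Subgroup H28 H13.SL2 MatrixGroups H29 H29.PU H29.BB Equiv H28.GC
open scoped commutatorElement
variable {X : Type} [Group X] [Finite X] {B E₁ E₂ : Subgroup X} {F F' : Type} [Field F] [Finite F] [Field F']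
  [Finite F']

theorem D_le (r : Pr F F' B E₁ E₂) (q : # F ≠ 2) (hN : ∀ h ∈ E₂ ⊔ B, h ∈ 𝐍 B → h ∈ 𝐍 (O₂ (E₁ ⊔ B)) →
    h ∈ 𝐍 (B ⊓ 𝐂 E₁ : Subgroup X) ∧ h ∈ 𝐍 (W₂ E₁)) : B ⊓ 𝐂 E₁ ≤ W₂ E₁ := by
  obtain ⟨l, l0, l1⟩ : ∃ l : F', l ≠ 0 ∧ l ≠ 1 := by
    by_contra! c
    have := Nat.card_le_card_of_surjective (![0, 1] : Fin 2 → F') fun l =>
      (em _).elim (fun e => ⟨0, e.symm⟩) fun e => ⟨1, (c l e).symm⟩
    have : 1 < # F := Finite.one_lt_card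
    rw [← r.q_eq, Nat.card_fin] at *
    omega
  let D := r.k₂.lb
  obtain ⟨h, hh, e⟩ := D.surjL r.k₂.blk r.k₂.amb le_sup_left (mk2 l 0 0 l⁻¹ (by simp [l0]))
  have hB := D.mem_nrm r.k₂.blk r.k₂.amb le_sup_left hh (e ▸ rfl)
  have hE := hN h hh hB (mem_normalizer_of_cj_le ((le_of_two fun y hy => r.inv_or (cj_le_of_mem_normalizer r.k₁.QB hB hy)
    (sq_of_ea (ea_cj r.ea h) hy)).resolve_right fun c => r.nc (r.k₁.WQ.trans (le_trans (by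
      rwa [← cj_eq_self (r.k₂.nQ hh), cj_le_cj] at c) r.k₂.QC))))
  have g := D.L_le r.k₂.blk hh
  have k1 : ∀ v, ∀ c ∈ B ⊓ 𝐂 E₂, ⁅h, v * c⁆ = ⁅h, v⁆ := fun v c hc => by
    rw [comm_mul_right, mem_cen_iff.1 (show c ∈ 𝐂 (E₂ ⊔ B) by rw [centralizer_sup]; exact ⟨hc.2, r.symm.DC hc⟩) h hh]
    simp
  have nD := hE.1
  have k2 : ∀ d ∈ B ⊓ 𝐂 E₁, ⁅h, d⁆ = 1 → d = 1 := fun d hd c => by
    obtain ⟨w, hw, v, hv, rfl⟩ := r.k₂.dec' (r.symm.DQ hd)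
    have := (D.act_fix g.1 g.2.1 hw).2 (by rw [← k1 w v hv, c]; exact one_mem _)
    rw [D.act_gam g, e, smul_vec] at this
    refine r.eq_one hd (mul_mem ((D.ker w hw).1 (vext ?_ ?_)).2 hv.2)
    · simpa [mul_left_eq_self₀, l1] using congrFun this 0
    · simpa [mul_left_eq_self₀, l1] using congrFun this 1
  intro d₀ hd₀
  obtain ⟨⟨d, hd⟩, e'⟩ := Finite.injective_iff_surjective.1 (show Function.Injective
    fun d : ↥(B ⊓ 𝐂 E₁) => (⟨⁅h, d.1⁆, comm_mem_of' nD d.2⟩ : ↥(B ⊓ 𝐂 E₁)) from fun a b e => Subtype.ext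
      (inv_mul_eq_one.1 (k2 _ (a⁻¹ * b).2 (by
        rw [comm_inv_mul, show ⁅h, a.1⁆ = ⁅h, b.1⁆ from congrArg Subtype.val e, inv_mul_cancel]; simp)))) ⟨d₀, hd₀⟩
  rw [← show ⁅h, d⁆ = d₀ from congrArg Subtype.val e']
  obtain ⟨w, hw, v, hv, rfl⟩ := r.k₂.dec' (r.symm.DQ hd)
  obtain ⟨u, u1, u2⟩ := SetLike.not_le_iff_exists.1 r.nc
  have uB := r.k₁.WB u1
  have n1 := nrmW (p := 2) r.k₂.nrm uB
  have n2 := nrmW' (p := 2) r.k₂.nrm uB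
  obtain ⟨t, ht⟩ := D.up u uB
  have t0 : t ≠ 0 := fun c => u2 (r.k₂.blk.mem_cen (r.k₂.nrm uB) ((D.act_triv n1 n2).1 fun m => by
    rw [ht, c, x_zero, one_smul]))
  obtain ⟨w', hw', e1⟩ := D.onto ![0, D.ψ w 0 / t]
  have m := comm_mem_of' n1 hw'
  have := (D.eq_iff m hw).1 (by
    rw [D.act_comm n1 n2 hw', e1, ht, smul_eq, x_mulVec]
    exact vext (by simp [mul_div_cancel₀ _ t0]) (by simpa using (D.snd_zero r.k₂.blk r.k₂.amb le_sup_left hw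
      ((mul_mem_cancel_right (r.symm.DC hv)).1 (r.DC hd))).symm))
  rw [k1 w v hv, ← mul_inv_cancel_left ⁅u, w'⁆ w, k1 _ _ ⟨r.k₂.WB this.1, this.2⟩]
  exact comm_mem_of' hE.2 (commutatorElement_mem_comm.1 (comm_mem_of' (nrmW r.k₁.nrm (r.k₂.WB hw')) u1))

theorem ga_sl {E U U₀ : Subgroup X} (D : GA (Fin 2 → F) (commutator SL(2, F)) E U U₀) (h1 : B ≤ 𝐍 U)
    (h2 : B ≤ 𝐍 U₀) (up : ∀ t : F, ∃ b ∈ B, ∀ m, D.act b m = x t • m) (g : SL(2, F)) :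
    ∃ e ∈ E ⊔ B, ∀ a ∈ U, D.ψ (e * a * e⁻¹) = g.1 *ᵥ D.ψ a := by
  have n1 := sup_le D.nrm h1
  have n2 := sup_le D.nrm0 h2
  let K : Subgroup SL(2, F) :=
    { carrier := {r | ∃ e ∈ E ⊔ B, ∀ m, D.act e m = r • m}
      mul_mem' := by
        rintro _ _ ⟨g, hg, a⟩ ⟨k, hk, b⟩
        exact ⟨_, mul_mem hg hk, fun m => by rw [D.act_mul (n1 hg) (n2 hg) (n1 hk) (n2 hk), a, b, mul_smul]⟩
      one_mem' := ⟨1, one_mem _, fun m => by rw [D.act_one, one_smul]⟩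
      inv_mem' := by
        rintro _ ⟨g, hg, a⟩
        exact ⟨_, inv_mem hg, fun m => by rw [eq_inv_smul_iff, ← a, D.act_inv' (n1 hg) (n2 hg)]⟩ }
  obtain ⟨e, he, k⟩ := D.surj _ (mem_R (a := x (1 : F)) (b := y 1))
  have := top_of_upper (K := K) (fun t => let ⟨b, hb, e⟩ := up t; ⟨b, mem_sup_right hb, e⟩)
    ⟨e, mem_sup_left he, fun m => by rw [D.act_E he, k]⟩ (by simp [comm_xy])
  obtain ⟨e, he, k⟩ : g ∈ K := this ▸ mem_top g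
  exact ⟨e, he, fun a ha => by rw [← D.act_ψ (n1 he) (n2 he) ha, k, smul_eq]⟩
theorem x_smul (t : F) (m : Fin 2 → F) : x t • m = ![m 0 + t * m 1, m 1] := by rw [smul_eq, x_mulVec]
end

open Subgroup H25 H25.FS
open Cfsg (pCoreOf)

theorem cg (n : ℕ) : CG n := fun K _ _ F B E H x f => by
  have r := f.pr
  have k := r.k₁
  have nA : B ≤ nz (pCoreOf 2 (E ⊔ B)) := le_sup_right.trans k.nQ
  have e2 : pCoreOf 2 (cj x E ⊔ B) = cj x (pCoreOf 2 (E ⊔ B)) := by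
    conv_lhs => rw [← mem_nz.1 f.xB, ← cj_sup]
    exact (H28.cj_pCoreOf x _).symm
  have AT := k.QB.trans f.BT
  have BN : B ≤ F.N (pCoreOf 2 (E ⊔ B)) := le_inf f.BT nA
  have BH := BN.trans f.mdl.le
  have nH : H ≤ nz (pCoreOf 2 (E ⊔ B)) := (f.mdl.nm_iff.1 (nm_NF AT)).2
  have eD : pCoreOf 2 (E ⊔ B) ⊓ cz E = B ⊓ cz E := le_antisymm (inf_le_inf_right _ k.QB) (le_inf k.DQ inf_le_right)
  have nD : H ≤ nz (B ⊓ cz E) := fun h hh => eD ▸ mem_nz_inf (nH hh) (mem_nz_cz (f.HE hh))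
  have ne : ¬ pCoreOf 2 (E ⊔ B) ≤ cj x (pCoreOf 2 (E ⊔ B)) := fun e => r.nc (k.WQ.trans (e.trans (e2 ▸ r.k₂.QC)))
  have xx : cj x (cj x (pCoreOf 2 (E ⊔ B))) = pCoreOf 2 (E ⊔ B) := by
    refine eq_of_le_of_card_ge ((H28.GC.le_of_two fun y hy => e2 ▸ r.inv_or ((cj_mono x (e2 ▸ r.k₂.QB)).trans
      (mem_nz.1 f.xB).le hy) ?_).resolve_right fun e => ne (eq_of_le_of_card_ge (cj_le_cj.1 e) (card_cj _ _).ge).ge)
      (by rw [card_cj, card_cj])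
    obtain ⟨_, ⟨a, ha, rfl⟩, rfl⟩ := hy
    exact conj_sq (conj_sq (H28.GC.sq_of_ea r.ea ha))
  have cA : H ⊓ cz (pCoreOf 2 (E ⊔ B)) ≤ pCoreOf 2 (E ⊔ B) :=
    f.mdl.inf_cz_le (nm_NF AT) (f.cen.of_le (F.NF_le _) (le_N AT))
  have cD : ∀ h ∈ H, h ∈ cz ⁅Cfsg.omegaOneCenter 2 (pCoreOf 2 E), E⁆ → h ∈ cz (B ⊓ cz E) := fun h hh c => by
    by_cases q : Nat.card K = 2
    · exact H28.GC.cen_of_two (q ▸ r.cardD) (nD hh)
    refine cz_anti (D_le r q fun g hg g1 g2 => ?_) c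
    have t : F.T B g := by
      have := ((f.mdl.T_of_mem BN (mem_cj.1 (sup_le (cj_mono x f.EH) ((mem_nz.1 f.xB).ge.trans (cj_mono x BH)) hg))
        ((mem_nz.1 (mul_mem (mul_mem (inv_mem f.xB) g1) f.xB)).le.trans BN)).of_le (F.NF_le _)).conj
        (F.of_mem f.BT f.xT) le_rfl (mem_nz.1 (mul_mem (mul_mem (inv_mem f.xB) g1) f.xB)).le
      simpa [mem_nz.1 f.xB, mul_assoc] using this
    obtain ⟨h, hh, e⟩ := (f.mdl.T_iff.1 (t.toNK g2 le_rfl k.QB nA)).2.2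
    exact ⟨(e.mono inf_le_left).mem_nz (nD hh), (e.mono k.WB).mem_nz (H29.BB.nrmW le_rfl (f.HE hh))⟩
  obtain ⟨D, up, up2, k1, k2⟩ := k.coord r.ea r.DC
  have ac : ∀ h ∈ H, ∀ a ∈ pCoreOf 2 (E ⊔ B), D.ψ (h * a * h⁻¹) = D.act h (D.ψ a) := fun h hh a ha =>
    (D.act_ψ (nH hh) (eD ▸ nD hh) ha).symm
  refine ⟨⟨D.ψ, f.sat, f.solv, f.BT, f.xT, xx, r.ea, e2 ▸ r.eB, nA, f.fn, f.cen, f.mdl,
    by simpa only [f.bmS] using H29.PU.nrm_bm (e := 2) (le_normalizer (H := F.N (pCoreOf 2 (E ⊔ B)))), D.mul, D.onto,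
    fun a => ⟨fun h => ⟨k.DQ h, D.zero (eD ▸ h)⟩, fun h => eD ▸ (D.ker a h.1).1 h.2⟩, nD, ?_, fun a ha => ?_,
    fun b hb => (up b hb).imp fun t e a ha => by rw [ac b (BH hb) a ha, e, x_smul],
    fun t => (up2 t).imp fun b e => ⟨e.1, fun a ha => by rw [ac b (BH e.1) a ha, e.2, x_smul]⟩, fun g => ?_,
    fun h hh => ?_, fun h hh e => cA ⟨hh, mem_cz'.2 fun a ha => ?_⟩⟩⟩
  · rw [cj_inf, mem_nz.1 f.xB, cj_cz, ← r.d0]
    exact le_antisymm (inf_le_inf_left _ inf_le_right) (le_inf inf_le_left (inf_le_inf_right _ inf_le_left))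
  · rw [k1 a ha, ← e2]
    exact ⟨fun h => r.k₂.memQ (k.QB ha) (cz_anti r.k₂.WB h), fun h => cz_anti r.eB.ge ((cz_sup _ _).ge
      ⟨mem_cz'.2 fun b hb => H28.GC.comm_of_ea r.ea hb ha, mem_cz'.2 fun b hb => H28.GC.comm_of_ea r.symm.ea hb h⟩)⟩
  · obtain ⟨e, he, i⟩ := ga_sl D nA (eD ▸ BH.trans nD) up2 g
    exact ⟨e, sup_le f.EH BH he, sup_le (le_cz_comm.1 inf_le_right) (le_cz_comm.1 r.DC) he, i⟩
  · obtain ⟨-, -, σ, i⟩ := D.semi (nH hh) (eD ▸ nD hh) (f.HE hh)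
    exact ⟨RingEquiv.ofBijective σ (Finite.injective_iff_bijective.1 σ.injective), fun a ha b hb c e => by
      rw [ac h hh a ha, ac h hh b hb, e, i]; rfl⟩
  · have c := k2 h (f.HE hh) (nH hh) fun m => by
      obtain ⟨a, ha, rfl⟩ := D.onto m
      rw [← ac h hh a ha, e a ha]
    obtain ⟨w, hw, d, hd, rfl⟩ := k.dec' ha
    rw [mul_assoc, mem_cz'.1 (cD h hh c) d hd, ← mul_assoc, mem_cz'.1 c w hw, mul_assoc]

end H4.MF
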