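import Cfsg.Agent.H4.MF1
import Cfsg.Agent.H4.MF3
import Cfsg.Agent.H25.KL2

/-! Minimal `2`-fusion systems: existence of a block outside `N`, of two blocks, and of the swap. -/

set_option autoImplicit false
set_option linter.unusedVariables false
set_option linter.unusedSectionVars false

namespace H4.MF

section
open H9 hiding zj
open Matrix hiding mul_inv_rev
open Cfsg Subgroup H28 H13.SL2 MatrixGroups H29 H29.PU H29.BB Equiv H28.GC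
variable {X : Type} [Group X] [Finite X] {B E E₂ G M S : Subgroup X} {F : Type} [Field F] [Finite F] {g : X}

theorem cm_bk (c : CM 2 G B M) (hE : E ≤ G) (h : LBk 2 B E) (n : ¬ E ≤ M) :
    ∃ (F : Type) (_ : Field F) (_ : Finite F), Bk F B E := by
  obtain ⟨F, _, _, k⟩ := h.lin
  obtain ⟨D⟩ := h.lb k c.toAmb hE
  exact ⟨F, _, ‹_›, h.toBlk, k, h.amb c.toAmb hE, (pushing_up (D.vx h.toBlk c.toAmb hE).toRk1
    (D.syl h.toBlk c.toAmb hE) (c.nc (sup_le hE c.le) fun e => n (le_sup_left.trans e))).resolve_right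
      fun ⟨_, _, _, _, _, k⟩ => by simpa using k.three⟩

theorem cm_nrm (c : CM 2 G B M) (r : Pr F F B E E₂) (hE : E ≤ G) (n : ¬ E ≤ M) : G ≤ 𝐍 E := by
  have k := r.k₁
  obtain ⟨E', h, l⟩ := c.sub E ⟨k.blk, hE, n⟩
  obtain rfl : E' = E := ((h.ls c.toAmb h.le).imp (fun ⟨_, _, _, _, ⟨D⟩⟩ =>
    (D.eq_of_le h.toBlk c.toAmb h.le k.blk l).symm) id).elim id fun ⟨m, h1, ⟨D⟩⟩ => by_contra fun _ => by
      have q := D.two' h.toBlk c.toAmb h.le k.lb k.blk l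
      have a : 16 ≤ # (W₂ E') := by
        rw [D.card]
        exact (card_ew (by have := h1.le; rw [Fintype.card_fin]; omega)).trans (Nat.le_mul_of_pos_right _ Nat.card_pos)
      have b := card_le_of_le' (k.leQ (h.W_le_B c.toAmb h.le) (le_centralizer_comm.1
        ((k.blk.W_le_P c.toAmb hE).trans (h.P_cen c.toAmb h.le))))
      have d := r.cardD
      rw [k.cardQ, q] at *
      omega
  refine le_normalizer_of_cj_eq fun g hg => ?_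
  have h' := h.conj c hg
  exact (h'.eq_or h c).resolve_right fun e => h'.not_B (le_centralizer_comm.1 ((le_inf (h'.W_le_B c.toAmb h'.le)
    (W_le_E.trans (H28.commutator_eq_bot_iff.1 e))).trans r.DC))

theorem cen_le_Q (k : Bk F B E) (e : bm 2 S = B) : S ⊓ 𝐂 (O₂ (E ⊔ B)) ≤ O₂ (E ⊔ B) := by
  have z : zj 2 B = zj 2 S := by rw [← e, zj, JJ_eq_of_le JJ_le_bm bm_le, zj]
  exact k.leQ ((inf_le_inf_left _ (centralizer_anti (z.ge.trans k.zjQ))).trans e.le) (inf_le_right.trans (centralizer_anti k.WQ))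

theorem pr_conj (r : Pr F F B E E₂) (g : X) : Pr F F (cj g B) (cj g E) (cj g E₂) :=
  ⟨r.k₁.conj g, r.k₂.conj g, fun e => r.nc (by rwa [← cj_W, ← cj_W, ← cj_centralizer, cj_le_cj] at e), by
    rw [← cj_centralizer, ← cj_centralizer, ← cj_inf, ← cj_inf, r.d0, cj_bot]⟩
end

open Subgroup H25 H25.FS
open Cfsg (pCoreOf omegaOneCenter)
open H29.PU (bm zj)
open H28.GC (Bk Pr)

variable {n : ℕ} {K : Type} [Field K] [Finite K] {F N : FS (Univ n)} {B E E₁ E₂ G U V : Subgroup (Univ n)}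
  {g a : Univ n}

theorem nz_iSup {Γ : Type} [Group Γ] [Finite Γ] (H W : Subgroup Γ) : H ≤ nz (⨆ a : H, cj a.1 W : Subgroup Γ) :=
  fun g hg => mem_nz_of_le (by
    rw [cj_iSup]
    exact iSup_le fun a => le_iSup_of_le (⟨g, hg⟩ * a) (cj_cj _ _ _).le)
theorem exists_sw {Γ : Type} [Group Γ] [Finite Γ] {F : FS Γ} {A B : Subgroup Γ} {a : Γ} (s : F.Sat 2) (f : F.FN B)
    (l : A ≤ B) (t : Tw (nz B) (nz A)) (ha : a ∈ F.A B) (n : a ∉ nz A) : ∃ x ∈ F.N B, x ∉ nz A := by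
  by_contra! k
  refine (s.syl f).2 ?_
  have l : ai F.S B ≤ nz A ⊓ F.A B := le_inf (ai_eq_sup _ B ▸ sup_le k ((cz_anti l).trans (cz_le_nz _))) (F.ai_le_A B)
  rw [← relIndex_mul_relIndex _ _ _ l inf_le_right, inf_relIndex_right, le_antisymm (H28.GC.two_idx (H := F.A B)
    fun u hu v hv => t u hu.1 v hv.1) (H28.GC.two_le fun e => n (e ha))]
  exact Dvd.intro_left _ rfl
theorem cj_O (g : Univ n) (E B : Subgroup (Univ n)) : pCoreOf 2 (cj g E ⊔ cj g B) = cj g (pCoreOf 2 (E ⊔ B)) := by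
  rw [← cj_sup]; exact (H28.cj_pCoreOf g _).symm
theorem cj_O' (h : g ∈ nz B) (E : Subgroup (Univ n)) : pCoreOf 2 (cj g E ⊔ B) = cj g (pCoreOf 2 (E ⊔ B)) := by
  rw [← cj_O, mem_nz.1 h]
theorem bk_cj (k : Bk K B E) (g : Univ n) : Bk K (cj g B) (cj g E) := k.conj g
theorem pr_cj (r : Pr K K B E₁ E₂) (h : g ∈ nz B) : Pr K K B (cj g E₁) (cj g E₂) := by
  have : Pr K K (cj g B) (cj g E₁) (cj g E₂) := pr_conj r g
  rwa [mem_nz.1 h] at this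
theorem nz_bm {S : Subgroup (Univ n)} (e : bm 2 S = B) : S ≤ nz B := by
  subst e; exact H29.PU.nrm_bm le_normalizer
theorem Ky.conj (k : Ky F N B) (t : F.T B g) : Ky F N (cj g B) :=
  ⟨t.cj_le, cj_eq_bot.not.2 k.ne, fun h s S p l => cj_cj h g B ▸ k.key _ (t.mul s) S p (cj_cj h g B ▸ l)⟩
theorem Hy.mdl (h : Hy F N) (hU : U ≠ ⊥) (f : F.FN U) : ∃ G, (F.NF U).Mdl 2 G ∧ Good G :=
  ((h.solv U hU f).constr (h.sat.NF f)).exists_mdl (h.big.mono inf_le_left)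
theorem FB.nA (f : FB K F N B E) : B ≤ F.N (pCoreOf 2 (E ⊔ B)) := le_inf f.ky.le (le_sup_right.trans f.bk.nQ)
theorem FB.not_NF (f : FB K F N B E) (h : V ≤ pCoreOf 2 (E ⊔ B)) (l : E ⊔ B ≤ nz V) : ¬ F.NF V ≤ N := fun k =>
  f.out fun e he => T.mem_A (((((ofSub_T_of_mem f.bk.QB (mem_sup_left he) ((mem_nz.1 (f.bk.nQ
    (mem_sup_left he))).le.trans f.bk.QB)).of_le f.sub).toNK (l (mem_sup_left he)) le_rfl h
    (f.bk.QB.trans (le_sup_right.trans l)))).of_le k) (f.bk.nQ (mem_sup_left he))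
theorem A_ne (k : Bk K B E) : pCoreOf 2 (E ⊔ B) ≠ ⊥ := fun e => k.W_ne (le_bot_iff.1 (e ▸ k.WQ))
theorem W_cj (k : Bk K B E) (h : g ∈ cz B) : ⁅omegaOneCenter 2 (pCoreOf 2 (cj g E)), cj g E⁆ =
    ⁅omegaOneCenter 2 (pCoreOf 2 E), E⁆ :=
  (H29.BB.cj_W g).symm.trans (mem_nz.1 (cz_le_nz _ (cz_anti k.WB h)))

theorem centric_of (p1 : P1 n) (h : Hy F N) (y : Ky F N B) (k : Bk K B E) (o : ¬ F.NF (pCoreOf 2 (E ⊔ B)) ≤ N) :
    F.Centric (pCoreOf 2 (E ⊔ B)) := by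
  have l := k.QB.trans y.le
  have b : B ≤ F.N (pCoreOf 2 (E ⊔ B)) := le_inf y.le (le_sup_right.trans k.nQ)
  obtain ⟨g, t, f⟩ := h.sat.exists_FN l
  refine .of_cj (t.mono (le_N l)) ((h.sat.fc f).centric ?_)
  have := cen_le_Q (bk_cj k g) (y.key g (t.mono b) (F.N (cj g (pCoreOf 2 (E ⊔ B)))) ⟨inf_le_left, _,
    cj_eq_bot.not.2 (A_ne k), f.le, inf_le_right, fun e => o (NF_le_of_conj l t ((p1 F N B h y).2 _ g b t) e)⟩
    ((t.mono b).cj_N_le (b.trans inf_le_right)))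
  rw [cj_O] at this
  exact (le_inf (F.C_le_N _) inf_le_right).trans this

theorem pa (p0 : P0 n) (p1 : P1 n) (loc : LOC n) (cmk : CMK n) (qc : QC n) : PA n := fun F N h => by
  obtain ⟨B, y, -, U, u1, u2, u3, u4⟩ := p0 F N h
  obtain ⟨g, t, f⟩ := h.sat.exists_FN u2
  have b : B ≤ F.N U := le_inf y.le u3
  have u4 : ¬ F.NF (cj g U) ≤ N := fun e => u4 (NF_le_of_conj u2 t ((p1 F N B h y).2 _ g b t) e)
  have u3 : cj g B ≤ nz (cj g U) := cj_nz g U ▸ cj_mono g u3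
  have u1 := (cj_eq_bot (g := g)).not.2 u1
  have y := y.conj (t.mono b)
  clear b t u2
  generalize cj g B = B at *
  generalize cj g U = U at *
  obtain ⟨G, m, d⟩ := h.mdl u1 f
  obtain ⟨c, -, i⟩ := cmk F N B U G h y u1 f u3 m u4
  obtain ⟨E, e1, e2, e3⟩ := c.exists_blk fun l => u4 fun P k s =>
    let ⟨a, b, r, hr, e⟩ := m.T_iff.1 s; (i r (l hr) P a (e.cj_eq ▸ b)).congr e
  obtain ⟨K, _, _, k⟩ := cm_bk c e1 e3 e2
  have b : B ≤ F.N U := le_inf y.le u3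
  have o : pCoreOf 2 G ≤ F.N U := m.syl.le_of_normal (H28.isPGroup_pCoreOf _ _) (H28.pCoreOf_le _ _)
    (H28.le_normalizer_pCoreOf _ _)
  have fb : FB K F N B E := ⟨y, k, d.mono (sup_le e1 c.le), ((ofSub_mono (sup_le e1 c.le) b).trans m.eq.ge).trans
    (F.NF_le U), fun l => e2 fun e he => by
      have n1 := k.nQ (mem_sup_left he)
      have n2 := H28.le_normalizer_pCoreOf 2 G (e1 he)
      have s := sup_le o (k.QB.trans b)
      refine ⟨e1 he, T.mem_A ((loc F N B B _ h y le_rfl y.le (A_ne k) (le_sup_right.trans k.nQ) (fun r t P a p1' p2 s' hc => ?_)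
        _ e le_sup_right (s.trans inf_le_left) (fun x hx => mem_nz_sup (H28.le_normalizer_pCoreOf 2 G (c.le hx))
          (k.nQ (mem_sup_right hx))) (((m.T_of_mem s (e1 he) ((mem_nz.1 (mem_nz_sup n2 n1)).le.trans s)).of_le
          (F.NF_le U)).mem_A (mem_nz_sup n2 n1)) n1 (T_of_mem_A (h.eS ▸ k.QB.trans y.le) (l he))).mono le_sup_left) n2⟩
      by_cases q : F.NF (cj r (pCoreOf 2 (E ⊔ B))) ≤ N
      · exact (s'.toNK (cz_le_nz _ hc) le_rfl p1' p2).of_le q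
      · have := centric_of p1 h (y.conj (t.mono le_sup_left)) (bk_cj k r) (by rwa [cj_O])
        rw [cj_O] at this
        obtain ⟨z, hz, e⟩ := h.sat.agree_center this p1' s' hc
        exact (N.of_mem (h.eS ▸ s'.le) (h.eS ▸ this.le hz.1)).congr e⟩
  obtain ⟨g, t, f⟩ := exists_FN y.le
  exact ⟨K, _, ‹_›, _, _, (qc K F N B E h fb).2.1 g t, f⟩

section
variable (p1 : P1 n) (cmk : CMK n) (qc : QC n) (h : Hy F N)
include cmk qc h
theorem nocen (f₁ : FB K F N B E₁) (f₂ : FB K F N B E₂) (u : U ≠ ⊥) (l : U ≤ B) (n₁ : E₁ ⊔ B ≤ nz U)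
    (n₂ : E₂ ⊔ B ≤ nz U) :
    ⁅omegaOneCenter 2 (pCoreOf 2 E₁), E₁⁆ ≤ cz ⁅omegaOneCenter 2 (pCoreOf 2 E₂), E₂⁆ := by
  obtain ⟨g, t, f⟩ := h.sat.exists_FN (l.trans f₁.ky.le)
  have t := t.mono (le_inf f₁.ky.le (le_sup_right.trans n₁))
  have u := (cj_eq_bot (g := g)).not.2 u
  obtain ⟨G, m, d⟩ := h.mdl u f
  have k : ∀ E, E ⊔ B ≤ nz U → cj g E ⊔ cj g B ≤ nz (cj g U) := fun E e => by
    rw [← cj_sup, ← cj_nz]; exact cj_mono g e
  have f₁ := (qc K F N B E₁ h f₁).2.1 g t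
  have f₂ := (qc K F N B E₂ h f₂).2.1 g t
  obtain ⟨o, g₁, a1, a2, a3⟩ := (qc K F N _ _ h f₁).2.2 _ G u f (cj_mono g l) (k _ n₁) m d
  obtain ⟨-, g₂, b1, b2, b3⟩ := (qc K F N _ _ h f₂).2.2 _ G u f (cj_mono g l) (k _ n₂) m d
  obtain ⟨c, -⟩ := cmk F N _ _ G h f₁.ky u f (le_sup_right.trans (k _ n₁)) m o
  have := (a3.bk.blk.W_le_P c.toAmb a2).trans (b3.bk.blk.P_cen c.toAmb b2)
  rw [W_cj f₁.bk a1, W_cj f₂.bk b1] at this
  refine (cj_le_cj (g := g)).1 ?_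
  rw [cj_cz]
  exact (H29.BB.cj_W g).le.trans (this.trans (cz_anti (H29.BB.cj_W g).le))
theorem pr_of (f₁ : FB K F N B E₁) (f₂ : FB K F N B E₂) (nc : ¬ ⁅omegaOneCenter 2 (pCoreOf 2 E₁), E₁⁆ ≤
    cz ⁅omegaOneCenter 2 (pCoreOf 2 E₂), E₂⁆) : Pr K K B E₁ E₂ := ⟨f₁.bk, f₂.bk, nc, by_contra fun e => by
  obtain ⟨z, z1, z2, z3, z4⟩ := H28.GC.exists_z f₁.bk.pg (f₁.bk.pg.to_le (inf_le_left.trans inf_le_left))
    (fun b hb => mem_nz_inf (mem_nz_inf (le_normalizer hb) (mem_nz_cz (f₁.bk.nrm hb))) (mem_nz_cz (f₂.bk.nrm hb))) e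
  have k : ∀ E : Subgroup (Univ n), z ∈ cz E → E ⊔ B ≤ nz (zpowers z) := fun E e => (sup_le (le_cz_comm.1
    (zpowers_le.2 e)) (le_cz_comm.1 (zpowers_le.2 (H28.GC.le_c_iff.1 z4)))).trans (cz_le_nz _)
  exact nc (nocen cmk qc h f₁ f₂ (zpowers_eq_bot.not.2 z3) (zpowers_le.2 z1.1.1) (k _ z1.1.2) (k _ z1.2))⟩
theorem FB.cjA (f : FB K F N B E) (ha : a ∈ F.A B) : FB K F N B (cj a E) := by
  simpa only [cj_eq_of_mem_A ha] using (qc K F N B E h f).2.1 a (T_of_mem_A f.ky.le ha)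
end

theorem pb (p1 : P1 n) (cmk : CMK n) (qc : QC n) : PB n := fun K _ _ F N B E h f => by
  by_contra! k
  have k : ∀ a ∈ F.A B, cj a ⁅omegaOneCenter 2 (pCoreOf 2 E), E⁆ ≤ cz ⁅omegaOneCenter 2 (pCoreOf 2 E), E⁆ :=
    fun a ha => le_cz_comm.1 ((by_contra fun e => k a ha (pr_of cmk qc h f (f.cjA cmk qc h ha) e) : _ ≤ _).trans
      (cz_anti (H29.BB.cj_W a).le))
  have l : ⨆ a : F.A B, cj a.1 ⁅omegaOneCenter 2 (pCoreOf 2 E), E⁆ ≤ B := iSup_le fun a =>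
    (cj_mono _ f.bk.WB).trans (cj_eq_of_mem_A a.2).le
  have w : ⁅omegaOneCenter 2 (pCoreOf 2 E), E⁆ ≤ ⨆ a : F.A B, cj a.1 ⁅omegaOneCenter 2 (pCoreOf 2 E), E⁆ :=
    le_iSup_of_le 1 (by simp)
  have i := nz_iSup (F.A B) ⁅omegaOneCenter 2 (pCoreOf 2 E), E⁆
  have j := f.bk.leQ l (iSup_le fun a => k a a.2)
  exact f.not_NF j (sup_le (f.bk.nrm_of j w) (((le_N f.ky.le).trans (F.N_le_A B)).trans i))
    ((p1 F N B h f.ky).1 _ (fun e => f.bk.W_ne (le_bot_iff.1 (e ▸ w))) l i)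

theorem pr_swap (r : Pr K K B E₁ E₂) (hg : g ∈ nz B) (o : g ∉ nz (pCoreOf 2 (E₁ ⊔ B))) :
    cj g (pCoreOf 2 (E₁ ⊔ B)) = pCoreOf 2 (E₂ ⊔ B) :=
  eq_of_le_of_card_ge ((H28.GC.le_of_two fun y hy => r.inv_or ((cj_mono g r.k₁.QB).trans (mem_nz.1 hg).le hy) (by
    obtain ⟨a, ha, rfl⟩ := hy
    exact conj_sq (H28.GC.sq_of_ea r.ea ha))).resolve_left fun e => o (mem_nz_of_le e))
    (by rw [card_cj, r.card_eq])

theorem pr_tw (r : Pr K K B E₁ E₂) : Tw (nz B) (nz (pCoreOf 2 (E₁ ⊔ B))) := fun u hu v hv u1 v1 => mem_nz.2 (by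
  rw [← cj_cj, pr_swap r hv v1, pr_swap r.symm hu fun k => r.nc (r.k₁.WQ.trans ((cj_inj.1
    ((pr_swap r hu u1).trans (mem_nz.1 k).symm)).le.trans r.k₂.QC))])

section
variable (sv : SV n) (cmk : CMK n) (qc : QC n) (h : Hy F N) (fn : F.FN B) (f : FB K F N B E) (r : Pr K K B E E₂)
  (ha : a ∈ F.A B) (a1 : a ∉ nz (pCoreOf 2 (E ⊔ B))) (fa : F.FN (pCoreOf 2 (E ⊔ B)))
include sv cmk qc h fn f r ha a1 fa
theorem pc3 (m : (F.NF (pCoreOf 2 (E ⊔ B))).Mdl 2 G) (l : E ≤ G) : ∃ x, Cf K F B E G x := by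
  obtain ⟨c, e, i⟩ := cmk F N B _ G h f.ky (A_ne f.bk) fa (f.nA.trans inf_le_right) m (f.not_NF le_rfl f.bk.nQ)
  obtain ⟨x, hx, x1⟩ := exists_sw h.sat fn f.bk.QB (pr_tw r) ha a1
  have A1 := f.bk.QB.trans f.nA
  have f₂ := f.cjA cmk qc h (F.N_le_A B hx)
  exact ⟨x, h.sat, sv F N h, pr_of cmk qc h f f₂ fun k => r.nc
    ((f₂.bk.leQ f.bk.WB k).trans (((cj_O' hx.2 E).trans (pr_swap r hx.2 x1)).le.trans r.k₂.QC)),
    f.ky.le, hx.1, hx.2, fa, (qc K F N B E h f).1, m, l, cm_nrm c r l fun l => f.out fun k hk =>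
      (i k (l hk) _ A1 ((mem_nz.1 (f.bk.nQ (mem_sup_left hk))).le.trans A1)).mem_A (f.bk.nQ (mem_sup_left hk)), e⟩
theorem pc2 : ∃ E' H x, Cf K F B E' H x := by
  obtain ⟨H, m, d⟩ := h.mdl (A_ne f.bk) fa
  obtain ⟨o, g, g1, g2, f'⟩ := (qc K F N B E h f).2.2 _ H (A_ne f.bk) fa f.bk.QB f.bk.nQ m d
  have e : pCoreOf 2 (cj g E ⊔ B) = pCoreOf 2 (E ⊔ B) :=
    (cj_O' (cz_le_nz _ g1) E).trans (mem_nz.1 (cz_le_nz _ (cz_anti f.bk.QB g1)))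
  rw [← e] at a1 fa m
  exact ⟨_, H, pc3 sv cmk qc h fn f' (pr_cj r (cz_le_nz _ g1)) ha a1 fa m g2⟩
end

theorem pc (sv : SV n) (cmk : CMK n) (qc : QC n) : PC n := fun K _ _ F N B E a h f fn ha r => by
  have a1 : a ∉ nz (pCoreOf 2 (E ⊔ B)) := fun e => r.nc (r.k₁.WQ.trans
    (((cj_O' ha.1 E).trans (mem_nz.1 e)).ge.trans r.k₂.QC))
  obtain ⟨w, t, fa⟩ := h.sat.exists_FN (f.bk.QB.trans f.ky.le)
  have t := t.mono f.nA
  have f' := (qc K F N B E h f).2.1 w t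
  rw [← cj_O] at fa
  obtain ⟨G, m, -⟩ := h.mdl (A_ne f'.bk) fa
  obtain ⟨-, e, -⟩ := cmk F N _ _ G h f'.ky (A_ne f'.bk) fa (f'.nA.trans inf_le_right) m (f'.not_NF le_rfl f'.bk.nQ)
  obtain ⟨v, s, ev, -⟩ := h.sat.exists_N_map fn t.inv (cj_inv_cj w B)
  have fa := fa.cj (s.mono (le_inf inf_le_left (nz_bm e)))
  have hk : v * w ∈ F.A B := (t.mul (s.mono (le_N t.cj_le))).mem_A' (by rw [← cj_cj, ev])
  rw [cj_O, cj_cj, ← cj_O' hk.1] at fa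
  exact pc2 sv cmk qc h fn (f.cjA cmk qc h hk) (pr_cj r hk.1) (mul_mem (mul_mem hk ha) (inv_mem hk))
    (by rwa [cj_O' hk.1, ← cj_nz, conj_mem_cj_iff]) fa

end H4.MF
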