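import Cfsg.Agent.H4.MF0
import Cfsg.Agent.H4.Rz5
import Cfsg.Agent.H25.NM

/-! Minimal `2`-fusion systems: the dihedral and semidihedral case. -/

set_option autoImplicit false
set_option linter.unusedVariables false
set_option linter.unusedSectionVars false

namespace H4.MF
open Subgroup H25 H25.FS H10 H13.GL2 Matrix.SpecialLinearGroup
open scoped MatrixGroups commutatorElement

universe u

section
variable {K : Type} [Field K]

/-- conjugation action of `GL₂` on `SL₂` -/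
@[reducible] def cM (K : Type) [Field K] : MulDistribMulAction (GL (Fin 2) K) SL(2, K) where
  smul g s := ⟨g.1 * s.1 * g⁻¹.1, by rw [Matrix.det_units_conj, s.2]⟩
  one_smul s := Subtype.ext (by change _ * s.1 * _ = s.1; simp)
  mul_smul g h s := Subtype.ext (by
    change _ * s.1 * _ = g.1 * (h.1 * s.1 * h⁻¹.1) * g⁻¹.1; simp only [mul_inv_rev, Units.val_mul, mul_assoc])
  smul_mul g s t := Subtype.ext (by
    change _ * (s.1 * t.1) * _ = g.1 * s.1 * g⁻¹.1 * (g.1 * t.1 * g⁻¹.1); simp [mul_assoc])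
  smul_one g := Subtype.ext (by change g.1 * 1 * g⁻¹.1 = 1; simp)

/-- conjugation action of `GL₂` on `SL₂` -/
def cG (K : Type) [Field K] : GL (Fin 2) K →* MulAut SL(2, K) := @MulDistribMulAction.toMulAut _ _ _ _ (cM K)

theorem cG_toGL (g : GL (Fin 2) K) (s : SL(2, K)) : toGL (cG K g s) = g * toGL s * g⁻¹ := Units.ext rfl

theorem cG_sl (s : SL(2, K)) : cG K (toGL s) = MulAut.conj s :=
  MulEquiv.ext fun t => toGL_injective (by rw [cG_toGL, MulAut.conj_apply, map_mul, map_mul, map_inv])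

theorem cG_ker : (cG K).ker = Subgroup.center _ := by
  ext g
  refine ⟨fun h => Matrix.GeneralLinearGroup.mem_center_iff_val_mem_range_scalar.2
    (Matrix.mem_range_scalar_of_commute_transvectionStruct fun t => ?_), fun h => MulEquiv.ext fun s =>
      toGL_injective (by rw [cG_toGL, ← Subgroup.mem_center_iff.1 h, mul_inv_cancel_right]; rfl)⟩
  have := cG_toGL g ⟨t.toMatrix, t.det⟩
  rw [show cG K g = 1 from h, eq_mul_inv_iff_mul_eq] at this
  exact congrArg Units.val this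

variable [Fintype K] [DecidableEq K] {n k : ℕ} {ζ : Kˣ}

theorem cG_dg (a : Kˣ) : cG K (H13.GL2.dg a 1) = dD a := MulEquiv.ext fun s => toGL_injective (by
  rw [cG_toGL, mul_inv_eq_iff_eq_mul, dD_apply]
  ext i j; fin_cases i <;> fin_cases j <;> simp [Matrix.mul_apply, Fin.sum_univ_two, dA_00, dA_01, dA_10, dA_11, mul_comm])

theorem pgl (h : Fintype.card K = 2 ^ (n + 2) * k + 1) (hk : Odd k) (hζ : orderOf ζ = 2 ^ (n + 2)) :
    Nonempty ((Cfsg.Inn SL(2, K) ⊔ zpowers (dA (RingHom.id K) ζ) : Subgroup _) ≃*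
      GL (Fin 2) K ⧸ Subgroup.center (GL (Fin 2) K)) := by
  refine ⟨(MulEquiv.subgroupCongr (le_antisymm (sup_le ?_ (zpowers_le.2 (MonoidHom.mem_range.2 ⟨_, cG_dg ζ⟩))) ?_)).trans
    ((QuotientGroup.quotientKerEquivRange (cG K)).symm.trans (QuotientGroup.quotientMulEquivOfEq cG_ker))⟩
  · rintro _ ⟨s, rfl⟩; exact ⟨_, cG_sl s⟩
  rintro _ ⟨g, rfl⟩
  set a := Matrix.GeneralLinearGroup.det g
  obtain ⟨s, hs⟩ : ∃ s, toGL s = g * (H13.GL2.dg a 1)⁻¹ := ⟨⟨(g * (H13.GL2.dg a 1)⁻¹).1, by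
    rw [← Matrix.GeneralLinearGroup.val_det_apply, map_mul, map_inv, show Matrix.GeneralLinearGroup.det
      (H13.GL2.dg a 1) = a from Units.ext (by simp [Matrix.det_fin_two]), mul_inv_cancel, Units.val_one]⟩,
    Units.ext rfl⟩
  obtain ⟨c, rfl⟩ := hk
  obtain ⟨i, -, hi⟩ := (hζ ▸ IsPrimitiveRoot.coe_units_iff.2 (IsPrimitiveRoot.orderOf ζ)).eq_pow_of_pow_eq_one
    (ξ := ((a ^ (2 * c + 1) : Kˣ) : K)) (by
      rw [← Units.val_pow_eq_pow_val, ← pow_mul, mul_comm, ← Nat.add_sub_cancel (n := 2 ^ (n + 2) * _) (m := 1), ← h,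
        ← Fintype.card_units, pow_card_eq_one, Units.val_one])
  replace hi : ζ ^ i = a ^ (2 * c + 1) := Units.ext (by simpa using hi)
  rw [← inv_mul_cancel_right g (H13.GL2.dg a 1), ← hs, map_mul, cG_sl, cG_dg,
    show a = (a ^ c)⁻¹ ^ 2 * ζ ^ i by rw [hi]; group, map_mul, dD_sq, map_pow]
  exact mul_mem (mem_sup_left ⟨s, rfl⟩) (mul_mem (mem_sup_left ⟨_, rfl⟩) (mem_sup_right (npow_mem_zpowers _ _)))

theorem cz_inn {X : Type*} [Group X] (h : commutator X = ⊤) {α : MulAut X}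
    (c : ∀ s, MulAut.conj s * α = α * MulAut.conj s) : α = 1 := by
  have k : ∀ s t, α s * t * (α s)⁻¹ = s * t * s⁻¹ := fun s t => by
    simpa using (MulEquiv.congr_fun (c s) (α⁻¹ t)).symm
  refine MulEquiv.toMonoidHom_injective (MonoidHom.eq_of_eqOn_dense (commutator_eq_closure X ▸ h) ?_)
  rintro _ ⟨a, b, rfl⟩
  change α ⁅a, b⁆ = ⁅a, b⁆
  rw [map_commutatorElement, commutatorElement_def, k, mul_assoc, mul_assoc, ← mul_assoc (α b), k]
  group

theorem sd_cl {σ : K →+* K} {e : ℤ} (hζ : orderOf ζ = 2 ^ (n + 2)) (h2 : dA σ ζ ^ 2 ∈ Cfsg.Inn SL(2, K))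
    (m : Md (Cfsg.Inn SL(2, K) ⊔ zpowers (dA σ ζ) : Subgroup _) (n + 2) e True True False) :
    ∃ L : Subgroup (Cfsg.Inn SL(2, K) ⊔ zpowers (dA σ ζ) : Subgroup _), L.Normal ∧ L.index = 2 ∧
      Subgroup.centralizer (L : Set (Cfsg.Inn SL(2, K) ⊔ zpowers (dA σ ζ) : Subgroup _)) = ⊥ ∧
      Nonempty (L ≃* PSL(2, K)) := by
  have p := sl2_perfect (by omega) hζ
  refine ⟨(Cfsg.Inn _).subgroupOf _, inferInstance, relIndex_sup_zpowers_of_sq (le_normalizer_of_normal (mem_top _))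
    h2 fun c => ?_, eq_bot_iff.2 fun a c => Subtype.ext (cz_inn p fun s => congrArg Subtype.val
      (c ⟨MulAut.conj s, mem_sup_left ⟨s, rfl⟩⟩ ⟨s, rfl⟩)), ⟨(subgroupOfEquivOfLe le_sup_left).trans
        ((QuotientGroup.quotientKerEquivRange _).symm.trans (QuotientGroup.quotientMulEquivOfEq ?_))⟩⟩
  · obtain ⟨T, x, w, -, -, -, -, -, -, k⟩ := m
    exact k.1 (mem_comm_sub.2 (commutator_mono le_sup_left le_sup_left ((perfect_range p _).ge
      (sup_le le_rfl (zpowers_le.2 c) (x * w).2))))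
  · ext g
    simp [Subgroup.mem_center_iff, MulEquiv.ext_iff, eq_mul_inv_iff_mul_eq, eq_comm]
end

section
variable {Γ : Type*} [Group Γ] [Finite Γ] {F : FS Γ} {S : Subgroup Γ} {n : ℕ} {e : ℤ} {x y w g : Γ}

theorem q8z (k : MC S n x e) (hq : NQ S n x) (hw : w ∈ S) (hw' : w ∉ zpowers x) (h2 : w ^ 2 ≠ 1)
    (hg : g ∈ nz (cand x w n)) : zpowers (mcZ x n) ≤ cand x w n ∧ g ∈ nz (zpowers (mcZ x n)) := by
  have a4 := (cand_shape k hq hw hw').1.trans (k.sub_le hw 1)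
  have a6 := a4 (conj_mem_of_mem_nz hg (MC.out_mem_sub _))
  have a7 := (k.sq_out hw hw').resolve_left h2
  have a8 : g * mcZ x n * g⁻¹ ∈ zpowers x := by
    rw [← a7, ← conj_pow, sq]; exact mul_self_mem_of_index_two k.idx ⟨_, a6⟩
  exact ⟨zpowers_le.2 (a7 ▸ pow_mem (MC.out_mem_sub _) 2), cz_le_nz _ (mem_cz_zpowers.2 ((k.invol_in a8 (by
    rw [conj_pow, k.z_sq]; simp)).resolve_left (by simpa using k.z_ne_one)))⟩

theorem z_nz (k : MC S n x e) : S ≤ nz (zpowers (mcZ x n)) := fun s hs =>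
  cz_le_nz _ (mem_cz_zpowers.2 (k.z_conj hs))

theorem qd_nm (hF : F.Sat 2) (h : QD F.S n x y) (h1 : y ∉ F.foc) : F.Nm (zpowers (mcZ x n)) := by
  have k := h.mc
  have hq : NQ F.S n x := .inl h.three_le
  refine (nm_iff_le (zpowers_le.2 k.z_mem)).2 (le_of_odd hF (left_eq_inf.2 (z_nz k)) fun Q hQ m a ha _ => ?_)
  have q := (hF.cr_of_ess hQ).1.le
  obtain ⟨w, b1, b2, rfl⟩ := mc_cases k q m
  obtain ⟨c1, c2⟩ := q8z k hq b1 b2 (fun c => by
    rcases mc_foc_out k h.y_mem h.y_out b1 b2 with d | ⟨-, j, rfl⟩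
    · exact h1 (d.1 ((mc_foc_iff hF k hq b1 b2).2 m))
    · exact h.xy_sq (k.zpow_even_mul_sq h.xy_mem h.xy_out j ▸ c)) (F.A_le_nz _ ha)
  exact (NF_A c1 (le_inf q (q.trans (z_nz k)))).ge ⟨ha, c2⟩

theorem qd_three (hF : F.Sat 2) (h : QD F.S n x y) (s : (F.NF (zpowers (mcZ x n))).Solv) (h1 : x * y ∈ F.foc) :
    n = 3 := by
  have k := h.mc
  have hn := h.three_le
  have hq : NQ F.S n x := .inl hn
  obtain ⟨g, g1, g2, g3⟩ := (mc_foc_iff hF k hq h.xy_mem h.xy_out).1 h1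
  obtain ⟨c1, c2⟩ := q8z k hq h.xy_mem h.xy_out h.xy_sq (F.A_le_nz _ g1)
  have q := (cand_shape k hq h.xy_mem h.xy_out).1.trans (k.sub_le h.xy_mem 1)
  have g4 := (NF_A c1 (le_inf q (q.trans (z_nz k)))).ge ⟨g1, c2⟩
  have e : (F.NF (zpowers (mcZ x n))).S = F.S := inf_eq_left.2 (z_nz k)
  obtain ⟨U, u1, -, u2, u3⟩ := s.exists_step (sc_S _) (R := zpowers (mcZ x n)) fun c => h.y_out
    (zpowers_le.2 MC.z_mem_zpowers (c (e ▸ h.y_mem)))
  have uS : U ≤ F.S := e ▸ u1.1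
  have nU : F.S ≤ nz U := fun t ht => mem_nz_of_conj_mem fun u hu =>
    u1.conj_mem (FS.of_mem _ u1.1 (e ▸ ht)) hu hu
  have k2 : ∀ v ∈ U, v ∉ zpowers x → n = 3 := fun v hv v' => by
    have := k.sub_one_le nU (uS hv) v' hv (MC.zpow_mem_sub (i := 2 * 1) (by simp))
    have := u3 (commutator_mem_commutator hv this)
    rw [commutatorElement_def, k.conj_even (uS hv) v', ← mul_inv_rev, inv_mem_iff, ← zpow_add, mcZ,
      zpow_mem_zpowers_two_pow k.ord (by omega)] at this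
    have := (pow_le_pow_iff_right₀ (one_lt_two (α := ℤ)) (m := 2)).1 (Int.le_of_dvd (by decide) this)
    omega
  obtain ⟨v, hv, v'⟩ := SetLike.not_le_iff_exists.1 u2
  by_cases c : v ∈ zpowers x
  swap
  · exact k2 v hv c
  obtain ⟨d, d1, d2⟩ := exists_eq_zpowers_two_pow k.ord (zpowers_le.2 c)
  have d3 : x ^ (2 : ℤ) ^ (n - 2) ∈ U := zpowers_le.2 hv (d2 ▸ (zpow_mem_zpowers_two_pow k.ord d1).2 (pow_dvd_pow _ (by
    by_contra d3
    exact v' ((d2 ▸ zpowers_le.2 ((zpow_mem_zpowers_two_pow k.ord (by omega)).2 (pow_dvd_pow _ (by omega))) :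
      zpowers v ≤ zpowers (mcZ x n)) (mem_zpowers v)))))
  rw [cand, if_neg h.xy_sq] at g1 g3 g4 q
  obtain ⟨i⟩ := k.sub_quaternion h.xy_mem h.xy_out (d := n - 2) (by omega) (by omega) h.xy_sq
  rw [show n - (n - 2) - 1 = 1 by omega] at i
  have d4 : x ^ (2 : ℤ) ^ (n - 2) ∈ mcSub x (x * y) (n - 2) := MC.zpow_mem_sub dvd_rfl
  refine k2 _ (u1.conj_mem (g4.2 (e ▸ q)) d4 d3) fun c => q8_odd_moves i (F.A_le_nz _ g1) g2 g3 d4 (fun e => ?_)
    (k.sub_inf h.xy_mem h.xy_out (d := n - 2) (by omega) ▸ ⟨c, conj_mem_of_mem_nz (F.A_le_nz _ g1) d4⟩)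
  exact absurd (k.orderOf_quarter ▸ orderOf_dvd_of_pow_eq_one e) (by decide)
end

section
variable {Ω : Type u} [Group Ω] {S : Subgroup Ω} [Finite S] {F : Cfsg.FusionSystem S} {n : ℕ} {e : ℤ} {x w : Ω}

theorem rz_of {G : Type} [Group G] [Finite G] (hF : F.IsSaturated 2) (h : MC S n x e) (hq : NQ S n x) (hw : w ∈ S)
    (hw' : w ∉ zpowers x) (m : Md G n e (w ^ 2 = 1) (w ∈ F.focalSubgroup) (x * w ∈ F.focalSubgroup)) (c : Cl S G) :
    ∃ (G : Type) (_ : Group G) (_ : Finite G) (ι : S →* G), F.IsRealizedBy ι ∧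
      (∃ T : Sylow 2 G, (T : Subgroup G) = ι.range) ∧ Cl S G := by
  obtain ⟨N, θ, U, hU⟩ := exists_un S (m := Nat.card G) Nat.card_pos
  have R := U.rep le_rfl F
  have k : ∀ v ∈ S, v ∈ F.focalSubgroup ↔ ex θ v ∈ (fs θ F).foc := fun v hv => by
    rw [← R.im_foc, ex_mem_im_iff U.inj hv]
  obtain ⟨ι, a, b⟩ := (mc_rz (R.sat h.isPGroup hF) (mc_im U.inj h) (nq_im U.inj h.mem hq) (ex_mem_im θ le_rfl hw)
    ((ex_out U.inj h.mem hw).not.2 hw') (hU G dvd_rfl) (m.of (ex_sq U.inj hw).symm (k w hw)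
      (ex_mul θ h.mem hw ▸ k _ (mul_mem h.mem hw)))).realizedBy R h.isPGroup
  exact ⟨G, _, ‹_›, ι, a, b, c⟩
end

theorem ds : DS.{u} := by
  intro Ω _ S _ hS F hF hO hmin h l
  obtain ⟨N, θ, R⟩ := exists_rep F
  have sat := R.sat hS hF
  have f : ∀ v ∈ S, v ∈ F.focalSubgroup ↔ ex θ v ∈ (fs θ F).foc := fun v hv => by
    rw [← R.im_foc, ex_mem_im_iff R.inj hv]
  have nm : ∀ Q, (fs θ F).Nm Q → Q = ⊥ := fun Q q => eq_bot_iff.2 (R.core_eq_bot.1 hO ▸ q.le_core)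
  have no : ∀ {n x e w}, MC S n x e → NQ S n x → w ∈ S → w ∉ zpowers x → w ∉ F.focalSubgroup →
      x * w ∈ F.focalSubgroup := fun {n x e w} h q a b c => by
    by_contra d
    have k := mc_im R.inj h
    have := nm _ (mc_nm_of_not sat k (nq_im R.inj h.mem q) (ex_mem_im θ le_rfl a) ((ex_out R.inj h.mem a).not.2 b)
      ((f w a).not.1 c) (ex_mul θ h.mem a ▸ (f _ (mul_mem h.mem a)).not.1 d))
    exact k.z_ne_one (mem_bot.1 (this ▸ k.z_mem))
  rcases h with ⟨m, ⟨i⟩⟩ | h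
  · have m8 : 8 ≤ m := by rw [Nat.card_congr i.toEquiv, DihedralGroup.nat_card] at l; omega
    obtain ⟨n, x, h, -, q⟩ := (dihedral_cases hS (by omega) i).resolve_left fun k => by
      rw [k.card_four] at l; omega
    obtain ⟨n, rfl⟩ := Nat.exists_eq_add_of_le' h.two_le
    obtain ⟨K, _, _, _, k, h1, h2⟩ := exists_field_sub (n + 2)
    obtain ⟨L, _, _, _, j, h3, h4⟩ := exists_field_sub (n + 1)
    obtain ⟨ζ, hζ⟩ := exists_ord h4
    have key : ∀ w ∈ S, w ∉ zpowers x → w ∈ F.focalSubgroup → ∃ (G : Type) (_ : Group G) (_ : Finite G)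
        (ι : S →* G), F.IsRealizedBy ι ∧ (∃ T : Sylow 2 G, (T : Subgroup G) = ι.range) ∧ Cl S G := fun w a b c => by
      by_cases d : x * w ∈ F.focalSubgroup
      · exact rz_of hF h (.inr q) a b ((md_D h2 h1).of (iff_true_intro (q w a b)).symm (iff_true_intro c).symm
          (iff_true_intro d).symm) (.inl ⟨⟨m, m8, ⟨i⟩⟩, K, _, _, h2 ▸ Even.add_one (by simp [pow_succ, parity_simps]),
          .inl ⟨.refl _⟩⟩)
      · exact rz_of hF h (.inr q) a b ((md_aut h4 h3 (σ := RingHom.id L) (j := 1) (fun _ => rfl) hζ odd_one (by decide)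
          (by simp) (by simp)).of (iff_true_intro (q w a b)).symm (iff_true_intro c).symm (iff_false_intro d).symm)
          (.inl ⟨⟨m, m8, ⟨i⟩⟩, L, _, _, h4 ▸ Even.add_one (by simp [pow_succ, parity_simps]), .inr (pgl h4 h3 hζ)⟩)
    obtain ⟨w, a, b⟩ := h.exists_out
    by_cases c : w ∈ F.focalSubgroup
    · exact key w a b c
    · exact key _ (mul_mem h.mem a) (by simpa using MC.mul_out b 1) (no h (.inr q) a b c)
  obtain ⟨n, x, y, k⟩ := exists_QD h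
  have k' : QD (fs θ F).S n (ex θ x) (ex θ y) := ⟨mc_im R.inj k.mc, k.three_le, ex_mem_im θ le_rfl k.y_mem,
    (ex_out R.inj k.mc.mem k.y_mem).not.2 k.y_out, (ex_sq R.inj k.y_mem).2 k.y_sq⟩
  have a : y ∈ F.focalSubgroup := by
    by_contra c
    exact k'.mc.z_ne_one (zpowers_eq_bot.1 (nm _ (qd_nm sat k' ((f y k.y_mem).not.1 c))))
  have q : NQ S n x := .inl k.three_le
  by_cases b : x * y ∈ F.focalSubgroup
  · have fn : (fs θ F).FN _ := FN_of_le_nz (zpowers_le.2 k'.mc.z_mem) (z_nz k'.mc)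
    obtain ⟨V, hV, v⟩ := R.exists_im fn.le
    obtain ⟨E, e1, e2, e3⟩ := R.exists_normalizer hV
    obtain rfl := qd_three sat k' (by
      rw [← v, ← e3, ← e2.solv_iff (p := 2) (e3 ▸ sat.NF (v ▸ fn))]
      exact hmin V (fun e => k'.mc.z_ne_one (zpowers_eq_bot.1 (by simp [← v, e]))) ((R.fn_iff hV).2 (v ▸ fn)) E e1)
      (ex_mul θ k.mc.mem k.y_mem ▸ (f _ k.xy_mem).1 b)
    obtain ⟨T, x', y', t, s⟩ := psl3_qd (K := ZMod 3) (n := 0) (k := 1) rfl odd_one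
    exact rz_of hF k.mc q k.y_mem k.y_out ((md_full psl3_perfect t.mc t.y_mem t.y_out s).of
      (iff_of_true t.y_sq k.y_sq) (iff_true_intro a).symm (iff_true_intro b).symm)
      (.inr (.inr (.inl ⟨h, k.mc.card, ⟨.refl _⟩⟩)))
  obtain ⟨n, rfl⟩ := Nat.exists_eq_add_of_le' k.three_le
  obtain ⟨L, _, _, _, l, h3, h4⟩ := exists_field_sub (n + 1)
  classical
  obtain ⟨ζ, hζ⟩ := exists_ord (card_EE h4)
  have h7 : Even ((2 : ℤ) ^ (n + 1)) := by simp [pow_succ]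
  have c : Fintype.card (EE L) = Fintype.card L ^ 2 := H11.card_quadAlg _ _
  have h8 : Units.map (H11.frob c) ζ = ζ ^ (2 * ((2 : ℤ) ^ (n + 1) * l + 1) - 1) := by
    rw [show 2 * (2 ^ (n + 1) * l + 1) - 1 = ((Fintype.card L : ℕ) : ℤ) by rw [h4]; push_cast; ring, zpow_natCast]
    exact Units.ext (by simp)
  have m := md_aut (n := n + 1) (e := 2 ^ (n + 1) - 1) (card_EE h4) (h3.mul (Even.add_one (by
    simp [pow_succ, parity_simps]))) (H11.frob_frob c) hζ (h7.mul_right _).add_one (h7.sub_odd odd_one) h8 (by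
      obtain ⟨c, rfl⟩ := h3
      exact ⟨2 ^ n * (2 * c + 1) - c, by push_cast; ring⟩)
  refine rz_of hF k.mc q k.y_mem k.y_out (m.of (iff_true_intro k.y_sq).symm (iff_true_intro a).symm
    (iff_false_intro b).symm) (.inr (.inl ⟨h, _, _, _, _, h4 ▸ Even.add_one (by simp [pow_succ, parity_simps]), c,
      sd_cl (n := n + 1) hζ ⟨dS (ζ ^ ((2 : ℤ) ^ (n + 1) * l + 1)), ?_⟩ m⟩))
  rw [sq, dA_mul, h8, ← zpow_one_add, add_sub_cancel, show (H11.frob c).comp (H11.frob c) = RingHom.id _ from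
    RingHom.ext (H11.frob_frob c), ← dD_sq, mul_comm (2 : ℤ), zpow_mul]
  rfl

end H4.MF
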