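import Cfsg.Agent.H1.MS2
import Cfsg.Agent.H12.MS0

/-! S5899, chunk `LAM`: the image of `Q` in the flag module. -/

set_option autoImplicit false
set_option linter.unusedVariables false
set_option synthInstance.maxSize 20000

namespace H4
namespace MZ
open Cfsg Subgroup H18 H17.GS H28.S H2.GW
open H19 hiding eq_bot_mono
open H28.NG hiding Hyp Uniq Ch
open H27.MS
open H1.MS (V3 e1 e3 pt ln Md LAM)
open scoped MatrixGroups
open Matrix

universe u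

abbrev L3 := SL(3, ZMod 2)
abbrev M3 := Matrix (Fin 3) (Fin 3) (ZMod 2)
abbrev Fl (s : V3 × V3) : Prop := s.1 ≠ 0 ∧ s.2 ≠ 0 ∧ s.2 ⬝ᵥ s.1 = 0
def ac (g : L3) (s : V3 × V3) : V3 × V3 := (g.1 *ᵥ s.1, s.2 ᵥ* (g⁻¹).1)
theorem cmu (g h : L3) : (g * h).1 = g.1 * h.1 := rfl
theorem cone : (1 : L3).1 = 1 := rfl
theorem ac_mul (g h : L3) (s : V3 × V3) : ac g (ac h s) = ac (g * h) s := by
  simp only [ac, mulVec_mulVec, vecMul_vecMul, _root_.mul_inv_rev, cmu]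
theorem ac_one (s : V3 × V3) : ac 1 s = s := by
  simp only [ac, inv_one, cone, one_mulVec, vecMul_one]
def acE (g : L3) : V3 × V3 ≃ V3 × V3 :=
  ⟨ac g, ac g⁻¹, fun s => by rw [ac_mul, inv_mul_cancel, ac_one], fun s => by rw [ac_mul, mul_inv_cancel, ac_one]⟩
theorem fl_ac (g : L3) {s : V3 × V3} (h : Fl s) : Fl (ac g s) := by
  have e : ac g⁻¹ (ac g s) = s := by rw [ac_mul, inv_mul_cancel, ac_one]
  refine ⟨fun z => h.1 ?_, fun z => h.2.1 ?_, ?_⟩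
  · rw [← e]; show _ *ᵥ (ac g s).1 = 0; rw [z, mulVec_zero]
  · rw [← e]; show (ac g s).2 ᵥ* _ = 0; rw [z, zero_vecMul]
  · show (s.2 ᵥ* (g⁻¹).1) ⬝ᵥ (g.1 *ᵥ s.1) = 0
    rw [← dotProduct_mulVec, mulVec_mulVec, ← cmu, inv_mul_cancel, cone,
      one_mulVec]; exact h.2.2
theorem fl_iff (g : L3) (s : V3 × V3) : Fl (ac g s) ↔ Fl s :=
  ⟨fun h => by have := fl_ac g⁻¹ h; rwa [ac_mul, inv_mul_cancel, ac_one] at this, fl_ac g⟩
theorem fl_tr : ∀ s, Fl s → ∃ g : L3, ac g (e1, e3) = s := by decide +kernel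
theorem trn : ∀ v w : V3, v ≠ 0 → w ≠ 0 → ∃ g : L3, g.1 *ᵥ v = w := by decide +kernel
theorem trn' : ∀ v w : V3, v ≠ 0 → w ≠ 0 → ∃ g : L3, v ᵥ* g.1 = w := by decide +kernel

def xa : L3 := ⟨!![1,1,0;0,1,0;0,0,1], by decide⟩
def xb : L3 := ⟨!![1,0,0;0,1,1;0,0,1], by decide⟩
def Fk (k : ℕ) (X : M3) : Prop := ∀ i j : Fin 3, i.val + k ≤ j.val + 2 ∨ X i j = 0
instance (k : ℕ) (X : M3) : Decidable (Fk k X) :=
  @Fintype.decidableForallFintype _ _ (fun i => @Fintype.decidableForallFintype _ _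
    (fun j => @instDecidableOr _ _ (Nat.decLe _ _) ((inferInstance : DecidableEq (ZMod 2)) _ _)) _) _
theorem xab : xa⁻¹ = xa ∧ xb⁻¹ = xb := by decide +kernel
theorem step : ∀ X : M3, ∀ k : Fin 5, Fk k X → Fk (k + 1) (xa.1 * X * xa.1 - X) ∧ Fk (k + 1) (xb.1 * X * xb.1 - X) := by
  decide +kernel
theorem base : ∀ X : M3, X.trace = 0 → xa.1 * X * xa.1 - X = 0 → xb.1 * X * xb.1 - X = 0 →
    X = 0 ∨ X = vecMulVec e1 e3 := by decide +kernel

theorem soc (I : AddSubgroup M3) (i : ∀ g : L3, ∀ X ∈ I, g.1 * X * (g⁻¹).1 ∈ I) (t : ∀ X ∈ I, X.trace = 0) :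
    ∀ n, n ≤ 5 → ∀ X ∈ I, X ≠ 0 → Fk (5 - n) X → vecMulVec e1 e3 ∈ I := by
  intro n
  induction n with
  | zero => exact fun _ X _ x0 f => absurd (Matrix.ext fun i j => (f i j).resolve_left (by omega)) x0
  | succ n ih =>
    intro hn X hX x0 f
    have s := step X ⟨5 - (n + 1), by omega⟩ f
    rw [show ((⟨5 - (n + 1), by omega⟩ : Fin 5) : ℕ) + 1 = 5 - n by simp only; omega] at s
    by_cases a : xa.1 * X * xa.1 - X = 0
    · by_cases b : xb.1 * X * xb.1 - X = 0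
      · exact ((base X (t X hX) a b).resolve_left x0) ▸ hX
      · exact ih (by omega) _ (sub_mem (by have := i xb X hX; rwa [xab.2] at this) hX) b s.2
    · exact ih (by omega) _ (sub_mem (by have := i xa X hX; rwa [xab.1] at this) hX) a s.1

def rM (g : L3) : M3 →ₗ[ZMod 2] M3 := (LinearMap.mulLeft _ g.1).comp (LinearMap.mulRight _ (g⁻¹).1)
theorem rM_app (g : L3) (X : M3) : rM g X = g.1 * X * (g⁻¹).1 := by
  simp only [rM, LinearMap.comp_apply, LinearMap.mulLeft_apply, LinearMap.mulRight_apply, Matrix.mul_assoc]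
theorem rM_fl (g : L3) (s : V3 × V3) : rM g (vecMulVec s.1 s.2) = vecMulVec (ac g s).1 (ac g s).2 := by
  rw [rM_app, mul_vecMulVec, vecMulVec_mul]; rfl
theorem irM (I : AddSubgroup M3) (i : ∀ g, ∀ x ∈ I, rM g x ∈ I) (tr : ∀ x ∈ I, ∃ φ : V3 × V3 → ZMod 2,
    (∀ s, ¬ Fl s → φ s = 0) ∧ ∑ s, φ s • vecMulVec s.1 s.2 = x) (n : I ≠ ⊥) (s : V3 × V3) (f : Fl s) :
    vecMulVec s.1 s.2 ∈ I := by
  obtain ⟨⟨x, hx⟩, x0⟩ := (AddSubgroup.ne_bot_iff_exists_ne_zero).1 n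
  have k := soc I (fun g X hX => rM_app g X ▸ i g X hX) (fun X hX => by
    obtain ⟨φ, z, rfl⟩ := tr X hX
    rw [trace_sum]
    refine Finset.sum_eq_zero fun s _ => ?_
    by_cases f : Fl s
    · rw [trace_smul, trace_vecMulVec, dotProduct_comm, f.2.2, smul_zero]
    · rw [z s f, zero_smul, trace_zero]) 5 le_rfl x hx (fun z => x0 (Subtype.ext z)) fun i j => .inl (by omega)
  obtain ⟨g, rfl⟩ := fl_tr s f
  exact rM_fl g (e1, e3) ▸ i g _ k

theorem k1 : ∀ s t : V3 × V3, Fl s → Fl t → ((if t = s then 1 else 0) + (if t.1 = s.1 then 1 else 0) +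
    (if t.2 = s.2 then 1 else 0) : ZMod 2) = 1 + s.2 ⬝ᵥ t.1 + t.2 ⬝ᵥ s.1 + s.2 ⬝ᵥ t.1 * t.2 ⬝ᵥ s.1 := by decide +kernel
theorem k2 : ∀ p : V3, p ≠ 0 → ∃ α : ZMod 2, ∃ β : V3, ∀ v : V3, v ≠ 0 → ((if v = p then 1 else 0) : ZMod 2) =
    α + β ⬝ᵥ v + (fun i => if v = Pi.single i 1 then 1 else 0) ⬝ᵥ p := by decide +kernel

/-- the linear algebra -/
theorem lin (φ : V3 × V3 → ZMod 2) (z : ∀ s, ¬ Fl s → φ s = 0) (h0 : ∑ s, φ s = 0) (h1 : ∑ s, φ s • s.1 = 0)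
    (h2 : ∑ s, φ s • s.2 = 0) (h3 : ∑ s, φ s • vecMulVec s.1 s.2 = 0) :
    ∃ y y' : V3, ∀ s, Fl s → φ s = y ⬝ᵥ s.1 + s.2 ⬝ᵥ y' := by
  have w : ∀ f g : V3 × V3 → ZMod 2, (∀ t, Fl t → f t = g t) → ∑ t, φ t * f t = ∑ t, φ t * g t := fun f g e =>
    Finset.sum_congr rfl fun t _ => by
      by_cases c : Fl t
      · rw [e t c]
      · rw [z t c, zero_mul, zero_mul]
  have a1 : ∀ β : V3, ∑ t, φ t * β ⬝ᵥ t.1 = 0 := fun β => by
    have := congrArg (β ⬝ᵥ ·) h1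
    simpa only [dotProduct_sum, dotProduct_smul, smul_eq_mul, dotProduct_zero] using this
  have a2 : ∀ β : V3, ∑ t, φ t * β ⬝ᵥ t.2 = 0 := fun β => by
    have := congrArg (β ⬝ᵥ ·) h2
    simpa only [dotProduct_sum, dotProduct_smul, smul_eq_mul, dotProduct_zero] using this
  have a3 : ∀ β γ : V3, ∑ t, φ t * (β ⬝ᵥ t.1 * t.2 ⬝ᵥ γ) = 0 := fun β γ => by
    have := congrArg (fun X => β ⬝ᵥ X *ᵥ γ) h3
    simpa only [sum_mulVec, dotProduct_sum, smul_mulVec, dotProduct_smul, smul_eq_mul, zero_mulVec, dotProduct_zero,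
      vecMulVec_mulVec, op_smul_eq_smul, mul_comm (_ ⬝ᵥ γ)] using this
  have b : ∀ (f : V3 × V3 → V3) (p : V3), (∀ t, Fl t → f t ≠ 0) → (∀ β : V3, ∑ t, φ t * β ⬝ᵥ f t = 0) → p ≠ 0 →
      ∑ t, φ t * (if f t = p then 1 else 0) = (fun i => ∑ t, φ t * if f t = Pi.single i 1 then 1 else 0) ⬝ᵥ p := by
    intro f p f0 a p0
    obtain ⟨α, β, e⟩ := k2 p p0
    rw [w _ _ fun t ht => e _ (f0 t ht)]
    simp only [mul_add, Finset.sum_add_distrib, ← Finset.sum_mul, h0, a, zero_mul, zero_add]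
    simp only [dotProduct, Finset.mul_sum, Finset.sum_mul, mul_assoc]
    exact Finset.sum_comm
  refine ⟨fun i => ∑ t, φ t * if t.1 = Pi.single i 1 then 1 else 0, fun i => ∑ t, φ t * if t.2 = Pi.single i 1 then 1 else 0,
    fun s hs => ?_⟩
  · rw [← b Prod.fst s.1 (fun t ht => ht.1) a1 hs.1, dotProduct_comm s.2, ← b Prod.snd s.2 (fun t ht => ht.2.1) a2 hs.2.1]
    have e := w _ _ fun t ht => k1 s t hs ht
    have a2' : ∑ t, φ t * t.2 ⬝ᵥ s.1 = 0 := by simpa only [dotProduct_comm s.1] using a2 s.1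
    have a0 : ∑ t, φ t * (if t = s then 1 else 0) = φ s := by simp
    simp only [mul_add, Finset.sum_add_distrib, mul_one, h0, a1, a3, a2', a0, add_zero] at e
    rwa [add_assoc, add_eq_zero_iff_eq_neg, ZMod.neg_eq_self_mod_two] at e

variable {G : Type u} [Group G] [Finite G] {N Q T T₀ : Subgroup G}

/-- a cocycle whose restriction to `Q` is zero or onto vanishes on `Q` -/
theorem coc {S : Type} [AddCommGroup S] (h : Fr N Q T) (ρ : N → S →+ S) (C : N → S) (h1 : C 1 = 0)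
    (hm : ∀ g k, C (g * k) = C g + ρ g (C k)) (hq : ∀ q : N, q.1 ∈ Q → ∀ x, ρ q x = x)
    (irr : ∀ I : AddSubgroup S, (∀ g, ∀ x ∈ I, ρ g x ∈ I) → (∀ x ∈ I, ∃ q, C q = x) → I ≠ ⊥ → ∀ g, C g ∈ I)
    (q : N) (k : q.1 ∈ Q) : C q = 0 := by
  let I : AddSubgroup S :=
    { carrier := {x | ∃ q : N, q.1 ∈ Q ∧ C q = x}
      zero_mem' := ⟨1, one_mem _, h1⟩
      add_mem' := by
        rintro _ _ ⟨a, ha, rfl⟩ ⟨b, hb, rfl⟩
        exact ⟨a * b, mul_mem ha hb, by rw [hm, hq a ha]⟩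
      neg_mem' := by
        rintro _ ⟨a, ha, rfl⟩
        refine ⟨a⁻¹, inv_mem ha, eq_neg_of_add_eq_zero_right ?_⟩
        rw [← hq a ha (C a⁻¹), ← hm, mul_inv_cancel, h1] }
  by_contra n
  have t := irr I (by
    rintro g _ ⟨a, ha, rfl⟩
    refine ⟨g * a * g⁻¹, h.nq.conj_mem g.2 ha, ?_⟩
    have := hm g g⁻¹
    rw [mul_inv_cancel, h1] at this
    rw [mul_assoc, hm, hm, hq a ha, map_add, add_left_comm, ← this, add_zero]) (fun x ⟨a, _, e⟩ => ⟨a, e⟩)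
    (fun e => n (AddSubgroup.mem_bot.1 (e ▸ ⟨q, k, rfl⟩)))
  let X : Subgroup N :=
    { carrier := {g | C g = 0}
      one_mem' := h1
      mul_mem' := fun {a b} (ha : C a = 0) (hb : C b = 0) => show C (a * b) = 0 by rw [hm, ha, hb, map_zero, add_zero]
      inv_mem' := fun {a} (ha : C a = 0) => show C a⁻¹ = 0 by
        have := hm a⁻¹ a
        rwa [inv_mul_cancel, h1, ha, map_zero, add_zero, eq_comm] at this }
  have e : X.map N.subtype = N := H12.MS.H27.MS.Fr.fr h (map_subtype_le _) fun g hg => by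
    obtain ⟨a, ha, e⟩ := t ⟨g, hg⟩
    have := hm a a⁻¹
    rw [mul_inv_cancel, h1, hq a ha] at this
    rw [show g = a * (a⁻¹ * ⟨g, hg⟩ : N) by simp]
    refine mul_mem (mem_sup_right ha) (mem_sup_left ⟨a⁻¹ * ⟨g, hg⟩, ?_, rfl⟩)
    show C _ = 0
    rw [hm, hq _ (inv_mem ha), ← e, add_comm, ← this]
  obtain ⟨x, hx, e'⟩ := (e.ge q.2 : q.1 ∈ X.map N.subtype)
  exact n ((Subtype.ext e' : x = q) ▸ hx)

open Classical in
noncomputable def ind (T₀ : Subgroup G) (x : G) : ZMod 2 := if x ∈ T₀ then 0 else 1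

theorem ind_mul (l : T₀ ≤ T) (c : #T = 2 * #T₀) {x y : G} (hx : x ∈ T) (hy : y ∈ T) :
    ind T₀ (x * y) = ind T₀ x + ind T₀ y := by
  have i : (T₀.subgroupOf T).index = 2 := by
    have := H19.card_mul_relIndex l
    rw [c, mul_comm 2] at this
    exact Nat.eq_of_mul_eq_mul_left (card_pos T₀) this
  have := mul_mem_iff_of_index_two i (a := ⟨x, hx⟩) (b := ⟨y, hy⟩)
  simp only [mem_subgroupOf, MulMemClass.mk_mul_mk] at this
  unfold ind
  by_cases a : x ∈ T₀ <;> by_cases b : y ∈ T₀ <;> simp [this, a, b]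
  decide

theorem lam : LAM.{u} := by
  intro G _ _ N Q T T₀ π h m l c q hq
  have mT : ∀ g : N, ac (π g) (e1, e3) = (e1, e3) → g.1 ∈ T := fun g e =>
    (m.mT g).2 ⟨congrArg Prod.fst e, congrArg Prod.snd e⟩
  have : ∀ s, ∃ t : N, Fl s → ac (π t) (e1, e3) = s := fun s => by
    by_cases f : Fl s
    · obtain ⟨g, e⟩ := fl_tr s f
      obtain ⟨t, rfl⟩ := m.sj g
      exact ⟨t, fun _ => e⟩
    · exact ⟨1, fun k => absurd k f⟩
  choose t ht using this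
  have i1 : ind T₀ 1 = 0 := if_pos (one_mem _)
  have mem : ∀ (g : N) s, Fl s → ((t s)⁻¹ * g * t (ac (π g)⁻¹ s) : N).1 ∈ T := fun g s f => mT _ (by
    rw [map_mul, map_mul, map_inv, ← ac_mul, ht _ (fl_ac _ f), ac_mul, mul_inv_cancel_right]
    exact (congrArg _ (ht s f).symm).trans (by rw [ac_mul, inv_mul_cancel, ac_one]))
  let cc : N → V3 × V3 → ZMod 2 := fun g s => if Fl s then ind T₀ ((t s)⁻¹ * g * t (ac (π g)⁻¹ s) : N).1 else 0
  have c1 : ∀ s, cc 1 s = 0 := fun s => by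
    simp only [cc, map_one, inv_one, ac_one, mul_one, inv_mul_cancel, OneMemClass.coe_one, i1, ite_self]
  have cm : ∀ g k s, cc (g * k) s = cc g s + cc k (ac (π g)⁻¹ s) := fun g k s => by
    simp only [cc, fl_iff]
    split_ifs with f
    · rw [← ind_mul l c (mem g s f) (mem k _ (fl_ac _ f)), ← Subgroup.coe_mul, ac_mul, map_mul, _root_.mul_inv_rev]
      congr 2; group
    · rfl
  have key : ∀ {S : Type} [AddCommGroup S] [Module (ZMod 2) S] (ρ : L3 → S →ₗ[ZMod 2] S) (ψ : V3 × V3 → S),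
      (∀ g s, ρ g (ψ s) = ψ (ac g s)) → (∀ x, ρ 1 x = x) → (∀ I : AddSubgroup S, (∀ g, ∀ x ∈ I, ρ g x ∈ I) →
        (∀ x ∈ I, ∃ φ : V3 × V3 → ZMod 2, (∀ s, ¬ Fl s → φ s = 0) ∧ ∑ s, φ s • ψ s = x) → I ≠ ⊥ → ∀ s, Fl s → ψ s ∈ I) →
      ∑ s, cc ⟨q, h.nq.le hq⟩ s • ψ s = 0 := by
    intro S _ _ ρ ψ e r1 irr
    refine coc h (fun g => (ρ (π g)).toAddMonoidHom) (fun g => ∑ s, cc g s • ψ s) (by simp only [c1, zero_smul, Finset.sum_const_zero])
      (fun g k => ?_) (fun a ha x => by rw [(m.ker a).2 ha]; exact r1 x) (fun I i1 i2 i3 g => ?_) _ hq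
    · simp only [cm, add_smul, Finset.sum_add_distrib, LinearMap.toAddMonoidHom_coe, map_sum, map_smul, e]
      congr 1
      rw [← (acE (π g)).sum_comp]
      refine Finset.sum_congr rfl fun s _ => ?_
      show cc k (ac _ (ac _ s)) • ψ (ac _ s) = _
      rw [ac_mul, inv_mul_cancel, ac_one]
    · have := irr I (fun x => by obtain ⟨a, rfl⟩ := m.sj x; exact i1 a)
        (fun x hx => let ⟨a, e⟩ := i2 x hx; ⟨cc a, fun s f => if_neg f, e⟩) i3
      refine sum_mem fun s _ => ?_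
      by_cases f : Fl s
      · rcases (by decide : ∀ z : ZMod 2, z = 0 ∨ z = 1) (cc g s) with z | z <;> rw [z]
        · rw [zero_smul]; exact zero_mem _
        · rw [one_smul]; exact this s f
      · rw [show cc g s = 0 from if_neg f, zero_smul]; exact zero_mem _
  obtain ⟨y, y', e⟩ := lin (cc ⟨q, h.nq.le hq⟩) (fun s f => if_neg f) (by
      have := key (S := ZMod 2) (fun _ => LinearMap.id) (fun _ => 1) (fun _ _ => rfl) (fun _ => rfl) fun I _ _ n _ _ => by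
        obtain ⟨⟨x, hx⟩, x0⟩ := (AddSubgroup.ne_bot_iff_exists_ne_zero).1 n
        exact (((by decide : ∀ z : ZMod 2, z = 0 ∨ z = 1) x).resolve_left fun z => x0 (Subtype.ext z)) ▸ hx
      simpa only [smul_eq_mul, mul_one] using this)
    (key (fun g => mulVecLin g.1) Prod.fst (fun _ _ => rfl) (fun x => one_mulVec x) fun I i _ n s f => by
      obtain ⟨⟨x, hx⟩, x0⟩ := (AddSubgroup.ne_bot_iff_exists_ne_zero).1 n
      obtain ⟨g, e⟩ := trn x s.1 (fun z => x0 (Subtype.ext z)) f.1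
      exact e ▸ i g x hx)
    (key (fun g => vecMulLinear (g⁻¹).1) Prod.snd (fun _ _ => rfl) (fun x => by rw [inv_one]; exact vecMul_one x)
      fun I i _ n s f => by
      obtain ⟨⟨x, hx⟩, x0⟩ := (AddSubgroup.ne_bot_iff_exists_ne_zero).1 n
      obtain ⟨g, e⟩ := trn' x s.2 (fun z => x0 (Subtype.ext z)) f.2.1
      have := i g⁻¹ x hx
      rw [inv_inv] at this
      exact e ▸ this)
    (key rM (fun s => vecMulVec s.1 s.2) rM_fl (fun x => by rw [rM_app, inv_one, cone, Matrix.one_mul, Matrix.mul_one]) irM)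
  refine ⟨y, y', fun g => ?_⟩
  have f : Fl (ac (π g) (e1, e3)) := fl_ac _ (by decide)
  have e' := e _ f
  change _ = y ⬝ᵥ pt (π g) + ln (π g) ⬝ᵥ y' at e'
  rw [← e']
  have τ : (g⁻¹ * t (ac (π g) (e1, e3)) : N).1 ∈ T := mT _ (by
    rw [map_mul, map_inv, ← ac_mul, ht _ f, ac_mul, inv_mul_cancel, ac_one])
  have qT : (g : G)⁻¹ * q * g ∈ T := H12.MS.H27.MS.Fr.le h (by simpa using h.nq.conj_mem (inv_mem g.2) hq)
  simp only [cc, if_pos f, (m.ker ⟨q, h.nq.le hq⟩).2 hq, inv_one, ac_one]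
  generalize t (ac (π g) (e1, e3)) = r at τ
  rw [show ((r⁻¹ * ⟨q, h.nq.le hq⟩ * r : N) : G) = (g⁻¹ * r : N).1⁻¹ * ((g : G)⁻¹ * q * g) * (g⁻¹ * r : N).1 by
    simp [mul_assoc], ind_mul l c (mul_mem (inv_mem τ) qT) τ, ind_mul l c (inv_mem τ) qT, add_right_comm,
    ← ind_mul l c (inv_mem τ) τ, inv_mul_cancel, i1, zero_add]
  unfold ind
  split_ifs with a <;> simp [a]

end MZ
end H4
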