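import Cfsg.Agent.H4.Misc1
import Cfsg.Agent.H4.Max1

/-! Vaughan-Lee's breadth theorem. -/

namespace H4
open Subgroup
open scoped commutatorElement

universe u
variable {G : Type*} [Group G] [Finite G] {p : ℕ} [hp : Fact p.Prime]

omit [Finite G] in
theorem vl_cent (H : Subgroup G) (y : H) :
    (centralizer {y} : Subgroup H) = (centralizer {(y : G)}).subgroupOf H := by
  ext z
  simp only [mem_subgroupOf, mem_centralizer_singleton_iff, Subtype.ext_iff, coe_mul]

theorem vl_rel (C H : Subgroup G) : (C.subgroupOf H).index ≤ C.index :=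
  (relIndex_le_of_le_right (H := C) (le_top (a := H))
    (by rw [relIndex_top_right]; exact index_ne_zero_of_finite)).trans_eq (relIndex_top_right C)

theorem vl_le (H : Subgroup G) (y : H) :
    (centralizer {y} : Subgroup H).index ≤ (centralizer {(y : G)}).index := by
  rw [vl_cent]; exact vl_rel _ _

theorem vl_step (hG : IsPGroup p G) {H : Subgroup G} (hH : H.index = p) {x : G} (hx : x ∉ H) :
    ∃ K : Subgroup H, Nat.card (commutator G) = Nat.card (commutator H) * K.index ∧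
      K.index ≤ (centralizer {x}).index ∧
      ∀ y : H, y ∉ K → (centralizer {y}).index * p = (centralizer {(y : G)}).index := by
  have hN := normal_of_index_prime hG hH
  have hn : (⁅H, H⁆).Normal := inferInstance
  let K : Subgroup H :=
    { carrier := {n | ⁅x, (n : G)⁆ ∈ ⁅H, H⁆}
      one_mem' := by simp
      mul_mem' := fun {a b} ha hb => by
        have := mul_mem ha (hn.conj_mem _ hb a)
        change ⁅x, ((a * b : H) : G)⁆ ∈ ⁅H, H⁆
        convert this using 1
        simp only [commutatorElement_def, coe_mul]; group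
      inv_mem' := fun {a} ha => by
        have := hn.conj_mem _ (inv_mem ha) (a : G)⁻¹
        change ⁅x, ((a⁻¹ : H) : G)⁆ ∈ ⁅H, H⁆
        convert this using 1
        simp only [commutatorElement_def, coe_inv]; group }
  refine ⟨K, ?_, ?_, fun y hy => ?_⟩
  · have h1 := index_commutator_mul (sup_zpowers_of_index hH hx)
    have h2 : Nat.card (commutator H) = Nat.card (⁅H, H⁆ : Subgroup G) := by
      rw [← map_subtype_commutator, card_map_of_injective H.subtype_injective]
    have h3 := (commutator G).index_mul_card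
    have h4 := H.index_mul_card
    have h5 := K.index_mul_card
    have h6 : (commutator G).index ≠ 0 := index_ne_zero_of_finite
    change _ = H.index * Nat.card K at h1
    refine Nat.eq_of_mul_eq_mul_left (Nat.pos_of_ne_zero h6) ?_
    rw [h3, h2, ← mul_assoc, h1, ← h4, ← h5]; ring
  · refine le_trans (Nat.le_of_dvd (Nat.pos_of_ne_zero index_ne_zero_of_finite)
      (index_dvd_of_le (H := (centralizer {x}).subgroupOf H) fun n hn' => ?_)) (vl_rel _ _)
    change ⁅x, (n : G)⁆ ∈ ⁅H, H⁆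
    rw [commutatorElement_eq_one_iff_mul_comm.2
      (mem_centralizer_singleton_iff.1 (mem_subgroupOf.1 hn')).symm]
    exact one_mem _
  · rw [vl_cent, ← hH]
    refine relIndex_mul_index fun g hg => by_contra fun hgH => hy ?_
    obtain ⟨m, hm, k, hk⟩ := mem_sup_zpowers.1 ((sup_zpowers_of_index hH hgH) ▸ mem_top x)
    have hc := mem_centralizer_singleton_iff.1 (zpow_mem hg k)
    change ⁅x, (y : G)⁆ ∈ ⁅H, H⁆
    have : ⁅x, (y : G)⁆ = ⁅m, (y : G)⁆ := by
      rw [hk, commutatorElement_def, commutatorElement_def, mul_assoc m, hc]; group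
    exact this ▸ commutator_mem_commutator hm y.2

theorem vl_out (hG : IsPGroup p G) {A B : Subgroup G} (hA : A ≠ ⊤) (hB : B ≠ ⊤) :
    ∃ g, g ∉ A ∧ g ∉ B := by
  obtain ⟨g, hg⟩ := exists_out hG Finset.univ (fun b : Bool => if b then A else B)
    (by simpa using hp.out.two_le) (by rintro (_ | _) _ <;> simpa)
  exact ⟨g, by simpa using hg true (Finset.mem_univ _), by simpa using hg false (Finset.mem_univ _)⟩

theorem vl_inf_index (hG : IsPGroup p G) {A B : Subgroup G} (hA : A.index = p) (h : ¬ B ≤ A) :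
    (A.subgroupOf B).index = p := by
  have := normal_of_index_prime hG hA
  have h1 : A.relIndex B ∣ p := hA ▸ relIndex_dvd_index_of_normal A B
  rcases (Nat.dvd_prime hp.out).1 h1 with h2 | h2
  · exact (h (relIndex_eq_one.1 h2)).elim
  · exact h2

theorem vl_third (hG : IsPGroup p G) {A B : Subgroup G} (hA : A.index = p) (hB : B.index = p)
    (h : ¬ A ≤ B) : ∃ C : Subgroup G, C.index = p ∧ ¬ C ≤ A ∧ ¬ C ≤ B ∧ C ⊓ A ≤ B ∧ C ⊓ B ≤ A := by
  have hAn := normal_of_index_prime hG hA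
  have hBn := normal_of_index_prime hG hB
  have h' : ¬ B ≤ A := fun e => h (by
    have := (isCoatom_of_index_prime hB).le_iff.1 e
    rcases this with rfl | rfl
    · exact absurd (index_top.symm.trans hA) hp.out.one_lt.ne
    · exact le_rfl)
  obtain ⟨a, ha, haB⟩ := SetLike.not_le_iff_exists.1 h
  obtain ⟨b, hb, hbA⟩ := SetLike.not_le_iff_exists.1 h'
  have h1 : a * b ∉ A := fun e => hbA ((A.mul_mem_cancel_left ha).1 e)
  have h2 : a * b ∉ B := fun e => haB ((B.mul_mem_cancel_right hb).1 e)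
  have h3 : (a * b) ^ p ∈ A ⊓ B := ⟨hA ▸ pow_index_mem A _, hB ▸ pow_index_mem B _⟩
  have h4 := card_sup_zpowers (M := A ⊓ B) (fun e => h1 e.1) h3
  have h5 : Nat.card (A ⊓ B : Subgroup G) * p = Nat.card B := by
    rw [← card_mul_relIndex (M := A ⊓ B) (N := B) inf_le_right, inf_relIndex_right]
    exact congrArg _ (vl_inf_index hG hA h').symm
  have key : ∀ D : Subgroup G, A ⊓ B ≤ D → a * b ∉ D → (A ⊓ B ⊔ zpowers (a * b)) ⊓ D ≤ A ⊓ B := by
    intro D hD hn
    by_contra hc
    have hlt : A ⊓ B < (A ⊓ B ⊔ zpowers (a * b)) ⊓ D :=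
      lt_of_le_not_ge (le_inf le_sup_left hD) hc
    have := card_mul_le_of_lt hG hlt
    have h6 : (A ⊓ B ⊔ zpowers (a * b)) ⊓ D < A ⊓ B ⊔ zpowers (a * b) :=
      lt_of_le_not_ge inf_le_left fun e => hn (e (mem_sup_right (mem_zpowers _))).2
    have := card_lt_of_lt h6
    omega
  refine ⟨A ⊓ B ⊔ zpowers (a * b), ?_, fun e => h1 (e (mem_sup_right (mem_zpowers _))),
    fun e => h2 (e (mem_sup_right (mem_zpowers _))),
    (key A inf_le_left h1).trans inf_le_right, (key B inf_le_right h2).trans inf_le_left⟩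
  have h7 := (A ⊓ B ⊔ zpowers (a * b)).index_mul_card
  rw [h4, h5, ← B.index_mul_card, hB] at h7
  exact Nat.eq_of_mul_eq_mul_right Nat.card_pos h7

theorem vl_tri (m : ℕ) : (m + 1) * (m + 1 + 1) / 2 = m * (m + 1) / 2 + (m + 1) := by
  rw [show (m + 1) * (m + 1 + 1) = m * (m + 1) + (m + 1) * 2 by ring, Nat.add_mul_div_right _ _ two_pos]

theorem vl_idx (hG : IsPGroup p G) (K : Subgroup G) : K.index = 1 ∨ K.index = p ∨ p ^ 2 ≤ K.index := by
  obtain ⟨k, hk⟩ := hG.index K
  rcases k with _ | _ | k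
  · exact .inl (by simpa using hk)
  · exact .inr (.inl (by simpa using hk))
  · exact .inr (.inr (hk ▸ Nat.pow_le_pow_right hp.out.pos (by omega)))

/-- choice of the maximal subgroup -/
theorem vl_pick (hG : IsPGroup p G) {A B : Subgroup G} (hA : A.index = p)
    (hB : B ≤ A ∨ p ^ 2 ≤ B.index) (hc : ¬ IsCyclic G) :
    ∃ H : Subgroup G, H.index = p ∧ ¬ H ≤ A ∧ H ⊓ B ≤ A ∧ ∃ x, x ∉ H ∧ x ∉ A ∧ x ∉ B := by
  have hAt : A ≠ ⊤ := fun e => hp.out.one_lt.ne (by rw [← hA, e, index_top])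
  by_cases h : B ≤ A
  · obtain ⟨y, -, hy⟩ := SetLike.exists_of_lt (lt_top_iff_ne_top.2 hAt)
    obtain ⟨H, hH, hy'⟩ := exists_coatom_ge (H := zpowers y) fun e =>
      hc (isCyclic_iff_exists_zpowers_eq_top.2 ⟨y, e⟩)
    obtain ⟨x, hx, hx'⟩ := vl_out hG hH.1 hAt
    exact ⟨H, index_of_coatom hG hH, fun e => hy (e (hy' (mem_zpowers y))), inf_le_right.trans h,
      x, hx, hx', fun e => hx' (h e)⟩
  · have h2 := hB.resolve_left h
    have hp2 : p < p ^ 2 := by nlinarith [hp.out.one_lt]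
    obtain ⟨M, hM, hBM⟩ := exists_coatom_ge (H := B) fun e => by
      rw [e, index_top] at h2; nlinarith [hp.out.one_lt]
    have hMi := index_of_coatom hG hM
    have hMA : ¬ M ≤ A := fun e => h (hBM.trans e)
    obtain ⟨C, hC, hCM, hCA, h3, -⟩ := vl_third hG hMi hA hMA
    obtain ⟨x, hx, hx'⟩ := vl_out (hG.to_subgroup M) (A := A.subgroupOf M) (B := B.subgroupOf M)
      (fun e => hMA (subgroupOf_eq_top.1 e)) fun e => by
        have := Nat.le_of_dvd (Nat.pos_of_ne_zero index_ne_zero_of_finite)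
          (index_dvd_of_le (subgroupOf_eq_top.1 e))
        omega
    exact ⟨C, hC, hCA, (inf_le_inf_left _ hBM).trans h3, x, fun e => hx (h3 ⟨e, x.2⟩), hx, hx'⟩

omit [Finite G] in
theorem vl_down {a b m : ℕ} (h : a * p = b) (hb : b ≤ p ^ (m + 1)) : a ≤ p ^ m :=
  Nat.le_of_mul_le_mul_right (by rw [h, ← pow_succ]; exact hb) hp.out.pos

theorem vl_main (n : ℕ) : ∀ (G : Type u) [Group G] [Finite G], Nat.card G = n → IsPGroup p G →
    ∀ (m : ℕ) (A B : Subgroup G), A ≠ ⊤ → (B ≤ A ∨ p ^ 2 ≤ B.index) →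
    (∀ x, x ∉ A → x ∉ B → (centralizer {x}).index ≤ p ^ m) →
    Nat.card (commutator G) ≤ p ^ (m * (m + 1) / 2) := by
  induction n using Nat.strong_induction_on with
  | _ n ih =>
  intro G _ _ hn hG m A₀ B hA₀ hB₀ hb₀
  have h1p := hp.out.one_lt
  by_cases hc : IsCyclic G
  · have : commutator G = ⊥ := by
      rw [commutator_eq_bot_iff_center_eq_top, eq_top_iff]
      exact fun x _ => mem_center_iff.2 fun g => (IsCyclic.commGroup (α := G)).mul_comm g x
    rw [this, card_bot]; exact Nat.one_le_pow _ _ hp.out.pos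
  obtain ⟨A, hA, hAA⟩ := exists_coatom_ge hA₀
  obtain ⟨H, hH, hHA, hHB, x, hxH, hxA, hxB⟩ := vl_pick hG (index_of_coatom hG hA)
    (hB₀.imp_left fun e => e.trans hAA) hc
  obtain ⟨K, hK1, hK2, hK3⟩ := vl_step hG hH hxH
  have hK4 := hK2.trans (hb₀ x (fun e => hxA (hAA e)) hxB)
  have hlt : ∀ {G : Type u} [Group G] [Finite G] {H : Subgroup G}, H.index = p →
      Nat.card H < Nat.card G := fun {G _ _ H} h => by
    rw [← H.index_mul_card, h]; nlinarith [Nat.card_pos (α := H)]
  have hH' := hG.to_subgroup H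
  set J := A.subgroupOf H
  have hJ : J.index = p := vl_inf_index hG (index_of_coatom hG hA) hHA
  have hJt : J ≠ ⊤ := fun e => hHA (subgroupOf_eq_top.1 e)
  have hb : ∀ y : H, y ∉ J → (centralizer {(y : G)}).index ≤ p ^ m := fun y hy =>
    hb₀ y (fun e => hy (hAA e)) fun e => hy (hHB ⟨y.2, e⟩)
  have ihH := ih _ (hn ▸ hlt hH) H rfl hH'
  by_cases hK : K.index = 1
  · rw [hK1, hK, mul_one]
    exact ihH m J J hJt (.inl le_rfl) fun y hy _ => (vl_le H y).trans (hb y hy)
  have hK' := (vl_idx hH' K).resolve_left hK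
  obtain ⟨m, rfl⟩ : ∃ k, m = k + 1 := by
    cases m with
    | zero => rcases hK' with e | e <;> nlinarith
    | succ k => exact ⟨k, rfl⟩
  have hb' : ∀ y : H, y ∉ J → y ∉ K → (centralizer {y}).index ≤ p ^ m := fun y hy hy' =>
    vl_down (hK3 y hy') (hb y hy)
  rw [hK1, vl_tri, pow_add]
  by_cases h2 : K ≤ J ∨ p ^ 2 ≤ K.index
  · exact Nat.mul_le_mul (ihH m J K hJt h2 hb') hK4
  rw [not_or] at h2
  have hKp := hK'.resolve_right h2.2
  obtain ⟨L, hL, hLK, hLJ, h3, h4⟩ := vl_third hH' hKp hJ h2.1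
  obtain ⟨y, hyK, hyJ⟩ := SetLike.not_le_iff_exists.1 h2.1
  obtain ⟨K', hK1', hK2', hK3'⟩ := vl_step hH' hL (x := y) fun e => hyJ (h3 ⟨e, hyK⟩)
  have hK4' := hK2'.trans ((vl_le H y).trans (hb y hyJ))
  have hL' := hH'.to_subgroup L
  have ihL := ih _ (hn ▸ (hlt hL).trans (hlt hH)) L rfl hL'
  set D := J.subgroupOf L
  have hDt : D ≠ ⊤ := fun e => hLJ (subgroupOf_eq_top.1 e)
  have hbL : ∀ z : L, z ∉ D → (centralizer {(z : H)}).index ≤ p ^ m := fun z hz =>
    hb' z hz fun e => hz (h3 ⟨z.2, e⟩)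
  have h5 := ihL m D D hDt (.inl le_rfl) fun z hz _ => (vl_le L z).trans (hbL z hz)
  rw [hK1', hKp]
  by_cases hk : K'.index = 1
  · rw [hk, mul_one]
    exact Nat.mul_le_mul h5 (Nat.le_self_pow (by omega) p)
  obtain ⟨m, rfl⟩ : ∃ k, m = k + 1 := by
    cases m with
    | zero =>
      obtain ⟨z, hz, hz'⟩ := vl_out hL' hDt (B := K') fun e => hk (e ▸ index_top)
      have e1 := hK3' z hz'
      have e2 := hbL z hz
      have := Nat.pos_of_ne_zero (index_ne_zero_of_finite (H := centralizer {z}))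
      nlinarith
    | succ k => exact ⟨k, rfl⟩
  rcases (vl_idx hL' K').resolve_left hk with e | e
  · rw [e, mul_assoc, ← pow_two]
    exact Nat.mul_le_mul h5 (Nat.pow_le_pow_right hp.out.pos (by omega))
  · have h6 := ihL m D K' hDt (.inr e) fun z hz hz' => vl_down (hK3' z hz') (hbL z hz)
    calc _ ≤ p ^ (m * (m + 1) / 2) * p ^ (m + 1 + 1) * p := by gcongr
      _ ≤ _ := by
        rw [vl_tri, ← pow_add, ← pow_succ, ← pow_add]
        exact Nat.pow_le_pow_right hp.out.pos (by omega)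

theorem vaughan_lee (hG : IsPGroup p G) (b : ℕ)
    (hb : ∀ x : G, (centralizer ({x} : Set G)).index ≤ p ^ b) :
    Nat.card (commutator G) ≤ p ^ (b * (b + 1) / 2) := by
  rcases subsingleton_or_nontrivial G with h | h
  · rw [Nat.card_unique]; exact Nat.one_le_pow _ _ hp.out.pos
  · exact vl_main _ G rfl hG b ⊥ ⊥ bot_ne_top (.inl le_rfl) fun x _ _ => hb x

end H4
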