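import Cfsg.Agent.H4.Meta3
import Cfsg.Agent.H4.Crit2
import Cfsg.Agent.H4.VL
import Cfsg.Agent.H4.Kul
import Cfsg.Agent.H4.Dihedral

/-! Invariant subgroups of given order; self-centralizing noncyclic subgroups; Hamiltonian groups. -/

namespace H4
open Subgroup
open scoped commutatorElement

variable {G : Type*} [Group G] [Finite G] {a : G} {R : Subgroup G}

theorem coprime_normHom {p : ℕ} (ha : (orderOf a).Coprime p) (h : a ∈ normalizer (R : Set G)) :
    (orderOf (R.normalizerMonoidHom ⟨a, h⟩)).Coprime p :=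
  ha.coprime_dvd_left ((orderOf_map_dvd _ _).trans (orderOf_mk a h).dvd)

theorem cent_of_max (hR : IsPGroup 2 R) (ha : (orderOf a).Coprime 2) (h : a ∈ normalizer (R : Set G))
    (hm : ∀ E ≤ R, Nat.card E * 2 = Nat.card R → ∀ x ∈ E, a * x * a⁻¹ ∈ E) :
    ∀ x ∈ R, a * x * a⁻¹ = x := fun x hx => by
  have := mulAut_eq_one_of_frattini hR (coprime_normHom ha h) fun g => by
    simp only [frattini, Order.radical, mem_iInf]
    intro M hM
    have hi := index_of_coatom hR hM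
    refine inv_mul_mem_of_relIndex (M := ⊤) (fun y hy => ?_) inv_top (by simp [hi]) (mem_top g)
    obtain ⟨z, hz, e⟩ := hm (M.map R.subtype) (map_subtype_le M) (by
      rw [card_map_of_injective R.subtype_injective, ← hi, card_mul_index]) y ⟨y, hy, rfl⟩
    exact (Subtype.ext e : z = R.normalizerMonoidHom ⟨a, h⟩ y) ▸ hz
  exact congrArg Subtype.val (DFunLike.congr_fun this ⟨x, hx⟩)

theorem cent_of_cyclic (hR : IsPGroup 2 R) (ha : (orderOf a).Coprime 2)
    (h : a ∈ normalizer (R : Set G)) (hc : IsCyclic R) : ∀ x ∈ R, a * x * a⁻¹ = x := by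
  refine cent_of_max hR ha h fun E hE _ x hx => ?_
  obtain ⟨r, rfl⟩ := (R.isCyclic_iff_exists_zpowers_eq_top).1 hc
  obtain ⟨k, hk⟩ := (mem_normalizer_iff.1 h r).1 (mem_zpowers r)
  obtain ⟨j, rfl⟩ := hE hx
  simp only at hk hx ⊢
  rw [← conj_zpow, ← hk, zpow_comm]
  exact zpow_mem hx k

theorem cent_of_card_inv {P : Subgroup G} (hP : IsPGroup 2 P) (ha : (orderOf a).Coprime 2)
    (h : a ∈ normalizer (P : Set G)) {d : ℕ} (hd : d ≠ 0) (hd' : 2 ^ d < Nat.card P)
    (hm : ∀ E ≤ P, Nat.card E = 2 ^ d ∨ (d = 1 ∧ Nat.card E = 4) → a ∈ normalizer (E : Set G)) :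
    ∀ x ∈ P, a * x * a⁻¹ = x := fun x hx => by
  suffices e : P.normalizerMonoidHom ⟨a, h⟩ = 1 by
    exact congrArg Subtype.val (DFunLike.congr_fun e ⟨x, hx⟩)
  refine mulAut_eq_one_of_fix_pp hP (coprime_normHom ha h) fun y hy => Subtype.ext ?_
  change a * y * a⁻¹ = y
  obtain ⟨k, hk, hy'⟩ := (Nat.dvd_prime_pow Nat.prime_two (m := 2)).1 (orderOf_dvd_of_pow_eq_one hy)
  by_cases h1 : k ≤ d
  swap
  · have h2 : zpowers (y : G) ≤ P := zpowers_le.2 y.2
    refine cent_of_cyclic (hP.to_le h2) ha (hm _ h2 (.inr ⟨by omega, ?_⟩)) inferInstance _ (mem_zpowers _)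
    rw [Nat.card_zpowers, orderOf_coe, hy', show k = 2 by omega]; rfl
  obtain ⟨n, hn⟩ := IsPGroup.iff_card.1 hP
  have hdn : d + 1 ≤ n := (Nat.pow_lt_pow_iff_right one_lt_two).1 (hn ▸ hd')
  obtain ⟨K, hK, hyK⟩ := Sylow.exists_subgroup_card_pow_prime_le 2 (hn ▸ pow_dvd_pow 2 (by omega : d ≤ n))
    (zpowers y) (by rw [Nat.card_zpowers, hy']) h1
  obtain ⟨L, hL, hKL⟩ := Sylow.exists_subgroup_card_pow_prime_le 2 (hn ▸ pow_dvd_pow 2 hdn) K hK
    (by omega)
  rw [← card_map_of_injective P.subtype_injective] at hK hL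
  have hyK' : (y : G) ∈ K.map P.subtype := ⟨y, hyK (mem_zpowers y), rfl⟩
  replace hKL := map_mono (f := P.subtype) hKL
  have hLP := map_subtype_le L
  set R := L.map P.subtype
  by_cases hc : IsCyclic R
  · have h2 := hKL.trans hLP
    exact cent_of_cyclic (hP.to_le h2) ha (hm _ h2 (.inl hK)) (isCyclic_of_le hKL) _ hyK'
  have h3 : ∀ E ≤ R, Nat.card E * 2 = Nat.card R → ∀ x ∈ E, a * x * a⁻¹ ∈ E := fun E hE hc x hx =>
    (mem_normalizer_iff.1 (hm E (hE.trans hLP) (.inl (by rw [hL, pow_succ] at hc; omega))) x).1 hx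
  refine cent_of_max (hP.to_le hLP) ha (mem_normalizer_fintype fun z hz => ?_) h3 _ (hKL hyK')
  obtain ⟨M, hM, hz'⟩ := exists_coatom_ge (H := zpowers (⟨z, hz⟩ : R)) fun e =>
    hc (isCyclic_iff_exists_zpowers_eq_top.2 ⟨_, e⟩)
  exact map_subtype_le M (h3 _ (map_subtype_le M) (by
    rw [card_map_of_injective R.subtype_injective, ← index_of_coatom (hP.to_le hLP) hM,
      card_mul_index]) z ⟨_, hz' (mem_zpowers _), rfl⟩)

/-- Dedekind's minimal pair -/
theorem ded_pair (hn : ∀ H : Subgroup G, H.Normal) {K : Subgroup G} (hK : ¬ IsMulCommutative K) :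
    ∃ x ∈ K, ∃ y ∈ K, orderOf x = 4 ∧ orderOf y = 4 ∧ x * y ≠ y * x := by
  have hc : ∀ x y : G, ⁅x, y⁆ ∈ zpowers x := fun x y => commutatorElement_mem_left (mem_zpowers x) y
  have hc' : ∀ x y : G, ⁅x, y⁆ ∈ zpowers y := fun x y => commutatorElement_mem_right (mem_zpowers y) x
  have hC : ∀ x y : G, Commute x ⁅x, y⁆ := fun x y => setLike_mul_comm (mem_zpowers x) (hc x y)
  have hC' : ∀ x y : G, Commute y ⁅x, y⁆ := fun x y => setLike_mul_comm (mem_zpowers y) (hc' x y)
  have hex : ∃ n, ∃ x ∈ K, ∃ y ∈ K, x * y ≠ y * x ∧ orderOf x + orderOf y = n := by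
    rw [isMulCommutative_iff] at hK
    push Not at hK
    obtain ⟨x, hx, y, hy, h⟩ := hK
    exact ⟨_, x, hx, y, hy, h, rfl⟩
  classical
  obtain ⟨x, hx, y, hy, h, hs⟩ := Nat.find_spec hex
  have hmin : ∀ u ∈ K, ∀ v ∈ K, orderOf u + orderOf v < orderOf x + orderOf y → u * v = v * u :=
    fun u hu v hv hl => by_contra fun e => Nat.find_min hex (hs ▸ hl) ⟨u, hu, v, hv, e, rfl⟩
  clear hs
  wlog hle : orderOf y ≤ orderOf x generalizing x y
  · obtain ⟨u, hu, v, hv, h⟩ := this y hy x hx (Ne.symm h) (add_comm (orderOf x) _ ▸ hmin) (by omega)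
    exact ⟨u, hu, v, hv, h⟩
  have hne : ⁅x, y⁆ ≠ 1 := fun e => h (commutatorElement_eq_one_iff_mul_comm.1 e)
  have hlt : ∀ (u : G) (q : ℕ), q.Prime → q ∣ orderOf u → orderOf (u ^ q) < orderOf u := fun u q hq e => by
    rw [orderOf_pow_of_dvd hq.ne_zero e]; exact Nat.div_lt_self (orderOf_pos u) hq.one_lt
  have hx1 : ∀ q : ℕ, q.Prime → q ∣ orderOf x → orderOf ⁅x, y⁆ = q := fun q hq e =>
    haveI := Fact.mk hq
    orderOf_eq_prime (by
      rw [← commutator_pow_left (hC x y), commutatorElement_eq_one_iff_mul_comm]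
      exact hmin _ (pow_mem hx q) y hy (by have := hlt x q hq e; omega)) hne
  have hy1 : ∀ q : ℕ, q.Prime → q ∣ orderOf y → orderOf ⁅x, y⁆ = q := fun q hq e =>
    haveI := Fact.mk hq
    orderOf_eq_prime (by
      rw [← commutator_pow_right (hC' x y), commutatorElement_eq_one_iff_mul_comm]
      exact hmin x hx _ (pow_mem hy q) (by have := hlt y q hq e; omega)) hne
  obtain ⟨p, hp, hpx⟩ := Nat.exists_prime_and_dvd (n := orderOf x) fun e => h (by
    rw [orderOf_eq_one_iff.1 e, one_mul, mul_one])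
  have := Fact.mk hp
  have hpc := hx1 p hp hpx
  have hr := Nat.eq_prime_pow_of_unique_prime_dvd (orderOf_pos x).ne' (p := p)
    fun hq e => (hx1 _ hq e).symm.trans hpc
  have hs := Nat.eq_prime_pow_of_unique_prime_dvd (orderOf_pos y).ne' (p := p)
    fun hq e => (hy1 _ hq e).symm.trans hpc
  generalize (orderOf x).primeFactorsList.length = r at hr
  generalize (orderOf y).primeFactorsList.length = s at hs
  have hgen : ∀ (u : G) (t : ℕ), orderOf u = p ^ t → ⁅x, y⁆ ∈ zpowers u → (¬ Commute u x ∨ ¬ Commute u y) →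
      ∃ t', t = t' + 2 ∧ zpowers ⁅x, y⁆ = zpowers (u ^ p ^ (t' + 1)) := fun u t ht hu hu' => by
    rcases t with _ | _ | t
    · rw [pow_zero, orderOf_eq_one_iff] at ht; simp [ht] at hu'
    · obtain ⟨k, hk⟩ := eq_of_le_of_card_ge (zpowers_le.2 hu)
        (by rw [Nat.card_zpowers, Nat.card_zpowers, ht, hpc]; simp) ▸ mem_zpowers u
      exact (hu'.elim (· (hk ▸ (hC x y).symm.zpow_left k)) (· (hk ▸ (hC' x y).symm.zpow_left k))).elim
    · exact ⟨t, rfl, eq_of_le_of_card_ge (zpowers_le.2 (mem_zpowers_of_pow_eq_one ht hu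
        (hpc ▸ pow_orderOf_eq_one _))) (by
          rw [Nat.card_zpowers, Nat.card_zpowers, orderOf_pow_prime_pow ht (by omega), hpc]; simp)⟩
  obtain ⟨r, rfl, h1⟩ := hgen x r hr (hc x y) (.inr h)
  obtain ⟨s, rfl, h2⟩ := hgen y s hs (hc' x y) (.inl (Ne.symm h))
  rw [hr, hs, Nat.pow_le_pow_iff_right hp.one_lt] at hle
  obtain ⟨r, rfl⟩ : ∃ t, r = t + s := ⟨r - s, by omega⟩
  obtain ⟨k, hk⟩ : (y ^ p ^ (s + 1))⁻¹ ∈ zpowers (x ^ p ^ (r + s + 1)) :=
    h1 ▸ h2 ▸ inv_mem (mem_zpowers _)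
  by_contra hcon
  have h3 : ((x ^ p ^ r) ^ k * y) ^ p ^ (s + 1) = 1 := by
    have e : ⁅y, (x ^ p ^ r) ^ k⁆ = (⁅y, x⁆ ^ p ^ r) ^ k := by
      rw [commutator_zpow_right (hC' _ _), commutator_pow_right (hC' _ _)]
    rw [mul_pow_of_commute_commutator (hC' _ _) (hC _ _), ← zpow_natCast _ (p ^ (s + 1)), zpow_comm,
      zpow_natCast, ← pow_mul, ← pow_add, ← add_assoc, show _ ^ k = _ from hk, inv_mul_cancel, one_mul,
      e, ← zpow_natCast, zpow_comm, zpow_natCast, ← pow_mul, orderOf_dvd_iff_pow_eq_one.1, one_zpow]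
    rw [← commutatorElement_inv, orderOf_inv, hpc]
    by_cases h2 : p = 2
    · subst h2
      rcases r with _ | r
      · rcases s with _ | s
        · exact (hcon ⟨x, hx, y, hy, hr, hs, h⟩).elim
        · rw [Nat.choose_two_right, pow_succ _ (s + 1), mul_right_comm, Nat.mul_div_cancel _ two_pos,
            pow_succ' _ s]
          exact ((dvd_mul_right _ _).mul_right _).mul_left _
      · exact (dvd_pow_self 2 (by omega)).mul_right _
    · exact ((dvd_pow_self p (by omega)).trans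
        (odd_dvd_choose_two (hp.odd_of_ne_two h2).pow)).mul_left _
  have h4 := hmin x hx _ (mul_mem (zpow_mem (pow_mem hx (p ^ r)) k) hy) (by
    have := Nat.le_of_dvd (pow_pos hp.pos _) (orderOf_dvd_of_pow_eq_one h3)
    have := Nat.pow_lt_pow_right hp.one_lt (show s + 1 < s + 2 by omega)
    omega)
  rw [← mul_assoc, ((Commute.self_pow x _).zpow_right k).eq, mul_assoc, mul_assoc, mul_right_inj] at h4
  exact h h4

theorem ord4_cases {x u : G} (hx : orderOf x = 4) (hu : u ∈ zpowers x) :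
    u = 1 ∨ u = x ∨ u = x ^ 2 ∨ u = x⁻¹ := by
  classical
  rw [mem_zpowers_iff_mem_range_orderOf, hx] at hu
  obtain ⟨k, hk, rfl⟩ := Finset.mem_image.1 hu
  have h4 : x ^ 3 = x⁻¹ := eq_inv_of_mul_eq_one_left ((pow_succ x 3).symm.trans (hx ▸ pow_orderOf_eq_one x : x ^ 4 = 1))
  rw [Finset.mem_range] at hk
  interval_cases k <;> simp [h4]

theorem ord4_conj {x : G} (hx : orderOf x = 4) [h : (zpowers x).Normal] (g : G) :
    g * x * g⁻¹ = x ∨ g * x * g⁻¹ = x⁻¹ := by
  have h2 : ¬ (g * x * g⁻¹) ^ 2 = 1 := by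
    rw [conj_pow, conj_eq_one_iff, ← orderOf_dvd_iff_pow_eq_one, hx]; decide
  rcases ord4_cases hx (h.conj_mem _ (mem_zpowers x) g) with e | e | e | e
  · simp [e] at h2
  · exact .inl e
  · rw [e, ← pow_mul] at h2; exact (h2 (hx ▸ pow_orderOf_eq_one x : x ^ 4 = 1)).elim
  · exact .inr e

theorem hamiltonian (hna : ¬ IsMulCommutative G) (hn : ∀ H : Subgroup G, H.Normal) :
    ∃ Q E A : Subgroup G, Nonempty (Q ≃* QuaternionGroup 2) ∧ Cfsg.IsElementaryAbelian 2 E ∧
      IsMulCommutative A ∧ Odd (Nat.card A) ∧ E ⊓ A = ⊥ ∧ Q ⊓ (E ⊔ A) = ⊥ ∧ Q ⊔ (E ⊔ A) = ⊤ := by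
  obtain ⟨x, -, y, -, hx, hy, h⟩ := ded_pair hn (K := ⊤) fun e => hna (isMulCommutative_iff'.2
    fun a b => isMulCommutative_iff.1 e a trivial b trivial)
  obtain ⟨P⟩ : Nonempty (Sylow 2 G) := inferInstance
  obtain ⟨A, hA⟩ := exists_right_complement'_of_coprime P.card_coprime_index
  have hAo : Odd (Nat.card A) := by
    rw [← hA.symm.index_eq_card, ← Nat.not_even_iff_odd, even_iff_two_dvd]; exact P.not_dvd_index
  have hP : ∀ u : G, orderOf u = 4 → u ∈ (P : Subgroup G) := fun u hu => zpowers_le.1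
    ((IsPGroup.of_card (n := 2) (by rw [Nat.card_zpowers, hu]; rfl)).le_sylow_of_normal P)
  have hyx : y * x * y⁻¹ = x⁻¹ := (ord4_conj hx y).resolve_left fun e => h (mul_inv_eq_iff_eq_mul.1 e).symm
  have hxy : x * y * x⁻¹ = y⁻¹ := (ord4_conj hy x).resolve_left fun e => h (mul_inv_eq_iff_eq_mul.1 e)
  have hx4 : x ^ 4 = 1 := hx ▸ pow_orderOf_eq_one x
  have hx2 : x ^ 2 ≠ 1 := by rw [Ne, ← orderOf_dvd_iff_pow_eq_one, hx]; decide
  have hsq : y ^ 2 = x ^ 2 := by
    calc y ^ 2 = y * (x * y * x⁻¹)⁻¹ := by rw [hxy, inv_inv, pow_two]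
      _ = (y * x * y⁻¹) * x⁻¹ := by group
      _ = x ^ 2 * (x ^ 4)⁻¹ := by rw [hyx]; group
      _ = _ := by rw [hx4, inv_one, mul_one]
  have hyn : y ∉ zpowers x := fun e => h (setLike_mul_comm (mem_zpowers x) e)
  have hy2 : y * x ^ 2 = x ^ 2 * y := hsq ▸ (Commute.self_pow y 2).eq
  set C := (P : Subgroup G) ⊓ (centralizer {x} ⊓ centralizer {y})
  have hC : ∀ z ∈ C, z ^ 2 = 1 := fun z hz => by
    by_contra e
    obtain ⟨k, hk⟩ := IsPGroup.iff_orderOf.1 P.isPGroup' ⟨z, hz.1⟩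
    rw [orderOf_mk] at hk
    obtain ⟨k, rfl⟩ : ∃ j, k = j + 2 := by
      rcases k with _ | _ | k
      · rw [pow_zero, orderOf_eq_one_iff] at hk; simp [hk] at e
      · exact (e (by rw [← pow_one 2, ← hk, pow_orderOf_eq_one])).elim
      · exact ⟨k, rfl⟩
    have h1 := orderOf_pow_prime_pow hk (i := k) (by omega)
    rw [show k + 2 - k = 2 by omega] at h1
    have h2 : Commute (z ^ 2 ^ k) x := mem_centralizer_singleton_iff.1 (pow_mem hz _).2.1
    have h3 : Commute (z ^ 2 ^ k) y := mem_centralizer_singleton_iff.1 (pow_mem hz _).2.2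
    set w := z ^ 2 ^ k
    have h4 : (w * x) ^ 2 ^ 2 = 1 := by rw [h2.mul_pow, ← h1, pow_orderOf_eq_one, h1, one_mul]; exact hx4
    have h5 : y * (w * x) * y⁻¹ = w * x⁻¹ := by rw [← hyx, ← mul_assoc, ← h3.eq]; group
    have h6 : w * x⁻¹ ≠ w * x := fun e => hx2 (by rw [pow_two, ← eq_inv_iff_mul_eq_one, mul_left_cancel e])
    by_cases h7 : (w * x) ^ 2 ^ 1 = 1
    · obtain ⟨j, hj⟩ := (hn _).conj_mem _ (mem_zpowers (w * x)) y
      rcases Int.even_or_odd' j with ⟨t, rfl | rfl⟩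
      · simp only [zpow_mul, show (w * x) ^ (2 : ℤ) = 1 from mod_cast h7, one_zpow] at hj
        rw [eq_comm, conj_eq_one_iff, mul_eq_one_iff_eq_inv] at hj
        exact h (by simpa [hj] using h3.inv_left.eq)
      · simp only [zpow_add, zpow_mul, show (w * x) ^ (2 : ℤ) = 1 from mod_cast h7, one_zpow, one_mul,
          zpow_one] at hj
        exact h6 (h5 ▸ hj.symm)
    rcases ord4_conj (orderOf_eq_prime_pow h7 h4) y with e | e
    · exact h6 (h5 ▸ e)
    · rw [h5, ← h2.eq.symm, mul_inv_rev, mul_left_inj, eq_inv_iff_mul_eq_one, ← pow_two,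
        ← orderOf_dvd_iff_pow_eq_one, h1] at e
      exact absurd e (by decide)
  obtain ⟨E, ⟨hEC, hE⟩, -, hmax⟩ := exists_maximal_ge (fun E => E ≤ C ∧ x ^ 2 ∉ E) (A := ⊥)
    ⟨bot_le, hx2⟩
  have hinv : ∀ z ∈ C, z⁻¹ = z := fun z hz => inv_eq_of_mul_eq_one_left (by rw [← pow_two, hC z hz])
  have hdis : ∀ g ∈ (P : Subgroup G), g ∈ A → g = 1 := fun g => disjoint_def.1 hA.disjoint
  have hQP : zpowers x ⊔ zpowers y ≤ P := sup_le (zpowers_le.2 (hP x hx)) (zpowers_le.2 (hP y hy))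
  refine ⟨zpowers x ⊔ zpowers y, E, A, nonempty_mulEquiv_quaternion_sup hx hsq hyx hyn,
    ⟨isMulCommutative_iff.2 fun a ha b hb => ?_, fun a ha => hC a (hEC ha)⟩, ?_, hAo,
    eq_bot_iff.2 fun g hg => hdis g (hEC hg.1).1 hg.2, eq_bot_iff.2 fun g ⟨hg, hg'⟩ => ?_, ?_⟩
  · rw [← hinv _ (hEC (mul_mem ha hb)), mul_inv_rev, hinv a (hEC ha), hinv b (hEC hb)]
  · by_contra e
    obtain ⟨u, hu, -, -, h1, -⟩ := ded_pair hn e
    have := orderOf_dvd_natCard (⟨u, hu⟩ : A)
    rw [orderOf_mk, h1] at this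
    exact absurd (hAo.of_dvd_nat this) (by decide)
  · obtain ⟨e, he, b, hb, rfl⟩ := (normal_mul E A).le hg'
    obtain rfl := hdis b (((P : Subgroup G).mul_mem_cancel_left (hEC he).1).1 (hQP hg)) hb
    simp only [mul_one] at hg ⊢
    have h1 : Commute e x := mem_centralizer_singleton_iff.1 (hEC he).2.1
    have h2 : Commute e y := mem_centralizer_singleton_iff.1 (hEC he).2.2
    rcases mem_sup_cases (k := -1) (by simpa using hyx) (hsq ▸ pow_mem (mem_zpowers x) 2) hg with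
      ⟨j, hj⟩ | ⟨j, rfl⟩
    · rcases ord4_cases hx ⟨j, hj.symm⟩ with rfl | rfl | rfl | rfl
      · exact one_mem _
      · exact (h h2).elim
      · exact (hE he).elim
      · exact (h (by simpa using h2.inv_left.eq)).elim
    · have := h1.eq
      rw [← mul_assoc, (Commute.self_zpow x j).eq, mul_assoc, mul_assoc, mul_right_inj] at this
      exact (h this.symm).elim
  · have h1 : C ≤ zpowers x ⊔ zpowers y ⊔ E := fun z hz => by
      by_cases h2 : x ^ 2 ∈ E ⊔ zpowers z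
      · obtain ⟨e, he, k, hk⟩ := mem_sup_zpowers_nat.1 h2
        rcases Nat.even_or_odd' k with ⟨t, rfl | rfl⟩
        · rw [pow_mul, hC z hz, one_pow, mul_one] at hk; exact (hE (hk ▸ he)).elim
        · rw [pow_succ z, pow_mul, hC z hz, one_pow, one_mul] at hk
          exact (mul_mem_cancel_left (mem_sup_right he)).1
            (hk ▸ mem_sup_left (mem_sup_left (pow_mem (mem_zpowers x) 2)))
      · exact mem_sup_right (hmax _ ⟨sup_le hEC (zpowers_le.2 hz), h2⟩ le_sup_left ▸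
          mem_sup_right (mem_zpowers z))
    have h2 : ∀ g ∈ (P : Subgroup G), g * x * g⁻¹ = x → g ∈ zpowers x ⊔ zpowers y ⊔ E := fun g hg e => by
      rcases ord4_conj hy g with e' | e'
      · exact h1 ⟨hg, mem_centralizer_singleton_iff.2 (mul_inv_eq_iff_eq_mul.1 e),
          mem_centralizer_singleton_iff.2 (mul_inv_eq_iff_eq_mul.1 e')⟩
      · refine (mul_mem_cancel_left (mem_sup_left (mem_sup_left (mem_zpowers x)))).1 (h1
          ⟨mul_mem (hP x hx) hg, mem_centralizer_singleton_iff.2 (mul_inv_eq_iff_eq_mul.1 ?_),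
          mem_centralizer_singleton_iff.2 (mul_inv_eq_iff_eq_mul.1 ?_)⟩)
        · calc _ = x * (g * x * g⁻¹) * x⁻¹ := by group
            _ = _ := by rw [e]; group
        · calc _ = x * (g * y * g⁻¹) * x⁻¹ := by group
            _ = (x * y * x⁻¹)⁻¹ := by rw [e']; group
            _ = _ := by rw [hxy, inv_inv]
    rw [← sup_assoc, eq_top_iff, ← hA.sup_eq_top]
    refine sup_le_sup_right (fun g hg => ?_) _
    rcases ord4_conj hx g with e | e
    · exact h2 g hg e
    · refine (mul_mem_cancel_left (mem_sup_left (mem_sup_right (mem_zpowers y)))).1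
        (h2 _ (mul_mem (hP y hy) hg) ?_)
      calc _ = y * (g * x * g⁻¹) * y⁻¹ := by group
        _ = (y * x * y⁻¹)⁻¹ := by rw [e]; group
        _ = _ := by rw [hyx, inv_inv]

theorem selfcent_iff (hna : ¬ IsMulCommutative G) {n : ℕ} (hG : Nat.card G = 2 ^ n) :
    (∀ H : Subgroup G, ¬ IsCyclic H → centralizer (H : Set G) ≤ H) ↔
      (⊤ : Subgroup G).lowerCentralSeries (n - 2) ≠ ⊥ := by
  have hP : IsPGroup 2 G := .of_card hG
  have := hP.isNilpotent
  have hn : 2 < n := by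
    by_contra h
    exact hna (isMulCommutative_iff'.2 (H10.comm_of_card_le_sq hP
      (hG ▸ Nat.pow_le_pow_right two_pos (by omega))))
  rw [Ne, Subgroup.lowerCentralSeries_eq_bot_iff_nilpotencyClass_le, not_le]
  refine ⟨fun h => ?_, fun h H hH => ?_⟩
  · suffices Group.nilpotencyClass G = n - 1 by omega
    by_cases h1 : ∀ A : Subgroup G, A.Normal → IsMulCommutative A → IsCyclic A
    · obtain hc | ⟨-, m, a, b, hm, ha, hc, hb, -, h2⟩ := normal_rank_one hP h1
      · exact (hna (isMulCommutative_iff'.2 (IsCyclic.commGroup (α := G)).mul_comm)).elim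
      have hi := H10.relIndex_zpowers_of_card (mem_top a) ha (card_top.trans hc)
      rcases h2 with ⟨-, -, h2⟩ | ⟨-, h2⟩ | ⟨h3, -, h2⟩
      · exact (mcl_of_MC (.of_gen (e := -1) (mem_top a) ha hm hi (by decide) (mem_top b) hb
          (by simpa using h2))).class_eq hG
      · exact (mcl_of_MC (.of_gen (e := -1) (mem_top a) ha hm hi (by decide) (mem_top b) hb
          (by simpa using h2))).class_eq hG
      · obtain ⟨m, rfl⟩ : ∃ r, m = r + 3 := ⟨m - 3, by omega⟩
        refine (mcl_of_MC (.of_gen (e := 2 ^ (m + 1) - 1) (mem_top a) ha hm hi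
          ⟨2 ^ m - 1, by ring⟩ (mem_top b) hb ?_)).class_eq hG
        rw [h2, ← zpow_natCast, Nat.cast_sub Nat.one_le_two_pow]
        congr 1
        rw [show m + 3 - 1 = m + 2 from rfl]; push_cast; ring
    push Not at h1
    obtain ⟨A, _, hA, hc⟩ := h1
    obtain ⟨E, -, _, ⟨h2, h3⟩, h4⟩ := exists_normal_Ep2_of_comm hP hA hc
    have h5 := h E (not_isCyclic_of_card two_pos h3 (by omega))
    obtain ⟨z, hz, hz1, hz2⟩ := exists_mem_center_orderOf_eq hP (N := E) (by
      rintro rfl; simp at h4)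
    obtain ⟨s, hs, hs'⟩ := SetLike.exists_of_lt (lt_of_le_of_ne (zpowers_le.2 hz) fun e => by
      rw [← e, Nat.card_zpowers, hz2] at h4; omega)
    have := normal_of_le_center (zpowers_le.2 hz1)
    have h6 : zpowers z ⊔ zpowers s = E := eq_of_le_of_card_ge (sup_le (zpowers_le.2 hz)
      (zpowers_le.2 hs)) (by
        rw [card_sup_zpowers hs' (h3 s hs ▸ one_mem _), Nat.card_zpowers, hz2, h4]; rfl)
    refine H10.nilpotencyClass_of_centralizer hn.le hG s (h4 ▸ card_le_of_le fun g hg => h5 fun e he => ?_)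
    exact (sup_le (zpowers_le.2 (center_le_centralizer _ hz1)) (zpowers_le.2
      (mem_centralizer_singleton_iff.2 (mem_centralizer_singleton_iff.1 hg).symm)) :
        _ ≤ centralizer {g}) (h6.ge he) g rfl |>.symm
  · have h1 := H10.pow_le_card_lcs hP (Group.nilpotencyClass G - 1) 1 (by omega)
    have h2 := (commutator G).index_mul_card
    have h3 : 2 ^ (n - 2) ≤ Nat.card (commutator G) :=
      (Nat.pow_le_pow_right two_pos (by omega)).trans h1
    obtain ⟨n, rfl⟩ : ∃ r, n = r + 3 := ⟨n - 3, by omega⟩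
    obtain ⟨m, x, e, h4⟩ := H10.taussky_mc hP (Nat.le_of_mul_le_mul_right
      (by rw [h2, hG, show n + 3 = 2 + (n + 3 - 2) by omega, pow_add]; gcongr; rfl) Nat.card_pos)
      (by rw [hG, pow_add]; nlinarith [Nat.one_le_two_pow (n := n)])
    obtain ⟨w, hw, hw'⟩ := SetLike.not_le_iff_exists.1 fun e : H ≤ zpowers x => hH (isCyclic_of_le e)
    obtain ⟨d, hd, h5, -⟩ := h4.eq_sub hw' le_top hw
    by_cases h6 : d = m
    · refine (hH ((H.isCyclic_iff_exists_zpowers_eq_top).2 ⟨w, ?_⟩)).elim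
      rw [h5, H10.mcSub, h4.eq_one_iff.2 (h6 ▸ dvd_rfl), zpowers_one_eq_bot, bot_sup_eq]
    · exact fun g hg => h5.ge (H10.MC.sub_anti (by omega : d ≤ m - 1)
        ((h4.inf_centralizer_out (mem_top w) hw').le ⟨mem_top g, mem_centralizer_singleton_iff.2
          (hg w hw).symm⟩))

end H4
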