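import Cfsg.Agent.H4.Max2
import Cfsg.Agent.H10.LieGr

/-! Blackburn's theorem on the two-step centralizers of a `p`-group of maximal class. -/

set_option autoImplicit false
set_option linter.unusedSectionVars false

namespace H4
namespace Mx
open Subgroup H10.LieK
open scoped commutatorElement

variable {G : Type*} [Group G] {p n i j m : ℕ} {x y g s e : G} {t : ℕ → G}

theorem zs {A : Type*} [AddCommGroup A] {a : A} (hp : p.Prime) (ha : a ≠ 0) (h : (p : ℤ) • a = 0)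
    {k : ℤ} (hk : k • a = 0) : (p : ℤ) ∣ k := by
  haveI := Fact.mk hp
  have := addOrderOf_eq_prime (by exact_mod_cast h : p • a = 0) ha
  rw [← this]; exact addOrderOf_dvd_iff_zsmul_eq_zero.2 hk

theorem sg_zpow (hx : x ∈ LL G i) (k : ℤ) : sg i (x ^ k) = k • sg i x := by
  obtain ⟨k, rfl | rfl⟩ := k.eq_nat_or_neg
  · simpa using sg_pow hx k
  · rw [zpow_neg, sg_inv (zpow_mem hx _), zpow_natCast, sg_pow hx k]; simp

theorem sg_of_mod (hx : x ∈ LL G i) {k : ℤ} (h : (x ^ k)⁻¹ * y ∈ LL G (i + 1)) :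
    sg i y = k • sg i x := by
  have : y = x ^ k * ((x ^ k)⁻¹ * y) := by group
  rw [this, sg_mul (zpow_mem hx _) (γ_succ_le _ h), sg_zero (.inl h), sg_zpow hx, add_zero]

/-- a chain adapted to a uniform element -/
structure Ch (p n : ℕ) (s : G) (t : ℕ → G) : Prop where
  mc : MaxC p n G
  four : 4 ≤ n
  un : Unif n s
  T0 : t 0 ∈ TT G 1
  n0 : t 0 ∉ LL G 1
  succ : ∀ i, t (i + 1) = ⁅t i, s⁆

variable [Finite G] [hp : Fact p.Prime]

theorem exists_ch (h : MaxC p n G) (h4 : 4 ≤ n) : ∃ s t, Ch (G := G) p n s t := by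
  obtain ⟨s, hs⟩ := h.exists_unif
  have : ¬ TT G 1 ≤ LL G 1 := fun e => by
    have h1 := h.index_T le_rfl h4
    have h2 := h.index_one
    rw [le_antisymm e (LL_le_TT 1), h2] at h1
    have := hp.out.one_lt
    nlinarith
  obtain ⟨x, h1, h2⟩ := SetLike.not_le_iff_exists.1 this
  exact ⟨s, fun i => Nat.rec x (fun _ y => ⁅y, s⁆) i, h, h4, hs, h1, h2, fun _ => rfl⟩

namespace Ch
variable (c : Ch p n s t)
include c

theorem mem (i : ℕ) : t i ∈ LL G i := by
  induction i with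
  | zero => exact mem_top _
  | succ i ih => exact c.succ i ▸ LL_act ih s

theorem notMem (hi : i + 2 ≤ n) : t i ∉ LL G (i + 1) := by
  induction i with
  | zero => exact c.n0
  | succ i ih =>
    rw [c.succ]
    rcases Nat.eq_zero_or_pos i with rfl | h0
    · exact c.mc.comm_notMem (LL_le_TT 1) c.T0 c.n0 (c.un 1 c.four)
    · exact fun h => c.un i (by omega) (c.mc.mem_T h0 (c.mem i) (ih (by omega)) h)

theorem ne (hi : i + 2 ≤ n) : sg i (t i) ≠ 0 := fun h => c.notMem hi (sg_eq_zero (c.mem i) h)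

theorem ps (i : ℕ) : (p : ℤ) • sg i (t i) = 0 := by
  rw [← sg_zpow (c.mem i), zpow_natCast]
  refine sg_zero (.inl ?_)
  rcases Nat.eq_zero_or_pos i with rfl | h0
  · exact c.mc.pow_mem_one _
  · exact LL_le (by have := hp.out.two_le; omega) (c.mc.pow_mem h0 (c.mem i))

theorem gen (hi : i + 2 ≤ n) (h0 : x ∈ TT G 1) (hx : x ∈ LL G i) : ∃ k : ℤ, sg i x = k • sg i (t i) := by
  rcases Nat.eq_zero_or_pos i with rfl | h1
  · obtain ⟨k, hk⟩ := gen_of_card c.mc.pg (LL_le_TT 1)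
      (c.mc.card_of_ge (LL_le_TT 1) (c.mc.T_ne c.four)) c.T0 c.n0 x h0
    exact ⟨k, sg_of_mod (c.mem 0) hk⟩
  · obtain ⟨k, hk⟩ := c.mc.gen h1 (c.mem i) (c.notMem hi) x hx
    exact ⟨k, sg_of_mod (c.mem i) hk⟩

theorem act (i : ℕ) : Br (sg i (t i)) (sg 0 s) = sg (i + 1) (t (i + 1)) := by
  rw [Br_sg (c.mem i) (mem_top s), c.succ]

theorem self (i : ℕ) : Br (sg i (t i)) (sg i (t i)) = 0 := by
  rw [Br_sg (c.mem i) (c.mem i), commutatorElement_self, sg_one]

theorem leib (i j : ℕ) : Br (Br (sg i (t i)) (sg j (t j))) (sg 0 s) =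
    Br (sg (i + 1) (t (i + 1))) (sg j (t j)) + Br (sg i (t i)) (sg (j + 1) (t (j + 1))) := by
  have := Br_jacobi (sg i (t i)) (sg j (t j)) (sg 0 s)
  rw [c.act, Br_skew (sg 0 s), c.act, Br_skew (sg (j + 1) _), map_neg] at this
  simp only [AddMonoidHom.neg_apply] at this
  rw [← sub_eq_zero, ← this]; abel

theorem lift (hi : i + 2 ≤ n) (hj : j + 2 ≤ n) (h : Br (sg i (t i)) (sg j (t j)) = 0)
    (x0 : x ∈ TT G 1) (hx : x ∈ LL G i) (y0 : y ∈ TT G 1) (hy : y ∈ LL G j) :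
    ⁅x, y⁆ ∈ LL G (i + j + 2) := by
  obtain ⟨k, hk⟩ := c.gen hi x0 hx
  obtain ⟨l, hl⟩ := c.gen hj y0 hy
  refine sg_eq_zero (LL_comm hx hy) ?_
  rw [← Br_sg hx hy, hk, hl]
  simp [h]

theorem alt (H : ∀ i j, i + j < m → Br (sg i (t i)) (sg j (t j)) = 0) (i j : ℕ) (h : i + j = m) :
    Br (sg i (t i)) (sg j (t j)) = (-1 : ℤ) ^ i • Br (sg 0 (t 0)) (sg m (t m)) := by
  induction i generalizing j with
  | zero => simp at h; simp [h]
  | succ i ih =>
    have h1 := c.leib i j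
    rw [H i j (by omega), ih (j + 1) (by omega), map_zero, AddMonoidHom.zero_apply] at h1
    rw [pow_succ, mul_neg_one, neg_smul]
    exact eq_neg_of_add_eq_zero_left h1.symm

theorem odd (H : ∀ i j, i + j < m → Br (sg i (t i)) (sg j (t j)) = 0)
    (h : Br (sg 0 (t 0)) (sg m (t m)) ≠ 0) : ∃ r, m = 2 * r + 1 := by
  rcases Nat.even_or_odd' m with ⟨r, rfl | rfl⟩
  · have := c.alt H r r (by omega)
    rw [c.self] at this
    rcases neg_one_pow_eq_or ℤ r with e | e <;> simp [e] at this <;> simp [this] at h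
  · exact ⟨r, rfl⟩

theorem T_of (hm : m + 2 ≤ n) (h1 : 1 ≤ m) (h : Br (sg 0 (t 0)) (sg m (t m)) = 0) : TT G 1 ≤ TT G m :=
  fun _ hg _ hx => comm_symm_mem (by
    simpa using c.lift (by omega) hm h hg (mem_top _) (LL_le_TT 1 (LL_le h1 hx)) hx)

theorem step (H : ∀ i j, i + j < m → Br (sg i (t i)) (sg j (t j)) = 0) (h2 : 2 ≤ m) (hm : m + 4 ≤ n) :
    Br (sg 0 (t 0)) (sg m (t m)) = 0 := by
  by_contra h
  have p2 := hp.out.two_le
  by_cases hpm : p ≤ m
  · have h1 := c.mc.T_le (i := m - (p - 1)) (by omega) (by omega)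
    rw [show m - (p - 1) + (p - 1) = m by omega] at h1
    have h3 := c.mc.T_eq_of_le (by omega) (by omega) (by omega) h1
    have h4 := c.T_of (m := m - (p - 1)) (by omega) (by omega) (H _ _ (by omega)) c.T0
    rw [← h3] at h4
    rw [Br_skew, Br_sg (c.mem m) (c.mem 0), sg_zero (.inl (h4 _ (c.mem m))), neg_zero] at h
    exact h rfl
  obtain ⟨r, hr⟩ := c.odd H h
  obtain ⟨k, hk⟩ := c.gen (i := m + 1) (x := ⁅t 0, t m⁆) (by omega)
    (LL_le_TT 1 (LL_act (mem_top _) _)) (by simpa using LL_comm (c.mem 0) (c.mem m))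
  have e0 : Br (sg 0 (t 0)) (sg m (t m)) = k • sg (m + 1) (t (m + 1)) := by
    rw [Br_sg (c.mem 0) (c.mem m), ← hk, zero_add]
  have hk' : ¬ (p : ℤ) ∣ k := by
    rintro ⟨k, rfl⟩
    rw [e0, mul_comm, mul_smul, c.ps, smul_zero] at h
    exact h rfl
  have j1 := Br_jacobi (sg 0 (t 0)) (sg 1 (t 1)) (sg (m - 1) (t (m - 1)))
  rw [H 0 1 (by omega), H (m - 1) 0 (by omega), c.alt H 1 (m - 1) (by omega), e0] at j1
  have e1 : Br (sg (m + 1) (t (m + 1))) (sg 0 (t 0)) = 0 := by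
    by_contra h'
    refine hk' (zs hp.out h' ?_ (by simpa using j1))
    rw [← AddMonoidHom.smul_apply, ← map_zsmul, c.ps]; simp
  have key : ∀ i j, i + j = m + 1 → Br (sg i (t i)) (sg j (t j)) =
      ((-1 : ℤ) ^ (i + 1) * i * k) • sg (m + 2) (t (m + 2)) := fun i => by
    induction i with
    | zero => intro j hj; obtain rfl : j = m + 1 := by omega
              rw [Br_skew, e1]; simp
    | succ i ih =>
      intro j hj
      have h1 := c.leib i j
      rw [c.alt H i j (by omega), ih (j + 1) (by omega), e0, map_zsmul, map_zsmul,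
        AddMonoidHom.smul_apply, AddMonoidHom.smul_apply, c.act, ← mul_smul] at h1
      rw [eq_sub_of_add_eq h1.symm, ← sub_smul]
      congr 1; push_cast; ring
  have h3 := key (r + 1) (r + 1) (by omega)
  rw [c.self] at h3
  have h4 := zs hp.out (c.ne (by omega)) (c.ps _) h3.symm
  have pp : Prime (p : ℤ) := Nat.prime_iff_prime_int.1 hp.out
  rcases pp.dvd_or_dvd h4 with h5 | h5
  · rcases pp.dvd_or_dvd h5 with h6 | h6
    · exact pp.not_isUnit (isUnit_of_dvd_unit h6 (isUnit_neg_one.pow _))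
    · have := Nat.le_of_dvd (by omega) (Int.natCast_dvd_natCast.1 h6)
      omega
  · exact hk' h5

theorem zero (m : ℕ) (hm : m + 3 ≤ n) : ∀ i j, i + j < m → Br (sg i (t i)) (sg j (t j)) = 0 := by
  induction m with
  | zero => intro i j h; omega
  | succ m ih =>
    intro i j h
    have H := ih (by omega)
    rcases (Nat.le_of_lt_succ h).eq_or_lt with e | e
    · rw [c.alt H i j e]
      rcases (by omega : m = 0 ∨ m = 1 ∨ 2 ≤ m) with rfl | rfl | h2
      · rw [c.self, smul_zero]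
      · rw [Br_skew, Br_sg (c.mem 1) (c.mem 0), sg_zero (.inl (c.T0 _ (c.mem 1))), neg_zero, smul_zero]
      · rw [c.step H h2 (by omega), smul_zero]
    · exact H i j e

end Ch

/-- Blackburn: `G / Z(G)` has positive degree of commutativity -/
theorem bl (h : MaxC p n G) (hn : i + j + 4 ≤ n) (x0 : x ∈ TT G 1) (hx : x ∈ LL G i)
    (y0 : y ∈ TT G 1) (hy : y ∈ LL G j) : ⁅x, y⁆ ∈ LL G (i + j + 2) := by
  obtain ⟨s, t, c⟩ := exists_ch h (by omega)
  exact c.lift (by omega) (by omega) (c.zero (i + j + 1) (by omega) i j (by omega)) x0 hx y0 hy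

theorem T_eq (h : MaxC p n G) (h1 : 1 ≤ i) (hn : i + 4 ≤ n) : TT G 1 = TT G i :=
  h.T_eq_of_le le_rfl (by omega) (by omega) fun _ hg _ hx => by
    simpa using bl (j := 0) h (by omega) (LL_le_TT 1 (LL_le h1 hx)) hx hg (mem_top _)

theorem exc (h : MaxC p n G) (h4 : 4 ≤ n) (he : ¬ TT G 1 ≤ TT G (n - 3)) :
    ∃ m, n = 2 * m + 4 ∧ 1 ≤ m ∧ ∃ y ∈ LL G m, ∃ x ∈ LL G (m + 1), ⁅y, x⁆ ≠ 1 := by
  obtain ⟨s, t, c⟩ := exists_ch h h4
  have H := c.zero (n - 3) (by omega)
  have h1 := mt (c.T_of (m := n - 3) (by omega) (by omega)) he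
  obtain ⟨r, hr⟩ := c.odd H h1
  refine ⟨r, by omega, Nat.pos_of_ne_zero fun e => he (by rw [hr, e]), _, c.mem r, _, c.mem (r + 1),
    fun e => h1 ?_⟩
  have := c.alt H r (r + 1) (by omega)
  rw [Br_sg (c.mem r) (c.mem (r + 1)), e, sg_one] at this
  rcases neg_one_pow_eq_or ℤ r with e | e <;> simpa [e, eq_comm] using this

theorem down (h : MaxC p n G) (he : e ∉ TT G 1) (hg : g ∈ TT G 1) (hj : j + 3 ≤ n)
    (hc : ⁅g, e⁆ ∈ LL G (j + 1)) : g ∈ LL G j := by
  induction j with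
  | zero => exact mem_top g
  | succ j ih =>
    have h1 := ih (by omega) (LL_le (by omega) hc)
    by_contra hn
    rcases Nat.eq_zero_or_pos j with rfl | h0
    · exact h.comm_notMem (LL_le_TT 1) hg hn he hc
    · exact he (T_eq h h0 (by omega) ▸ h.mem_T h0 h1 hn hc)

/-- the second centre -/
theorem mem_two (h : MaxC p n G) (h4 : 4 ≤ n) (hx : ∀ g, ⁅x, g⁆ ∈ LL G (n - 2)) : x ∈ LL G (n - 3) := by
  obtain ⟨s, t, c⟩ := exists_ch h h4
  have h0 : x ∈ TT G 1 := by_contra fun hn =>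
    h.comm_notMem (LL_le_TT 1) c.T0 c.n0 hn (comm_symm_mem (LL_le (by omega) (hx _)))
  exact down h (c.un 1 h4) h0 (by omega) (by rw [show n - 3 + 1 = n - 2 by omega]; exact hx s)

end Mx
end H4
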