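import Cfsg.Agent.H4.Mx1
import Cfsg.Agent.H4.G3l

/-! Subgroups of maximal class inside an ambient group; the centralizer of the second centre. -/

set_option autoImplicit false
set_option linter.unusedSectionVars false

namespace H4
namespace Mx
open Subgroup H25 H25.FS P5 G3
open scoped commutatorElement

variable {Γ : Type*} [Group Γ] {p n i j m : ℕ}
variable {S A B E K N P Q U V W X Y : Subgroup Γ} {a b c g h k s t u v w x y z e : Γ} {F : FS Γ}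

abbrev DD (S : Subgroup Γ) (i : ℕ) : Subgroup Γ := S.lowerCentralSeries i

def T1 (S : Subgroup Γ) : Subgroup Γ := (TT S 1).map S.subtype

theorem mem_D (hx : x ∈ S) : x ∈ DD S i ↔ (⟨x, hx⟩ : S) ∈ LL S i := by
  rw [DD, ← top_subtype_lowerCentralSeries]
  exact mem_map_iff_mem (f := S.subtype) (x := ⟨x, hx⟩) S.subtype_injective

theorem mem_T1 (hx : x ∈ S) : x ∈ T1 S ↔ (⟨x, hx⟩ : S) ∈ TT S 1 :=
  mem_map_iff_mem (f := S.subtype) (x := ⟨x, hx⟩) S.subtype_injective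

theorem D_anti (h : i ≤ j) : DD S j ≤ DD S i := Subgroup.lowerCentralSeries_antitone _ h
theorem D_le : DD S i ≤ S := D_anti (Nat.zero_le i)
theorem D_nz : S ≤ nz (DD S i) := self_le_normalizer_lowerCentralSeries S i
theorem T1_le : T1 S ≤ S := map_subtype_le _
theorem T1_nz : S ≤ nz (T1 S) := fun g hg => mem_normalizer_iff.2 fun x =>
  ⟨by rintro ⟨y, hy, rfl⟩; exact ⟨_, Normal.conj_mem inferInstance y hy ⟨g, hg⟩, rfl⟩, by
    rintro ⟨y, hy, e⟩
    exact ⟨_, Normal.conj_mem' inferInstance y hy ⟨g, hg⟩, by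
      simp only [coe_subtype, coe_mul, coe_inv] at e ⊢; rw [e]; group⟩⟩
theorem D_act (hx : x ∈ DD S i) (hg : g ∈ S) : ⁅x, g⁆ ∈ DD S (i + 1) := commutator_mem_commutator hx hg
theorem D_comm (hx : x ∈ DD S i) (hy : y ∈ DD S j) : ⁅x, y⁆ ∈ DD S (i + j + 1) :=
  (mem_D (D_le (D_act hx (D_le hy)))).2 (LL_comm ((mem_D (D_le hx)).1 hx) ((mem_D (D_le hy)).1 hy))
theorem D_le_T1 (h : 1 ≤ i) : DD S i ≤ T1 S := fun _ hx =>
  (mem_T1 (D_le hx)).2 (LL_le_TT 1 ((mem_D _).1 (D_anti h hx)))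

theorem im_D {Ω : Type*} [Group Ω] {S : Subgroup Ω} (θ : S →* Γ) (i : ℕ) :
    im θ (DD S i) = DD (im θ S) i := by
  induction i with
  | zero => rfl
  | succ i ih => exact (im_commutator θ D_le le_rfl).trans (by rw [ih]; rfl)

variable [hp : Fact p.Prime]

theorem maxC_of [Finite S] (h1 : Nat.card S = p ^ n) (h3 : 3 ≤ n) (h : DD S (n - 2) ≠ ⊥) : MaxC p n S :=
  ⟨h1, h3, fun e => h (by rw [DD, ← top_subtype_lowerCentralSeries]; exact (congrArg (map S.subtype) e).trans (map_bot _))⟩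

theorem maxC_im {Ω : Type*} [Group Ω] [Finite Γ] {S : Subgroup Ω} {θ : S →* Γ} (hθ : Function.Injective θ)
    (h1 : Nat.card S = p ^ n) (h3 : 3 ≤ n) (h : DD S (n - 2) ≠ ⊥) : MaxC p n (im θ S) :=
  maxC_of ((card_im hθ le_rfl).trans h1) h3 (by rwa [← im_D, Ne, im_eq_bot hθ D_le])

section
variable [Finite S] (M : MaxC p n S)
include M

theorem card_D (h : 1 ≤ i) : Nat.card (DD S i) = p ^ (n - 1 - i) := by
  rw [DD, ← top_subtype_lowerCentralSeries, card_map_of_injective S.subtype_injective, M.card_L h]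

theorem card_D_le (h : 1 ≤ i) : Nat.card (DD S i) ≤ Nat.card (DD S (i + 1)) * p := by
  rw [card_D M h, card_D M (by omega), ← pow_succ]
  exact Nat.pow_le_pow_right hp.out.pos (by omega)

theorem D_bot (h : n - 1 ≤ i) : DD S i = ⊥ := by
  rw [DD, ← top_subtype_lowerCentralSeries]; exact (congrArg (map S.subtype) (M.bot h)).trans (map_bot _)

theorem D_one (h : n - 1 ≤ i) (hx : x ∈ DD S i) : x = 1 := by rwa [D_bot M h] at hx

theorem eq_D (h1 : N ≤ S) (h2 : S ≤ nz N) {k : ℕ} (hk : k + 2 ≤ n) (hN : Nat.card N = p ^ k) :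
    N = DD S (n - 1 - k) := by
  haveI := (normal_subgroupOf_iff' h1).2 h2
  rw [DD, ← top_subtype_lowerCentralSeries]
  exact ((congrArg (map S.subtype) (M.eq_L (N := N.subgroupOf S) hk ((H28.card_subgroupOf h1).trans
    hN))).symm.trans (by rw [subgroupOf_map_subtype, inf_eq_left.2 h1])).symm

theorem card_T1 (h4 : 4 ≤ n) : Nat.card S = Nat.card (T1 S) * p := by
  rw [T1, card_map_of_injective S.subtype_injective, ← M.index_T le_rfl h4, card_mul_index]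

theorem cen_eq : S ⊓ cz S = DD S (n - 2) := by
  ext x
  refine ⟨fun hx => (mem_D hx.1).2 (M.center_eq ▸ mem_center_iff.2 fun g =>
    Subtype.ext (mem_cz'.1 hx.2 g g.2)), fun hx => ⟨D_le hx, mem_cz'.2 fun g hg =>
      (commutatorElement_eq_one_iff_mul_comm.1 (D_one M (by omega) (D_act hx hg))).symm⟩⟩

theorem bl' (hn : i + j + 4 ≤ n) (x0 : x ∈ T1 S) (hx : x ∈ DD S i) (y0 : y ∈ T1 S) (hy : y ∈ DD S j) :
    ⁅x, y⁆ ∈ DD S (i + j + 2) :=
  (mem_D (D_le (D_act hx (D_le hy)))).2 (bl M hn ((mem_T1 (D_le hx)).1 x0) ((mem_D _).1 hx)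
    ((mem_T1 (D_le hy)).1 y0) ((mem_D _).1 hy))

theorem down' (hS : e ∈ S) (he : e ∉ T1 S) (hg : g ∈ T1 S) (hj : j + 3 ≤ n)
    (hc : ⁅g, e⁆ ∈ DD S (j + 1)) : g ∈ DD S j :=
  (mem_D (T1_le hg)).2 (down M (e := ⟨e, hS⟩) (mt (mem_T1 hS).2 he) ((mem_T1 _).1 hg) hj
    ((mem_D (D_le hc)).1 hc))

theorem self' (h1 : 1 ≤ i) (hx : x ∈ DD S i) (hy : y ∈ DD S i) : ⁅x, y⁆ ∈ DD S (2 * i + 2) :=
  (mem_D (D_le (D_act hx (D_le hy)))).2 (M.comm_self h1 _ ((mem_D (D_le hx)).1 hx) _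
    ((mem_D (D_le hy)).1 hy))

theorem exc' (h4 : 4 ≤ n) (hS : e ∈ S) (he : e ∉ T1 S) (hc : e ∈ cz (DD S (n - 3))) :
    ∃ m, n = 2 * m + 4 ∧ 1 ≤ m ∧ ∃ y ∈ DD S m, ∃ x ∈ DD S (m + 1), ⁅y, x⁆ ≠ 1 := by
  obtain ⟨m, h1, h2, y, hy, x, hx, h⟩ := exc M h4 fun h => he ((mem_T1 hS).2
    ((M.T_eq_of_le le_rfl h4 (by omega) h).ge fun y hy => by
      rw [show ⁅y, (⟨e, hS⟩ : S)⁆ = 1 from Subtype.ext (commutatorElement_eq_one_iff_mul_comm.2
        (mem_cz'.1 hc y ((mem_D y.2).2 hy)))]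
      exact one_mem _))
  exact ⟨m, h1, h2, y, (mem_D y.2).2 hy, x, (mem_D x.2).2 hx, fun e => h (Subtype.ext e)⟩

theorem two_eq (h4 : 4 ≤ n) : (Subgroup.upperCentralSeries S 2).map S.subtype = DD S (n - 3) := by
  have key : ∀ x : S, x ∈ Subgroup.upperCentralSeries S 2 ↔ ∀ g, ⁅x, g⁆ ∈ LL S (n - 2) := fun x => by
    rw [Subgroup.mem_upperCentralSeries_succ_iff, Subgroup.upperCentralSeries_one, M.center_eq]
  rw [DD, ← top_subtype_lowerCentralSeries]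
  congr 1
  ext x
  rw [key]
  exact ⟨mem_two M h4, fun hx g => by
    rw [show n - 2 = n - 3 + 1 by omega]; exact LL_act hx g⟩

end

variable [Finite Γ]

theorem ess_two (hF : F.Sat p) (M : MaxC p n F.S) (h4 : 4 ≤ n) (H : F.T (DD F.S (n - 3)) g)
    (hg : cj g (DD F.S (n - 3)) = DD F.S (n - 3)) (hz : z ∈ DD F.S (n - 2))
    (hz' : g * z * g⁻¹ ∉ DD F.S (n - 2)) : F.Ess (F.C (DD F.S (n - 3))) := by
  set Y := DD F.S (n - 3) with hY
  have e2 : n - 3 + 1 = n - 2 := by omega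
  have ZY : DD F.S (n - 2) ≤ Y := D_anti (by omega)
  have hYC : Y ≤ F.C Y := fun x hx => ⟨D_le hx, mem_cz'.2 fun y hy =>
    commutatorElement_eq_one_iff_mul_comm.1 (D_one M (by omega) (D_comm hy hx))⟩
  have hn : F.S ≤ nz (F.C Y) := fun s hs => mem_nz_inf (le_nz_self _ hs) (mem_nz_cz (D_nz hs))
  have hne : F.C Y ≠ F.S := fun e => hz' (cen_eq M ▸ (le_inf D_le (le_cz_comm.1 (e.ge.trans
    inf_le_right)) : Y ≤ _) (hg ▸ conj_mem_cj g (ZY hz)))
  have hc : Nat.card F.S ≤ Nat.card (F.C Y) * p := by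
    obtain ⟨x, hx, e⟩ := exists_sup (hF.pg' D_le) ZY (e2 ▸ card_D_le M (by omega))
    have := card_le_cz (X := F.S) (x := x) (V := DD F.S (n - 2)) (fun y hy => e2 ▸ D_act hx hy)
      ((cen_eq M).ge.trans inf_le_right) (by rw [card_D M (by omega), show n - 1 - (n - 2) = 1 by omega, pow_one])
    refine this.trans (Nat.mul_le_mul_right p (card_le_of_le fun s hs => ⟨hs.1, ?_⟩))
    show s ∈ cz (DD F.S (n - 3))
    rw [← e, cz_sup]
    exact ⟨le_cz_comm.1 ((cen_eq M).ge.trans inf_le_right) hs.1, hs.2⟩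
  obtain ⟨h, H', ag⟩ := (hF.rec_fn (FN_of_le_nz D_le D_nz)).ext_C H hg
  rw [sup_eq_right.2 hYC] at H'
  have hA : h ∈ F.A (F.C Y) := H'.mem_A (mem_nz_of_le
    ((H'.cj_C_le inf_le_right).trans (by rw [ag.cj_eq, hg])))
  refine (hF.ess_iff (FN_of_le_nz inf_le_left hn) hne).2 fun e => hz' ?_
  have key : F.Hx (F.C Y) ≤ nz (DD F.S (n - 2)) := (closure_le _).2 (by
    rintro a ⟨-, R, k, hR, H, ag⟩
    obtain rfl : R = F.S := eq_of_le_of_card_le H.le (hc.trans (card_mul_le_lt hF.pg H.le hR))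
    have hk := mem_nz_of_le H.cj_le
    exact (ag.mono (ZY.trans hYC)).mem_nz (cen_eq M ▸ mem_nz_inf hk (mem_nz_cz hk)))
  rw [← ag z (ZY hz)]
  exact conj_mem_of_mem_nz (key (e.ge hA)) hz

end Mx
end H4
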