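import Cfsg.Agent.H4.Mx2

/-! Elementary abelian essential subgroups of order `p ^ 3`: the first two normalizers. -/

set_option autoImplicit false
set_option linter.unusedSectionVars false

namespace H4
namespace Mx
open Subgroup H25 H25.FS P5 G3
open scoped commutatorElement

variable {Γ : Type*} [Group Γ] {p n : ℕ} {i j l m : ℤ}
variable {S A B E K N P Q U V W X Y : Subgroup Γ} {a b c g h k s t u v w x y z e : Γ} {F : FS Γ}

/-- `k` acts on `x` as the `i`-th power modulo `W` -/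
def Wa (k : Γ) (W : Subgroup Γ) (x : Γ) (i : ℤ) : Prop := (x ^ i)⁻¹ * (k * x * k⁻¹) ∈ W

theorem wa_iff (hk : k ∈ nz Q) (hx : x ∈ Q) :
    Wa k W x i ↔ Wt (Q.normalizerMonoidHom ⟨k, hk⟩) (W.subgroupOf Q) ⟨x, hx⟩ i := Iff.rfl

theorem wa_of_eq (h : k * x * k⁻¹ = x ^ i) : Wa k ⊥ x i := by simp [Wa, h]

theorem Wa.mono (h : Wa k W x i) (hle : W ≤ U) : Wa k U x i := hle h

theorem Wa.comm (hk : k ∈ nz Q) (hW : W ≤ Q) (nW : Q ≤ nz W) (hx : x ∈ Q) (hy : y ∈ Q)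
    (h1 : Wa k U x i) (h2 : Wa k V y j) (hc : ∀ g ∈ Q, ⁅⁅x, y⁆, g⁆ ∈ W)
    (hu : ∀ u ∈ U, ⁅u, k * y * k⁻¹⁆ ∈ W) (hv : ∀ v ∈ V, ⁅x, v⁆ ∈ W) : Wa k W ⁅x, y⁆ (i * j) := by
  haveI := (normal_subgroupOf_iff' hW).2 nW
  exact Wt.comm (W := W.subgroupOf Q) ((wa_iff hk hx).1 h1) ((wa_iff hk hy).1 h2) (fun g => hc g g.2)
    (fun u h => hu u h) fun v h => hv v h

variable [Finite Γ] [hp : Fact p.Prime]

theorem Wa.eq (hk : k ∈ nz Q) (hW : W ≤ Q) (nW : Q ≤ nz W) (hx : x ∈ Q) (h1 : Wa k W x i)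
    (h2 : Wa k W x j) (h3 : x ∉ W) (h4 : x ^ p ∈ W) : (i : ZMod p) = j := by
  haveI := (normal_subgroupOf_iff' hW).2 nW
  exact Wt.eq ((wa_iff hk hx).1 h1) ((wa_iff hk hx).1 h2) h3 h4

theorem Wa.gen (hQ : IsPGroup p Q) (hk : k ∈ nz Q) (nW : Q ≤ nz W) (h : Wa k W x i) (hkW : k ∈ nz W)
    (hle : W ≤ A) (hA : A ≤ Q) (hc : Nat.card A ≤ Nat.card W * p) (hx : x ∈ A) (hx' : x ∉ W)
    (hy : y ∈ A) : Wa k W y i := by
  haveI := (normal_subgroupOf_iff' (hle.trans hA)).2 nW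
  exact (wa_iff hk (hA hy)).2 (Wt.gen (A := A.subgroupOf Q) hQ ((wa_iff hk (hA hx)).1 h)
    (fun w hw => conj_mem_of_mem_nz hkW hw) (comap_mono hle)
    (by rwa [card_sgo hA, card_sgo (hle.trans hA)]) hx hx' hy)

theorem exists_wa (hQ : IsPGroup p Q) (hk : k ∈ nz Q) (nW : Q ≤ nz W) (hle : W ≤ A) (hA : A ≤ Q)
    (hc : Nat.card A ≤ Nat.card W * p) (hx : x ∈ A) (hx' : x ∉ W) (h : k * x * k⁻¹ ∈ A) :
    ∃ i, Wa k W x i := by
  haveI := (normal_subgroupOf_iff' (hle.trans hA)).2 nW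
  exact exists_wt (φ := Q.normalizerMonoidHom ⟨k, hk⟩) (A := A.subgroupOf Q) (W := W.subgroupOf Q)
    (x := ⟨x, hA hx⟩) hQ (comap_mono hle) (by rwa [card_sgo hA, card_sgo (hle.trans hA)]) hx hx' h

theorem ess_cj (hF : F.Sat p) (hE : F.Ess E) (H : F.T (F.N E) g) : F.Ess (cj g E) := by
  have HE := H.mono (le_N hE.le)
  refine (hF.ess_iff (hE.fn.cj H) fun e => (H25.card_lt_of_lt hE.lt).ne (by rw [← e, card_cj])).2
    fun e => hE.not_le ?_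
  rw [← cj_le_cj (g := g), HE.cj_A, ← e]
  refine (closure_le _).2 ?_
  rintro a ⟨ha, R, h, hR, H', ag⟩
  obtain ⟨x, hx, x1, x2⟩ := exists_mem_nz_of_lt (hF.pg' H'.le) hR
  have hx' : x ∈ cj g (F.N E) := hE.fn.cj_eq H ▸ ⟨H'.le hx, x1⟩
  have hh := ag.symm.mem_nz ha
  have h0 : h * x * h⁻¹ ∈ nz (cj g E) := mul_mem (mul_mem hh x1) (inv_mem hh)
  have h1 : h * x * h⁻¹ ∈ cj g (F.N E) := hE.fn.cj_eq H ▸ ⟨H'.conj_mem hx, h0⟩
  have h2 : a * x * a⁻¹ ∈ cj g (ai F.S E) := by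
    rw [← ai_inf_nz, cj_ai]
    exact (agree_conj ag hh x1).mem_ai (mem_ai_of_mem h1 h0)
  refine mem_cj.2 ((hF.rec_fn hE.fn).mem_Hx (mem_cj.1 (HE.cj_A ▸ ((H'.mono hR.le).congr ag).mem_A ha))
    (mem_cj.1 hx') (fun h => x2 (mem_cj.2 h)) ?_)
  simpa [mul_assoc] using mem_cj.1 h2

theorem ext_chain (hF : F.Sat p) (hP : F.FN P) (L : ℕ → Subgroup Γ) (r : ℕ) (h0 : L 0 = P)
    (hk : k ∈ F.A P) (h1 : ∀ i ≤ r, k ∈ nz (L i)) (h2 : ∀ i < r, L (i + 1) ≤ L i)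
    (h3 : ∀ i < r, F.N P ≤ stab (L i) (L (i + 1))) (h4 : F.N P ≤ cz (L r)) :
    ∃ h ∈ F.A (F.N P), Agree P h k := by
  have hL : ∀ i ≤ r, L i ≤ P := fun i => by
    induction i with
    | zero => exact fun _ => h0.le
    | succ i ih => exact fun h => (h2 i h).trans (ih (by omega))
  let K := F.A P ⊓ cz (L r) ⊓ ⨅ i, ⨅ (_ : i < r), stab (L i) (L (i + 1))
  have hK : ∀ a, a ∈ K ↔ (a ∈ F.A P ∧ a ∈ cz (L r)) ∧ ∀ i < r, a ∈ stab (L i) (L (i + 1)) := fun a => by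
    simp only [K, mem_inf, mem_iInf]
  have e : ai F.S P = K := by
    refine ((hF.syl hP).mono_right ?_ (inf_le_left.trans inf_le_left)).eq_of_pel (cz_le_ai _ _)
      ((inf_le_left.trans inf_le_left).trans (F.A_le_nz_cz P)) fun a ha => ?_
    · rw [ai_eq_sup]
      exact sup_le (fun a ha => (hK a).2 ⟨⟨F.N_le_A P ha, h4 ha⟩, fun i hi => h3 i hi ha⟩)
        fun a ha => (hK a).2 ⟨⟨F.cz_le_A P ha, cz_anti (hL r le_rfl) ha⟩,
          fun i hi => cz_le_stab _ _ (cz_anti (hL i hi.le) ha)⟩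
    obtain ⟨⟨-, a1⟩, a2⟩ := (hK a).1 ha
    have : ∀ j i, i + j = r → PEl p (cz (L i)) a ∧ a ∈ nz (L i) := fun j => by
      induction j with
      | zero => rintro i rfl; exact ⟨.of_mem a1, cz_le_nz _ a1⟩
      | succ j ih =>
        intro i hi
        obtain ⟨b1, b2⟩ := ih (i + 1) (by omega)
        exact ⟨pel_of_stab (hF.pg' ((hL _ (by omega)).trans hP.le)) (a2 i (by omega)) b2 b1,
          stab_le_nz _ _ (a2 i (by omega))⟩
    exact h0 ▸ (this r 0 (by omega)).1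
  refine (hF.rec_fn hP).ext_A hk (le_N hP.le) (F.C_le_N P) le_rfl ?_
  rw [ai_inf_nz, e]
  exact cj_le.2 fun x hx => (hK _).2 ⟨⟨mul_mem (mul_mem hk (F.N_le_A P hx)) (inv_mem hk),
    conj_mem_of_mem_nz (mem_nz_cz (h1 r le_rfl)) (h4 hx)⟩,
    fun i hi => conj_mem_of_mem_nz (nz_stab (h1 i hi.le) (h1 _ hi)) (h3 i hi hx)⟩

theorem fn_of (hF : F.Sat p) (hP : P ≤ F.S)
    (h : ∀ g, F.T (F.N P) g → Nat.card (F.N (cj g P)) ≤ Nat.card (F.N P)) : F.FN P := by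
  obtain ⟨g, H, h1⟩ := hF.exists_FN hP
  have H' := H.mono (le_N hP)
  exact ⟨hP, fun k hk => by
    have := h1.2 (k * g⁻¹) (H'.inv.mul' hk (by simp))
    rw [cj_cj, inv_mul_cancel_right] at this
    exact this.trans (h g H)⟩

/-- an elementary abelian essential subgroup of order `p ^ 3`, not normal in `S` -/
structure Bad (F : FS Γ) (p : ℕ) (E : Subgroup Γ) : Prop where
  sat : F.Sat p
  ess : F.Ess E
  cm : Cm E
  pw : ∀ x ∈ E, x ^ p = 1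
  card : Nat.card E = p ^ 3
  ne : F.N E ≠ F.S

/-- the centre of `N_S(E)` -/
abbrev XX (F : FS Γ) (E : Subgroup Γ) : Subgroup Γ := F.N E ⊓ cz (F.N E)

namespace Bad
variable (r : Bad F p E)
include r

theorem lt : E < F.N E := lt_inf_nz_of_lt r.sat.pg r.ess.lt
theorem pN : IsPGroup p (F.N E) := r.sat.pg' inf_le_left
theorem pE : IsPGroup p E := r.sat.pg' r.ess.le

theorem cN : Nat.card (F.N E) = p ^ 4 := le_antisymm (card_N_le r.sat r.ess r.cm r.pw r.card)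
  (by rw [pow_succ, ← r.card]; exact card_mul_le_lt r.pN le_rfl r.lt)

theorem cN' : Nat.card (F.N E) ≤ Nat.card E * p := by rw [r.cN, r.card, ← pow_succ]

theorem cj (H : F.T (F.N E) g) : Bad F p (cj g E) :=
  ⟨r.sat, ess_cj r.sat r.ess H, cm_iff.2 (cj_cz g E ▸ cj_mono g (cm_iff.1 r.cm)), cj_pw r.pw,
    (card_cj g E).trans r.card, fun e => r.ne (eq_of_le_of_card_le inf_le_left (by
      rw [← e, ← r.ess.fn.cj_eq H, card_cj]))⟩

theorem XE : XX F E ≤ E := (inf_le_inf inf_le_left (cz_anti r.lt.le)).trans r.ess.centric.C_le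

theorem nX : nz (F.N E) ≤ nz (XX F E) := fun _ hg => mem_nz_inf hg (mem_nz_cz hg)

theorem exs : ∃ s ∈ F.N (F.N E), s ∉ F.N E ∧ s ^ p ∈ F.N E := by
  obtain ⟨s, h1, h2, h3⟩ := exists_mem_nz_pow r.sat.pg (lt_of_le_of_ne inf_le_left r.ne)
  exact ⟨s, ⟨h1, h2⟩, h3⟩

theorem zi : ∃ z, ZI p (F.N E) z ∧ Nat.card (XX F E) = p ^ 2 := by
  have p0 := hp.out.pos
  obtain ⟨s, hs, hs', -⟩ := r.exs
  have hE' : H25.cj s E ≤ F.N E := (cj_mono s r.lt.le).trans (cj_eq_of_mem_nz hs.2).le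
  obtain ⟨y, hy, hy'⟩ := SetLike.not_le_iff_exists.1 fun h => hs' ⟨hs.1, mem_nz_of_le h⟩
  have h1 : H25.cj s E ⊓ E ≤ XX F E := fun w hw => ⟨r.lt.le hw.2, by
    rw [← eq_sup_of_card r.pN r.lt.le r.cN' (hE' hy) hy', cz_sup]
    refine ⟨mem_cz'.2 fun v hv => r.cm v hv w hw.2, mem_cz_zpowers.2 (mul_inv_eq_of_eq_mul ?_)⟩
    have := r.cm _ (mem_cj.1 hw.1) _ (mem_cj.1 hy)
    calc _ = s * (s⁻¹ * w * s * (s⁻¹ * y * s)) * s⁻¹ := by group
      _ = _ := by rw [this]; group⟩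
  have h2 := (card_le_inf hE' r.lt.le r.cN').trans (Nat.mul_le_mul_right p (card_le_of_le h1))
  rw [card_cj, r.card] at h2
  obtain ⟨z, q⟩ := exists_ZI r.pN (P5.relIndex_le_sq inf_le_left (by
    rw [r.cN, pow_succ, pow_two, ← mul_assoc]; exact Nat.mul_le_mul_right p h2)) fun h =>
      hy' (r.ess.centric.C_le ⟨(hE' hy).1, mem_cz'.2 fun v hv => h v (r.lt.le hv) y (hE' hy)⟩)
  exact ⟨z, q, Nat.eq_of_mul_eq_mul_right p0 (Nat.eq_of_mul_eq_mul_right p0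
    (q.card.symm.trans (by rw [r.cN]; ring)))⟩

theorem cX : Nat.card (XX F E) = p ^ 2 := r.zi.choose_spec.2

theorem cE : Nat.card E ≤ Nat.card (XX F E) * p := by rw [r.cX, r.card, ← pow_succ]

end Bad

/-- the maximal subgroup of `N_S(E)` above its centre that is normalized by `N_S(N_S(E))` -/
structure AA (F : FS Γ) (p : ℕ) (E A : Subgroup Γ) : Prop where
  XA : XX F E ≤ A
  AN : A ≤ F.N E
  card : Nat.card A = p ^ 3
  nA : F.N (F.N E) ≤ nz A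

namespace Bad
variable (r : Bad F p E)
include r

theorem exA : ∃ A, AA F p E A := by
  obtain ⟨A, a1, a2, a3, -, a4⟩ := exists_normal_step (r.sat.pg' (inf_le_left : F.N (F.N E) ≤ _))
    (lt_of_le_of_lt r.XE r.lt) (le_N inf_le_left) (inf_le_right.trans r.nX) inf_le_right
  exact ⟨A, a1, a2.le, Nat.eq_of_mul_eq_mul_right hp.out.pos (by
    rw [← pow_succ, ← r.cN, ← card_mul_relIndex a2.le, a4]), a3⟩

theorem EA (q : AA F p E A) (he : e ∈ E) (h : e ∈ A) : e ∈ XX F E := by_contra fun he' => by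
  obtain ⟨s, hs, hs', -⟩ := r.exs
  refine hs' ⟨hs.1, ?_⟩
  rw [eq_of_le_of_card_le (H := E) (K := A) ((eq_sup_of_card r.pE r.XE r.cE he he').ge.trans
    (sup_le q.XA (zpowers_le.2 h))) (by rw [r.card, q.card])]
  exact q.nA hs

theorem cA (q : AA F p E A) : Nat.card A ≤ Nat.card (XX F E) * p := by rw [r.cX, q.card, ← pow_succ]
theorem cNA (q : AA F p E A) : Nat.card (F.N E) ≤ Nat.card A * p := by rw [r.cN, q.card, ← pow_succ]

theorem stA (q : AA F p E A) : F.N (F.N E) ≤ stab A (XX F E) := fun _ hs =>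
  mem_stab_of_card r.sat.pg (q.AN.trans inf_le_left) q.XA (r.cA q) hs.1 (r.nX hs.2) (q.nA hs)

theorem stN (q : AA F p E A) : F.N (F.N E) ≤ stab (F.N E) A := fun _ hs =>
  mem_stab_of_card r.sat.pg inf_le_left q.AN (r.cNA q) hs.1 (q.nA hs) hs.2

theorem ext (q : AA F p E A) : ∃ t ∈ A, t ∉ XX F E := SetLike.exists_of_lt (lt_of_le_of_ne q.XA
  fun e => by have := q.card; rw [← e, r.cX, Nat.pow_right_inj hp.out.one_lt] at this; omega)

theorem moves (hs : s ∈ F.N (F.N E)) (hs' : s ∉ F.N E) (he : e ∈ E) (he' : e ∉ XX F E) :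
    s * e * s⁻¹ * e⁻¹ ∉ XX F E := fun h => hs' ⟨hs.1, mem_nz_of_le (by
  nth_rewrite 1 [← eq_sup_of_card r.pE r.XE r.cE he he']
  rw [cj_sup, cj_eq_of_mem_nz (r.nX hs.2), cj_zpowers]
  exact sup_le r.XE (zpowers_le.2 (by simpa using mul_mem (r.XE h) he)))⟩

theorem trans (q : AA F p E A) (hs : s ∈ F.N (F.N E)) (hs' : s ∉ F.N E) (h1 : XX F E ≤ Y)
    (h2 : Y ≤ F.N E) (h3 : Nat.card Y = p ^ 3) (h4 : Y ≠ A) : ∃ t ∈ zpowers s, H25.cj t E = Y := by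
  obtain ⟨y, hy, hy'⟩ := SetLike.not_le_iff_exists.1 fun h : Y ≤ A =>
    h4 (eq_of_le_of_card_le h (by rw [h3, q.card]))
  obtain ⟨t, ht, ht'⟩ := r.ext q
  obtain ⟨e, he, he'⟩ := SetLike.exists_of_lt (lt_of_le_of_ne r.XE fun e => by
    have := r.card; rw [← e, r.cX, Nat.pow_right_inj hp.out.one_lt] at this; omega)
  have nNA : F.N E ≤ nz A := (le_N inf_le_left).trans q.nA
  have nNX : F.N E ≤ nz (XX F E) := (le_nz_self _).trans r.nX
  have eA := eq_sup_of_card (r.pN.to_le q.AN) q.XA (r.cA q) ht ht'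
  obtain ⟨a, ha, j, rfl⟩ := (mem_sup_zpowers' (nNA (r.lt.le he))).1 ((eq_sup_of_card r.pN q.AN (r.cNA q)
    (r.lt.le he) fun h => he' (r.EA q he h)).ge (h2 hy))
  obtain ⟨x, hx, i, rfl⟩ := (mem_sup_zpowers' (nNX (q.AN ht))).1 (eA.ge ha)
  have he1 := pow_mem he j
  have he2 : e ^ j ∉ XX F E := fun h => hy' (mul_mem ha (q.XA h))
  obtain ⟨u, hu, h5⟩ := transv_mod (K := zpowers s) (zpowers_le.2 (r.nX hs.2)) (nNX (q.AN ht))
    (nNX (r.lt.le he1)) (pow_mem_of_card (r.pN.to_le q.AN) q.XA (r.cA q) ht) (mem_zpowers s)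
    ((mem_stab'.1 (r.stA q hs)).2 t ht) (eA ▸ (mem_stab'.1 (r.stN q hs)).2 _ (r.lt.le he1))
    (r.moves hs hs' he1 he2) i
  refine ⟨u, hu, eq_of_le_of_card_le ?_ (by rw [card_cj, h3, r.card])⟩
  rw [← eq_sup_of_card r.pE r.XE r.cE he1 he2, cj_sup, cj_zpowers,
    cj_eq_of_mem_nz (zpowers_le.2 (r.nX hs.2) hu)]
  refine sup_le h1 (zpowers_le.2 ?_)
  simpa [mul_assoc] using mul_mem (mul_mem (h1 h5) (inv_mem (h1 hx))) hy

theorem cP : Nat.card (F.N (F.N E)) = p ^ 5 := by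
  obtain ⟨A, q⟩ := r.exA
  obtain ⟨s, hs, hs', hp'⟩ := r.exs
  have : F.N (F.N E) = F.N E ⊔ zpowers s := le_antisymm (fun g hg => by
    obtain ⟨t, ht, e⟩ := r.trans q hs hs' (Y := H25.cj g E)
      ((cj_eq_of_mem_nz (r.nX hg.2)).ge.trans (cj_mono g r.XE))
      ((cj_mono g r.lt.le).trans (cj_eq_of_mem_nz hg.2).le) ((card_cj g E).trans r.card) fun e =>
        hs' ⟨hs.1, by rw [cj_eq_iff.1 e, cj_eq_of_mem_nz (inv_mem (q.nA hg))]; exact q.nA hs⟩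
    have : t⁻¹ * g ∈ F.N E := ⟨F.S.mul_mem (F.S.inv_mem (zpowers_le.2 hs.1 ht)) hg.1,
      mem_nz.2 (by rw [← cj_cj, ← e, cj_inv_cj])⟩
    simpa using mul_mem (mem_sup_right (S := F.N E) ht) (mem_sup_left this))
    (sup_le (le_N inf_le_left) (zpowers_le.2 hs))
  rw [this, card_sup_zpowers_prime hp.out hs.2 hs' hp', r.cN, ← pow_succ]

theorem fnN : F.FN (F.N E) := fn_of r.sat inf_le_left fun g H => by
  have H' := H.mono (le_N inf_le_left)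
  rw [r.ess.fn.cj_eq H', (r.cj H').cP, r.cP]

theorem nzA (q : AA F p E A) : F.A (F.N E) ≤ nz A := fun a ha => by
  by_contra hn
  obtain ⟨s, hs, hs', -⟩ := r.exs
  have hN := F.A_le_nz _ ha
  obtain ⟨t, ht, e⟩ := r.trans q hs hs' (Y := H25.cj a A)
    ((cj_eq_of_mem_nz (r.nX hN)).ge.trans (cj_mono a q.XA))
    ((cj_mono a q.AN).trans (cj_eq_of_mem_nz hN).le) ((card_cj a A).trans q.card) (mt mem_nz.2 hn)
  have h1 := r.ess.fn.2 _ (T_of_mem_A inf_le_left (mul_mem (inv_mem ha)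
    (F.N_le_A _ (zpowers_le.2 hs ht))) |>.mono r.lt.le)
  rw [← cj_cj, e, cj_inv_cj] at h1
  have h2 := (card_le_of_le (le_inf inf_le_left q.nA : F.N (F.N E) ≤ F.N A)).trans h1
  rw [r.cP, r.cN, Nat.pow_le_pow_iff_right hp.out.one_lt] at h2
  omega

theorem torus (q : AA F p E A) (hz : ZI p (F.N E) z) (hl : (l : ZMod p) * m = 1) :
    ∃ e ∈ E, e ∉ XX F E ∧ ∃ k ∈ F.A (F.N (F.N E)), k ∈ nz (F.N E) ∧ k ∈ nz A ∧ Wa k ⊥ z l ∧
      k * e * k⁻¹ = e ^ m ∧ (∀ x ∈ XX F E, Wa k (zpowers z) x 1) ∧ ∀ t ∈ A, Wa k (XX F E) t (l * l) := by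
  obtain ⟨t, ht, ht'⟩ := r.ext q
  have htN := q.AN ht
  have htE : t ∉ E := fun h => ht' (r.EA q h ht)
  have r' : P5.TV F p E (XX F E) z t := ⟨r.sat, r.ess, r.cm, r.pw, r.XE, r.cE, htN, htE,
    le_cz_comm.1 inf_le_right htN, hz.mem, fun y hy => hz.comm t htN y (r.lt.le hy)⟩
  obtain ⟨e, he, he', k, hk, k1, k2, k3, k4⟩ :=
    r'.torus (eq_sup_of_card r.pN r.lt.le r.cN' htN htE).ge hl
  have hW : zpowers z ≤ XX F E := zpowers_le.2 hz.mem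
  have cW := card_zpowers_of_pow hp.out hz.pow hz.z1
  have hkN := F.A_le_nz _ hk
  obtain ⟨h, hh, ag⟩ := ext_chain r.sat r.fnN
    (fun i => match i with | 0 => F.N E | 1 => A | 2 => XX F E | _ + 3 => zpowers z) 3 rfl hk
    (fun i hi => by
      interval_cases i
      exacts [hkN, r.nzA q hk, r.nX hkN, hz.nzZ hkN])
    (fun i hi => by
      interval_cases i
      exacts [q.AN, q.XA, hW])
    (fun i hi => by
      interval_cases i
      exacts [r.stN q, r.stA q, fun s hs => mem_stab_of_card r.sat.pg (inf_le_left.trans inf_le_left) hW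
        (by rw [r.cX, cW, pow_two]) hs.1 (hz.nzZ hs.2) (r.nX hs.2)])
    fun s hs => mem_cz_of_card r.sat.pg (hW.trans (inf_le_left.trans inf_le_left)) cW.le hs.1 (hz.nzZ hs.2)
  have nA := (ag.mono q.AN).mem_nz (r.nzA q hk)
  have nN := ag.mem_nz hkN
  refine ⟨e, he, he', h, hh, nN, nA, wa_of_eq ((ag z hz.mem.1).trans k1), (ag e (r.lt.le he)).trans k2,
    fun x hx => by simpa [Wa, ag x hx.1] using k3.2 x hx, fun u hu => Wa.gen r.pN nN
      ((le_nz_self _).trans r.nX) ?_ (r.nX nN) q.XA q.AN (r.cA q) ht ht' hu⟩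
  have := conj_mem_of_mem_nz' (r.nX (le_nz_self _ (zpow_mem htN (l * l)))) (r.EA q k4
    (mul_mem (conj_mem_of_mem_nz (r.nzA q hk) ht) (inv_mem (zpow_mem ht _))))
  simpa [Wa, ag t htN, mul_assoc] using this

theorem cen (h5 : 5 ≤ p) : XX F E ≤ cz (F.N (F.N E)) := by
  obtain ⟨A, q⟩ := r.exA
  obtain ⟨z, hz, -⟩ := r.zi
  obtain ⟨l, m, hl, l2, -, -⟩ := exists_prim h5
  obtain ⟨e, he, he', k, hk, kN, kA, k1, k2, k3, k4⟩ := r.torus q hz hl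
  refine le_cz_comm.1 fun s hs => mem_cz'.2 fun x hx => ?_
  by_cases hs' : s ∈ F.N E
  · exact (mem_cz'.1 hx.2 s hs').symm
  by_contra hn
  have hQ := F.A_le_nz _ hk
  have pQ := r.sat.pg' (inf_le_left : F.N (F.N E) ≤ _)
  have NQ : F.N E ≤ F.N (F.N E) := le_N inf_le_left
  have XQ : XX F E ≤ F.N (F.N E) := inf_le_left.trans NQ
  have nX : F.N (F.N E) ≤ nz (XX F E) := inf_le_right.trans r.nX
  have hW : zpowers z ≤ XX F E := zpowers_le.2 hz.mem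
  have cW := card_zpowers_of_pow hp.out hz.pow hz.z1
  have cenW : F.N (F.N E) ≤ cz (zpowers z) := fun s hs =>
    mem_cz_of_card pQ (hW.trans XQ) cW.le hs (hz.nzZ hs.2)
  have stX : ∀ s ∈ F.N (F.N E), ∀ x ∈ XX F E, ⁅x, s⁆ ∈ zpowers z := fun s hs x hx =>
    comm_symm (comm_of_stab (mem_stab_of_card pQ XQ hW (by rw [r.cX, cW, pow_two]) hs
      (hz.nzZ hs.2) (nX hs)) hx)
  obtain ⟨w, hw⟩ := exists_wa pQ hQ inf_le_right NQ le_rfl (by rw [r.cP, r.cN, ← pow_succ]) hs hs'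
    (conj_mem_of_mem_nz hQ hs)
  have a1 : ⁅s, e⁆ ∈ A := comm_of_stab (r.stN q hs) (r.lt.le he)
  have a2 := (hw.comm hQ XQ nX hs (NQ (r.lt.le he)) (wa_of_eq k2)
    (fun g hg => comm_symm (comm_of_stab (r.stA q hg) a1))
    (fun u hu => hW (hz.comm u hu _ (conj_mem_of_mem_nz kN (r.lt.le he))))
    fun v hv => by simp [mem_bot.1 hv]).eq hQ XQ nX (NQ (q.AN a1)) (k4 _ a1) (r.moves hs hs' he he')
      (pow_mem_of_card (r.pN.to_le q.AN) q.XA (r.cA q) a1)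
  have a3 := stX s hs x hx
  have a4 : ⁅x, s⁆ ∉ (⊥ : Subgroup Γ) := fun h =>
    hn (commutatorElement_eq_one_iff_mul_comm.1 (mem_bot.1 h))
  have a5 := ((k3 x hx).comm hQ bot_le (le_nz_bot _) (XQ hx) hs hw
    (fun g hg => comm_symm (mem_bot.2 (comm_one (cenW hg) a3)))
    (fun u hu => comm_symm (mem_bot.2 (comm_one (cenW (conj_mem_of_mem_nz hQ hs)) hu)))
    fun v hv => mem_bot.2 (comm_one hx.2 hv)).eq hQ bot_le (le_nz_bot _) (XQ (hW a3))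
      (k1.gen pQ hQ (le_nz_bot _) (le_nz_bot _ (mem_top k)) bot_le (hW.trans XQ) (by simp [cW])
        (mem_zpowers z) (fun h => hz.z1 (mem_bot.1 h)) a3) a4 (mem_bot.2 (zp_pw hz.pow _ a3))
  push_cast at a2 a5
  refine l2 ?_
  rw [one_mul] at a5
  rw [a5, hl] at a2
  rw [a2, pow_two]

end Bad
end Mx
end H4
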