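import Cfsg.Agent.H4.PV3

/-! Groups with `O^{2'}` two-nilpotent. -/

set_option autoImplicit false
set_option linter.unusedVariables false
set_option linter.unusedSectionVars false
set_option linter.style.haveILetI false

namespace H4.OX
open H9 hiding zj
open Matrix hiding mul_inv_rev
open H29.PU hiding Rk1 Vx Crit crit Am Bad W5 T2 le_C_of_normal
open H4.Bm hiding Gd Gt GV Pa P2 DG St Ds Bt ext no_crit hull step1 phi
open Cfsg Subgroup H28 H28.GC MatrixGroups H29 H29.BB H4.PV Equiv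
open scoped commutatorElement

universe u
variable {X : Type u} [Group X] [Finite X] {A A' B B' C D E E' F H J K L L' L₀ L₁ L₂ B₀ M N O P Q R S S' T T' U V W Y : Subgroup X}
  {a b c d e f g h k l m n r s t u v w x y z : X}

/-- all elements have odd order -/
def Od (K : Subgroup X) : Prop := ∀ x ∈ K, (orderOf x).Coprime 2

scoped notation:max "𝐏 " H:max => Cfsg.pElementClosure 2 H
scoped notation:max "𝐔 " H:max => Cfsg.pResidualOf 2 (Cfsg.pElementClosure 2 H)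

/-- `H / O(H)` is `2`-closed -/
def NT (H : Subgroup X) : Prop := Od (𝐔 H)

/-- centric `2`-subgroups -/
def Cc (P : Subgroup X) : Prop := ∀ x ∈ 𝐂 P, (∃ k, x ^ 2 ^ k = 1) → x ∈ P

theorem Od.mono (h : Od K) (l : H ≤ K) : Od H := fun x hx => h x (l hx)
theorem Od.one (h : Od K) (hx : x ∈ K) (p : ∃ k, x ^ 2 ^ k = 1) : x = 1 := eq_one_of_coprime_of_pow (h x hx) p.choose_spec
theorem Od.one' (h : Od K) (hQ : IsPGroup 2 Q) (hx : x ∈ K) (p : x ∈ Q) : x = 1 := h.one hx (p2' hQ p)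
theorem od_iff : Od K ↔ (# K).Coprime 2 := by
  refine ⟨fun h => (Nat.coprime_comm.1 ((Nat.Prime.coprime_iff_not_dvd Nat.prime_two).2 fun d => ?_)), fun h x hx =>
    Nat.Coprime.coprime_dvd_left (K.orderOf_dvd_natCard hx) h⟩
  obtain ⟨x, hx, e⟩ := exists_orderOf_eq_of_dvd_card d
  simpa [e] using h x hx
theorem Od.map {Z : Type*} [Group Z] (h : Od K) (φ : X →* Z) : ∀ x ∈ K.map φ, (orderOf x).Coprime 2 := by
  rintro _ ⟨x, hx, rfl⟩; exact Nat.Coprime.coprime_dvd_left (orderOf_map_dvd φ x) (h x hx)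
theorem Od.conj (h : Od K) (g : X) : Od (cj g K) := h.map _
theorem Od.le_cen (h : Od K) (hQ : IsPGroup 2 Q) (h1 : K ≤ 𝐍 Q) (h2 : Q ≤ 𝐍 K) : K ≤ 𝐂 Q := fun e he =>
  mem_cen_iff.2 fun q hq => h.one' hQ (cm_mem' h2 hq he) (cm_mem h1 hq he)

theorem U_le : 𝐔 H ≤ H := (pResidualOf_le 2 _).trans (pElementClosure_le 2 H)
theorem U_mono (l : H ≤ K) : 𝐔 H ≤ 𝐔 K := pResidualOf_mono (pElementClosure_mono l)
theorem nU (H : Subgroup X) : 𝐍 H ≤ 𝐍 (𝐔 H) :=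
  (normalizer_le_normalizer_pElementClosure 2 H).trans (normalizer_le_normalizer_pResidualOf 2 _)
theorem nU' (l : A ≤ H) : A ≤ 𝐍 (𝐔 H) := (le_normalizer_of_le l).trans (nU H)
theorem cj_U (g : X) (H : Subgroup X) : cj g (𝐔 H) = 𝐔 (cj g H) := by rw [cj_pResidualOf, cj_pElementClosure]
theorem U_P : 𝐔 H ≤ 𝐏 (⊤ : Subgroup X) := (pResidualOf_le 2 _).trans (pElementClosure_mono le_top)

theorem NT.mono (h : NT K) (l : H ≤ K) : NT H := Od.mono h (U_mono l)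
theorem NT.conj (h : NT K) (g : X) : NT (cj g K) := by rw [NT, ← cj_U]; exact Od.conj h g
theorem NT.map {Z : Type u} [Group Z] [Finite Z] (h : NT K) (φ : X →* Z) : NT (K.map φ) := by
  rw [NT, ← map_pElementClosure, ← map_pResidualOf]; exact Od.map h φ
theorem NT.of_map {Z : Type u} [Group Z] [Finite Z] {φ : X →* Z} (hφ : Function.Injective φ) (h : NT (K.map φ)) :
    NT K := fun x hx => by
  rw [NT, ← map_pElementClosure, ← map_pResidualOf] at h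
  simpa only [orderOf_injective φ hφ] using h _ ⟨x, hx, rfl⟩
theorem NT.sub (h : NT H) (K : Subgroup X) : NT (H.subgroupOf K) :=
  .of_map K.subtype_injective (h.mono (by rw [subgroupOf_map_subtype]; exact inf_le_left))
theorem NT.cen (h : NT K) (hQ : IsPGroup 2 Q) (h1 : K ≤ 𝐍 Q) (h2 : Q ≤ 𝐍 K) : 𝐔 K ≤ 𝐂 Q :=
  Od.le_cen h hQ (U_le.trans h1) (h2.trans (nU K))

theorem nt_of (hR : IsSylowIn 2 R H) (o : Od O) (h1 : R ≤ 𝐍 O) (h2 : H ≤ 𝐍 (R ⊔ O : Subgroup X)) : NT H :=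
  o.mono ((pResidualOf_mono (hR.pElementClosure_le le_sup_left h2)).trans (pResidualOf_sup_le hR.isPGroup h1))

theorem frat (hR : IsSylowIn 2 R K) (hg : g ∈ 𝐍 K) : ∃ e ∈ 𝐔 K, ∃ n ∈ 𝐍 R, g = e * n := by
  obtain ⟨k, hk, n, hn, rfl⟩ := hR.pElementClosure.frattini (normalizer_le_normalizer_pElementClosure 2 K hg)
  rw [← hR.pElementClosure.pResidualOf_sup] at hk
  obtain ⟨e, he, r, hr, rfl⟩ := (mem_sup_of_le_normalizer' (nU' hR.le)).1 hk
  exact ⟨e, he, _, mul_mem (le_normalizer hr) hn, mul_assoc _ _ _⟩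

theorem NT.leE (h : NT K) (hS : IsSylowIn 2 S K) (hR : IsPGroup 2 R) (l : R ≤ K) :
    ∃ e ∈ 𝐔 K, R ≤ cj e S ∧ e ∈ 𝐂 (S ⊓ R : Subgroup X) := by
  obtain ⟨k, hk, l'⟩ := hS.exists_le_conj hR l
  obtain ⟨e, he, n, hn, rfl⟩ := frat hS (le_normalizer hk)
  rw [← cj_cj, cj_eq_self hn] at l'
  refine ⟨e, he, l', inv_mem_iff.1 (mem_cen_iff.2 fun u hu => Od.one' h hS.isPGroup
    (cm_mem' (nU' hS.le) hu.1 (inv_mem he)) ?_)⟩
  have := S.mul_mem hu.1 (mem_cj.1 (l' (inv_mem hu.2)))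
  simpa only [commutatorElement_def, inv_inv, mul_assoc] using this

theorem NT.sylE (h : NT K) (hS : IsSylowIn 2 S K) (hS' : IsSylowIn 2 S' K) :
    ∃ e ∈ 𝐔 K, cj e S = S' ∧ e ∈ 𝐂 (S ⊓ S' : Subgroup X) :=
  let ⟨e, he, a, b⟩ := h.leE hS hS'.isPGroup hS'.le
  ⟨e, he, hS'.max _ (isPGroup_cj e hS.isPGroup) a (cj_le_of_mem hS.le (U_le he)), b⟩

theorem NT.cenSyl (h : NT K) (hS : IsSylowIn 2 S K) (l : U ≤ S) (c : 𝐂 U ≤ K) : IsSylowIn 2 (S ⊓ 𝐂 U) (𝐂 U) := by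
  obtain ⟨D, hD⟩ := exists_isSylowIn 2 (𝐂 U)
  obtain ⟨e, he, a, b⟩ := h.leE hS (isPGroup_sup_of_le_normalizer' (hS.isPGroup.to_le l) hD.isPGroup
    (le_normalizer_of_le_centralizer hD.le)) (sup_le (l.trans hS.le) (hD.le.trans c))
  have b' : e ∈ 𝐂 U := centralizer_anti (le_inf l le_sup_left) b
  refine hD.of_card_le (hS.isPGroup.to_le inf_le_left) inf_le_right ((card_cj e⁻¹ D).ge.trans (card_le_of_le'
    (le_inf (le_cj_iff.1 (le_sup_right.trans a)) (cj_le_of_mem hD.le (inv_mem b')))))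

theorem NT.cp_le (h : NT H) (cp : IsCharP 2 K) (hR : IsSylowIn 2 R K) (h1 : R ≤ H) (h2 : H ≤ K) : H ≤ 𝐍 R := fun g hg => by
  obtain ⟨e, he, n, hn, rfl⟩ := frat (hR.mono h1 h2) (le_normalizer hg)
  rwa [cp.eq_one (h2 (U_le he)) (h e he) (h.cen (isPGroup_pCoreOf 2 K) (h2.trans (le_normalizer_pCoreOf 2 K))
    (le_normalizer_of_le (hR.pCoreOf_le.trans h1)) he), one_mul]

theorem not_nt (v : Vx 2 L) : ¬ NT L := fun h => by
  obtain ⟨S, hS⟩ := exists_isSylowIn 2 L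
  have := h.cen (ea_isPGroup v.ea) (le_normalizer_Z 2 L) (le_normalizer_of_le (Z_le 2 L))
  rw [← hS.nclIn_eq, v.nclIn_eq hS] at this
  exact v.not_comm_res v.nz this

theorem Cc.mono (h : Cc P) (l : P ≤ R) : Cc R := fun x hx p => l (h x (centralizer_anti l hx) p)
theorem Cc.conj (h : Cc P) (g : X) : Cc (cj g P) := fun x hx ⟨k, p⟩ => mem_cj.2 (h _ (by
  rwa [← cj_centralizer, mem_cj] at hx) ⟨k, by
    have := conj_pow (a := g⁻¹) (b := x) (i := 2 ^ k)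
    rw [inv_inv] at this; rw [this, p]; simp⟩)
theorem Cc.le (h : Cc P) (hR : IsPGroup 2 R) (l : R ≤ 𝐂 P) : R ≤ P := fun x hx => h x (l hx) (p2' hR hx)
theorem Cc.Ω_le (h : Cc P) (l : P ≤ R) : Ω₂ R ≤ Ω₂ P := fun x hx =>
  let ⟨_, b, c⟩ := mem_omegaOneCenter.1 hx
  mem_omegaOneCenter.2 ⟨h x (centralizer_anti l b) ⟨1, by rwa [pow_one]⟩, centralizer_anti l b, c⟩
theorem syl_mem (h : IsSylowIn 2 B L) (h1 : b ∈ L) (h2 : b ∈ 𝐍 B) (h3 : ∃ k, b ^ 2 ^ k = 1) : b ∈ B :=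
  h.le_of_le_normalizer (isPGroup_zpowers h3.choose_spec) (zpowers_le.2 h1) (zpowers_le.2 h2) (mem_zpowers b)
theorem cc_syl (hR : IsSylowIn 2 R (𝐍 U)) (l : U ≤ R) : Cc R := fun x hx p =>
  syl_mem hR (centralizer_le_normalizer _ (centralizer_anti l hx)) (centralizer_le_normalizer _ hx) p

end H4.OX
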