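import Cfsg.Agent.H4.OX9

/-! A coprime automorphism of prime order with fixed points of odd order forces solvability. -/

set_option autoImplicit false
set_option linter.unusedVariables false
set_option linter.unusedSectionVars false

namespace H4.OZ
open Cfsg Subgroup H18 H17.GS
open H19 hiding eq_bot_mono
open scoped commutatorElement

universe u
variable {X : Type u} [Group X] [Finite X] {A B D E F G H K L M N O P Q R S T U V W Y Z : Subgroup X}
  {a b g s t u v w x y z : X} {p r : ℕ}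

local notation "p2" => Nat.prime_two

theorem syl_of (h : H28.IsSylowIn 2 S M) : Syl 2 S M :=
  syl_of_max h.le (PiN.of_isPGroup p2 h.isPGroup) fun _ a b c => h.max _ b.isPGroup c a

theorem Fp.hx (h : Fp A G) (hG : Sim G) (n : G ⊴ ⊤) (hi : PiN {2}ᶜ (G.relIndex ⊤)) (hS : Syl 2 S G) (nS : A ≤ N(S))
    (ih : ∀ H, H < G → Fp A H → Sol H) : ∃ a, OX.Hx a S := by
  obtain ⟨a, ha, a1⟩ := exists_ne_one (ne_bot_of_prime h.pr)
  have e := eq_zpowers_of_prime h.pr ha a1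
  have k : ∀ Y ≤ S, Y ≠ ⊥ → a ∈ N(Y) → Fp A (G ⊓ N(Y)) ∧ Sol (G ⊓ N(Y)) := fun Y l y1 nY => by
    have f := h.mono inf_le_left (norms_inf h.nrm (norms_norm (e ▸ zpowers_le.2 nY)))
    refine ⟨f, ih _ (lt_of_le_of_ne inf_le_left fun e => ?_) f⟩
    exact hG.nsol (((hG.cases (l.trans hS.le) (e.ge.trans inf_le_right)).resolve_left y1) ▸ sol_of_nil (hS.pi.of_le l).nil)
  refine ⟨a, nS ha, fun g hg z hz c => by_contra fun m => ?_, fun Y l y1 nY => ?_, fun Y l eY nY x hx xP o => ?_⟩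
  · rw [not_or] at m
    exact m.2 (mem_bot.1 (h.bot hS.le hS.pi ▸ ⟨hz, (cent_eq_cent1_of_prime h.pr (e ▸ hg) m.1).symm ▸ c⟩))
  · refine (k Y l y1 nY).1.nt (k Y l y1 nY).2 (inf_normal_of_norm (n.norms le_top)) ?_
    rw [inf_relIndex_right]
    exact hi.dvd (relIndex_dvd_of_norm (n.norms le_top) le_top le_top)
  · by_cases y1 : Y = ⊥
    · simp [y1, (orderOf_pos x).ne']
    have xG : x ∈ G := H28.pElementClosure_le_iff'.2 (fun R pR _ =>
      le_of_pi_of_relIndex (n.norms le_top) le_top le_top (PiN.of_isPGroup p2 pR) hi) xP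
    exact (k Y l y1 nY).1.cnt (k Y l y1 nY).2 (hS.pi.of_le l) (le_inf (l.trans hS.le) le_normalizer) inf_le_right
      (e ▸ zpowers_le.2 nY) ⟨xG, hx⟩ (Nat.coprime_two_right.1 o)

theorem Fp.simple (h : Fp A G) (hG : Sim G) (n : G ⊴ ⊤) (hi : PiN {2}ᶜ (G.relIndex ⊤))
    (ih : ∀ B H : Subgroup X, H < G → Fp B H → Sol H) : False := by
  have ev : ¬ OG G := fun o => hG.nsol o.sol
  obtain ⟨S, hS, nS⟩ := inv_syl_exists 2 h.nrm h.cop (.inl h.sol)
  have s1 : S ≠ ⊥ := fun e => ev (Hall.pi'_of_eq_bot (e ▸ hS))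
  have hT := hS.of_idx le_top hi
  have hh : OX.HH X := fun T hT' => by
    obtain ⟨g, -, rfl⟩ := hT.sconj (syl_of hT')
    exact ⟨by simpa using s1, (h.Jn (n.norm (mem_top g))).hx hG n hi (hS.Jnorm (n.norm (mem_top g)))
      (cj_norm g S ▸ cj_mono g nS) (ih _)⟩
  have sT := H2.GW.syl_isSylowIn p2 hT
  have gt := gold hG (H28.ea_omegaOneCenter 2 S).1 (SCl.of_syl hS (H28.omegaOneCenter_le 2 S) fun t ht g _ k =>
    OX.strongly_closed hh sT ht k) (H28.omegaOneCenter_ne_bot sT.isPGroup s1)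
  obtain ⟨t, ht, t2⟩ := exists_inv ev
  have nM := left_normal_sup h.nrm
  have e : G ⊔ ((G ⊔ A) ⊓ C[t]) = G ⊔ A := le_antisymm (sup_le le_sup_left inf_le_left) fun x hx => by
    obtain ⟨g, hg, e⟩ := gt.conj hG ht (nM.conj_mem hx ht) t2 ((orderOf_conj' x t).trans t2)
    rw [← mul_inv_cancel_left g x]
    refine mul_mem_sup hg (mem_inf.2 ⟨mul_mem (inv_mem (mem_sup_left hg)) hx, mem_cent1.2 ?_⟩)
    calc g⁻¹ * x * t = g⁻¹ * (x * t * x⁻¹) * x := by group
      _ = _ := by rw [← e]; group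
  have c := card_sup_of_disjoint h.nrm (inf_eq_bot_of_cop h.cop)
  have d : #A ∣ #((G ⊔ A) ⊓ C[t]) := h.cop.symm.dvd_of_dvd_mul_left
    ((card_dvd le_sup_right).trans (e ▸ card_sup_dvd (nM.norms inf_le_left)))
  obtain ⟨B, lB, cB⟩ := exists_card_eq_prime h.pr d
  have sA : Syl #A A (G ⊔ A) := syl_mk le_sup_right (PiN.of_card h.pr rfl) fun k => h.pr.one_lt.ne'
    (Nat.eq_one_of_dvd_coprimes h.cop (k.trans ((relIndex_sup_right_of_norm h.nrm).symm ▸ relIndex_dvd_card A G)) dvd_rfl)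
  obtain ⟨g, hg, rfl⟩ := sA.sconj (sA.of_card (lB.trans inf_le_left) cB)
  exact ne_one_of_ord2 t2 ((h.Jn (nM.norm hg)).fx.eq_one ⟨ht, le_cent1_iff.1 (lB.trans inf_le_right)⟩ (mul_self_of_ord2 t2))

theorem pow_form (ht : ∀ i, 0 < i → i < r → a ^ i * t * (a ^ i)⁻¹ ∈ W) (hc : ∀ i, W ≤ C[a ^ i * t * (a ^ i)⁻¹])
    (t2 : t * t = 1) (k : ℕ) (hk : k < r) : ∃ e ∈ W, e * e = 1 ∧ (t * a) ^ (k + 1) = t * e * a ^ (k + 1) := by
  induction k with
  | zero => exact ⟨1, one_mem _, by simp, by simp⟩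
  | succ k ih =>
    obtain ⟨e, he, e2, h⟩ := ih (by omega)
    refine ⟨_, mul_mem he (ht (k + 1) k.succ_pos hk), ?_, by rw [pow_succ, h, pow_succ a (k + 1)]; group⟩
    have c := mem_cent1.1 (hc (k + 1) he)
    calc _ = e * (a ^ (k + 1) * t * (a ^ (k + 1))⁻¹ * e) * (a ^ (k + 1) * t * (a ^ (k + 1))⁻¹) := by group
      _ = e * e * (a ^ (k + 1) * (t * t) * (a ^ (k + 1))⁻¹) := by rw [← c]; group
      _ = 1 := by simp [e2, t2]

theorem MinNormal.cj (m : MinNormal T G) (hg : g ∈ N(G)) : MinNormal (cj g T) G :=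
  ⟨by simpa using m.ne, cj_of_mem_norm hg ▸ cj_norm g T ▸ cj_mono g m.norm, fun W l n => by
    refine (m.min _ (cj_le_iff.2 (by simpa using l)) (cj_of_mem_norm (inv_mem hg) ▸ cj_norm g⁻¹ W ▸ cj_mono _ n)).imp
      cj_eq_bot.1 fun e => by rw [← e, cj_cj_inv]⟩

theorem min_nsol (m : MinNormal G (G ⊔ A)) (nA : A ≤ N(G)) (hG : ¬ Sol G) (mT : MinNormal T G) (l : T ≤ G) : ¬ Sol T := fun s =>
  hG (((m.min _ (Fit_le G) (sup_le (Fit_norm G) (norms_Fit nA))).resolve_left (ne_bot_mono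
    ((H18.minnormal_Fitting_center mT l s).trans inf_le_left) mT.ne)) ▸ sol_of_nil (Fit_nil G))

theorem min_center (mT : MinNormal T G) (s : ¬ Sol T) : T ⊓ C(T) = ⊥ :=
  (mT.min _ inf_le_left (norms_inf mT.norm (norms_cent mT.norm))).resolve_right fun e =>
    s (sol_of_ab (comm_iff_le_cent.2 (e.ge.trans inf_le_right)))

theorem Fp.wreath (h : Fp A G) (mT : MinNormal T G) (l : T ≤ G) (s : ¬ Sol T) : A ≤ N(T) := by
  by_contra nA
  obtain ⟨a, ha, a1⟩ := exists_ne_one (ne_bot_of_prime h.pr)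
  have e := eq_zpowers_of_prime h.pr ha a1
  have oa : orderOf a = #A := by rw [← e, Nat.card_zpowers]
  obtain ⟨t, ht, t2⟩ := exists_inv fun o : OG T => s o.sol
  have k1 : ∀ b ∈ A, b ≠ 1 → b * t * b⁻¹ ∈ C(T) := fun b hb b1 => by
    have m' := MinNormal.cj mT (h.nrm hb)
    refine cents_of_norms_disjoint (l.trans m'.norm) ((cj_le_of_mem_norm (h.nrm hb) l).trans mT.norm)
      ((m'.min _ inf_le_left (norms_inf m'.norm mT.norm)).resolve_right fun e' => nA ?_) (conj_mem_cj.2 ht)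
    exact eq_zpowers_of_prime h.pr hb b1 ▸ zpowers_le.2 (mem_norm_of_cj_le (e'.ge.trans inf_le_right))
  have k2 : ∀ b ∈ A, b * t * b⁻¹ ∈ C[t] := fun b hb => by
    by_cases b1 : b = 1
    · simp [b1, mem_cent1_self]
    · exact cent_le_cent1 ht (k1 b hb b1)
  obtain ⟨c, ⟨⟨cG, cT⟩, -⟩, c2, ec⟩ := pow_form (r := #A) (W := G ⊓ C(T) ⊓ ⨅ i : ℕ, C[a ^ i * t * (a ^ i)⁻¹])
    (fun i i0 i1 => ⟨⟨conj_mem_of_norm (h.nrm (pow_mem ha i)) (l ht), k1 _ (pow_mem ha i)
      (pow_ne_one_of_lt_orderOf i0.ne' (oa ▸ i1))⟩, mem_iInf.2 fun j => by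
        rw [← cj_cent1, mem_cj]
        simpa only [mul_inv_rev, inv_inv, mul_assoc] using k2 _ (mul_mem (inv_mem (pow_mem ha j)) (pow_mem ha i))⟩)
    (fun i => inf_le_right.trans (iInf_le _ i)) (mul_self_of_ord2 t2) (#A - 1) (Nat.sub_lt (card_pos _) one_pos)
  rw [Nat.sub_add_cancel (m := 1) (card_pos _), ← oa, pow_orderOf_eq_one, mul_one] at ec
  have tc := mem_cent.1 cT t ht
  have c1 : t * c ∈ C[t] := mul_mem (mem_cent1_self t) (cent_le_cent1 ht cT)
  have c2' : t * c ∈ C[a] := mem_cent1_symm.1 (by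
    have c3 : t * a ∈ C[t * c] := ec ▸ cent1_le_cent1_pow _ _ (mem_cent1_self (t * a))
    have := mul_mem (inv_mem (mem_cent1_symm.1 c1)) c3
    rwa [inv_mul_cancel_left] at this)
  have := h.fx.eq_one ⟨mul_mem (l ht) cG, e ▸ cent_zpowers a ▸ c2'⟩ (by
    rw [mul_assoc, ← mul_assoc c, ← tc, mul_assoc, c2, mul_one, mul_self_of_ord2 t2])
  exact ne_one_of_ord2 t2 (mem_bot.1 (min_center mT s ▸ mem_inf.2 ⟨ht, eq_inv_of_mul_eq_one_left this ▸ C(T).inv_mem cT⟩))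

theorem Fp.sub (h : Fp A G) (h1 : A ≤ L) (h2 : G ≤ L) : Fp (A.subgroupOf L) (G.subgroupOf L) :=
  ⟨(card_subgroupOf' h1).symm ▸ h.pr, (card_subgroupOf' h1).symm ▸ h.od, by simpa [im] using im_norms (f := MonoidHom.id L) h.nrm,
    by rw [card_subgroupOf' h1, card_subgroupOf' h2]; exact h.cop,
    PiN.of_elt fun x hx => (h.fx.elt (x := x.1) ⟨hx.1, mem_cent.2 fun y hy =>
      congrArg Subtype.val (mem_cent.1 hx.2 ⟨y, h1 hy⟩ hy)⟩).dvd (orderOf_coe x).symm.dvd⟩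

theorem thmX (n : ℕ) : ∀ {X : Type u} [Group X] [Finite X] {A G : Subgroup X}, #G = n → Fp A G → Sol G := by
  induction n using Nat.strong_induction_on with
  | _ n ih =>
  intro X _ _ A G e h
  subst e
  by_contra s
  have g1 : G ≠ ⊥ := fun e => s (e ▸ sol_of_nil nil_bot)
  have nG := left_normal_sup h.nrm
  obtain ⟨V, lV, mV⟩ := H18.minnormal_exists g1 nG.norm
  have nV := le_sup_left.trans mV.norm
  have aV := le_sup_right.trans mV.norm
  obtain rfl : V = G := by_contra fun m => s (sol_of_quo nV (sol_mono (ih _ (card_lt (lt_of_le_of_ne lV m)) rfl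
    (h.mono lV aV)) inf_le_left) (ih _ (by
      rw [card_quo nV, ← card_mul_relIndex lV]
      exact lt_mul_left (relIndex_pos _ _) (ne_bot_iff_one_lt_card.1 mV.ne)) rfl (h.quo lV aV)))
  have hS : Sim V := ⟨simple_iff.2 ⟨g1, fun M l n => by_contra fun m => by
    rw [not_or] at m
    obtain ⟨T, lT, mT⟩ := H18.minnormal_exists m.1 n
    exact m.2 (le_antisymm l (((mV.min T (lT.trans l) (sup_le mT.norm (h.wreath mT (lT.trans l)
      (min_nsol mV h.nrm s mT (lT.trans l))))).resolve_left mT.ne).ge.trans lT))⟩, fun a => s (sol_of_ab a)⟩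
  refine (h.sub le_sup_right le_sup_left).simple (hS.of_equiv (subgroupOfEquivOfLe le_sup_left).symm)
    (@normalIn_top _ _ _ nG.subgroupOf) ?_ fun B H l f => ih _ (card_subgroupOf' nG.le ▸ card_lt l) rfl f
  rw [relIndex_top_right, ← relIndex, relIndex_sup_of_norm h.nrm]
  exact h.og.relIndex V

theorem Fp.solvable (h : Fp A G) : Sol G := thmX _ rfl h

end H4.OZ
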