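import Cfsg.Agent.H4.OX10
import Cfsg.Agent.H28.ZC

/-! Groups without elements of order `2r`. -/

set_option autoImplicit false
set_option linter.unusedVariables false
set_option linter.unusedSectionVars false

namespace H4.OZ
open Cfsg Subgroup H18 H17.GS
open H19 hiding eq_bot_mono
open scoped commutatorElement

universe u
variable {X : Type u} [Group X] [Finite X] {A B D E F G H K L M N O P Q R S T U V W Y Z : Subgroup X}
  {a b g s t u v w x y z : X} {p r : ℕ}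

local notation "p2" => Nat.prime_two

/-- no element of order `2r` -/
def NE (r : ℕ) (X : Type u) [Group X] : Prop := ∀ g : X, orderOf g ≠ 2 * r

theorem NE.comm (h : NE r X) (hr : r.Prime) (r2 : r ≠ 2) (hx : orderOf x = r) (ht : orderOf t = 2) (c : x ∈ C[t]) : False :=
  h (t * x) (by rw [Commute.orderOf_mul_eq_mul_orderOf_of_coprime (mem_cent1.1 c).symm
    (by rw [hx, ht]; exact (Nat.coprime_primes p2 hr).2 r2.symm), hx, ht])

theorem NE.map {Y : Type u} [Group Y] (h : NE r X) {φ : X →* Y} (hφ : Function.Surjective φ) : NE r Y := fun y e => by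
  obtain ⟨x, rfl⟩ := hφ y
  exact h _ (orderOf_pow_orderOf_div (orderOf_pos x).ne' (e ▸ orderOf_map_dvd φ x))

theorem min_or (mT : MinNormal T N) (l : T ≤ N) (hg : g ∈ N(N)) : cj g T = T ∨ cj g T ≤ C(T) := by
  have m' := MinNormal.cj mT hg
  refine (m'.min _ inf_le_left (norms_inf m'.norm mT.norm)).symm.imp (fun e => ?_) fun e =>
    cents_of_norms_disjoint (l.trans m'.norm) ((cj_le_of_mem_norm hg l).trans mT.norm) e
  exact eq_of_le_of_card_eq (e.ge.trans inf_le_right) (card_cj _ _)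

theorem min_sim (mN : MinNormal N ⊤) (mT : MinNormal T N) (l : T ≤ N) (s : ¬ Sol T) : Sim T := by
  have e : Kc T ⊤ = N := (mN.min _ (Kc_le_of l mN.norm) Kc_norm).resolve_left (ne_bot_mono le_Kc mT.ne)
  refine ⟨simple_iff.2 ⟨mT.ne, fun M lM n => mT.min M lM (e.ge.trans (Kc_le_of_cj fun g hg => ?_))⟩, fun a => s (sol_of_ab a)⟩
  exact (min_or mT l (mN.norm hg)).elim (fun e => e.le.trans n) fun c => norms_of_cents (c.trans (cent_mono lM))

theorem struct (h0 : ∀ N : Subgroup X, ⊤ ≤ N(N) → Sol N → N = ⊥) (n : (⊤ : Subgroup X) ≠ ⊥) :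
    ∃ N T : Subgroup X, MinNormal N ⊤ ∧ T ⊴ N ∧ Sim T ∧ ((⊤ ≤ N(T) ∧ C(T) = ⊥) ∨ ¬ Sol C(T)) := by
  obtain ⟨N, -, mN⟩ := H18.minnormal_exists n (M := ⊤) le_normalizer
  obtain ⟨T, l, mT⟩ := H18.minnormal_exists mN.ne (norms_of_le le_rfl)
  have s : ¬ Sol T := fun s => ne_bot_mono ((H18.minnormal_Fitting_center mT l s).trans inf_le_left) mT.ne
    (h0 _ (norms_Fit mN.norm) (sol_of_nil (Fit_nil N)))
  refine ⟨N, T, mN, ⟨l, mT.norm⟩, min_sim mN mT l s, or_iff_not_imp_right.2 fun c => ?_⟩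
  have nT : ⊤ ≤ N(T) := fun g hg => mem_norm_iff_cj.2 ((min_or mT l (mN.norm hg)).resolve_right fun k =>
    s (by simpa using sol_J (sol_mono (not_not.1 c) k) g⁻¹))
  exact ⟨nT, h0 _ (norms_cent nT) (not_not.1 c)⟩

theorem NE.not_dvd (h : NE r X) (hr : r.Prime) (r2 : r ≠ 2) (mN : MinNormal N ⊤) (n : T ⊴ N) (hT : Sim T) (c : ¬ Sol C(T)) :
    ¬ r ∣ #(⊤ : Subgroup X) := fun d => by
  obtain ⟨a, -, oa⟩ := exists_orderOf_eq_prime hr d
  have cA : #(zpowers a) = r := by rw [Nat.card_zpowers, oa]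
  have d1 : r ∣ #N := by_contra fun m => hT.nsol (sol_mono (Fp.solvable (A := zpowers a) ⟨cA ▸ hr, cA ▸ hr.odd_of_ne_two r2,
    le_top.trans mN.norm, cA ▸ (hr.coprime_iff_not_dvd.2 m).symm, by_contra fun o =>
      let ⟨t, ht, t2⟩ := exists_inv o; h.comm hr r2 oa t2 (mem_cent1_symm.1 (cent_zpowers a ▸ ht.2))⟩) n.le)
  have d2 : r ∣ #T := by_contra fun m => (Oc_pi {r}ᶜ N).not_dvd hr rfl (((mN.min _ (Oc_le _ _) (norms_Oc _ mN.norm)).resolve_left
    (ne_bot_mono (le_Oc n (PiN.of_not_dvd m)) hT.ne)).symm ▸ d1)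
  obtain ⟨x, hx, ox⟩ := exists_orderOf_eq_prime hr d2
  obtain ⟨t, ht, t2⟩ := exists_inv fun o : OG C(T) => c o.sol
  exact h.comm hr r2 ox t2 (mem_cent1_symm.1 (cent_le_cent1 hx ht))

theorem el4 (x1 : x ≠ 1) (y1 : y ≠ 1) (n : x ≠ y) (x2 : x * x = 1) (y2 : y * y = 1) (c : x * y = y * x) :
    El 2 2 (zpowers x ⊔ zpowers y) (zpowers x ⊔ zpowers y) :=
  (el1_zpowers p2 (mem_sup_left (mem_zpowers x)) (ord2_of x2 x1)).sup2 (el1_zpowers p2 (mem_sup_right (mem_zpowers y)) (ord2_of y2 y1))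
    (by rw [cent_zpowers, zpowers_le]; exact mem_cent1.2 c) fun e =>
      ((H4.mem_zpowers_of_sq (by rw [sq, y2])).1 (e ▸ mem_zpowers x)).elim x1 n

theorem e8 (hT : Sim T) (c : ¬ Sol C(T)) : H28.K.E8 (⊤ : Subgroup X) := by
  obtain ⟨x, y, x1, y1, n, x2, y2, k⟩ := hT.top.rk2
  have e := el4 (x := x.1) (y := y.1) (by simpa using x1) (by simpa using y1) (by simpa using n) (congrArg Subtype.val x2)
    (congrArg Subtype.val y2) (congrArg Subtype.val k)
  have l : zpowers x.1 ⊔ zpowers y.1 ≤ T := sup_le (zpowers_le.2 x.2) (zpowers_le.2 y.2)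
  obtain ⟨t, ht, t2⟩ := exists_inv fun o : OG C(T) => c o.sol
  have t2' : t ^ 2 = 1 := t2 ▸ pow_orderOf_eq_one t
  have := H28.K.two_mul_le e.ab t2' (cent_mono l ht) fun m => ne_one_of_ord2 t2 (mem_bot.1 (hT.center ▸ ⟨l m, ht⟩))
  exact ⟨_, le_top, H28.K.ab_sup e.ab t2' (cent_mono l ht), by rw [e.card] at this; omega⟩

theorem NE.cyc (h : NE r X) (hr : r.Prime) (r2 : r ≠ 2) (hP : PG r P) (p1 : P ≠ ⊥) (hS : PG 2 S) (n : S ≤ N(P)) :
    ∃ a ∈ S, (zpowers a).relIndex S ∣ 2 := by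
  refine (H10.exists_cyc_or_normal_four hS.isPGroup).resolve_right fun ⟨U, l, k, _⟩ => ?_
  have k' := H4.isKleinFour_subgroup_iff.1 k
  obtain ⟨Y, hY, m⟩ := El.exists_cent_ne_bot (p := 2) (H := U) ⟨p2, le_rfl, ⟨H4.comm_of_isKleinFour k, k'.2⟩, k'.1⟩ (l.trans n)
    (hP.mono fun q e e' => r2 (e.symm.trans e')) p1
  obtain ⟨t, -, t2, rfl⟩ := hY.exists_gen
  obtain ⟨x, hx, ox⟩ := exists_orderOf_eq_prime hr ((hP.infl _).dvd_of_ne_bot m)
  exact h.comm hr r2 ox t2 (cent_zpowers t ▸ hx.2)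

theorem NE.false {Y : Type u} [Group Y] [Finite Y] (h : NE r X) (hr : r.Prime) (r2 : r ≠ 2) {φ : X →* Y}
    (sj : Function.Surjective φ) (d : r ∣ #φ.ker) (e8 : H28.K.E8 (⊤ : Subgroup Y)) : False := by
  obtain ⟨P, hP⟩ := exists_syl r φ.ker
  obtain ⟨S, hS⟩ := exists_syl 2 N(P)
  obtain ⟨a, ha, i⟩ := h.cyc hr r2 hP.pi (hP.sne_bot hr d) hS.pi hS.le
  have e : N(P).map φ = ⊤ := by
    have := congrArg (Subgroup.map φ) (hP.frattini normalIn_top)
    rwa [Subgroup.map_sup, top_inf_eq, (Subgroup.map_eq_bot_iff _).2 le_rfl, bot_sup_eq, map_top_of_surjective _ sj] at this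
  have k : Syl 2 (S.map φ) ⊤ := by rw [← e]; exact hS.map φ
  refine (e8.syl k).not_cyc (a := φ a) ?_
  rw [← relIndex_comap]
  exact (relIndex_dvd_of_le_left S (zpowers_le.2 (mem_comap.2 (mem_zpowers (φ a))))).trans i

theorem s4008 (hns : ¬ Group.IsSolvable X) (hr : r.Prime) (r2 : r ≠ 2) (d : r ∣ Nat.card X) (h : NE r X) [R.Normal] (hR : Sol R)
    (hm : ∀ N : Subgroup X, N.Normal → Sol N → N ≤ R) :
    ∃ S : Subgroup (X ⧸ R), S.Normal ∧ IsSimpleGroup S ∧ ¬ IsMulCommutative S ∧ C(S) = ⊥ := by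
  have sj := QuotientGroup.mk'_surjective R
  have ke := QuotientGroup.ker_mk' R
  have sc : ∀ N : Subgroup (X ⧸ R), Sol N → Sol (N.comap (QuotientGroup.mk' R)) := fun N s =>
    H1.isSolvable_comap _ s (ke.symm ▸ hR)
  obtain ⟨N, T, mN, n, hT, k⟩ := struct (X := X ⧸ R) (fun N n s => by
    have := NormalIn.normal ⟨le_top, n⟩
    rw [← map_comap_eq_self_of_surjective sj N, Subgroup.map_eq_bot_iff, ke]
    exact hm _ inferInstance (sc N s)) fun e => hns (by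
      have : Sol (⊤ : Subgroup X) := sc ⊤ (e ▸ sol_of_nil nil_bot)
      exact Group.isSolvable_of_surjective (f := (⊤ : Subgroup X).subtype) fun x => ⟨⟨x, mem_top x⟩, rfl⟩)
  refine k.elim (fun k => ⟨T, NormalIn.normal ⟨le_top, k.1⟩, hT.simple, hT.nab, k.2⟩) fun c => False.elim ?_
  have nd := (h.map sj).not_dvd hr r2 mN n hT c
  rw [Subgroup.card_top, ← index_eq_card] at nd
  exact h.false hr r2 sj (ke.symm ▸ (hr.dvd_mul.1 (R.card_mul_index ▸ d)).resolve_right nd) (e8 hT c)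

end H4.OZ
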