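import Cfsg.Agent.H4.OX1

/-! Existence of vertices in constrained groups. -/

set_option autoImplicit false
set_option linter.unusedVariables false
set_option linter.unusedSectionVars false
set_option linter.style.haveILetI false

namespace H4.OX
open H9 hiding zj
open Matrix hiding mul_inv_rev
open H29.PU hiding Rk1 Vx Crit crit Am Bad W5 T2 le_C_of_normal
open H4.Bm hiding Gd Gt GV Pa P2 DG St Ds Bt ext no_crit hull step1 phi
open Cfsg Subgroup H28 H28.GC MatrixGroups H29 H29.BB H4.PV Equiv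
open scoped commutatorElement

universe u
variable {X : Type u} [Group X] [Finite X] {A A' B B' C D E E' F H J K L L' L₀ L₁ L₂ B₀ M N O P Q R S S' T T' U V W Y : Subgroup X}
  {a b c d e f g h k l m n r s t u v w x y z : X}

theorem od_of_syl (hS : IsSylowIn 2 S K) (h : K ⊓ S = ⊥) : Od K :=
  od_iff.2 (Nat.coprime_comm.1 ((Nat.Prime.coprime_iff_not_dvd Nat.prime_two).2
    (IsSylowIn.not_dvd_card_of_eq_bot (by rwa [← h, inf_of_le_right hS.le]))))

theorem od_res (hS : IsSylowIn 2 S K) (c : K ≤ 𝐂 S) : Od (O² K) := by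
  refine od_of_syl (hS.inf_normal' (pResidualOf_le 2 K) (le_normalizer_pResidualOf 2 K)) (le_bot_iff.1 ?_)
  have := res_inf_le hS le_rfl (le_normalizer_of_le_centralizer c) (bot_sup_eq S) (by simp)
  rw [commutator_eq_bot_iff'.2 ((pResidualOf_le 2 K).trans c)] at this
  exact (inf_le_inf_left _ inf_le_left).trans this

theorem cp_of (hO : ∀ N : Subgroup X, ⊤ ≤ 𝐍 N → Od N → N = ⊥) (n : ⊤ ≤ 𝐍 U) (hU : IsPGroup 2 U) (h : NT (𝐂 U)) :
    IsCharP 2 (⊤ : Subgroup X) := by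
  have nC := le_normalizer_centralizer n
  have p := isPGroup_of_pResidualOf_eq_bot (hO _ (nC.trans (nU _)) h)
  have l1 := le_pCoreOf p le_top (nC.trans (normalizer_le_normalizer_pElementClosure 2 _))
  have l2 := centralizer_anti (le_pCoreOf hU le_top n)
  obtain ⟨S, hS⟩ := exists_isSylowIn 2 (𝐂 (O₂ (⊤ : Subgroup X)))
  have := hO _ ((le_normalizer_centralizer (le_normalizer_pCoreOf 2 ⊤)).trans (normalizer_le_normalizer_pResidualOf 2 _))
    (od_res hS (centralizer_anti ((le_pElementClosure hS.isPGroup (hS.le.trans l2)).trans l1)))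
  exact isCharP_of_coprime fun x _ c hx => mem_bot.1 (this ▸ mem_pResidualOf hx c)

theorem map_bm_ker {Z : Type u} [Group Z] {φ : X →* Z} (h : P ⊓ φ.ker = ⊥) : (bm 2 P).map φ = bm 2 (P.map φ) := by
  have e : (bm 2 P).subgroupOf P = bm 2 (⊤ : Subgroup P) := map_injective P.subtype_injective (by
    rw [map_subtype_subgroupOf bm_le, map_bm P.subtype_injective, map_subtype_top])
  rw [← map_comp_subtype φ (bm_le : bm 2 P ≤ P), e, map_bm (comp_subtype_injective h), ← subgroupOf_self,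
    map_comp_subtype φ le_rfl]

theorem lift {Z : Type u} [Group Z] [Finite Z] {φ : X →* Z} (hφ : Function.Surjective φ) (o : Od φ.ker)
    (pB : IsPGroup 2 B) {L₁ : Subgroup Z} (v : PU.Vx 2 L₁) (s : IsSylowIn 2 (B.map φ) L₁) :
    ∃ L, Vx 2 L ∧ IsSylowIn 2 B L := by
  have ker : ∀ {P : Subgroup X}, IsPGroup 2 P → P ⊓ φ.ker = ⊥ := fun h => inf_ker_eq_bot (od_iff.1 o) h
  have BL : B ≤ L₁.comap φ := map_le_iff_le_comap.1 s.le
  have sB : IsSylowIn 2 B (L₁.comap φ) := ⟨BL, pB, fun P a b c => (eq_of_le_of_card_le b (by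
    rw [← card_map_of_inf_ker (ker a), s.max _ (a.map φ) (map_mono b) (map_le_iff_le_comap.2 c),
      card_map_of_inf_ker (ker pB)])).symm⟩
  set Q := B ⊓ (O₂ L₁).comap φ
  have nQ : L₁.comap φ ≤ 𝐍 ((O₂ L₁).comap φ) := le_normalizer_of_cj_le fun g hg => by
    rw [← map_le_iff_le_comap, map_cj]
    exact cj_le_of_mem_normalizer (map_comap_le _ _) (le_normalizer_pCoreOf 2 L₁ hg)
  have sQ := sB.inf_normal' (comap_mono (pCoreOf_le 2 L₁)) nQ
  have mQ : Q.map φ = O₂ L₁ := by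
    have := sQ.map φ
    rw [map_comap_eq_self_of_surjective hφ] at this
    exact (this.max _ (isPGroup_pCoreOf 2 L₁) this.le le_rfl).symm
  have BQ : B ≤ 𝐍 Q := le_normalizer_inf le_normalizer (BL.trans nQ)
  obtain ⟨L, ⟨l1, l2, l3⟩, m⟩ := Set.exists_min_image {L : Subgroup X | B ≤ L ∧ L ≤ 𝐍 Q ∧ L.map φ = L₁}
    (fun L => # L) (Set.toFinite _) ⟨L₁.comap φ ⊓ 𝐍 Q, le_inf BL BQ, inf_le_right, le_antisymm
      (map_le_iff_le_comap.2 inf_le_left) fun y hy => by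
        obtain ⟨y, rfl⟩ := hφ y
        obtain ⟨k, hk, n, hn, rfl⟩ := sQ.frattini (nQ hy)
        obtain ⟨q, hq, e⟩ := mQ.ge hk
        refine ⟨q * n, mem_inf.2 ⟨?_, mul_mem (le_normalizer hq) hn⟩, by rw [map_mul, map_mul, e]⟩
        rw [mem_comap, map_mul, e, ← map_mul]; exact hy⟩
  have sL := sB.mono l1 (map_le_iff_le_comap.1 l3.le)
  have mem : ∀ x ∈ L, φ x ∈ L₁ := fun x hx => l3.le ⟨x, hx, rfl⟩
  have eQ : O₂ L = Q := le_antisymm (le_inf sL.pCoreOf_le (map_le_iff_le_comap.1 (l3 ▸ map_pCoreOf_le φ L)))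
    (le_pCoreOf (pB.to_le inf_le_left) (inf_le_left.trans l1) l2)
  have mQ' : ∀ x ∈ B, φ x ∈ O₂ L₁ → x ∈ O₂ L := fun x a b => eQ ▸ ⟨a, b⟩
  obtain ⟨M, r⟩ := v.r1 s
  have mΩ := map_omegaOneCenter_of_inf_ker (e := 2) (ker pB)
  have r1 : R1 2 L B (L ⊓ M.comap φ) := by
    refine ⟨sL, ⟨le_inf l1 (map_le_iff_le_comap.1 r.um.le), inf_lt_left.2 fun c => r.um.not_le
      (l3.ge.trans (map_le_iff_le_comap.2 c)), fun K a b => le_inf b.le (map_le_iff_le_comap.1 (r.um.max _ (map_mono a)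
      (lt_of_le_of_ne (l3 ▸ map_mono b.le) fun e => (card_lt_of_lt b).not_ge (m K ⟨a, b.le.trans l2, e⟩))))⟩,
      commutator_le.2 fun x hx y hy => mQ' _ (cm_mem le_normalizer hx hy) ?_, fun x hx => mQ' _ (pow_mem hx 2) ?_,
      fun x hx g hg e => (r.ti _ ⟨x, hx, rfl⟩ _ (mem g hg) ?_).imp (mQ' x hx) fun c => ⟨hg, c⟩,
      fun c => r.ne (mQ ▸ map_mono (eQ ▸ c))⟩
    · rw [map_commutatorElement]; exact r.comm (commutator_mem_commutator ⟨x, hx, rfl⟩ ⟨y, hy, rfl⟩)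
    · rw [map_pow]; exact r.pow _ ⟨x, hx, rfl⟩
    · simpa using e.2
  refine ⟨L, ⟨⟨?_, _, _, r1⟩, fun c => v.nz ?_, fun S hS => ?_⟩, sL⟩
  · rw [sL.Z_eq]
    refine nclIn_le (fun x hx => ?_) ((le_normalizer_pCoreOf 2 L).trans (normalizer_le_normalizer_omegaOneCenter 2 _))
    obtain ⟨a, b, c⟩ := mem_omegaOneCenter.1 hx
    exact mem_omegaOneCenter.2 ⟨mQ' x a (omegaOneCenter_le _ _ (v.cp.omegaOneCenter_le s (mΩ.le ⟨x, hx, rfl⟩))),
      centralizer_anti sL.pCoreOf_le b, c⟩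
  · rw [s.Z_eq, ← mΩ, ← l3, ← map_nclIn, ← sL.Z_eq]
    exact (map_mono c).trans (map_centralizer_le φ L)
  · obtain ⟨e, A, h1, h2, h3⟩ := v.off _ (l3 ▸ hS.map φ)
    have e1 : (S ⊓ A.comap φ).map φ = A := map_inf_comap_eq φ h2.le
    refine ⟨e, S ⊓ A.comap φ, h1, (maxAb_subgroupOf_iff le_rfl inf_le_left).1 (MaxAb.of_map
      (comp_subtype_injective (ker hS.isPGroup)) ?_), fun c => h3 (e1.ge.trans ((map_mono c).trans (eQ ▸ mQ.le)))⟩
    rwa [map_comp_subtype φ le_rfl, map_comp_subtype φ inf_le_left, e1]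

theorem vxY (hR : IsSylowIn 2 R ⊤) (e : bm 2 R = B) (nU : ⊤ ≤ 𝐍 U) (hU : IsPGroup 2 U) (cU : NT (𝐂 U))
    (nB : NT (𝐍 B)) (nJ : NT (𝐍 (JJ 2 B))) (t1 : T ≤ B) (t2 : T ≤ Ω₂ R) (t3 : NT (𝐂 T)) (n : ¬ NT (⊤ : Subgroup X)) :
    ∃ L, Vx 2 L ∧ IsSylowIn 2 B L := by
  let φ := QuotientGroup.mk' (pPrimeCore 2 X)
  have hφ : Function.Surjective φ := QuotientGroup.mk'_surjective _
  have hk : (# φ.ker).Coprime 2 := by rw [QuotientGroup.ker_mk']; exact H1.pPrimeCore_coprime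
  have ker : ∀ {P : Subgroup X}, IsPGroup 2 P → P ⊓ φ.ker = ⊥ := fun h => inf_ker_eq_bot hk h
  have BR : B ≤ R := e ▸ bm_le
  have pB := hR.isPGroup.to_le BR
  have sR := hR.map φ
  rw [map_top_of_surjective _ hφ] at sR
  have top : ∀ {P : Subgroup X}, ⊤ ≤ 𝐍 P → ⊤ ≤ 𝐍 (P.map φ) := fun h =>
    (map_top_of_surjective _ hφ).ge.trans ((map_mono h).trans (H9.map_normalizer_le φ _))
  have cp : IsCharP 2 (⊤ : Subgroup (X ⧸ pPrimeCore 2 X)) := cp_of (fun N a b => by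
    have := H1.le_pPrimeCore (normal_iff_top_le.2 a) (od_iff.1 b)
    rwa [H1.pPrimeCore_quotient _ H1.pPrimeCore_coprime, QuotientGroup.map_mk'_self, le_bot_iff] at this)
    (top nU) (hU.map φ) (map_centralizer_of_coprime hφ hk hU ▸ cU.map φ)
  have e' : bm 2 (R.map φ) = B.map φ := by rw [← map_bm_ker (ker hR.isPGroup), e]
  have eJ := map_JJ_of_inf_ker (e := 2) (ker pB)
  have am : Amb 2 ⊤ (B.map φ) := ⟨cp, _, sR, e'⟩
  have n1 : 𝐍 (B.map φ) ≤ 𝐍 (R.map φ) := NT.cp_le (map_normalizer_of_coprime hφ hk pB ▸ nB.map φ) cp sR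
    (e' ▸ le_normalizer.trans (nrm_bm le_rfl)) le_top
  obtain ⟨L, -, -, v, s⟩ := WM.exists_vx (M := 𝐍 (R.map φ)) ⟨am, n1, NT.cp_le (by
    rw [← eJ, ← map_normalizer_of_coprime hφ hk (pB.to_le (JJ_le 2 B))]; exact nJ.map φ) cp sR (by
      rw [← am.JJ_eq sR.isPGroup (map_mono BR) le_top]; exact le_normalizer_JJ 2 _) le_top, fun P p1 p2 _ => by
    obtain ⟨k, -, lk⟩ := sR.exists_le_conj p1 le_top
    have : k ∈ 𝐍 (B.map φ) := mem_normalizer_iff_cj.2 (by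
      rw [← e', cj_bm, e']; exact am.bm_eq (isPGroup_cj k sR.isPGroup) (p2.trans lk) le_top)
    rw [cj_eq_self (n1 this)] at lk
    have t4 : T.map φ ≤ Ω₂ (R.map φ) := map_omegaOneCenter_of_inf_ker (e := 2) (ker hR.isPGroup) ▸ map_mono t2
    refine (centralizer_anti (le_omegaOneCenter ((map_mono t1).trans p2) ((t4.trans
      (omegaOneCenter_le_centralizer _ _)).trans (centralizer_anti lk)) fun x hx => (mem_omegaOneCenter.1 (t4 hx)).2.2)).trans
      (NT.cp_le (map_centralizer_of_coprime hφ hk (pB.to_le t1) ▸ t3.map φ) cp sR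
        (le_centralizer_comm.1 (t4.trans (omegaOneCenter_le_centralizer _ _))) le_top)⟩ fun c => n (nt_of hR (od_iff.2 hk)
      (le_normalizer_of_normal) (normal_iff_top_le.1 (by
        rw [← comap_map_eq]; exact (normal_iff_top_le.2 c).comap φ)))
  exact lift hφ (od_iff.2 hk) pB v s

theorem Vx.map' {Z : Type u} [Group Z] [Finite Z] {φ : X →* Z} (hφ : Function.Injective φ) (h : Vx 2 L) :
    Vx 2 (L.map φ) where
  zo := by rw [← map_Z hφ, ← map_pCoreOf hφ, ← map_omegaOneCenter hφ]; exact map_mono h.zo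
  ex := let ⟨_, _, e⟩ := h.ex; ⟨_, _, e.map hφ⟩
  nz e := h.nz (cen_of_map hφ (map_Z (p := 2) hφ L ▸ e))
  off S hS := by
    obtain ⟨S, rfl⟩ : ∃ T : Subgroup X, T.map φ = S := ⟨_, map_comap_eq_self (hS.le.trans (map_le_range φ L))⟩
    obtain ⟨e, A, h1, h2, h3⟩ := h.off _ (syl_of_map hφ hS)
    exact ⟨e, _, h1, h2.map hφ, by rwa [← map_pCoreOf hφ, map_le_map_iff_of_injective hφ]⟩

theorem exists_vx (hR : IsSylowIn 2 R (𝐍 U)) (e : bm 2 R = B) (hU : IsPGroup 2 U) (cU : NT (𝐂 U))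
    (nB : NT (𝐍 B)) (nJ : NT (𝐍 (JJ 2 B))) (t1 : T ≤ B) (t2 : T ≤ Ω₂ R) (t3 : NT (𝐂 T)) (n : ¬ NT (𝐍 U)) :
    ∃ L, Vx 2 L ∧ IsSylowIn 2 B L := by
  set K := 𝐍 U
  have i := K.subtype_injective
  have BK : B ≤ K := (e ▸ bm_le : B ≤ R).trans hR.le
  have UK : U ≤ K := le_normalizer
  have f1 : ∀ {P : Subgroup K} {P' : Subgroup X}, P.map K.subtype = P' → NT (𝐍 P') → NT (𝐍 P) := fun a b =>
    .of_map i (b.mono (by rw [map_subtype_normalizer, a]; exact inf_le_right))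
  have f2 : ∀ {P : Subgroup X}, P ≤ K → NT (𝐂 P) → NT (𝐂 (P.subgroupOf K)) := fun a b =>
    centralizer_subgroupOf a ▸ b.sub K
  obtain ⟨L, v, s⟩ := vxY (U := U.subgroupOf K) (B := B.subgroupOf K) (T := T.subgroupOf K) hR.subgroupOf_top
    (map_injective i (by rw [map_bm i, map_subtype_subgroupOf hR.le, map_subtype_subgroupOf BK, e]))
    (normal_iff_top_le.1 (normal_subgroupOf_of_le_normalizer le_rfl)) ((isPGroup_subgroupOf_iff UK).2 hU) (f2 UK cU)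
    (f1 (map_subtype_subgroupOf BK) nB) (f1 (by rw [map_JJ i, map_subtype_subgroupOf BK]) nJ) (comap_mono t1)
    (by rw [← omegaOneCenter_subgroupOf hR.le]; exact comap_mono t2) (f2 (t1.trans BK) t3)
    fun c => n (map_subtype_top K ▸ c.map K.subtype)
  exact ⟨_, Vx.map' i v, map_subtype_subgroupOf BK ▸ s.map K.subtype⟩

end H4.OX
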