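import Cfsg.Agent.H4.OX2

/-! Fixed point free automorphisms of a Sylow `2`-subgroup: the first vertex. -/

set_option autoImplicit false
set_option linter.unusedVariables false
set_option linter.unusedSectionVars false
set_option linter.style.haveILetI false

namespace H4.OX
open H9 hiding zj
open Matrix hiding mul_inv_rev
open H29.PU hiding Rk1 Vx Crit crit Am Bad W5 T2 le_C_of_normal
open H4.Bm hiding Gd Gt GV Pa P2 DG St Ds Bt ext no_crit hull step1 phi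
open Cfsg Subgroup H28 H28.GC MatrixGroups H29 H29.BB H4.PV Equiv
open scoped commutatorElement

universe u
variable {X : Type u} [Group X] [Finite X] {A A' B B' C D E E' F H J K L L' L₀ L₁ L₂ B₀ M N O P Q R S S' T T' U V W Y : Subgroup X}
  {a b c d e f g h k l m n r s t u v w x y z : X}

/-- local properties of invariant `2`-subgroups -/
structure Hx (a : X) (S : Subgroup X) : Prop where
  nrm : a ∈ 𝐍 S
  fpf : ∀ g ∈ zpowers a, ∀ z ∈ S, z ∈ 𝐜 g → g = 1 ∨ z = 1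
  nt : ∀ Y ≤ S, Y ≠ ⊥ → a ∈ 𝐍 Y → NT (𝐍 Y)
  cnt : ∀ Y ≤ S, IsElementaryAbelian 2 Y → a ∈ 𝐍 Y → ∀ h ∈ 𝐍 Y, h ∈ 𝐏 (⊤ : Subgroup X) → (orderOf h).Coprime 2 →
    ¬ # ↥⁅Y, zpowers h⁆ - 1 ∣ orderOf h

/-- the global hypothesis -/
def HH (X : Type u) [Group X] : Prop := ∀ S : Subgroup X, IsSylowIn 2 S ⊤ → S ≠ ⊥ ∧ ∃ a, Hx a S

/-- `2`-subgroups containing a conjugate of `Ω₁Z(S)` -/
def Tc (U : Subgroup X) : Prop := IsPGroup 2 U ∧ ∃ S, IsSylowIn 2 S ⊤ ∧ Ω₂ S ≤ U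

theorem Tc.mono (h : Tc U) (p : IsPGroup 2 V) (l : U ≤ V) : Tc V := let ⟨_, S, a, b⟩ := h; ⟨p, S, a, b.trans l⟩
theorem Tc.conj (h : Tc U) (g : X) : Tc (cj g U) :=
  let ⟨p, S, a, b⟩ := h; ⟨isPGroup_cj g p, _, cj_top g ▸ a.conj g, cj_omegaOneCenter g S ▸ cj_mono g b⟩
theorem Cc.tc (h : Cc P) (p : IsPGroup 2 P) : Tc (Ω₂ P) :=
  let ⟨S, a, b⟩ := exists_isSylowIn_ge p le_top; ⟨p.to_le (omegaOneCenter_le _ _), S, a, h.Ω_le b⟩

namespace HH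
variable (hh : HH X)
include hh

theorem char (hS : IsSylowIn 2 S ⊤) (h1 : Ω₂ S ≤ Y) (h2 : Y ≤ S) (h3 : 𝐍 S ≤ 𝐍 Y) : NT (𝐍 Y) :=
  let ⟨n, a, h⟩ := hh S hS
  h.nt Y h2 (fun e => omegaOneCenter_ne_bot hS.isPGroup n (le_bot_iff.1 (h1.trans e.le))) (h3 h.nrm)
theorem ntΩ (hS : IsSylowIn 2 S ⊤) : NT (𝐍 (Ω₂ S)) :=
  hh.char hS le_rfl (omegaOneCenter_le _ _) (normalizer_le_normalizer_omegaOneCenter 2 S)
theorem ntC (hS : IsSylowIn 2 S ⊤) : NT (𝐂 (Ω₂ S)) := (hh.ntΩ hS).mono (centralizer_le_normalizer _)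
theorem ntzj (hS : IsSylowIn 2 S ⊤) : NT (𝐍 (zj 2 S)) := hh.char hS (Ω_le_zj dvd_rfl) zj_le (nrm_zj le_rfl)
theorem cen (h : Tc U) : NT (𝐂 U) := let ⟨_, _, a, b⟩ := h; (hh.ntC a).mono (centralizer_anti b)

end HH

theorem step0 (hS : IsSylowIn 2 S ⊤) (ht : t ∈ Ω₂ S) (h1 : g * t * g⁻¹ ∈ S) (h2 : g * t * g⁻¹ ∉ Ω₂ S) :
    ∃ P : Subgroup X, IsPGroup 2 P ∧ Cc P ∧ ¬ NT (𝐍 P) := by
  obtain ⟨⟨P, g⟩, ⟨a1, a2, x, hx, a3⟩, m⟩ := Set.exists_max_image {p : Subgroup X × X | p.1 ≤ S ∧ cj p.2 p.1 ≤ S ∧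
    ∃ x ∈ p.1, ¬ (x ∈ Ω₂ S ↔ p.2 * x * p.2⁻¹ ∈ Ω₂ S)} (fun p => # p.1) (Set.toFinite _)
    ⟨(zpowers t, g), zpowers_le.2 (omegaOneCenter_le _ _ ht), (cj_zpowers g t).trans_le (zpowers_le.2 h1), t,
      mem_zpowers t, fun e => h2 (e.1 ht)⟩
  dsimp only at a1 a2 a3 hx m
  have gd : ∀ P' g', P' ≤ S → cj g' P' ≤ S → # P < # P' → ∀ y ∈ P', (y ∈ Ω₂ S ↔ g' * y * g'⁻¹ ∈ Ω₂ S) :=
    fun P' g' b1 b2 b3 y hy => by_contra fun c => b3.not_ge (m (P', g') ⟨b1, b2, y, hy, c⟩)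
  have lt : P < S := lt_of_le_of_ne a1 fun e => a3 (mem_normalizer_iff.1 (normalizer_le_normalizer_omegaOneCenter 2 S
    (mem_normalizer_of_cj_le (e ▸ a2))) x)
  have lt' : cj g P < S := lt_of_le_of_ne a2 fun e => lt.ne (eq_of_le_of_card_le a1 (by rw [← e, card_cj]))
  have l1 := lt_inf_normalizer hS.isPGroup lt
  have l2 := lt_inf_normalizer hS.isPGroup lt'
  obtain ⟨R, hR, lR⟩ := exists_isSylowIn_ge (hS.isPGroup.to_le (inf_le_left : S ⊓ 𝐍 P ≤ S)) inf_le_right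
  obtain ⟨h, -, lh⟩ := hS.exists_conj_le hR.isPGroup le_top
  have hR' := cj_normalizer h P ▸ hR.conj h
  obtain ⟨n, hn, ln⟩ := hR'.exists_conj_le (isPGroup_cj (h * g⁻¹) (hS.isPGroup.to_le
    (inf_le_left : S ⊓ 𝐍 (cj g P) ≤ S))) ((cj_mono _ inf_le_right).trans (by
      rw [cj_normalizer, cj_cj, inv_mul_cancel_right]))
  have c1 := gd _ h inf_le_left ((cj_mono h lR).trans lh) (card_lt_of_lt l1) x (l1.le hx)
  have c2 := gd _ (n * (h * g⁻¹)) inf_le_left (by rw [← cj_cj]; exact ln.trans lh) (card_cj g P ▸ card_lt_of_lt l2) _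
    (l2.le (conj_mem_cj hx))
  have PR : cj h P < cj h R := cj_lt_cj.2 (l1.trans_le lR)
  have fin : ∀ P' c k, P' ≤ S → cj h P < P' → c ∈ 𝐂 (cj h P) → k ∈ 𝐍 P' → n = c * k → False := fun P' c k b1 b2 b3 b4 e => by
    have k1 : k ∈ 𝐍 (cj h P) := (mul_mem_cancel_left (centralizer_le_normalizer _ b3)).1 (e ▸ hn)
    have c3 := gd P' k b1 ((cj_eq_self b4).trans_le b1) (card_cj h P ▸ card_lt_of_lt b2) _ (b2.le (conj_mem_cj hx))
    refine a3 (c1.trans (c3.trans (Iff.trans ?_ c2.symm)))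
    rw [← mem_c''.1 (cen_le_c (conj_mem_of_mem_normalizer k1 (conj_mem_cj hx)) b3), e]
    exact iff_of_eq (congrArg _ (by group))
  refine ⟨cj h P, hS.isPGroup.to_le (PR.le.trans lh), fun y hy p => by_contra fun ny => ?_, fun c => ?_⟩
  · have hD := hR'.inf_normal' (centralizer_le_normalizer _) (normalizer_le_normalizer_centralizer _)
    obtain ⟨c, hc, k, hk, e⟩ := hD.frattini (normalizer_le_normalizer_centralizer _ hn)
    have k1 : k ∈ 𝐍 (cj h P) := (mul_mem_cancel_left (centralizer_le_normalizer _ hc)).1 (e ▸ hn)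
    refine fin (cj h P ⊔ cj h R ⊓ 𝐂 (cj h P)) c k (sup_le (PR.le.trans lh) (inf_le_left.trans lh))
      (left_lt_sup.2 fun l => ny ?_) hc (le_normalizer_sup (zpowers_le.2 k1) (zpowers_le.2 hk) (mem_zpowers k)) e
    obtain ⟨d, hd, l'⟩ := hD.exists_le_conj (isPGroup_zpowers p.choose_spec) (zpowers_le.2 hy)
    exact cj_le_of_mem_normalizer l (centralizer_le_normalizer _ hd) (l' (mem_zpowers y))
  · obtain ⟨e, he, k, hk, e'⟩ := frat hR' (le_normalizer hn)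
    exact fin _ e k lh PR (c.cen (hR'.isPGroup.to_le PR.le) le_rfl (le_normalizer_of_le le_normalizer) he) hk e'

/-- good vertices -/
structure Gd (B L : Subgroup X) : Prop where
  hh : HH X
  vx : Vx 2 L
  syl : IsSylowIn 2 B L
  key : ∀ U : Subgroup X, Tc U → ¬ NT (𝐍 U) → ∀ R : Subgroup X, IsPGroup 2 R → B ≤ R → R ≤ 𝐍 U → bm 2 R = B
  cen : Cc B
  nz : NT (𝐍 (zj 2 B))

theorem Gd.conj (k : Gd B L) (g : X) : Gd (cj g B) (cj g L) :=
  ⟨k.hh, k.vx.conj g, k.syl.conj g, fun U a b R c d e => by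
    rw [← cj_cj_inv g R, ← cj_bm, k.key _ (a.conj g⁻¹) (fun f => b (by
      simpa only [cj_normalizer, cj_cj_inv] using f.conj g)) _ (isPGroup_cj _ c) (cj_le_iff.1 d)
      (cj_normalizer g⁻¹ U ▸ cj_mono _ e)], k.cen.conj g, by
    have := k.nz.conj g
    rwa [cj_normalizer, zj, cj_omegaOneCenter, cj_JJ] at this⟩

theorem step1 (hh : HH X) (p0 : IsPGroup 2 P) (c0 : Cc P) (n0 : ¬ NT (𝐍 P)) : ∃ B L : Subgroup X, Gd B L := by
  let 𝓟 : Set (Subgroup X) := {P | IsPGroup 2 P ∧ Cc P ∧ ∃ U, Tc U ∧ P ≤ 𝐍 U ∧ ¬ NT (𝐍 U)}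
  obtain ⟨P, hP, m⟩ := Set.exists_max_image 𝓟 (fun P => toLex (# (exists_maxAb 2 P).choose,
    toLex (# (JJ 2 P), # (bm 2 P)))) (Set.toFinite _) ⟨P, p0, c0, P, (c0.tc p0).mono p0 (omegaOneCenter_le _ _),
      le_normalizer, n0⟩
  have key : ∀ S ∈ 𝓟, bm 2 P ≤ S → bm 2 S = bm 2 P := fun S hS l => by
    have h1 := (exists_maxAb 2 P).choose_spec
    have h2 := (exists_maxAb 2 S).choose_spec
    have h3 := h2.card_le (h1.le_JJ.trans (JJ_le_bm.trans l)) h1.abE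
    have h4 := m S hS
    simp only [Prod.Lex.toLex_le_toLex] at h4
    obtain ⟨h5, h4⟩ := h4.resolve_left h3.not_gt
    have h6 := JJ_mono_of_mem (JJ_le_bm.trans l) (h2.of_card_le (h1.le_JJ.trans (JJ_le_bm.trans l)) h1.abE h5.le)
      h1.le_JJ
    rw [JJ_JJ] at h6
    obtain ⟨h7, h4⟩ := h4.resolve_left (card_le_of_le' h6).not_gt
    refine (eq_of_le_of_card_le (le_inf l ?_) h4).symm
    rw [zj, ← eq_of_le_of_card_le h6 h7.le]; exact inf_le_right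
  clear m
  obtain ⟨p1, p2, U, u1, u2, u3⟩ := hP
  set B := bm 2 P with eB
  have pB : IsPGroup 2 B := p1.to_le bm_le
  obtain ⟨S, hS, l⟩ := exists_isSylowIn_ge p1 le_top
  have eZ : ∀ S, bm 2 S = B → zj 2 S = zj 2 P := fun S e => by
    rw [zj, zj, ← JJ_eq_of_le JJ_le_bm bm_le, e, JJ_eq_of_le JJ_le_bm bm_le]
  have nZ : NT (𝐍 (zj 2 P)) := by_contra fun c => by
    have l1 : P ≤ S ⊓ 𝐍 (zj 2 P) := le_inf l (nrm_zj le_normalizer)
    have e' := eZ _ (key (S ⊓ 𝐍 (zj 2 P)) ⟨hS.isPGroup.to_le inf_le_left, p2.mono l1, _,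
      (p2.tc p1).mono (p1.to_le zj_le) (Ω_le_zj dvd_rfl), inf_le_right, c⟩ (bm_le.trans l1))
    rw [eq_of_inf_normalizer_le hS.isPGroup inf_le_left (inf_le_inf_left _ ((nrm_zj le_rfl).trans_eq
      (congrArg (fun H : Subgroup X => 𝐍 H) e')))] at e'
    exact c (e' ▸ hh.ntzj hS)
  have bB : bm 2 B = B := bm_eq_of_le le_rfl bm_le
  have nZ' : NT (𝐍 (zj 2 B)) := (eZ B bB).symm ▸ nZ
  have nJ : NT (𝐍 (JJ 2 B)) := nZ'.mono (normalizer_le_normalizer_omegaOneCenter 2 _)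
  obtain ⟨R, hR, lR⟩ := exists_isSylowIn_ge p1 u2
  have eR := key R ⟨hR.isPGroup, p2.mono lR, U, u1, hR.le, u3⟩ (bm_le.trans lR)
  obtain ⟨S', hS', l'⟩ := exists_isSylowIn_ge hR.isPGroup le_top
  have t2 := (p2.mono lR).Ω_le l'
  obtain ⟨L, v, s⟩ := exists_vx hR eR u1.1 (hh.cen u1) (nJ.mono (normalizer_le_normalizer_JJ 2 B)) nJ
    (t2.trans (eR ▸ le_inf (omegaOneCenter_le _ _) ((omegaOneCenter_le_centralizer _ _).trans (centralizer_anti zj_le))))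
    t2 (hh.ntC hS') u3
  have ZB := v.Z_le_S s
  have cB : Cc B := fun x hx p => by
    have l1 : B ⊔ zpowers x ≤ 𝐍 (Z₂ L) := sup_le (s.le.trans (le_normalizer_Z 2 L))
      (zpowers_le.2 (centralizer_le_normalizer _ (centralizer_anti ZB hx)))
    obtain ⟨R, hR, lR⟩ := exists_isSylowIn_ge (isPGroup_sup_of_le_normalizer' pB (isPGroup_zpowers p.choose_spec)
      (zpowers_le.2 (centralizer_le_normalizer _ hx))) l1
    have e := key R ⟨hR.isPGroup, cc_syl hR (ZB.trans (le_sup_left.trans lR)), _, (p2.tc p1).mono (pB.to_le ZB)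
      ((le_omegaOneCenter (le_inf (omegaOneCenter_le _ _) ((omegaOneCenter_le_centralizer _ _).trans
        (centralizer_anti zj_le))) ((omegaOneCenter_le_centralizer _ _).trans (centralizer_anti bm_le))
        fun x hx => (mem_omegaOneCenter.1 hx).2.2).trans s.omegaOneCenter_le_Z), hR.le,
      fun c => not_nt v (c.mono (le_normalizer_Z 2 L))⟩ (le_sup_left.trans lR)
    refine e.le ⟨lR (mem_sup_right (mem_zpowers x)), ?_⟩
    rw [eZ _ e, ← eZ B bB]; exact centralizer_anti zj_le hx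
  exact ⟨B, L, hh, v, s, fun U a b R c d e => key R ⟨c, cB.mono d, U, a, e, b⟩ d, cB, nZ'⟩

end H4.OX
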