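import Cfsg.Agent.H4.OX3

/-! Good vertices (adapted from `H4.Bm`); the field has two elements. -/

set_option autoImplicit false
set_option linter.unusedVariables false
set_option linter.unusedSectionVars false
set_option linter.style.haveILetI false

namespace H4.OX
open H9 hiding zj
open Matrix hiding mul_inv_rev
open H29.PU hiding Rk1 Vx Crit crit Am Bad W5 T2 le_C_of_normal
open H4.Bm hiding Gd Gt GV Pa P2 DG St Ds Bt ext no_crit hull step1 phi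
open Cfsg Subgroup H28 H28.GC MatrixGroups H29 H29.BB H4.PV Equiv
open scoped commutatorElement

universe u
variable {X : Type u} [Group X] [Finite X] {A A' B B' C D E E' F H J K L L' L₀ L₁ L₂ B₀ M N O P Q R S S' T T' U V W Y : Subgroup X}
  {a b c d e f g l m n t u v w x y z : X}

namespace Gd
variable (k : Gd B L)
include k

theorem rk : Rk1 2 L := k.vx.toRk1
theorem pg : IsPGroup 2 B := k.syl.isPGroup
theorem le : B ≤ L := k.syl.le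
theorem QB : O₂ L ≤ B := k.syl.pCoreOf_le
theorem ZB : Z₂ L ≤ B := k.vx.Z_le_S k.syl
theorem ZQ : Z₂ L ≤ O₂ L := k.vx.Z_le_Q
theorem QC : O₂ L ≤ 𝐂 (Z₂ L) := k.vx.Q_le_C
theorem ZC : Z₂ L ≤ 𝐂 (O₂ L) := k.vx.Z_le_C
theorem ZZ : Z₂ L ≤ 𝐂 (Z₂ L) := k.vx.Z_comm
theorem ea : IsElementaryAbelian 2 (Z₂ L) := k.vx.ea
theorem ΩZ : Ω₂ B ≤ Z₂ L := k.syl.omegaOneCenter_le_Z
theorem nZ : L ≤ 𝐍 (Z₂ L) := le_normalizer_Z 2 L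
theorem nQ : L ≤ 𝐍 (O₂ L) := le_normalizer_pCoreOf 2 L
theorem nE : L ≤ 𝐍 (O² L) := le_normalizer_pResidualOf 2 L
theorem EL : O² L ≤ L := pResidualOf_le 2 L
theorem EB : O² L ⊔ B = L := k.syl.pResidualOf_sup
theorem nW : L ≤ 𝐍 (𝐖ᵥ L) := le_normalizer_commutator k.nZ k.nE
theorem WZ : 𝐖ᵥ L ≤ Z₂ L := commutator_le_of_le_normalizer (k.EL.trans k.nZ)
theorem WE : 𝐖ᵥ L ≤ O² L := commutator_le_of_le_normalizer' ((Z_le 2 L).trans k.nE)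
theorem ZL : ⁅Z₂ L, L⁆ ≤ 𝐖ᵥ L := k.vx.comm_le_res
theorem YW : ⁅Z₂ L, B⁆ ≤ 𝐖ᵥ L := (commutator_mono le_rfl k.le).trans k.ZL
theorem YΩ : ⁅Z₂ L, B⁆ ≤ Ω₂ B := k.vx.comm_le_Ω k.syl
theorem nCE : L ≤ 𝐍 (𝐂 (O² L)) := le_normalizer_centralizer k.nE
theorem cenE (hz : z ∈ Z₂ L) (h : z ∈ 𝐂 (O² L)) : z ∈ 𝐂 L := k.vx.cen_res ⟨hz, h⟩
theorem CE : 𝐂 L ≤ 𝐂 (O² L) := centralizer_anti k.EL
theorem not_Y : ¬ ⁅Z₂ L, B⁆ ≤ 𝐂 (O² L) := fun h => k.vx.not_comm_le k.syl fun y hy => k.cenE (k.ΩZ (k.YΩ hy)) (h hy)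
theorem memQ (hb : b ∈ B) (h : b ∈ 𝐂 (Z₂ L)) : b ∈ O₂ L := k.vx.mem_Q k.syl hb h
theorem leQ (h1 : A ≤ B) (h2 : A ≤ 𝐂 (Z₂ L)) : A ≤ O₂ L := k.vx.le_Q k.syl h1 h2
theorem tcΩ : Tc (Ω₂ B) := k.cen.tc k.pg
theorem tcZ : Tc (Z₂ L) := k.tcΩ.mono (k.pg.to_le k.ZB) k.ΩZ
theorem amb (h : Tc U) (l : L ≤ 𝐍 U) (hR : IsPGroup 2 R) (h1 : B ≤ R) (h2 : R ≤ 𝐍 U) : bm 2 R = B :=
  k.key U h (fun c => not_nt k.vx (c.mono l)) R hR h1 h2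
theorem bm_eq : bm 2 B = B := k.amb k.tcZ k.nZ k.pg le_rfl (k.le.trans k.nZ)
theorem zj_eq : zj 2 B = Ω₂ B := le_antisymm (le_omegaOneCenter zj_le (le_centralizer_comm.1 (k.bm_eq.ge.trans inf_le_right))
  fun x hx => (mem_omegaOneCenter.1 hx).2.2) (Ω_le_zj dvd_rfl)

theorem off : ∃ A, MaxAb 2 B A ∧ ¬ A ≤ O₂ L := by
  by_contra! c
  have e := JJ_eq_of_le (JJ_le_iff.2 c) k.QB
  have : L ≤ 𝐍 (Ω₂ B) := by rw [← k.zj_eq, zj, ← e]; exact nrm_zj k.nQ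
  exact k.vx.not_Z_le_Ω k.syl (k.syl.Z_eq ▸ nclIn_le le_rfl this)

theorem sup (hA : MaxAb 2 B A) (n : ¬ A ≤ O₂ L) : A ⊔ O₂ L = B := (k.vx.max k.syl dvd_rfl hA n).1
theorem max (hA : MaxAb 2 B A) (n : ¬ A ≤ O₂ L) : MaxAb 2 B (A ⊓ O₂ L ⊔ Z₂ L) := (k.vx.max k.syl dvd_rfl hA n).2
theorem ZJ : Z₂ L ≤ JJ 2 B := let ⟨A, h, n⟩ := k.off; le_sup_right.trans (k.max h n).le_JJ
theorem Z_le_max (hA : MaxAb 2 B A) (h : A ≤ O₂ L) : Z₂ L ≤ A :=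
  hA.le_of_le_centralizer k.ZB (abE_iff_ea.2 k.ea) (k.ZC.trans (centralizer_anti h))
theorem comm_of_sup (h : A ⊔ O₂ L = B) : ⁅Z₂ L, B⁆ = ⁅Z₂ L, A⁆ := by
  conv_lhs => rw [← h]
  exact comm_sup_cen k.QC ((le_sup_left.trans h.le).trans (k.le.trans k.nZ))
theorem supJ : JJ 2 B ⊔ O₂ L = B := let ⟨A, h, n⟩ := k.off
  le_antisymm (sup_le (JJ_le 2 B) k.QB) ((k.sup h n).ge.trans (sup_le_sup_right h.le_JJ _))
theorem YJ : ⁅Z₂ L, B⁆ = ⁅Z₂ L, JJ 2 B⁆ := k.comm_of_sup k.supJ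

theorem V_le : V₂ L ≤ Z₂ L := fun u hu => by
  obtain ⟨A, hA, n⟩ := k.off
  obtain ⟨u1, u2, u3⟩ := mem_omegaOneCenter.1 hu
  have := (k.max hA n).mem_of_mem_centralizer (k.QB u1) u3 (centralizer_anti (sup_le inf_le_right k.ZQ) u2)
  obtain ⟨a, ha, z, hz, rfl⟩ := (mem_sup_of_le_normalizer (inf_le_right.trans ((k.QB.trans k.le).trans k.nZ))).1 this
  refine mul_mem (k.ΩZ (mem_omegaOneCenter.2 ⟨hA.le ha.1, ?_, (isElementaryAbelian_iff.1 hA.ea).2 a ha.1⟩)) hz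
  rw [← k.sup hA n, centralizer_sup]
  exact ⟨hA.comm ha.1, (mul_mem_cancel_right (k.ZC hz)).1 u2⟩

theorem mem_Z (hu : u ∈ B) (c : u ∈ 𝐂 (O₂ L)) (u2 : u * u = 1) : u ∈ Z₂ L :=
  k.V_le (mem_omegaOneCenter.2 ⟨k.memQ hu (centralizer_anti k.ZQ c), c, sq_pow u2⟩)

theorem tr (hx : x ∈ Z₂ L) (hy : y ∈ Z₂ L) (x1 : x ∉ 𝐂 L) (y1 : y ∉ 𝐂 L) : ∃ l ∈ L, l * x * l⁻¹ * y⁻¹ ∈ 𝐂 L := by
  obtain ⟨S', -, -, F, _, _, -, ⟨N⟩⟩ := k.vx.ns' k.syl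
  obtain ⟨g, -, e⟩ := BB.trans (mt (N.mem_C_iff hx).2 x1) (mt (N.mem_C_iff hy).2 y1)
  obtain ⟨l, hl, rfl⟩ := N.π_surj g
  have := conj_mem_of_mem_normalizer (k.nZ hl) hx
  exact ⟨l, hl, (N.mem_C_iff (mul_mem this (inv_mem hy))).2 (by
    rw [N.mul _ this _ (inv_mem hy), N.inv hy, N.equi l hl x hx, ← smul_eq, e, add_neg_cancel])⟩

theorem CΩ (hz : z ∈ Z₂ L) (h : z ∈ 𝐂 L) : z ∈ Ω₂ B := k.vx.C_le_Ω k.syl ⟨hz, h⟩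

theorem tr' (hx : x ∈ Z₂ L) (hy : y ∈ Ω₂ B) (x1 : x ∉ 𝐂 L) (y1 : y ∉ 𝐂 L) :
    ∃ l ∈ L, l * x * l⁻¹ ∈ Ω₂ B ∧ l * x * l⁻¹ * y⁻¹ ∈ 𝐂 L := by
  obtain ⟨l, hl, e⟩ := k.tr hx (k.ΩZ hy) x1 y1
  refine ⟨l, hl, ?_, e⟩
  simpa using mul_mem (k.CΩ (mul_mem (conj_mem_of_mem_normalizer (k.nZ hl) hx) (inv_mem (k.ΩZ hy))) e) hy

theorem toΩ (hu : u ∈ Z₂ L) : ∃ l ∈ L, l * u * l⁻¹ ∈ Ω₂ B := by
  by_cases c : u ∈ 𝐂 L
  · exact ⟨1, one_mem _, by simpa using k.CΩ hu c⟩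
  obtain ⟨y, hy, y1⟩ := SetLike.not_le_iff_exists.1 (k.vx.not_comm_le k.syl)
  exact let ⟨l, hl, e, _⟩ := k.tr' hu (k.YΩ hy) c y1; ⟨l, hl, e⟩

theorem decΩ (hu : u ∈ Ω₂ B) : ∃ y ∈ ⁅Z₂ L, B⁆, ∃ c ∈ Z₂ L ⊓ 𝐂 L, y * c = u :=
  (mem_sup_of_le_normalizer (le_normalizer_of_le_centralizer (((k.YΩ.trans k.ΩZ).trans k.ZZ).trans
    (centralizer_anti inf_le_left)))).1 (k.vx.Ω_le k.syl hu)

theorem decZ (hu : u ∈ Z₂ L) : ∃ w ∈ 𝐖ᵥ L, ∃ c ∈ Z₂ L ⊓ 𝐂 L, w * c = u :=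
  (mem_sup_of_le_normalizer (le_normalizer_of_le_centralizer ((k.WZ.trans k.ZZ).trans
    (centralizer_anti inf_le_left)))).1 (k.vx.Z_le hu)

theorem oppE : ∃ e ∈ O² L, B ⊔ cj e B = L := by
  obtain ⟨g, hg, e⟩ := k.rk.exists_opp k.syl
  rw [← k.EB] at hg
  obtain ⟨a, ha, b, hb, rfl⟩ := (mem_sup_of_le_normalizer' (k.le.trans k.nE)).1 hg
  exact ⟨a, ha, by rwa [← cj_cj, cj_eq_self_of_mem hb] at e⟩

theorem conj' (hl : l ∈ L) : Gd (cj l B) L := by simpa only [cj_eq_self_of_mem hl] using k.conj l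
theorem conjN (hl : l ∈ 𝐍 B) : Gd B (cj l L) := by simpa only [cj_eq_self hl] using k.conj l

theorem WΩ (hw : w ∈ 𝐖ᵥ L) (h : w ∈ Ω₂ B) : w ∈ ⁅Z₂ L, B⁆ := by
  obtain ⟨l, hl, o⟩ := k.oppE
  have k' := k.conj' (k.EL hl)
  have n : ∀ {B B' : Subgroup X}, Gd B L → Gd B' L → B ≤ 𝐍 (⁅Z₂ L, B⁆ ⊔ ⁅Z₂ L, B'⁆ : Subgroup X) := fun k k' =>
    H28.le_normalizer_of_commutator_le ((commutator_mono (sup_le (k.YW.trans k.WZ) (k'.YW.trans k.WZ)) le_rfl).trans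
      le_sup_left) le_rfl
  have : ⁅Z₂ L, B ⊔ cj l B⁆ ≤ ⁅Z₂ L, B⁆ ⊔ ⁅Z₂ L, cj l B⁆ :=
    commutator_sup_le' (n k k') (by rw [sup_comm]; exact n k' k) le_sup_left le_sup_right
  rw [o] at this
  obtain ⟨a, ha, b, hb, rfl⟩ := (mem_sup_of_le_normalizer (le_normalizer_of_le_centralizer
    (((k.YW.trans k.WZ).trans k.ZZ).trans (centralizer_anti (k'.YW.trans k.WZ))))).1
    (((commutator_mono le_rfl k.EL).trans this) hw)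
  have c := Ω_inf_le o ⟨(mul_mem_cancel_left (k.YΩ ha)).1 h, k'.YΩ hb⟩
  refine mul_mem ha ?_
  rw [← cj_eq_self (k.nZ (k.EL hl)), ← cj_commutator, mem_cj] at hb
  rwa [← conj_eq_of_cen (inv_mem (k.EL hl)) c, inv_inv]

theorem WC (hw : w ∈ 𝐖ᵥ L) (h : w ∈ 𝐂 L) : w ∈ ⁅Z₂ L, B⁆ := k.WΩ hw (k.CΩ (k.WZ hw) h)

theorem res_le (hN : L ≤ 𝐍 N) (hx : x ∈ B) (n : x ∉ O₂ L) (h : x ∈ N) : O² L ≤ N := k.rk.res_le k.syl hN hx n h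

theorem gen (hl : l ∈ L) (o : B ⊔ cj l B = L) (hx : x ∈ B) (n : x ∉ O₂ L) (h1 : cj l B ≤ H) (h2 : x ∈ H) : L ≤ H :=
  k.rk.gen (k.syl.conj_of_mem hl) k.syl (sup_comm B _ ▸ o) hx n h1 h2


theorem of_syl (s : IsSylowIn 2 S L) : Gd S L := let ⟨l, hl, e⟩ := k.syl.exists_conj s; e ▸ k.conj' hl

theorem comm_max (hA : MaxAb 2 B A) : ⁅A ⊓ O₂ L ⊔ Z₂ L, A⁆ ≤ Z₂ L :=
  commutator_sup_le (inf_le_right.trans ((pCoreOf_le 2 L).trans k.nZ)) le_normalizer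
    ((commutator_eq_bot_iff.2 (inf_le_left.trans hA.comm)).le.trans bot_le)
    (commutator_le_of_le_normalizer ((hA.le.trans k.le).trans k.nZ))

theorem ntΩ : NT (𝐍 (Ω₂ B)) := k.zj_eq ▸ k.nz
theorem ntN (hR : IsPGroup 2 R) (l : B ≤ R) : NT (𝐍 R) := by_contra fun c => c (k.nz.mono ((nrm_bm le_rfl).trans (by
  rw [k.key R (k.tcΩ.mono hR ((omegaOneCenter_le _ _).trans l)) c R hR l le_normalizer]; exact nrm_zj le_rfl)))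
theorem LP : L ≤ 𝐏 (⊤ : Subgroup X) :=
  (k.rk.nclIn_eq k.syl).ge.trans (k.syl.nclIn_eq.le.trans (pElementClosure_mono le_top))
theorem ΩΩ (l : B ≤ S) : Ω₂ S ≤ Ω₂ B := k.cen.Ω_le l
theorem TC (hS : IsSylowIn 2 S ⊤) : ¬ Ω₂ S ≤ 𝐂 L := fun c => not_nt k.vx ((k.hh.ntC hS).mono (le_centralizer_comm.1 c))

theorem nΩ_of {F : Type} [Field F] (N : NS 2 F L (Z₂ L) ⊥ B S') (hg : g ∈ L) (e : N.π g 1 0 = 0) : g ∈ 𝐍 (Ω₂ B) :=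
  mem_normalizer_of_cj_le (by
    rintro _ ⟨z, hz, rfl⟩
    refine (k.vx.mem_Ω_iff k.syl N (conj_mem_of_mem_normalizer (k.nZ hg) (k.ΩZ hz))).2 ?_
    rw [N.equi g hg z (k.ΩZ hz), ← smul_eq, smul1, e, (k.vx.mem_Ω_iff k.syl N (k.ΩZ hz)).1 hz]; simp)

theorem opp (s : IsSylowIn 2 B' L) : B ⊔ B' = L ∨ ∃ g ∈ L ⊓ 𝐂 (O₂ L), cj g B = B' := by
  obtain ⟨g, hg, rfl⟩ := k.syl.exists_conj s
  obtain ⟨M, r⟩ := k.rk.r1 k.syl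
  refine or_iff_not_imp_left.2 fun c => ?_
  obtain ⟨S', -, -, F, _, _, -, ⟨N⟩⟩ := k.vx.ns' k.syl
  have n := k.nΩ_of N hg ((N.mem_iff r hg).1 (by_contra fun e => c (r.sup_cj hg e)))
  have l : B ≤ L ⊓ 𝐍 (Ω₂ B) := le_inf k.le (le_normalizer.trans (normalizer_le_normalizer_omegaOneCenter 2 B))
  obtain ⟨e, he, a, b⟩ := (k.ntΩ.mono inf_le_right).sylE (k.syl.mono l inf_le_left)
    (s.mono (cj_le_of_mem l ⟨hg, n⟩) inf_le_left)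
  exact ⟨e, ⟨(U_le he).1, centralizer_anti (le_inf k.QB s.pCoreOf_le) b⟩, a⟩

theorem climb (hg : g ∈ L) (n : g ∈ 𝐍 (Ω₂ B)) : ∃ S, IsSylowIn 2 S ⊤ ∧ B ≤ S ∧ ∃ m ∈ 𝐍 S ⊓ 𝐏 (⊤ : Subgroup X),
    ∀ v ∈ Ω₂ B, m * v * m⁻¹ = g * v * g⁻¹ := by
  have st : ∀ {K R : Subgroup X} {m : X}, IsSylowIn 2 R K → m ∈ K → 𝐔 K ≤ 𝐂 (Ω₂ B) → m ∈ 𝐏 (⊤ : Subgroup X) →
      (∀ v ∈ Ω₂ B, m * v * m⁻¹ = g * v * g⁻¹) → ∃ m ∈ 𝐍 R ⊓ 𝐏 (⊤ : Subgroup X),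
      ∀ v ∈ Ω₂ B, m * v * m⁻¹ = g * v * g⁻¹ := fun {K R m} a b c d f => by
    obtain ⟨e, he, m, hm, rfl⟩ := frat a (le_normalizer b)
    refine ⟨m, ⟨hm, (mul_mem_cancel_left (U_P he)).1 d⟩, fun v hv => ?_⟩
    rw [← mem_c''.1 (cen_le_c (conj_mem_of_mem_normalizer n hv) (inv_mem (c he))), ← f v hv]; group
  have l : B ≤ L ⊓ 𝐍 (Ω₂ B) := le_inf k.le (le_normalizer.trans (normalizer_le_normalizer_omegaOneCenter 2 B))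
  obtain ⟨P, ⟨p1, p2, m, hm, p3⟩, mx⟩ := Set.exists_max_image {P : Subgroup X | IsPGroup 2 P ∧ B ≤ P ∧
    ∃ m ∈ 𝐍 P ⊓ 𝐏 (⊤ : Subgroup X), ∀ v ∈ Ω₂ B, m * v * m⁻¹ = g * v * g⁻¹} (fun P => # P) (Set.toFinite _)
    ⟨B, k.pg, le_rfl, st (k.syl.mono l inf_le_left) ⟨hg, n⟩ ((k.ntΩ.mono inf_le_right).cen k.tcΩ.1 inf_le_right
      (le_normalizer_of_le ((omegaOneCenter_le _ _).trans l))) (k.LP hg) fun _ _ => rfl⟩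
  obtain ⟨R, hR, lR⟩ := exists_isSylowIn_ge p1 (le_normalizer : P ≤ 𝐍 P)
  obtain rfl := eq_of_le_of_card_le lR (mx R ⟨hR.isPGroup, p2.trans lR, st hR hm.1 (((k.ntN p1 p2).cen p1 le_rfl
    (le_normalizer_of_le le_normalizer)).trans (centralizer_anti ((omegaOneCenter_le _ _).trans p2))) hm.2 p3⟩)
  exact ⟨P, .of_inf_normalizer (by rwa [top_inf_eq]), p2, m, hm, p3⟩

theorem two : Two B (O₂ L) := fun a ha b hb a1 b1 => by_contra fun ab => by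
  obtain ⟨S', -, -, F, _, _, -, ⟨N⟩⟩ := k.vx.ns' k.syl
  have c2 : (2 : F) = 0 := by
    obtain ⟨s, hs, e⟩ := N.up' 1
    have := (N.inj _ (pow_mem hs 2)).2 (k.rk.pow k.syl hs)
    rwa [N.π_pow (k.le hs), e, x_pow, H13.SL2.x_eq_one, mul_one] at this
  obtain ⟨s, s0, es⟩ := N.up_ne ha a1
  obtain ⟨t, t0, et⟩ := N.up_ne hb b1
  have st : s ≠ t := fun e => ab ((N.inj _ (mul_mem ha hb)).1 (by
    rw [N.π_mul _ (k.le ha) _ (k.le hb), es, et, e, ← H13.SL2.x_add, ← two_mul, c2, zero_mul, H13.SL2.x_zero]))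
  obtain ⟨ν, hν⟩ := IsCyclic.exists_generator (α := Fˣ)
  obtain ⟨g, hg, e⟩ := N.π_surj (mk2 (ν : F) 0 0 (ν⁻¹ : Fˣ) (by simp))
  obtain ⟨j, o⟩ := exists_pow_coprime (p := 2) (isOfFinOrder_of_finite g)
  have bo : N.π g ∈ bor F := by rw [e, mem_bor]; rfl
  have e0 : N.π (g ^ 2 ^ j) 0 0 = (ν ^ 2 ^ j : Fˣ) := by rw [N.π_pow hg, bor_pow bo, e]; simp
  have e1 : N.π (g ^ 2 ^ j) 1 0 = 0 := by rw [N.π_pow hg]; exact pow_mem bo _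
  have od : (2 ^ j).Coprime (orderOf ν) := by
    rw [orderOf_eq_card_of_forall_mem_zpowers hν, Nat.card_units, Nat.card_eq_fintype_card]
    have := FiniteField.even_card_of_char_two (F := F) (CharP.ringChar_of_prime_eq_zero Nat.prime_two c2)
    have := Fintype.card_pos (α := F)
    exact Nat.Coprime.pow_left _ ((Nat.coprime_two_left).2 (Nat.odd_iff.2 (by omega)))
  have hμ : ∀ u : Fˣ, u ∈ zpowers (ν ^ 2 ^ j) := fun u => zpowers_le.2 (mem_zpowers_pow_iff.2 od) (hν u)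
  replace hg := pow_mem hg (2 ^ j)
  generalize g ^ 2 ^ j = g at hg o e0 e1
  generalize ν ^ 2 ^ j = μ at e0 hμ
  have n := k.nΩ_of N hg e1
  obtain ⟨S, hS, l, m, hm, f⟩ := k.climb hg n
  obtain ⟨h, hh, o', f'⟩ := H3.exists_coprime_same_action n o f
  have lΩ := k.ΩΩ l
  have nT : h ∈ 𝐍 (Ω₂ S) := normalizer_le_normalizer_omegaOneCenter 2 S (zpowers_le.2 hm.1 hh)
  have act : ∀ v ∈ Ω₂ S, N.ψ (h * v * h⁻¹) 0 = μ * N.ψ v 0 := fun v hv => by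
    rw [f' v (lΩ hv), N.equi g hg v (k.ΩZ (lΩ hv)), ← smul_eq, smul0, e0,
      (k.vx.mem_Ω_iff k.syl N (k.ΩZ (lΩ hv))).1 (lΩ hv), mul_zero, add_zero]
  have actp : ∀ v ∈ Ω₂ S, ∀ i : ℕ, N.ψ (h ^ i * v * (h ^ i)⁻¹) 0 = (μ ^ i : Fˣ) * N.ψ v 0 := fun v hv i => by
    induction i with
    | zero => simp
    | succ i ih =>
      rw [show h ^ (i + 1) * v * (h ^ (i + 1))⁻¹ = h * (h ^ i * v * (h ^ i)⁻¹) * h⁻¹ by group,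
        act _ (conj_mem_of_mem_normalizer (pow_mem nT i) hv), ih, pow_succ', Units.val_mul, mul_assoc]
  have z0 : ∀ v ∈ Ω₂ S, N.ψ v 0 = 0 ↔ v ∈ 𝐂 L := fun v hv => ⟨fun c => (N.mem_C_iff (k.ΩZ (lΩ hv))).2
    (vec_eq_zero c ((k.vx.mem_Ω_iff k.syl N (k.ΩZ (lΩ hv))).1 (lΩ hv))), fun c => by
      rw [(N.mem_C_iff (k.ΩZ (lΩ hv))).1 c]; rfl⟩
  obtain ⟨v, hv, v1⟩ := SetLike.not_le_iff_exists.1 (k.TC hS)
  have v0 := mt (z0 v hv).1 v1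
  have μ1 : (μ : F) ≠ 1 := fun c => st (by
    have : ∀ u : Fˣ, u = 1 := fun u => by simpa [Units.val_eq_one.1 c] using hμ u
    rw [← Units.val_mk0 s0, ← Units.val_mk0 t0, this (Units.mk0 s s0), this (Units.mk0 t t0)])
  have c1 := N.card_eq (lΩ.trans k.ΩZ) (K := 𝐂 (zpowers h)) (Pi.evalAddMonoidHom _ 0) (fun w hw => by
    rw [centralizer_zpowers, mem_c'']
    refine ⟨fun c => ?_, fun c => ?_⟩
    · rw [← mem_c'', mem_c_symm, mem_c'', f' w (lΩ hw), conj_eq_of_cen hg ((z0 w hw).1 c)]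
    · have := act w hw
      rw [← mem_c'', mem_c_symm, mem_c''] at c
      rw [c] at this
      exact (mul_left_eq_self₀.1 this.symm).resolve_left μ1) fun u => by
    by_cases c : u = 0
    · exact ⟨1, one_mem _, by rw [N.one, c]; rfl⟩
    obtain ⟨i, hi⟩ := mem_powers_iff_mem_zpowers.2 (hμ (Units.mk0 _ (div_ne_zero c v0)))
    exact ⟨_, conj_mem_of_mem_normalizer (pow_mem nT i) hv, (actp v hv i).trans (by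
      rw [show μ ^ i = _ from hi, Units.val_mk0, div_mul_cancel₀ _ v0])⟩
  have c3 := card_centralizer_mul_card_commutator (ea_le_centralizer (ea_omegaOneCenter 2 S)) nT
  rw [c1, mul_comm] at c3
  obtain ⟨-, a, hx⟩ := k.hh S hS
  refine hx.cnt _ (omegaOneCenter_le _ _) (ea_omegaOneCenter 2 S) (normalizer_le_normalizer_omegaOneCenter 2 S hx.nrm)
    h nT (zpowers_le.2 hm.2 hh) o' ?_
  rw [Nat.eq_of_mul_eq_mul_right Nat.card_pos c3, ← Nat.card_units, ← orderOf_eq_card_of_forall_mem_zpowers hμ,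
    orderOf_dvd_iff_pow_eq_one]
  have := actp v hv (orderOf h)
  rw [pow_orderOf_eq_one, one_mul, inv_one, mul_one] at this
  exact Units.ext ((mul_left_eq_self₀.1 this.symm).resolve_right v0)

end Gd

end H4.OX
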