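import Cfsg.Agent.H4.OX7

/-! Strong closure of `Ω₁Z(S)`. -/

set_option autoImplicit false
set_option linter.unusedVariables false
set_option linter.unusedSectionVars false
set_option linter.style.haveILetI false

namespace H4.OX
open H9 hiding zj
open Matrix hiding mul_inv_rev
open H29.PU hiding Rk1 Vx Crit crit Am Bad W5 T2 le_C_of_normal
open H4.Bm hiding Gd Gt GV Pa P2 DG St Ds Bt ext no_crit hull step1 phi
open Cfsg Subgroup H28 H28.GC MatrixGroups H29 H29.BB H4.PV Equiv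
open scoped commutatorElement

universe u
variable {X : Type u} [Group X] [Finite X] {A A' B B' C D E E' F H J K L L' L₀ L₁ L₂ B₀ M N O P Q R S S' T T' U V W Y : Subgroup X}
  {a b c d e f g l m n t u v w x y z : X}
variable {ρ ρ' μ l' a' z' : X}

namespace Ds
variable (s : Ds T z l a ρ)
include s

theorem eq (k : DG T z u) : u = a * (a * u) := by rw [← mul_assoc, s.da.vv, one_mul]
theorem reb' (k : DG T z u) : Ds T z l u ρ := by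
  have := s.all u k
  refine ⟨s.eq k ▸ s.reb this, s.eq k ▸ (fm_mul s.aN this).symm ▸ s.nz, fun w h => ?_⟩
  simpa [s.da.vi, k.vi, mul_assoc, ← mul_assoc a a, s.da.vv] using mul_mem (inv_mem this) (s.all w h)
theorem conj' (g : X) : Ds (cj g T) (g * z * g⁻¹) (g * l * g⁻¹) (g * a * g⁻¹) (g * ρ * g⁻¹) :=
  ⟨s.conj g, by rw [← cj_c, ← cj_inf, ← cj_zpowers, ← cj_fm]; exact cj_mono g s.nz, fun u k => by
    have := k.conj g⁻¹
    simp only [cj_inv_cj, inv_inv, mul_assoc, inv_mul_cancel_left, inv_mul_cancel, mul_one] at this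
    rw [← cj_zpowers, mem_cj]; simpa only [mul_assoc, inv_mul_cancel_left] using s.all _ this⟩
theorem conjT' (h : g ∈ T) : Ds T (g * z * g⁻¹) (g * l * g⁻¹) (g * a * g⁻¹) (g * ρ * g⁻¹) := by
  simpa only [cj_eq_self_of_mem h] using s.conj' g
theorem nl' : T ⊓ 𝐜 z ≤ 𝐍 (zpowers l) := fun _ h => (mem_fm.1 (s.nz h)).1
theorem cen₁ (h : g ∈ T ⊓ 𝐜 z) (g2 : g * g = 1) (c : g ∈ 𝐜 ρ) : g ∈ 𝐜 a := s.cen ⟨h.1, s.nz h⟩ g2 c
theorem idx (h : A ≤ T ⊓ 𝐜 z) : (𝐜 ρ).relIndex A ≤ 2 := (idx_mono (h.trans s.nl')).trans (two_idx s.two)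

theorem mx (hA : MaxAb 2 S A) (h : S ≤ T ⊓ 𝐜 z) (ha : a ∈ S) : ∃ A', MaxAb 2 S A' ∧ a ∈ A' ∧ A ⊓ 𝐜 ρ ≤ A' := by
  by_cases c : a ∈ A
  · exact ⟨A, hA, c, inf_le_left⟩
  have l : 𝐜 ρ ⊓ A ≤ 𝐂 (zpowers a) := fun x hx => centralizer_zpowers a ▸
    s.cen₁ (h (hA.le hx.2)) (sq_of_ea hA.ea hx.2) hx.1
  exact ⟨_, maxAb_sup_zpowers hA ha (sq_pow s.da.vv) c ((idx_le_of l).trans (s.idx (hA.le.trans h))),
    mem_sup_right (mem_zpowers a), le_sup_of_le_left fun x hx => ⟨hx.1, l ⟨hx.2, hx.1⟩⟩⟩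

theorem memJ (k : DG T z u) : u ∈ JJ 2 (T ⊓ 𝐜 z) :=
  let ⟨_, h⟩ := exists_maxAb 2 (T ⊓ 𝐜 z); let ⟨_, a, b, _⟩ := (s.reb' k).mx h le_rfl ⟨k.vT, k.vz⟩; a.le_JJ b

theorem lJ : zpowers l ≤ JJ 2 (T ⊓ 𝐜 z) := fun μ h => (mul_mem_cancel_left (s.memJ s.da)).1 (s.memJ (s.dg μ h))

theorem nz' (s' : St T z' l' a' ρ') (n : z ≠ z') : z ∉ zpowers l' := fun h =>
  ((mem_z2 s'.da.zz).1 (s'.c1 h s.da.zz)).elim s.da.z1 n

theorem comm2 (s' : Ds T z' l' a' ρ') (n : z ≠ z') (h1 : a' ∈ 𝐜 z) (h2 : ρ ∈ 𝐜 z') : a' ∈ 𝐜 a :=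
  s.cen₁ ⟨s'.da.vT, h1⟩ s'.da.vv ((s.c4 (s.nl' ⟨s'.da.vT, h1⟩)).resolve_right fun e => s.nz' s'.toSt n
    (e ▸ commutatorElement_mem_comm.1 (mem_fm.1 (s'.nz ⟨s.lT s.hρ, h2⟩)).2))

theorem far (hx : x ∈ T ⊓ 𝐍 (JJ 2 (T ⊓ 𝐜 z))) (n : x ∉ 𝐜 z) (k : DG T z u) (k' : DG T z v) :
    x * u * x⁻¹ ∈ 𝐜 v := by
  have l := (JJ_le 2 (T ⊓ 𝐜 z)).trans inf_le_right
  exact (s.reb' k').comm2 ((s.reb' k).conjT' hx.1) (fun e => n (mem_c''.2 e.symm))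
    (l (conj_mem_of_mem_normalizer hx.2 (s.memJ k))) (cj_c x z ▸ (cj_eq_self hx.2).ge.trans (cj_mono x l) (s.lJ s.hρ))

theorem JT : JJ 2 T = JJ 2 (T ⊓ 𝐜 z) := JJ_of s.da.pg inf_le_left fun A hA q =>
  le_inf (hA.le.trans inf_le_left) fun x hx => by_contra fun n => by
  have AT := hA.le.trans inf_le_left
  have far := fun {x u v} hx => s.far (x := x) (u := u) (v := v) (hA.le hx)
  have farl : ∀ {x v}, x ∈ A → x ∉ 𝐜 z → DG T z v → ∀ μ ∈ zpowers l, x * μ * x⁻¹ ∈ 𝐜 v := fun {x v} hx n k μ hμ =>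
    (mul_mem_cancel_left (far hx n s.da k)).1 (by rw [conj_mul]; exact far hx n (s.dg μ hμ) k)
  have zJ : z ∈ zj 2 (T ⊓ 𝐜 z) := Ω_le_zj dvd_rfl (mem_omegaOneCenter.2 ⟨⟨s.da.zT, self_mem_c z⟩,
    le_c_iff.1 inf_le_right, sq_pow s.da.zz⟩)
  have i1 : (𝐜 z).relIndex A ≤ 2 := by
    obtain ⟨H, h1, h2⟩ := s.da.f0
    refine two_idx (two_q zJ q h1 fun y hy n => ?_)
    rw [← s.ρρ, ← conj_mul]
    have := farl hy n s.da ρ s.hρ
    exact h2 _ ⟨conj_mem_of_mem_normalizer (le_normalizer (AT hy)) (s.lT s.hρ), this, (JJ_le 2 _).trans inf_le_right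
      (conj_mem_of_mem_normalizer (hA.le hy).2 (s.lJ s.hρ))⟩
  have nx : ∀ {u}, DG T z u → u ∉ 𝐜 x := fun k c => s.ncen k (s.nz ⟨k.vT, k.vz⟩) (mem_c_symm.1
    ((mul_mem_cancel_left (mem_c_symm.1 (mem_c'.1 c ▸ far hx n k s.da))).1
      (mem_c_symm.1 (mem_c'.1 c ▸ far hx n k (s.dg ρ s.hρ)))))
  have x2 := sq_of_ea hA.ea hx
  have key : ∀ {a}, Ds T z l a ρ → (𝐜 z ⊓ A ≤ 𝐜 ρ ∨ ¬ 𝐜 z ⊓ A ≤ 𝐜 a) → False := fun {a} s h => by
    have k := s.da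
    have s' := s.conjT' (AT hx)
    have k' := s'.da
    have c1 := far hx n k k
    have c2 := farl hx n k z s.zl
    have c3 := (JJ_le 2 _).trans inf_le_right (conj_mem_of_mem_normalizer (hA.le hx).2 (s.memJ k))
    have c4 := (JJ_le 2 _).trans inf_le_right (conj_mem_of_mem_normalizer (hA.le hx).2 (s.lJ s.zl))
    let U := closure {a, z, x * a * x⁻¹, x * z * x⁻¹}
    have m : ∀ y, y ∈ 𝐜 a → y ∈ 𝐜 z → y ∈ 𝐜 (x * a * x⁻¹) → y ∈ 𝐜 (x * z * x⁻¹) → y ∈ 𝐂 U := fun y a b c d =>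
      le_c_iff.1 ((closure_le _).2 (by
        rintro _ (rfl | rfl | rfl | rfl) <;> exact mem_c_symm.1 ‹_›))
    have UJ : U ≤ JJ 2 (T ⊓ 𝐜 z) := (closure_le _).2 (by
      rintro _ (rfl | rfl | rfl | rfl)
      exacts [s.memJ k, s.lJ s.zl, conj_mem_of_mem_normalizer (hA.le hx).2 (s.memJ k),
        conj_mem_of_mem_normalizer (hA.le hx).2 (s.lJ s.zl)])
    have UU : U ≤ 𝐂 U := (closure_le _).2 (by
      rintro _ (rfl | rfl | rfl | rfl)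
      exacts [m _ (self_mem_c _) k.vz (mem_c_symm.1 c1) (mem_c_symm.1 c2), m _ (mem_c_symm.1 k.vz) (self_mem_c _)
        (mem_c_symm.1 c3) (mem_c_symm.1 c4), m _ c1 c3 (self_mem_c _) k'.vz, m _ c2 c4 (mem_c_symm.1 k'.vz)
        (self_mem_c _)])
    have o := off_idx hA (UJ.trans (le_inf ((JJ_le 2 _).trans inf_le_left) le_normalizer)) (ea_closure
      (fun a ha b hb => mem_centralizer'.1 (UU (subset_closure hb)) a (subset_closure ha)) (by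
        rintro _ (rfl | rfl | rfl | rfl)
        exacts [sq_pow k.vv, sq_pow k.zz, sq_pow k'.vv, sq_pow k'.zz]))
    have cx : ∀ y ∈ A, ∀ {w}, y ∈ 𝐜 w → y ∈ 𝐜 (x * w * x⁻¹) := fun y hy w c =>
      conj_eq_of_cen hx (hA.comm hy) ▸ conj_mem_c.2 c
    have l0 : 𝐜 ρ ⊓ (𝐜 z ⊓ A) ≤ 𝐂 U := fun y hy =>
      have := s.cen₁ ⟨AT hy.2.2, hy.2.1⟩ (sq_of_ea hA.ea hy.2.2) hy.1
      m y this hy.2.1 (cx y hy.2.2 this) (cx y hy.2.2 hy.2.1)
    have i2 := (BB.relIndex_le_mul (𝐂 U) (𝐜 z) A).trans (Nat.mul_le_mul (idx_le_of l0) i1)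
    have u1 : a ∈ U := subset_closure (by simp)
    have u2 : x * a * x⁻¹ ∈ U := subset_closure (by simp)
    have i3 : 3 ≤ (𝐜 x).relIndex U := three_le u1 (subset_closure (by simp)) (nx k) (mt mem_c_symm.1 n)
      (k.vi.symm ▸ nx (k.mulz (mem_zpowers z)))
    have l1 : A ⊓ U ≤ 𝐜 x := inf_le_left.trans (hA.comm.trans (cen_le_c hx))
    rcases h with h | h
    · have := idx_le_of l1
      rw [relIndex_eq_one.2 h] at i2
      omega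
    have i4 := s.idx (A := 𝐜 z ⊓ A) (le_inf (inf_le_right.trans AT) inf_le_left)
    have i5 := idx_mul l1 (Y' := zpowers (a * (x * a * x⁻¹))) (zpowers_le.2 ⟨mem_c'.2 (by
      rw [← conj_mul, show x * (x * a * x⁻¹) * x⁻¹ = x * x * a * (x * x)⁻¹ by group, x2, one_mul, inv_one, mul_one,
        mem_c.1 c1]), mul_mem u1 u2⟩)
    have i6 : 2 ≤ A.relIndex (zpowers (a * (x * a * x⁻¹))) := two_le fun e => h fun b hb => by
      have e1 := conj_eq_of_cen hb.2 (hA.comm (e (mem_zpowers _)))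
      rw [← conj_mul, conj_eq_comm k.vv, conj_eq_comm k'.vv, mul_assoc, mul_left_cancel_iff, ← mul_assoc,
        ← eq_mul_inv_iff_mul_eq, ← eq_mul_inv_iff_mul_eq] at e1
      have e2 : ⁅a, b⁆ ∈ zpowers (x * l * x⁻¹) := e1 ▸ conj_mem_of_mem_normalizer s'.aN
        (inv_mem (mem_fm.1 (s'.nz ⟨AT hb.2, cx b hb.2 hb.1⟩)).2)
      refine mem_c_comm.2 (((mem_z2 k.zz).1 (s.c1' (mem_fm.1 (s.nz ⟨AT hb.2, hb.1⟩)).2 ?_)).resolve_right
        fun e => s.nz' s'.toSt (fun e => n (mem_c''.2 e.symm)) (e ▸ e2))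
      rw [← cj_zpowers] at e2
      obtain ⟨y, hy, e⟩ := e2
      exact e ▸ farl hx n k y hy
    nlinarith
  by_cases c : 𝐜 z ⊓ A ≤ 𝐜 a
  · exact key (s.reb' (s.dg ρ s.hρ)) (or_iff_not_imp_right.2 fun e y hy => mem_c_symm.1
      ((mul_mem_cancel_left (mem_c_symm.1 (c hy))).1 (mem_c_symm.1 (not_not.1 e hy))))
  · exact key s (.inr c)

end Ds

theorem DG.false (hh : HH X) (k : DG T z v) : False := by
  obtain ⟨-, a, hx⟩ := hh T k.syl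
  obtain ⟨l, ρ, s⟩ := k.ds
  obtain ⟨W, F, f1, f2, f3, f4, f5, vW, zW, f6, f7⟩ := k.ad
  have nT : zpowers a ≤ 𝐍 T := zpowers_le.2 hx.nrm
  have eaW : IsElementaryAbelian 2 W := isElementaryAbelian_iff.2 ⟨fun x hx y hy => mem_centralizer'.1
    (f6 (𝐂 W) (f4 ▸ ⟨self_mem_c v, k.vz⟩) (f4 ▸ ⟨mem_c_symm.1 k.vz, self_mem_c z⟩) hx) y hy, fun x hx => sq_pow (f5 x hx)⟩
  have WT : W ≤ T := f6 T k.vT k.zT
  have cm : ∀ g ∈ zpowers a, cj g W ≤ 𝐂 W := fun g hg => by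
    rcases eq_or_ne g 1 with rfl | g1
    · rw [cj_one]; exact ea_le_centralizer eaW
    have s' := s.conj' g
    rw [cj_eq_self (nT hg)] at s'
    have n : z ≠ g * z * g⁻¹ := fun e => (hx.fpf g hg z k.zT (mem_c_symm.1 (mem_c''.2 e.symm))).elim g1 k.z1
    have j : JJ 2 (T ⊓ 𝐜 (g * z * g⁻¹)) ≤ 𝐜 z := s'.JT ▸ s.JT.le.trans ((JJ_le 2 _).trans inf_le_right)
    have j' : JJ 2 (T ⊓ 𝐜 z) ≤ 𝐜 (g * z * g⁻¹) := s.JT ▸ s'.JT.le.trans ((JJ_le 2 _).trans inf_le_right)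
    rw [cj_le_iff, f4]
    refine f6 _ (mem_cj.2 ?_) (mem_cj.2 ?_) <;> rw [inv_inv]
    · exact ⟨s.comm2 s' n (j (s'.memJ s'.da)) (j' (s.lJ s.hρ)), j (s'.memJ s'.da)⟩
    · exact ⟨mem_c_symm.1 (j' (s.memJ k)), j (s'.lJ s'.zl)⟩
  let Y := ⨆ g : zpowers a, cj g.1 W
  have WY : W ≤ Y := (cj_one W).ge.trans (le_iSup (fun g : zpowers a => cj g.1 W) 1)
  have YD : Y ≤ T ⊓ 𝐂 W := iSup_le fun g => le_inf (cj_le_of_mem_normalizer WT (nT g.2)) (cm g g.2)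
  obtain ⟨x, hx', o, n⟩ : ∃ x ∈ F, (orderOf x).Coprime 2 ∧ x ∉ 𝐜 z := by
    by_contra! c
    exact f3 (le_c_iff.1 (pResidualOf_le_iff.2 c))
  have xE := zpowers_le.2 (mem_pResidualOf hx' o)
  have c1 : ⁅Y, zpowers x⁆ ≤ W := (commutator_mono YD xE).trans f1
  have nW : x ∈ 𝐍 W := H28.le_normalizer_of_commutator_le c1 WY (mem_zpowers x)
  refine hx.cnt Y (YD.trans inf_le_left) (ea_iSup (fun g => ea_cj eaW _) fun g h => ?_)
    (mem_normalizer_of_cj_le ?_) x (H28.le_normalizer_of_commutator_le (c1.trans WY) le_rfl (mem_zpowers x)) (f2 hx') o ?_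
  · rw [← cj_centralizer, le_cj_iff, cj_cj]; exact cm _ (mul_mem (inv_mem h.2) g.2)
  · rw [cj_iSup]
    exact iSup_le fun g => (cj_cj _ _ _).le.trans (le_iSup (fun g : zpowers a => cj g.1 W)
      ⟨_, mul_mem (mem_zpowers a) g.2⟩)
  have c2 := (card_le_of_le' c1).trans (Two.card_le f7 (zpowers_le.2 zW))
  rw [Nat.card_zpowers, orderOf_eq_prime (sq_pow k.zz) k.z1] at c2
  obtain ⟨i, hi⟩ := IsPGroup.iff_card.1 ((ea_isPGroup eaW).to_le c1)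
  rw [hi] at c2 ⊢
  obtain rfl | rfl | rfl : i = 0 ∨ i = 1 ∨ i = 2 := by
    have := (Nat.pow_le_pow_iff_right (a := 2) (n := i) (m := 2) (by norm_num)).1 c2
    omega
  · exact (n (mem_c_comm.2 (mem_bot.1 (card_eq_one.1 hi ▸ commutator_mem_commutator (WY zW) (mem_zpowers x))))).elim
  · exact one_dvd _
  refine by_contra fun d => n (mem_of_pow_mem_of_coprime ((Nat.prime_three.coprime_iff_not_dvd.2 d).symm) ?_)
  have m1 := conj_mem_of_mem_normalizer nW zW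
  have m2 := conj_mem_of_mem_normalizer nW m1
  have n1 : x * z * x⁻¹ ∉ zpowers z := fun e => ((mem_z2 k.zz).1 e).elim (conj_ne k.z1) (mt mem_c''.2 n)
  have n2 : x * (x * z * x⁻¹) * x⁻¹ ∉ zpowers z := fun e => ((mem_z2 k.zz).1 e).elim (conj_ne (conj_ne k.z1))
    fun e => n (mem_of_pow_mem_of_coprime o (mem_c''.2 (Eq.trans (by simp only [sq, mul_inv_rev, mul_assoc]) e)))
  have e := ((mem_z2 k.zz).1 (f7 _ m1 _ m2 n1 n2)).resolve_left fun e => n (mem_c''.2 (by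
    rw [conj_mul, conj_eq_one_iff, ← k.zz, mul_left_cancel_iff] at e; exact e))
  have e1 : x * (x * z * x⁻¹) * x⁻¹ = x * z * x⁻¹ * z :=
    mul_left_cancel (a := x * z * x⁻¹) (by rw [e, ← mul_assoc, conj_sq k.zz, one_mul])
  rw [mem_c'', show x ^ 3 * z * (x ^ 3)⁻¹ = x * (x * (x * z * x⁻¹) * x⁻¹) * x⁻¹ by
    simp only [pow_succ, pow_zero, one_mul, mul_inv_rev, mul_assoc], e1, ← conj_mul,
    comm_of_ea eaW m2 m1, e]

theorem strongly_closed (hh : HH X) (hS : IsSylowIn 2 S ⊤) (ht : t ∈ Ω₂ S) (h1 : g * t * g⁻¹ ∈ S) :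
    g * t * g⁻¹ ∈ Ω₂ S := by_contra fun h2 => by
  obtain ⟨P, p1, p2, p3⟩ := step0 hS ht h1 h2
  obtain ⟨B, L, k⟩ := step1 hh p1 p2 p3
  obtain ⟨L', k', n⟩ := k.partner
  obtain ⟨T, hT, l⟩ := exists_isSylowIn_ge k.pg le_top
  obtain ⟨z, a, b⟩ := k'.exz
  have r : P2 T B L' L z := ⟨⟨hT, l, k', k, n⟩, a, b⟩
  obtain ⟨v, c, d⟩ := r.exW
  exact DG.false hh ⟨_, _, _, r, c, d⟩

end H4.OX
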