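import Cfsg.Agent.H4.OX8
import Cfsg.Agent.H17.GF0
import Cfsg.Agent.H18.All
import Cfsg.Agent.H2.GWBen

/-! Coprime automorphisms of prime order with fixed points of odd order: solvable groups. -/

set_option autoImplicit false
set_option linter.unusedVariables false
set_option linter.unusedSectionVars false

namespace H4.OZ
open Cfsg Subgroup H18 H17.GS
open H19 hiding eq_bot_mono
open scoped commutatorElement

universe u
variable {X : Type u} [Group X] [Finite X] {A B D E F G H K L M N O P Q R S T U V W Y Z : Subgroup X}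
  {a b g s t u v w x y z : X} {p r : ℕ}

local notation "p2" => Nat.prime_two

/-- `A` has odd prime order, acts coprimely on `H` and fixes no involution -/
structure Fp (A H : Subgroup X) : Prop where
  pr : (#A).Prime
  od : Odd #A
  nrm : A ≤ N(H)
  cop : (#H).Coprime #A
  fx : OG (H ⊓ C(A))

theorem modEq_cent (hB : PG p B) (hl : p.Prime) (hn : B ≤ N(K)) : #K ≡ #(K ⊓ C(B)) [MOD p] := by
  have := Fact.mk hl
  let _ : MulAction B K := MulAction.compHom K (K.normalizerMonoidHom.comp (inclusion hn))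
  have h1 := hB.isPGroup.card_modEq_card_fixedPoints K
  have : MulAction.fixedPoints B K = (C(B).subgroupOf K : Set K) := by
    ext x
    exact ⟨fun hx => mem_cent.2 fun b hb =>
      mul_inv_eq_iff_eq_mul.1 (congrArg Subtype.val (hx ⟨b, hb⟩)), fun hx b =>
      Subtype.ext (mul_inv_eq_iff_eq_mul.2 (mem_cent.1 hx b b.2))⟩
  rwa [this, SetLike.coe_sort_coe, card_subgroupOf, inf_comm] at h1

namespace Fp
variable (h : Fp A H)
include h

theorem mono (l : K ≤ H) (n : A ≤ N(K)) : Fp A K :=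
  ⟨h.pr, h.od, n, cop_mono h.cop l le_rfl, h.fx.of_le (inf_le_inf_right _ l)⟩
theorem sol : Sol A := sol_of_prime h.pr
theorem og : OG A := og_iff.2 h.od
theorem J (g : X) : Fp (cj g A) (cj g H) :=
  ⟨(card_cj g A).symm ▸ h.pr, (card_cj g A).symm ▸ h.od, cj_norm g H ▸ cj_mono g h.nrm, by rw [card_cj, card_cj]; exact h.cop,
    by rw [← cj_cent, ← cj_inf]; exact h.fx.J g⟩
theorem Jn (hg : g ∈ N(H)) : Fp (cj g A) H := by simpa only [cj_of_mem_norm hg] using h.J g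
theorem quo (l : K ≤ H) (n : A ≤ N(K)) : Fp (quo K A) (quo K H) := by
  have c := cop_mono h.cop l le_rfl
  have e := card_quo_of_cop n c
  exact ⟨e.symm ▸ h.pr, e.symm ▸ h.od, quo_norms h.nrm, cop_quo h.cop K,
    by rw [quo_inf_cent' n l c (.inl h.sol)]; exact h.fx.quo K⟩
theorem bot (l : S ≤ H) (p : PG 2 S) : S ⊓ C(A) = ⊥ :=
  PiN.eq_bot (p.infl _) (h.fx.of_le (inf_le_inf_right _ l))
theorem cen (hK : Sol K) (l : K ≤ H) (n : A ≤ N(K)) (o : OG K) (p : PG 2 Q) (lQ : Q ≤ H) (n1 : K ≤ N(Q))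
    (n2 : A ≤ N(Q)) : ⁅A, K⁆ ≤ C(Q) :=
  nil_cent1 hK n (og_iff.1 o) h.od (cop_mono h.cop l le_rfl) h.pr p.nil n1 n2 (o.cop p).symm
    (cop_mono h.cop lQ le_rfl) (h.bot lQ p)

theorem f0 (hs : Sol H) (hO : O(H) = ⊥) : Syl 2 (Oc {2} H) H := by
  have cQ : H ⊓ C(Oc {2} H) ≤ Oc {2} H := Fit_eq_Oc hO ▸ cent_Fit_le hs
  have pQ := Oc_pi {2} H
  have nQ := Oc_norm {2} H
  have aQ := norms_Oc {2} h.nrm
  obtain ⟨K, hK, nK⟩ := inv_hall_exists {2}ᶜ h.nrm h.cop hs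
  obtain ⟨S, hS, nS⟩ := inv_syl_exists 2 h.nrm h.cop (.inl h.sol)
  have l1 : ⁅A, K⁆ ≤ K := commg_le_right nK
  have c1 : A ≤ C(K) := commg_eq_bot.1 (PiN.eq_bot (pQ.of_le ((le_inf (l1.trans hK.le) (h.cen (sol_mono hs hK.le) hK.le nK
    hK.pi pQ (Oc_le _ _) (hK.le.trans nQ) aQ)).trans cQ)) (hK.pi.of_le l1))
  have e := commg_eq_of_cent_eq_bot nS (cop_mono h.cop hS.le le_rfl) (.inl h.sol) (h.bot hS.le hS.pi)
  set Q := Oc {2} H
  have oF : OG (Fit (H19.quo Q H)) := Hall.pi'_of_eq_bot (Oc_quo_Oc {2} H ▸ Oc_Fit_syl 2 (H19.quo Q H))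
  have lF : Fit (H19.quo Q H) ≤ H19.quo Q K := (hK.quo nQ).le_of_norm' (Fit_le _) oF ((quo_mono _ hK.le).trans (Fit_norm _))
  have l2 : H19.quo Q S ≤ C(Fit (H19.quo Q H)) := by
    rw [← e, quo_comm (hS.le.trans nQ) aQ]
    exact (commutator_mono le_rfl ((quo_cents c1).trans (cent_mono lF))).trans
      (commg_le_right (norms_cent ((quo_mono _ hS.le).trans (Fit_norm _))))
  have l3 : S ≤ Q := quo_eq_bot_of_pi (hS.le.trans nQ) hS.pi
    (oF.of_le ((le_inf (quo_mono _ hS.le) l2).trans (cent_Fit_le (sol_quo hs Q))))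
  exact (le_antisymm l3 (Oc_le_hall hS)) ▸ hS

theorem f1 (hs : Sol H) (hS : Syl 2 S H) : N(H) ≤ N(O(H) ⊔ S) := by
  have n := Oc_norm {2}ᶜ H
  have k := (h.quo (Oc_le {2}ᶜ H) (norms_Oc _ h.nrm)).f0 (sol_quo hs _) (Oc_quo_Oc _ _)
  refine norms_of_quo (norm_le_norm_Oc _ _) (hS.le.trans n) ?_
  rw [(hS.quo n).eq_Oc' k]
  exact norms_Oc _ (quo_norms le_rfl)

theorem nt (hs : Sol H) (hM : H ⊴ M) (hi : PiN {2}ᶜ (H.relIndex M)) : OX.NT M := by
  obtain ⟨S, hS⟩ := exists_syl 2 H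
  exact OX.nt_of (H2.GW.syl_isSylowIn p2 (hS.of_idx hM.le hi)) (OX.od_iff.2 (Nat.coprime_two_right.2 (og_iff.1 (O_og H))))
    (hS.le.trans (Oc_norm _ _)) (sup_comm O(H) S ▸ hM.norm.trans (h.f1 hs hS))

theorem cnt (hs : Sol H) (p : PG 2 Y) (l : Y ≤ H) (n1 : H ≤ N(Y)) (n2 : A ≤ N(Y)) (hx : x ∈ H) (o : Odd (orderOf x)) :
    ¬ #⁅Y, zpowers x⁆ - 1 ∣ orderOf x := fun d => by
  have sM := sol_sup hs h.sol h.nrm
  have nH := left_normal_sup h.nrm
  obtain ⟨K, hK, lK⟩ := PiN.exists_hall (og_iff.2 ((Nat.card_zpowers x).symm ▸ o)) sM ((zpowers_le.2 hx).trans le_sup_left)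
  obtain ⟨g, hg, lA⟩ := hK.cj_le sM le_sup_right h.og
  have h' := h.Jn (nH.norm hg)
  have nY : cj g A ≤ N(Y) := (lA.trans hK.le).trans (sup_le n1 n2)
  have nK : cj g A ≤ N(K ⊓ H) := norms_inf (norms_of_le lA) h'.nrm
  have c := h'.cen (sol_mono hs inf_le_right) inf_le_right nK (hK.pi.infl H) p l (inf_le_right.trans n1) nY
  have xK : zpowers x ≤ K ⊓ H := le_inf lK (zpowers_le.2 hx)
  have xY : zpowers x ≤ N(Y) := (zpowers_le.2 hx).trans n1
  have lW : ⁅Y, zpowers x⁆ ≤ Y := commg_le_left xY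
  have e : ⁅Y, zpowers x ⊔ ⁅cj g A, K ⊓ H⁆⁆ = ⁅Y, zpowers x⁆ := le_antisymm (commg_sup_right_le le_rfl
    ((commg_eq_bot.2 (cents_symm c)).le.trans bot_le) (commg_normr _ _) (norms_of_cents (c.trans (cent_mono lW))))
    (commutator_mono le_rfl le_sup_left)
  have nW : cj g A ≤ N(⁅Y, zpowers x⁆) := e ▸ norms_comm nY (norms_of_commg_le'
    ((commutator_mono le_rfl (sup_le xK (commg_le_right nK))).trans le_sup_right))
  have m := modEq_cent (PiN.of_card h'.pr rfl) h'.pr nW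
  rw [h'.bot (lW.trans l) (p.of_le lW), Subgroup.card_bot] at m
  have d' := ((Nat.modEq_iff_dvd' (card_pos _)).1 m.symm).trans (d.trans (orderOf_dvd_card' hx))
  exact h'.pr.one_lt.ne' (Nat.eq_one_of_dvd_coprimes h'.cop d' dvd_rfl)

end Fp

end H4.OZ
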