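import Cfsg.Agent.H4.Bm9

/-! Rank one groups with an odd core (adapted from `H29.PU`): vertices. -/

set_option autoImplicit false
set_option linter.unusedVariables false
set_option linter.unusedSectionVars false

namespace H4.PV
open Cfsg Subgroup H28 Matrix MatrixGroups H13.SL2 H9 H29.PU
open scoped commutatorElement

universe u
variable {X : Type u} [Group X] {p : ℕ} {G G' S S' T M N H V V₀ W A B : Subgroup X}

/-- rank one group whose `Z` lies in the centre of `O_p` -/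
structure Rk1 (p : ℕ) (G : Subgroup X) : Prop where
  zo : 𝐙 G ≤ 𝛀 (𝐐 G)
  ex : ∃ S M, R1 p G S M

theorem Rk1.conj (h : Rk1 p G) (g : X) : Rk1 p (cj g G) :=
  ⟨by rw [← cj_Z, ← cj_pCoreOf, ← cj_omegaOneCenter]; exact cj_mono g h.zo,
    let ⟨_, _, e⟩ := h.ex; ⟨_, _, e.map (conj_injective' g)⟩⟩

section
variable [Finite X] [hp : Fact p.Prime]

namespace Rk1

theorem r1 (h : Rk1 p G) (hS : IsSylowIn p S G) : ∃ M, R1 p G S M := by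
  obtain ⟨T, M, e⟩ := h.ex
  obtain ⟨g, hg, rfl⟩ := e.syl.exists_conj hS
  exact ⟨_, cj_eq_self_of_mem hg ▸ e.map (conj_injective' g)⟩

theorem comm (h : Rk1 p G) (hS : IsSylowIn p S G) : ⁅S, S⁆ ≤ pCoreOf p G :=
  let ⟨_, e⟩ := h.r1 hS; e.comm

theorem pow (h : Rk1 p G) (hS : IsSylowIn p S G) {x : X} (hx : x ∈ S) : x ^ p ∈ pCoreOf p G :=
  let ⟨_, e⟩ := h.r1 hS; e.pow x hx

theorem ne (h : Rk1 p G) (hS : IsSylowIn p S G) : ¬ S ≤ pCoreOf p G :=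
  let ⟨_, e⟩ := h.r1 hS; e.ne

theorem gen (h : Rk1 p G) (hS : IsSylowIn p S G) (hS' : IsSylowIn p S' G) (ho : S ⊔ S' = G)
    {x : X} (hx : x ∈ S') (hQ : x ∉ pCoreOf p G) (h1 : S ≤ H) (h2 : x ∈ H) : G ≤ H := by
  obtain ⟨M, e⟩ := h.r1 hS
  exact (e.um.eq_of_not_le (le_inf hS.le h1) inf_le_left fun k =>
    e.not_mem' hS' ho hx hQ (k ⟨hS'.le hx, h2⟩)).ge.trans inf_le_right

theorem exists_opp (h : Rk1 p G) (hS : IsSylowIn p S G) : ∃ g ∈ G, S ⊔ cj g S = G := by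
  obtain ⟨M, e⟩ := h.r1 hS
  obtain ⟨g, hg, hgM⟩ := SetLike.exists_of_lt e.um.lt
  exact ⟨g, hg, e.sup_cj hg hgM⟩

theorem opp_cj (h : Rk1 p G) (hS : IsSylowIn p S G) (hS' : IsSylowIn p S' G) (ho : S ⊔ S' = G)
    {x : X} (hx : x ∈ S') (hQ : x ∉ pCoreOf p G) : S ⊔ cj x S = G :=
  let ⟨_, e⟩ := h.r1 hS; e.sup_cj (hS'.le hx) (e.not_mem' hS' ho hx hQ)

theorem res_le (h : Rk1 p G) (hS : IsSylowIn p S G) (hN : G ≤ 𝐍 N) {x : X} (hx : x ∈ S)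
    (hQ : x ∉ pCoreOf p G) (hxN : x ∈ N) : pResidualOf p G ≤ N := by
  obtain ⟨M, e⟩ := h.r1 hS
  have hn : G ≤ 𝐍 (G ⊓ N) := le_normalizer_inf le_normalizer hN
  exact (e.um.pResidualOf_le hS.isPGroup inf_le_left (fun k => hQ (e.um.inf_le_pCoreOf hS k hn
    ⟨hx, hS.le hx, hxN⟩)) hn).trans inf_le_right

theorem not_le_normalizer (h : Rk1 p G) (hS : IsSylowIn p S G) : ¬ G ≤ 𝐍 S := fun e =>
  h.ne hS (hS.eq_pCoreOf e).le

theorem nclIn_eq (h : Rk1 p G) (hS : IsSylowIn p S G) : nclIn S G = G :=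
  let ⟨_, e⟩ := h.r1 hS; e.um.nclIn_eq hS (h.not_le_normalizer hS)

end Rk1


open H29.Rp in
theorem Rk1.exists_NS (h : Rk1 p G) (hS : IsSylowIn p S G) (hS' : IsSylowIn p S' G) (ho : S ⊔ S' = G)
    (D : SecRep p G V V₀) (hQ : ⁅pCoreOf p G, V⁆ ≤ V₀) (hE : ¬ ⁅pResidualOf p G, V⁆ ≤ V₀)
    (hA : A ≤ S) (hAQ : ¬ A ≤ pCoreOf p G) (h0 : V₀ ≤ W) (hW : W ≤ V) (hc : ⁅A, W⁆ ≤ V₀)
    (hoff : Nat.card V * Nat.card ↥(A ⊓ pCoreOf p G) ≤ Nat.card A * Nat.card W) :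
    ∃ (F : Type) (_ : Field F) (_ : Fintype F), Nat.card S = Fintype.card F * Nat.card (pCoreOf p G) ∧
      Nonempty (NS p F G V V₀ S S') := by
  classical
  obtain ⟨M, e⟩ := h.r1 hS
  have hk : ∀ {T}, IsSylowIn p T G → ∀ s (hs : s ∈ T) (hg : s ∈ G), D.f ⟨s, hg⟩ = 1 ↔ s ∈ pCoreOf p G :=
    fun {T} hT s hs hg => ⟨fun k => by_contra fun n => hE (commutator_le.2 fun a ha v hv => by
      obtain ⟨a, ha', rfl⟩ := h.res_le hT (le_normalizer_map_subtype D.f.ker) hs n ⟨⟨s, hg⟩, k, rfl⟩ ha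
      exact (D.f_eq_one a).1 ha' v hv),
    fun k => (D.f_eq_one _).2 fun v hv => hQ (commutator_mem_commutator k hv)⟩
  have hKM : D.f.ker ≤ M.subgroupOf G := by
    refine map_subtype_le_iff.1 (by_contra fun n => hE (commutator_le.2 fun a ha v hv => ?_))
    obtain ⟨a, ha', rfl⟩ := e.um.pResidualOf_le hS.isPGroup (map_subtype_le _) n
      (le_normalizer_map_subtype D.f.ker) ha
    exact (D.f_eq_one a).1 ha' v hv
  have hM : ∀ g : G, D.f g ∈ D.im M ↔ g.1 ∈ M := fun g => by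
    rw [SecRep.im, ← mem_comap, comap_map_eq_self hKM, mem_subgroupOf]
  have hum : UniqMax (D.im S) ⊤ (D.im M) :=
    map_top_of_surjective _ D.surj ▸ e.um.subgroupOf.map D.f (inf_le_right.trans hKM)
  have hsy : IsSylowIn p (D.im S) ⊤ := map_top_of_surjective _ D.surj ▸ hS.subgroupOf_top.map D.f
  obtain ⟨s, hs, hsQ⟩ := SetLike.not_le_iff_exists.1 e.ne
  have hs1 : D.im S ≠ ⊥ := fun k => hsQ ((hk hS s hs (hS.le hs)).1 (mem_bot.1 (k ▸ D.mem_im hs)))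
  have hspe : SPE p (D.im M) := spe_of_sylow hum.lt.ne (hsy.mono hum.le le_top) hs1 fun R r1 r2 n hn => by
    obtain ⟨⟨a, ha⟩, a1⟩ := Subgroup.ne_bot_iff_exists_ne_one.1 r2
    obtain ⟨a, ha', rfl⟩ := r1 ha
    obtain ⟨n, rfl⟩ := D.surj n
    have := hum.le (r1 (conj_mem_of_mem_normalizer hn ha))
    rw [← map_inv, ← map_mul, ← map_mul, hM] at this
    exact (hM n).2 ((e.ti a ha' n n.2 this).resolve_left fun k =>
      a1 (Subtype.ext ((hk hS a.1 ha' a.2).2 k)))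
  have hea : IsElementaryAbelian p (D.im A) := isElementaryAbelian_iff.2 ⟨by
    rintro _ ⟨a, ha, rfl⟩ _ ⟨b, hb, rfl⟩
    rw [← commutatorElement_eq_one_iff_mul_comm, ← map_commutatorElement]
    have := e.comm (commutator_mem_commutator (hA hb) (hA ha))
    exact (hk hS _ (hS.pCoreOf_le this) _).2 this, by
    rintro _ ⟨a, ha, rfl⟩; rw [← map_pow]
    exact (hk hS _ (pow_mem (hA ha) p) _).2 (e.pow _ (hA ha))⟩
  obtain ⟨a, ha, haQ⟩ := SetLike.not_le_iff_exists.1 hAQ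
  have hA1 : D.im A ≠ ⊥ := fun k =>
    haQ ((hk hS a (hA ha) (hS.le (hA ha))).1 (mem_bot.1 (k ▸ D.mem_im ha)))
  have c1 := D.card_im (hA.trans hS.le) fun a ha => hk hS a (hA ha) _
  have c2 := D.card_le hW h0 (Y := fix D.ρ (D.im A)) fun w hw =>
    (D.mem_fix_im (hA.trans hS.le) (hW hw)).2 fun a ha => hc (commutator_mem_commutator ha hw)
  obtain ⟨T, hT, hR, -⟩ := exists_rt_sylow D.faith hspe hea hA1 (by
    have := hoff.trans (Nat.mul_le_mul_left _ c2)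
    rw [D.card_eq, c1] at this
    refine Nat.le_of_mul_le_mul_right (c := Nat.card V₀ * Nat.card ↥(A ⊓ pCoreOf p G)) ?_
      (Nat.mul_pos Nat.card_pos Nat.card_pos)
    calc _ = _ := by ring
      _ ≤ _ := this
      _ = _ := by ring)
  obtain ⟨k, -, rfl⟩ := hsy.exists_conj hT
  rw [rt_cj_iff] at hR
  have hG : Good D.ρ (D.im S) ⊤ (D.im M) := ⟨hum, by
    rw [SecRep.im, ← map_top_of_surjective _ D.surj, ← map_nclIn, nclIn_top, ← nclIn_subgroupOf hS.le,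
      h.nclIn_eq hS, subgroupOf_self], hR.minOff, fun k => hE (commutator_le.2 fun a ha v hv => by
    rw [pCoreOf_top, hspe.pCore_eq_bot, fix_bot] at k
    refine (D.fix_iff ⟨a, pResidualOf_le p G ha⟩ hv).1 (k Submodule.mem_top _ ?_)
    rw [pResidualOf_top, ← map_pResidual D.surj, ← pResidualOf_subgroupOf]
    exact ⟨_, ha, rfl⟩)⟩
  obtain ⟨g, hg, rfl⟩ := hS.exists_conj hS'
  have hgM : D.f ⟨g, hg⟩ ∉ D.im M := fun k =>
    e.um.not_le (ho.ge.trans (sup_le e.um.le (cj_le_of_mem e.um.le ((hM _).1 k))))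
  have hcj : cj (D.f ⟨g, hg⟩) (D.im S) = D.im (cj g S) := by
    rw [SecRep.im, ← map_cj, cj_subgroupOf]; rfl
  obtain ⟨hO, hO'⟩ := hG.opp (mem_top _) hgM
  obtain ⟨F, _, _, hF, ⟨E⟩⟩ := hG.sl2 (mem_top _) hgM
  rw [hcj] at hO E
  have hi := E.π_inj (fun g _ => D.faith g) hO'
  let π : X → SL(2, F) := fun g => if h : g ∈ G then E.π ⟨D.f ⟨g, h⟩, mem_top _⟩ else 1
  have hπ : ∀ g (h : g ∈ G), π g = E.π ⟨D.f ⟨g, h⟩, mem_top _⟩ := fun g h => dif_pos h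
  have h1 : ∀ g (h : g ∈ G), π g = 1 ↔ D.f ⟨g, h⟩ = 1 := fun g h => by
    rw [hπ g h, map_eq_one_iff _ hi, Subtype.ext_iff]; rfl
  have hsub : ∀ g (h : g ∈ G) (u : D.U), E.ψ (D.ρ (D.f ⟨g, h⟩) u - u) = (π g).1 *ᵥ E.ψ u - E.ψ u :=
    fun g h u => by rw [map_sub, hπ g h, ← E.equi]
  refine ⟨F, _, inferInstance, ?_, ⟨⟨π, fun v => E.ψ (D.ι v), D.le, D.nrm, hS.le, hS'.le, fun a ha b hb => ?_,
    fun u hu v hv => ?_, fun w => ?_, fun v hv => ?_, fun a ha v hv => ?_, fun a ha => ?_, fun a ha => ?_,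
    fun t => ?_, fun a ha => ?_, fun t => ?_, fun v hv k => ?_, fun v hv k => ?_,
    fun a ha => (h1 a (hS.le ha)).trans (hk hS a ha _),
    fun a ha => (h1 a (hS'.le ha)).trans (hk hS' a ha _)⟩⟩⟩
  · rw [hF, D.card_im hS.le fun a ha => hk hS a ha _, inf_of_le_right hS.pCoreOf_le]
  · rw [hπ _ ha, hπ _ hb, hπ _ (mul_mem ha hb), ← map_mul]
    exact congrArg E.π (Subtype.ext (map_mul D.f ⟨a, ha⟩ ⟨b, hb⟩))
  · rw [D.mul u hu v hv, map_add]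
  · obtain ⟨u, rfl⟩ := E.surj w
    obtain ⟨v, hv, rfl⟩ := D.onto u
    exact ⟨v, hv, rfl⟩
  · rw [E.ker, ← D.im_top, D.mem_fix_im le_rfl hv]
  · rw [hπ a ha, ← E.equi]; exact congrArg E.ψ (D.equi ⟨a, ha⟩ v hv).symm
  · rw [h1 a ha, D.f_eq_one]
  · rw [hπ a (hS.le ha)]; exact E.up _ (D.mem_im ha)
  · obtain ⟨⟨_, _⟩, ⟨a, ha, rfl⟩, k⟩ := E.up' t
    exact ⟨a, ha, (hπ _ a.2).trans k⟩
  · rw [hπ a (hS'.le ha)]; exact E.lo _ (D.mem_im ha)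
  · obtain ⟨⟨_, _⟩, ⟨a, ha, rfl⟩, k⟩ := E.lo' t
    exact ⟨a, ha, (hπ _ a.2).trans k⟩
  · refine (D.mem_fix_im hS.le hv).1 ((hO.hA _ (D.mem_im (g := ⟨s, hS.le hs⟩) hs) _ ((E.ker _).1 ?_)
      ).resolve_left fun k => hsQ ((hk hS s hs _).1 k))
    obtain ⟨t, ht⟩ := E.up ⟨_, mem_top _⟩ (D.mem_im (g := ⟨s, hS.le hs⟩) hs)
    rw [hsub, hπ s (hS.le hs), ht, x_mulVec, k]
    ext i; fin_cases i <;> simp [k]
  · obtain ⟨s, hs, hsQ⟩ := SetLike.not_le_iff_exists.1 (h.ne hS')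
    refine (D.mem_fix_im hS'.le hv).1 ((hO.hB _ (D.mem_im (g := ⟨s, hS'.le hs⟩) hs) _ ((E.ker _).1 ?_)
      ).resolve_left fun k => hsQ ((hk hS' s hs _).1 k))
    obtain ⟨t, ht⟩ := E.lo ⟨_, mem_top _⟩ (D.mem_im (g := ⟨s, hS'.le hs⟩) hs)
    rw [hsub, hπ s (hS'.le hs), ht, y_mulVec, k]
    ext i; fin_cases i <;> simp [k]

end

/-- a vertex: neither `Ω₁Z(S)` nor `J(S)` is normal -/
structure Vx (p : ℕ) (G : Subgroup X) : Prop extends Rk1 p G where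
  nz : ¬ 𝐙 G ≤ 𝐂 G
  off : ∀ S, IsSylowIn p S G → ∃ e A, p ∣ e ∧ MaxAb e S A ∧ ¬ A ≤ 𝐐 G

namespace Rk1
variable (h : Rk1 p G)
include h

theorem Z_le_Q : 𝐙 G ≤ 𝐐 G := h.zo.trans (omegaOneCenter_le _ _)

theorem Z_le_C : 𝐙 G ≤ 𝐂 (𝐐 G) := h.zo.trans (omegaOneCenter_le_centralizer _ _)

theorem Q_le_C : 𝐐 G ≤ 𝐂 (𝐙 G) := le_centralizer_comm.1 h.Z_le_C

theorem ea : IsElementaryAbelian p (𝐙 G) := ea_of_le (ea_omegaOneCenter p _) h.zo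

theorem Z_comm : 𝐙 G ≤ 𝐂 (𝐙 G) := ea_le_centralizer h.ea

theorem Z_pow {z : X} (hz : z ∈ 𝐙 G) : z ^ p = 1 := (isElementaryAbelian_iff.1 h.ea).2 z hz

theorem Z_le_S (hS : IsSylowIn p S G) : 𝐙 G ≤ S := h.Z_le_Q.trans hS.pCoreOf_le

theorem mem_Ω (hS : IsSylowIn p S G) {z : X} (hz : z ∈ 𝐙 G) (hc : z ∈ 𝐂 S) : z ∈ 𝛀 S :=
  mem_omegaOneCenter.2 ⟨h.Z_le_S hS hz, hc, h.Z_pow hz⟩

theorem C_le_Ω (hS : IsSylowIn p S G) : 𝐙 G ⊓ 𝐂 G ≤ 𝛀 S := fun _ hz =>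
  h.mem_Ω hS hz.1 (centralizer_anti hS.le hz.2)

end Rk1

variable [Finite X] [hp : Fact p.Prime]

theorem Rk1.not_comm_res (h : Rk1 p G) (nz : ¬ 𝐙 G ≤ 𝐂 G) : ¬ 𝐄 G ≤ 𝐂 (𝐙 G) := fun e => nz (by
  obtain ⟨S, hS⟩ := exists_isSylowIn p G
  have : G ≤ 𝐂 (𝛀 S) := hS.pResidualOf_sup.ge.trans (sup_le (e.trans (centralizer_anti
    hS.omegaOneCenter_le_Z)) (le_centralizer_omegaOneCenter p S))
  rw [hS.Z_eq, nclIn_eq_self (le_normalizer_of_le_centralizer this)]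
  exact le_centralizer_comm.1 this)

theorem le_C_of_normal (hS : IsSylowIn p S G) (h1 : W ≤ 𝐂 S) (h2 : G ≤ 𝐍 W) (h : Rk1 p G) : W ≤ 𝐂 G :=
  le_centralizer_comm.1 ((h.nclIn_eq hS).ge.trans (nclIn_le (le_centralizer_comm.1 h1)
    (le_normalizer_centralizer h2)))

namespace Vx
variable (h : Vx p G)
include h

theorem ns (hS : IsSylowIn p S G) (hS' : IsSylowIn p S' G) (ho : S ⊔ S' = G) :
    ∃ (F : Type) (_ : Field F) (_ : Fintype F), # S = Fintype.card F * # (𝐐 G) ∧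
      Nonempty (NS p F G (𝐙 G) ⊥ S S') := by
  obtain ⟨e, A, he, hA, hAQ⟩ := h.off S hS
  obtain ⟨D⟩ := exists_secRep (p := p) (Z_le p G) bot_le (le_normalizer_Z p G) (normalizer_bot.ge.trans' le_top)
    (commutator_eq_bot_iff.2 h.Z_comm).le fun v hv => h.Z_pow hv
  have hc : A ⊓ 𝐐 G ≤ 𝐂 (𝐙 G) := inf_le_right.trans h.Q_le_C
  refine h.exists_NS hS hS' ho D (commutator_eq_bot_iff.2 h.Q_le_C).le
    (fun k => h.not_comm_res h.nz (commutator_eq_bot_iff.1 (le_bot_iff.1 k))) hA.le hAQ bot_le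
    (W := 𝐙 G ⊓ 𝐂 A) inf_le_left (commutator_eq_bot_iff'.2 inf_le_right).le ?_
  rw [mul_comm, ← H1.card_sup_mul_card_inf (le_normalizer_of_le_centralizer hc)]
  exact Nat.mul_le_mul (hA.card_le (sup_le (inf_le_left.trans hA.le) (h.Z_le_S hS))
    ((hA.abE.of_le inf_le_left).sup (abE_of_ea he h.ea) hc))
    (card_le_of_le' (le_inf inf_le_right (inf_le_left.trans (inf_le_left.trans hA.comm))))

theorem ns' (hS : IsSylowIn p S G) : ∃ S', IsSylowIn p S' G ∧ S ⊔ S' = G ∧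
    ∃ (F : Type) (_ : Field F) (_ : Fintype F), # S = Fintype.card F * # (𝐐 G) ∧
      Nonempty (NS p F G (𝐙 G) ⊥ S S') :=
  let ⟨_, hg, e⟩ := h.exists_opp hS; ⟨_, hS.conj_of_mem hg, e, h.ns hS (hS.conj_of_mem hg) e⟩

omit [Finite X] hp in
theorem mem_Ω_iff (hS : IsSylowIn p S G) {F : Type} [Field F] (D : NS p F G (𝐙 G) ⊥ S S') {z : X}
    (hz : z ∈ 𝐙 G) : z ∈ 𝛀 S ↔ D.ψ z 1 = 0 := by
  refine ⟨fun k => ?_, fun k => h.mem_Ω hS hz (mem_cen_iff.2 (D.fixS z hz k))⟩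
  obtain ⟨s, hs, e⟩ := D.up' 1
  have := D.comm_x (hS.le hs) hz e
  rw [mem_cen_iff.1 (omegaOneCenter_le_centralizer p S k) s hs, D.one] at this
  simpa using (congrFun this 0).symm

omit [Finite X] hp h in
theorem mem_C_iff {F : Type} [Field F] (D : NS p F G (𝐙 G) ⊥ S S') {z : X} (hz : z ∈ 𝐙 G) :
    z ∈ 𝐂 G ↔ D.ψ z = 0 := mem_cen_iff.trans (D.ker z hz).symm

theorem fix (hS : IsSylowIn p S G) {s z : X} (hs : s ∈ S) (hQ : s ∉ 𝐐 G) (hz : z ∈ 𝐙 G)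
    (hc : ⁅s, z⁆ ∈ 𝐂 G) : z ∈ 𝛀 S := by
  obtain ⟨S', -, -, F, _, _, -, ⟨D⟩⟩ := h.ns' hS
  exact (h.mem_Ω_iff hS D hz).2 (D.snd_eq_zero hs hQ hz
    ((mem_C_iff D (D.comm_mem (hS.le hs) hz)).1 hc))

theorem fix' (hS : IsSylowIn p S G) {s z : X} (hs : s ∈ S) (hQ : s ∉ 𝐐 G) (hz : z ∈ 𝐙 G)
    (hc : ⁅s, z⁆ = 1) : z ∈ 𝛀 S := h.fix hS hs hQ hz (hc ▸ one_mem _)

theorem comm_eq_one (hS : IsSylowIn p S G) {s z : X} (hs : s ∈ S) (hz : z ∈ 𝐙 G)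
    (hc : ⁅s, z⁆ ∈ 𝐂 G) : ⁅s, z⁆ = 1 := by
  by_cases k : s ∈ 𝐐 G
  · exact comm_eq_one_of h.Q_le_C k hz
  · exact mem_cen_iff.1 (omegaOneCenter_le_centralizer p S (h.fix hS hs k hz hc)) s hs

theorem not_Z_le_Ω (hS : IsSylowIn p S G) : ¬ 𝐙 G ≤ 𝛀 S := fun e =>
  h.nz (le_C_of_normal hS (e.trans (omegaOneCenter_le_centralizer p S)) (le_normalizer_Z p G) h.toRk1)

theorem mem_Q (hS : IsSylowIn p S G) {s : X} (hs : s ∈ S) (hc : s ∈ 𝐂 (𝐙 G)) : s ∈ 𝐐 G :=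
  by_contra fun k => h.not_Z_le_Ω hS fun z hz =>
    h.fix' hS hs k hz (comm_eq_one_of (le_centralizer_comm.1 (zpowers_le.2 hc) |> le_centralizer_comm.1)
      (mem_zpowers s) hz)

theorem le_Q (hS : IsSylowIn p S G) (h1 : A ≤ S) (h2 : A ≤ 𝐂 (𝐙 G)) : A ≤ 𝐐 G := fun _ ha =>
  h.mem_Q hS (h1 ha) (h2 ha)

theorem comm_le_Ω (hS : IsSylowIn p S G) : ⁅𝐙 G, S⁆ ≤ 𝛀 S := by
  obtain ⟨S', -, -, F, _, _, -, ⟨D⟩⟩ := h.ns' hS
  rw [comm_comm]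
  refine commutator_le.2 fun s hs z hz => (h.mem_Ω_iff hS D (D.comm_mem (hS.le hs) hz)).2 ?_
  obtain ⟨t, e⟩ := D.up s hs
  simp [D.comm_x (hS.le hs) hz e]

theorem Ω_le (hS : IsSylowIn p S G) : 𝛀 S ≤ ⁅𝐙 G, S⁆ ⊔ 𝐙 G ⊓ 𝐂 G := fun z hz => by
  obtain ⟨S', -, -, F, _, _, -, ⟨D⟩⟩ := h.ns' hS
  have hz' := hS.omegaOneCenter_le_Z hz
  obtain ⟨s, hs, e⟩ := D.up' (D.ψ z 0)
  obtain ⟨v, hv, e'⟩ := D.onto ![0, 1]
  have h1 := D.comm_mem (hS.le hs) hv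
  rw [← mul_inv_cancel_left ⁅s, v⁆ z]
  have h2 := mul_mem (inv_mem h1) hz'
  refine mul_mem_sup (comm_comm S _ ▸ commutator_mem_commutator hs hv) ⟨h2, (mem_C_iff D h2).2 ?_⟩
  rw [D.mul _ (inv_mem h1) _ hz', D.inv h1, D.comm_x (hS.le hs) hv e, e']
  ext i; fin_cases i <;> simp [(h.mem_Ω_iff hS D hz').1 hz]

theorem not_comm_le (hS : IsSylowIn p S G) : ¬ ⁅𝐙 G, S⁆ ≤ 𝐂 G := fun e => by
  obtain ⟨s, hs, hQ⟩ := SetLike.not_le_iff_exists.1 (h.ne hS)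
  exact h.not_Z_le_Ω hS fun z hz => h.fix hS hs hQ hz (e (comm_comm S _ ▸ commutator_mem_commutator hs hz))

theorem card (hS : IsSylowIn p S G) : ∃ q, # S = q * # (𝐐 G) ∧ # (𝐙 G) = q * # (𝛀 S) ∧
    # (𝛀 S) = q * # ↥(𝐙 G ⊓ 𝐂 G) := by
  obtain ⟨S', -, -, F, _, _, hF, ⟨D⟩⟩ := h.ns' hS
  refine ⟨_, hF, ?_, ?_⟩
  · rw [D.card_eq le_rfl (K := 𝛀 S) (Pi.evalAddMonoidHom _ 1) (fun w hw => (h.mem_Ω_iff hS D hw).symm)
      fun a => let ⟨v, hv, e⟩ := D.onto ![0, a]; ⟨v, hv, by simp [e]⟩, Nat.card_eq_fintype_card,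
      inf_of_le_right hS.omegaOneCenter_le_Z]
  · rw [D.card_eq hS.omegaOneCenter_le_Z (K := 𝐙 G ⊓ 𝐂 G) (Pi.evalAddMonoidHom _ 0) (fun w hw => ?_)
      fun a => ?_, Nat.card_eq_fintype_card, inf_of_le_right (h.C_le_Ω hS)]
    · have hw' := hS.omegaOneCenter_le_Z hw
      rw [mem_inf, and_iff_right hw', mem_C_iff D hw']
      refine ⟨fun k => ?_, fun k => by simp [k]⟩
      ext i; fin_cases i
      exacts [k, (h.mem_Ω_iff hS D hw').1 hw]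
    · obtain ⟨v, hv, e⟩ := D.onto ![a, 0]
      exact ⟨v, (h.mem_Ω_iff hS D hv).2 (by simp [e]), by simp [e]⟩

end Vx

omit [Finite X] hp in
theorem Vx.conj (h : Vx p G) (g : X) : Vx p (cj g G) where
  toRk1 := h.toRk1.conj g
  nz := by rw [← cj_Z, ← cj_centralizer, cj_le_cj]; exact h.nz
  off S hS := by
    obtain ⟨e, A, h1, h2, h3⟩ := h.off _ (cj_inv_cj g G ▸ hS.conj g⁻¹)
    exact ⟨e, _, h1, cj_cj_inv g S ▸ h2.conj g, by rwa [← cj_pCoreOf, cj_le_cj]⟩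

/-- critical pair -/
structure Crit (p : ℕ) (G S G' T : Subgroup X) : Prop where
  sup : 𝐙 G' ⊔ 𝐐 G = S
  sup' : 𝐙 G ⊔ 𝐐 G' = T
  inf : 𝐙 G ⊓ 𝐐 G' = 𝛀 S
  inf' : 𝐙 G' ⊓ 𝐐 G = 𝛀 T
  card : # S * # (𝐐 G') = # T * # (𝐐 G)

omit [Finite X] hp in
theorem Crit.symm (h : Crit p G S G' T) : Crit p G' T G S :=
  ⟨h.sup', h.sup, h.inf', h.inf, h.card.symm⟩

theorem crit (h : Vx p G) (h' : Vx p G') (hS : IsSylowIn p S G) (hT : IsSylowIn p T G')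
    (h1 : 𝐙 G ≤ T) (h2 : 𝐙 G' ≤ S) (hn : ¬ 𝐙 G ≤ 𝐐 G') : Crit p G S G' T := by
  have key : ∀ {G G' S T : Subgroup X}, Vx p G → Vx p G' → IsSylowIn p S G → IsSylowIn p T G' →
      𝐙 G ≤ T → 𝐙 G' ≤ S → ¬ 𝐙 G' ≤ 𝐐 G → 𝐙 G ⊓ 𝐐 G' = 𝛀 S := fun h h' hS hT h1 h2 hn => by
    obtain ⟨s, hs, hQ⟩ := SetLike.not_le_iff_exists.1 hn
    exact le_antisymm (fun z hz => h.fix' hS (h2 hs) hQ hz.1 (comm_eq_one_of h'.Z_le_C hs hz.2))
      (le_inf hS.omegaOneCenter_le_Z (h'.le_Q hT (hS.omegaOneCenter_le_Z.trans h1)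
        ((omegaOneCenter_le_centralizer p _).trans (centralizer_anti h2))))
  have hn' : ¬ 𝐙 G' ≤ 𝐐 G := fun e => hn (h'.le_Q hT h1 (h.Z_le_C.trans (centralizer_anti e)))
  have i1 := key h h' hS hT h1 h2 hn'
  have i2 := key h' h hT hS h2 h1 hn
  obtain ⟨q, a1, a2, -⟩ := h.card hS
  obtain ⟨q', b1, b2, -⟩ := h'.card hT
  have c1 := H1.card_sup_mul_card_inf (h1.trans (hT.le.trans (le_normalizer_pCoreOf p G')))
  have c2 := H1.card_sup_mul_card_inf (h2.trans (hS.le.trans (le_normalizer_pCoreOf p G)))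
  rw [i1, a2, mul_right_comm] at c1
  rw [i2, b2, mul_right_comm] at c2
  replace c1 := Nat.eq_of_mul_eq_mul_right Nat.card_pos c1
  replace c2 := Nat.eq_of_mul_eq_mul_right Nat.card_pos c2
  have l1 := sup_le h1 hT.pCoreOf_le
  have l2 := sup_le h2 hS.pCoreOf_le
  have d1 := card_le_of_le' l1
  have d2 := card_le_of_le' l2
  rw [c1, b1] at d1
  rw [c2, a1] at d2
  obtain rfl : q = q' := le_antisymm (Nat.le_of_mul_le_mul_right d1 Nat.card_pos)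
    (Nat.le_of_mul_le_mul_right d2 Nat.card_pos)
  exact ⟨eq_of_le_of_card_le l2 (a1.trans c2.symm).le, eq_of_le_of_card_le l1 (b1.trans c1.symm).le,
    i1, i2, by rw [a1, b1]; ring⟩

omit [Finite X] hp in
theorem Crit.comm (c : Crit p G S G' T) (h : Vx p G) (hS : IsSylowIn p S G) : ⁅𝐙 G, S⁆ = ⁅𝐙 G, 𝐙 G'⁆ := by
  have := le_sup_left.trans (c.sup.le.trans (hS.le.trans (le_normalizer_Z p G)))
  rw [← c.sup, comm_sup_cen h.Q_le_C this]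

omit [Finite X] hp in
theorem Crit.comm_eq (c : Crit p G S G' T) (h : Vx p G) (h' : Vx p G') (hS : IsSylowIn p S G)
    (hT : IsSylowIn p T G') : ⁅𝐙 G, S⁆ = ⁅𝐙 G', T⁆ := by
  rw [c.comm h hS, c.symm.comm h' hT, comm_comm]

theorem Crit.not_le (c : Crit p G S G' T) (h : Vx p G) (hS : IsSylowIn p S G) : ¬ 𝐙 G' ≤ 𝐐 G :=
  fun e => h.ne hS (c.sup.ge.trans (sup_le e le_rfl))


end H4.PV
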