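import Cfsg.Agent.H4.PV2

/-! Rank one groups with an odd core (adapted from `H29.PU`): critical distance two, blocks. -/

set_option autoImplicit false
set_option linter.unusedVariables false
set_option linter.unusedSectionVars false

namespace H4.PV
open Cfsg Subgroup H28 H9 H13.SL2 Matrix MatrixGroups H29 H29.PU
open scoped commutatorElement

universe u
variable {X : Type u} [Group X] {p e : ℕ} {A B C D E G H K M S S' T U V V₀ a : Subgroup X}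
  {𝓥 : Set (Subgroup X)} {m : ℕ}

/-- a path `A, B, C, D, E` all of whose subpaths of length two are critical -/
structure W5 (p : ℕ) (A B C D E S T U V : Subgroup X) : Prop where
  vA : Vx p A
  vB : Vx p B
  vC : Vx p C
  vD : Vx p D
  vE : Vx p E
  sA : IsSylowIn p S A
  sB : IsSylowIn p S B
  tB : IsSylowIn p T B
  tC : IsSylowIn p T C
  uC : IsSylowIn p U C
  uD : IsSylowIn p U D
  wD : IsSylowIn p V D
  wE : IsSylowIn p V E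
  ab : 𝐙 A ≤ 𝐐 B
  bc : 𝐙 B ≤ 𝐐 C
  dc : 𝐙 D ≤ 𝐐 C
  ed : 𝐙 E ≤ 𝐐 D
  c1 : Crit p A S C T
  c2 : Crit p B T D U
  c3 : Crit p C U E V
  opp : T ⊔ U = C
  cen : ⁅𝐙 D, U⁆ ≤ 𝐂 C
  nn : ¬ C ≤ 𝐍 (𝐙 D ⊔ 𝐙 C)

variable [Finite X] [hp : Fact p.Prime]

theorem Am.w5 {G S : ℕ → Subgroup X} (h : Am p 𝓥 2) (e : Long p 𝓥 2 m G S) (j : ℕ) (hj : j + 4 ≤ m) :
    W5 p (G j) (G (j + 1)) (G (j + 2)) (G (j + 3)) (G (j + 4)) (S (j + 1)) (S (j + 2)) (S (j + 3))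
      (S (j + 4)) :=
  have v := fun i hi => h.vx _ (e.mem i hi)
  ⟨v _ (by omega), v _ (by omega), v _ (by omega), v _ (by omega), v _ hj, e.l _ (by omega),
    e.r _ (by omega), e.l _ (by omega), e.r _ (by omega), e.l _ (by omega), e.r _ (by omega),
    e.l _ (by omega), e.r _ (by omega), h.sm' e (by omega) (by omega) (by omega) (by omega),
    h.sm' e (by omega) (by omega) (by omega) (by omega), h.sm' e (by omega) (by omega) (by omega) (by omega),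
    h.sm' e (by omega) (by omega) (by omega) (by omega), h.crit' (by omega) e rfl (by omega),
    h.crit' (by omega) e rfl (by omega), h.crit' (by omega) e rfl (by omega), e.opp _ (by omega) (by omega),
    h.long_cen le_rfl e (by omega) (by omega), e.nn _ (by omega) (by omega)⟩

theorem Crit.card_inf (c : Crit p B T D U) (vD : Vx p D) (tB : IsSylowIn p T B) (uD : IsSylowIn p U D)
    (h1 : 𝐙 D ≤ H) (h2 : H ≤ T) : H = 𝐙 D ⊔ 𝐐 B ⊓ H ∧ # H * # (𝐐 D) = # U * # ↥(𝐐 B ⊓ H) := by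
  have n := (h1.trans h2).trans (tB.le.trans (le_normalizer_pCoreOf p B))
  have e : H = 𝐙 D ⊔ 𝐐 B ⊓ H := by
    rw [← sup_inf_of_le_normalizer (Or.inl n) h1, c.sup, inf_of_le_right h2]
  obtain ⟨q, a1, a2, -⟩ := vD.card uD
  have := H1.card_sup_mul_card_inf (le_normalizer_inf n (le_normalizer_of_le h1))
  rw [← e, inf_comm (𝐐 B), ← inf_assoc, inf_of_le_left h1, c.inf', a2, mul_right_comm] at this
  exact ⟨e, by rw [Nat.eq_of_mul_eq_mul_right Nat.card_pos this, a1, inf_comm H]; ring⟩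

namespace W5
variable (k : W5 p A B C D E S T U V)
include k

theorem cb : 𝐙 C ≤ 𝐐 B :=
  k.vB.le_Q k.tB (k.vC.Z_le_S k.tC) (k.vC.Z_le_C.trans (centralizer_anti k.bc))

theorem cd : 𝐙 C ≤ 𝐐 D :=
  k.vD.le_Q k.uD (k.vC.Z_le_S k.uC) (k.vC.Z_le_C.trans (centralizer_anti k.dc))

theorem Z_le : 𝐙 C ≤ 𝐃 := le_inf (le_inf k.cb k.vC.Z_le_Q) k.cd

theorem AT : 𝐙 A ≤ T := le_sup_left.trans k.c1.sup'.le

theorem EU : 𝐙 E ≤ U := le_sup_left.trans k.c3.sup.le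

theorem commA (h : H ≤ 𝐐 B) : ⁅𝐙 A, H⁆ ≤ ⁅𝐙 C, T⁆ :=
  (commutator_mono le_rfl (h.trans k.sB.pCoreOf_le)).trans (k.c1.comm_eq k.vA k.vC k.sA k.tC).le

theorem commE (h : H ≤ 𝐐 D) : ⁅𝐙 E, H⁆ ≤ ⁅𝐙 C, U⁆ :=
  (commutator_mono le_rfl (h.trans k.wD.pCoreOf_le)).trans (k.c3.comm_eq k.vC k.vE k.uC k.wE).ge

theorem commQ : ⁅𝐐 C, 𝐐 C⁆ ≤ 𝐃 :=
  le_inf (le_inf ((commutator_mono k.tC.pCoreOf_le k.tC.pCoreOf_le).trans (k.vB.comm k.tB))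
    (commutator_le_of_le_normalizer le_normalizer))
    ((commutator_mono k.uC.pCoreOf_le k.uC.pCoreOf_le).trans (k.vD.comm k.uD))

theorem D_le : 𝐃 ≤ 𝐐 C := inf_le_left.trans inf_le_right

theorem commA' : ⁅𝐃, 𝐙 A⁆ ≤ 𝐙 C := comm_comm (𝐙 A) _ ▸ (k.commA (inf_le_left.trans inf_le_left)).trans
  (commutator_le_of_le_normalizer (k.tC.le.trans (le_normalizer_Z p C)))

theorem nrmD : C ≤ 𝐍 (𝐃) := by
  have h1 := H28.le_normalizer_of_commutator_le k.commQ k.D_le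
  refine k.opp.ge.trans (sup_le (k.c1.sup'.ge.trans (sup_le ?_ h1)) (k.c3.sup.ge.trans (sup_le ?_ h1)))
  · exact H29.le_normalizer_of_commutator_le (k.commA'.trans k.Z_le)
  · exact H29.le_normalizer_of_commutator_le (comm_comm (𝐙 E) _ ▸ (k.commE inf_le_right).trans
      ((commutator_le_of_le_normalizer (k.uC.le.trans (le_normalizer_Z p C))).trans k.Z_le))

theorem commD : ⁅𝐃, 𝐄 C⁆ ≤ 𝐙 C := by
  obtain ⟨x, hx, hQ⟩ := SetLike.not_le_iff_exists.1 (k.c1.symm.not_le k.vC k.tC)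
  exact commutator_le_of_le_cmod (k.vC.res_le k.tC (le_normalizer_cmod k.nrmD (le_normalizer_Z p C))
    (k.AT hx) hQ (le_cmod (k.AT.trans (k.tC.le.trans (le_normalizer_Z p C))) k.commA' hx))

theorem not_comm : ¬ ⁅𝐄 C, 𝐐 C⁆ ≤ 𝐃 := fun e => k.nn (by
  have : ⁅𝐐 C, 𝐄 C⁆ ≤ 𝐙 C := by
    rw [← commutator_commutator_pResidualOf' (isPGroup_pCoreOf p C) (le_normalizer_pCoreOf p C)]
    exact (commutator_mono (comm_comm (𝐄 C) _ ▸ e) le_rfl).trans k.commD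
  exact k.uC.pResidualOf_sup.ge.trans (sup_le (le_normalizer_sup_of_comm ((pResidualOf_le p C).trans
    (le_normalizer_Z p C)) ((commutator_mono k.dc le_rfl).trans this)) (le_normalizer_sup
    (k.uD.le.trans (le_normalizer_Z p D)) (k.uC.le.trans (le_normalizer_Z p C)))))

theorem Q_eq : 𝐐 C = 𝐙 D ⊔ 𝐐 B ⊓ 𝐐 C ∧ # (𝐐 C) * # (𝐐 D) = # U * # ↥(𝐐 B ⊓ 𝐐 C) :=
  k.c2.card_inf k.vD k.tB k.uD k.dc k.tC.pCoreOf_le

theorem W_eq : 𝐐 B ⊓ 𝐐 C = 𝐙 B ⊔ 𝐃 ∧ # ↥(𝐐 B ⊓ 𝐐 C) * # (𝐐 B) = # T * # ↥(𝐃) :=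
  inf_comm (𝐐 D) (𝐐 B ⊓ 𝐐 C) ▸ k.c2.symm.card_inf k.vB k.uD k.tB (le_inf k.vB.Z_le_Q k.bc)
    (inf_le_right.trans k.uC.pCoreOf_le)

theorem card_Q : # (𝐐 B) = # (𝐐 D) := by
  have := k.c2.card
  rw [k.tC.card_eq k.uC] at this
  exact (Nat.eq_of_mul_eq_mul_left Nat.card_pos this).symm

theorem ns (h : # (𝐐 C) ≤ # (𝐐 B)) : # (𝐐 B) ≤ # (𝐐 C) ∧ ∃ (F : Type) (_ : Field F) (_ : Fintype F),
    # T = Fintype.card F * # (𝐐 C) ∧
      ∃ N : NS p F C (𝐐 C) (𝐃) T U, ∀ v ∈ 𝐐 C, N.ψ v = 0 ↔ v ∈ 𝐃 := by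
  obtain ⟨R⟩ := exists_secRep (p := p) (pCoreOf_le p C) k.D_le (le_normalizer_pCoreOf p C) k.nrmD k.commQ
    fun v hv => ⟨⟨k.vB.pow k.tB (k.tC.pCoreOf_le hv), pow_mem hv p⟩, k.vD.pow k.uD (k.uC.pCoreOf_le hv)⟩
  have c1 := k.Q_eq.2
  have c2 := k.W_eq.2
  rw [← k.card_Q, ← k.tC.card_eq k.uC] at c1
  obtain ⟨F, _, _, hF, ⟨N⟩⟩ := k.vC.exists_NS k.tC k.uC k.opp R k.commQ k.not_comm le_rfl (k.vC.ne k.tC)
    (W := 𝐐 B ⊓ 𝐐 C) inf_le_left inf_le_right (by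
      rw [← k.c1.sup']
      refine commutator_sup_le (k.AT.trans (k.tC.le.trans k.nrmD)) ((pCoreOf_le p C).trans k.nrmD) ?_
        ((commutator_mono le_rfl inf_le_right).trans k.commQ)
      refine (commutator_mono le_rfl (k.W_eq.1.trans (sup_comm _ _)).le).trans ?_
      rw [comm_sup_cen (le_centralizer_comm.1 (k.ab.trans k.vB.Q_le_C))
        (((inf_le_left.trans inf_le_left).trans k.sB.pCoreOf_le).trans (k.sA.le.trans (le_normalizer_Z p A))),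
        comm_comm]
      exact k.commA'.trans k.Z_le)
    (by rw [inf_of_le_right k.tC.pCoreOf_le, ← c1]; exact Nat.mul_le_mul_left _ h)
  have hk : ∀ v ∈ 𝐐 C, N.ψ v = 0 ↔ v ∈ cmod C (𝐃) := fun v hv =>
    (N.ker v hv).trans ⟨fun e => ⟨k.nrmD (pCoreOf_le p C hv), e⟩, fun e => e.2⟩
  have c3 := N.card_eq le_rfl (AddMonoidHom.id _) hk N.onto
  have l : 𝐃 ≤ 𝐐 C ⊓ cmod C (𝐃) := fun v hv =>
    ⟨hv.1.2, (hk v hv.1.2).1 (N.ψ_eq_zero hv k.nrmD)⟩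
  have l' := card_le_of_le' l
  rw [Nat.card_fun, Nat.card_eq_fintype_card (α := F), Nat.card_eq_fintype_card (α := Fin 2),
    Fintype.card_fin] at c3
  have q0 : 0 < Fintype.card F := Fintype.card_pos
  have q1 : 0 < # (𝐐 C) := Nat.card_pos
  have q2 : 0 < # ↥(𝐃) := Nat.card_pos
  have c4 : # (𝐐 B) ^ 2 * # ↥(𝐐 C ⊓ cmod C (𝐃)) = # (𝐐 C) ^ 2 * # ↥(𝐃) := by
    refine Nat.eq_of_mul_eq_mul_left (pow_pos q0 2) ?_
    calc _ = # (𝐐 C) * # (𝐐 B) * # (𝐐 B) := by rw [c3]; ring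
      _ = # T * (# T * # ↥(𝐃)) := by rw [c1, mul_assoc, c2]
      _ = _ := by rw [hF]; ring
  have c5 : # (𝐐 B) ≤ # (𝐐 C) := (Nat.pow_le_pow_iff_left two_ne_zero).1
    (Nat.le_of_mul_le_mul_right ((Nat.mul_le_mul_left _ l').trans c4.le) q2)
  rw [le_antisymm c5 h] at c4
  refine ⟨c5, F, _, _, hF, N, fun v hv => (hk v hv).trans ⟨fun e => ?_, fun e => (l e).2⟩⟩
  exact (eq_of_le_of_card_le l (Nat.eq_of_mul_eq_mul_left (pow_pos q1 2) c4).le).ge ⟨hv, e⟩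

end W5

/-- the configuration for critical distance two -/
structure T2 (p : ℕ) (A B C D E S T U V : Subgroup X) : Prop extends W5 p A B C D E S T U V where
  ns : ∃ (F : Type) (_ : Field F) (_ : Fintype F), # T = Fintype.card F * # (𝐐 C) ∧
    ∃ N : NS p F C (𝐐 C) (𝐃) T U, ∀ v ∈ 𝐐 C, N.ψ v = 0 ↔ v ∈ 𝐃
  cub : ∀ u ∈ 𝐙 D, u ∉ 𝛀 U → ∀ a ∈ 𝐙 A, a ∉ 𝐐 C → ⁅a, ⁅a, u⁆⁆ ∉ 𝐂 C

theorem W5.t2 {A₀ S₀ : Subgroup X} (k : W5 p A B C D E S T U V) (k' : W5 p A₀ A B C D S₀ S T U) :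
    T2 p A B C D E S T U V := by
  have c := k'.card_Q
  have e : # (𝐐 C) = # (𝐐 B) := by
    rcases le_total (# (𝐐 C)) (# (𝐐 B)) with h | h
    · exact le_antisymm h (k.ns h).1
    · exact le_antisymm (c ▸ (k'.ns (c ▸ h)).1) h
  refine ⟨k, (k.ns e.le).2, fun u hu hu' a ha ha' e' => ?_⟩
  obtain ⟨F, _, _, -, N, hN⟩ := (k'.ns (c ▸ e.ge)).2
  have huT := k.tC.pCoreOf_le (k.dc hu)
  have huQ : u ∉ 𝐐 B := fun e => hu' (k.c2.inf'.le ⟨hu, e⟩)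
  have w1 : ⁅a, u⁆ ∈ 𝐐 B ⊓ 𝐐 C := ⟨commutator_le_of_le_normalizer (k.tB.le.trans (le_normalizer_pCoreOf p B))
    (commutator_mem_commutator (k.ab ha) huT), commutator_le_of_le_normalizer' (k.tC.le.trans
    (le_normalizer_pCoreOf p C)) (commutator_mem_commutator (k.AT ha) (k.dc hu))⟩
  have w2 : ⁅a, u⁆ ∉ 𝐐 A := fun e => by
    have h1 := N.fst_eq_zero huT huQ (k.ab ha) ((hN _ (commutatorElement_mem_comm.1 w1.1)).2
      (commutatorElement_mem_comm.1 ⟨⟨e, w1.1⟩, w1.2⟩))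
    obtain ⟨s, hs, hs'⟩ := SetLike.not_le_iff_exists.1 (k'.c1.symm.not_le k.vB k.sB)
    have h2 := N.snd_eq_zero (k'.AT hs) hs' (k.ab ha) (by
      rw [comm_eq_one_of (k'.ab.trans k.vA.Q_le_C) hs ha, N.one])
    exact ha' ((hN a (k.ab ha)).1 (vec_eq_zero h1 h2)).2
  rw [(k.c1.card_inf k.vC k.sA k.tC (le_inf k.cb k.vC.Z_le_Q) (inf_le_left.trans k.sB.pCoreOf_le)).1] at w1
  obtain ⟨z, hz, d, hd, e⟩ := (mem_sup_of_le_normalizer (le_normalizer_of_le_centralizer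
    (k.vC.Z_le_C.trans (centralizer_anti (inf_le_right.trans inf_le_right))))).1 w1
  rw [← e, comm_mul_right, comm_eq_one_of k.vA.Z_le_C ha hd.1, mul_one, mul_inv_cancel, mul_one] at e'
  have := k.vC.fix k.tC (k.AT ha) ha' hz e'
  exact w2 (e ▸ mul_mem (k.vA.mem_Q k.sA (k.c1.sup.le (mem_sup_left hz)) (centralizer_anti k.AT
    (omegaOneCenter_le_centralizer p T this))) hd.1)

theorem Am.t2 (h : Am p 𝓥 2) (hx : Ext p 𝓥 2) (e : Near p 𝓥 2 A B) (hn : ¬ 𝐙 A ≤ 𝐐 B) :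
    ∃ A B C D E S T U V, C ∈ 𝓥 ∧ T2 p A B C D E S T U V := by
  obtain ⟨G, S, k⟩ := h.long le_rfl hx e hn 3
  exact ⟨_, _, _, _, _, _, _, _, _, k.mem _ (by omega), (h.w5 k 1 le_rfl).t2 (h.w5 k 0 (by omega))⟩


namespace T2
variable (k : T2 p A B C D E S T U V)
include k

theorem comm_mem {u a : X} (hu : u ∈ 𝐙 D) (ha : a ∈ 𝐙 A) : ⁅a, u⁆ ∈ 𝐐 B ⊓ 𝐐 C :=
  ⟨commutator_le_of_le_normalizer (k.tB.le.trans (le_normalizer_pCoreOf p B))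
    (commutator_mem_commutator (k.ab ha) (k.tC.pCoreOf_le (k.dc hu))), commutator_le_of_le_normalizer'
    (k.tC.le.trans (le_normalizer_pCoreOf p C)) (commutator_mem_commutator (k.AT ha) (k.dc hu))⟩

theorem comm_mem_Ω {w a : X} (hw : w ∈ 𝐐 B) (ha : a ∈ 𝐙 A) : ⁅a, w⁆ ∈ 𝛀 T :=
  k.vC.comm_le_Ω k.tC (k.commA le_rfl (commutator_mem_commutator ha hw))

theorem ne_two : p ≠ 2 := by
  rintro rfl
  obtain ⟨u, hu, hu'⟩ := SetLike.not_le_iff_exists.1 (k.vD.not_Z_le_Ω k.uD)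
  obtain ⟨a, ha, ha'⟩ := SetLike.not_le_iff_exists.1 (k.c1.symm.not_le k.vC k.tC)
  have h1 := k.vA.Z_pow ha
  have h2 := k.vD.Z_pow hu
  rw [pow_two, mul_eq_one_iff_eq_inv] at h1 h2
  have h3 := k.cen (commutator_mem_commutator hu (k.uC.pCoreOf_le (k.comm_mem hu ha).2))
  refine k.cub u hu hu' a ha ha' ?_
  have e1 : ⁅a, ⁅a, u⁆⁆ = (⁅a, u⁆ * ⁅a, u⁆)⁻¹ := by
    simp only [commutatorElement_def, _root_.mul_inv_rev, inv_inv, ← h1, mul_assoc]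
    nth_rw 2 [h1]; group
  have e2 : ⁅u, ⁅a, u⁆⁆ = (⁅a, u⁆ * ⁅a, u⁆)⁻¹ := by
    simp only [commutatorElement_def, _root_.mul_inv_rev, inv_inv, ← h2, mul_assoc]
    nth_rw 3 [h2]; group
  rwa [e1, ← e2]
end T2

/-- fixed points of the residual -/
theorem Vx.cen_res (h : Vx p G) : 𝐙 G ⊓ 𝐂 (𝐄 G) ≤ 𝐂 G := fun z hz => by
  obtain ⟨S, hS⟩ := exists_isSylowIn p G
  obtain ⟨S', -, -, F, _, _, -, ⟨N⟩⟩ := h.ns' hS
  refine (N.mem_C_iff hz.1).2 (by_contra fun e => h.not_comm_res h.nz (le_centralizer_comm.1 ?_))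
  exact (N.le_sup (K := 𝐂 G) (fun v hv => (N.mem_C_iff hv).2) inf_le_left (le_normalizer_inf N.nrm
    (le_normalizer_centralizer (le_normalizer_pResidualOf p G))) hz e).trans
    (sup_le inf_le_right (centralizer_anti (pResidualOf_le p G)))

theorem Vx.Z_le (h : Vx p G) : 𝐙 G ≤ ⁅𝐙 G, 𝐄 G⁆ ⊔ 𝐙 G ⊓ 𝐂 G := by
  obtain ⟨S, hS⟩ := exists_isSylowIn p G
  obtain ⟨S', -, -, F, _, _, -, ⟨N⟩⟩ := h.ns' hS
  have l : ⁅𝐙 G, 𝐄 G⁆ ≤ 𝐙 G := commutator_le_of_le_normalizer ((pResidualOf_le p G).trans N.nrm)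
  obtain ⟨v, hv, e⟩ := SetLike.not_le_iff_exists.1 fun e : ⁅𝐙 G, 𝐄 G⁆ ≤ 𝐂 G => h.not_comm_res h.nz
    (pResidualOf_le_centralizer_of_commutator_le ((ea_isPGroup h.ea).to_le l) le_rfl
      ((pResidualOf_le p G).trans (le_centralizer_comm.1 e)))
  exact N.le_sup (fun v hv e => ⟨hv, (N.mem_C_iff hv).2 e⟩) l (le_normalizer_commutator N.nrm
    (le_normalizer_pResidualOf p G)) hv fun k => e ((N.mem_C_iff (l hv)).2 k)

theorem Vx.comm_le_res (h : Vx p G) : ⁅𝐙 G, G⁆ ≤ ⁅𝐙 G, 𝐄 G⁆ := by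
  have n := le_normalizer_commutator (le_normalizer_Z p G) (le_normalizer_pResidualOf p G)
  have l := h.Z_le_Q.trans (pCoreOf_le p G)
  exact (commutator_mono h.Z_le le_rfl).trans (commutator_sup_le (le_normalizer_of_le le_rfl)
    ((inf_le_left.trans l).trans n) (commutator_le_of_le_normalizer n) ((comm_Ω inf_le_right).le.trans bot_le))

namespace Vx
variable (h : Vx p G) (hS : IsSylowIn p S G)
include h hS

theorem Z_le_sup (hS' : IsSylowIn p S' G) (ho : S ⊔ S' = G) : 𝐙 G ≤ 𝛀 S ⊔ 𝛀 S' := fun z hz => by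
  obtain ⟨F, _, _, -, ⟨N⟩⟩ := h.ns hS hS' ho
  obtain ⟨v, hv, e⟩ := N.onto ![N.ψ z 0, 0]
  have m := mul_mem (inv_mem hv) hz
  rw [← mul_inv_cancel_left v z]
  exact mul_mem_sup ((h.mem_Ω_iff hS N hv).2 (by simp [e])) (h.mem_Ω hS' m (mem_cen_iff.2 (N.fixS' _ m (by
    rw [N.mul _ (inv_mem hv) _ hz, N.inv hv, e]; simp))))

theorem inf_le_Ω (h1 : A ≤ S) (hAQ : ¬ A ≤ 𝐐 G) : 𝐙 G ⊓ 𝐂 A ≤ 𝛀 S := fun z hz =>
  let ⟨s, hs, hs'⟩ := SetLike.not_le_iff_exists.1 hAQ; h.fix' hS (h1 hs) hs' hz.1 (mem_cen_iff.1 hz.2 s hs)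

variable (he : p ∣ e) (hA : MaxAb e S A) (hAQ : ¬ A ≤ 𝐐 G)
include he hA hAQ

theorem max : A ⊔ 𝐐 G = S ∧ MaxAb e S (A ⊓ 𝐐 G ⊔ 𝐙 G) := by
  obtain ⟨q, a1, a2, -⟩ := h.card hS
  have hc : A ⊓ 𝐐 G ≤ 𝐂 (𝐙 G) := inf_le_right.trans h.Q_le_C
  have c1 := H1.card_sup_mul_card_inf (le_normalizer_of_le_centralizer hc)
  have c2 := H1.card_sup_mul_card_inf (hA.le.trans (hS.le.trans (le_normalizer_pCoreOf p G)))
  have l1 := sup_le (inf_le_left.trans hA.le) (h.Z_le_S hS) (a := A ⊓ 𝐐 G)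
  have l2 := (hA.abE.of_le inf_le_left).sup (abE_of_ea he h.ea) hc
  have l3 := sup_le hA.le hS.pCoreOf_le
  have c3 := card_le_of_le' ((le_inf inf_le_right (inf_le_left.trans (inf_le_left.trans hA.comm))).trans
    (h.inf_le_Ω hS hA.le hAQ) : A ⊓ 𝐐 G ⊓ 𝐙 G ≤ _)
  have c4 : # ↥(A ⊓ 𝐐 G) * q ≤ # ↥(A ⊓ 𝐐 G ⊔ 𝐙 G) := Nat.le_of_mul_le_mul_right
    (by rw [mul_assoc, ← a2, ← c1]; exact Nat.mul_le_mul_left _ c3) (Nat.card_pos (α := 𝛀 S))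
  refine ⟨eq_of_le_of_card_le l3 (Nat.le_of_mul_le_mul_right ?_ (Nat.card_pos (α := ↥(A ⊓ 𝐐 G)))),
    hA.of_card_le l1 l2 (le_trans (Nat.le_of_mul_le_mul_right ?_ (Nat.card_pos (α := 𝐐 G))) c4)⟩
  · rw [c2, a1, mul_right_comm, mul_comm q]
    exact Nat.mul_le_mul_right _ (c4.trans (hA.card_le l1 l2))
  · rw [← c2, mul_assoc, ← a1, mul_comm]
    exact Nat.mul_le_mul_left _ (card_le_of_le' l3)

end Vx

theorem Crit.p1 (c : Crit p A T C T) (hA : Vx p A) (hC : Vx p C) (h1 : IsSylowIn p T A)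
    (h2 : IsSylowIn p T C) : P1 p C T :=
  ⟨_, hA.ea, c.sup', (c.comm_eq hA hC h1 h2).le, (c.card_inf hC h1 h2 hC.Z_le_Q h2.pCoreOf_le).1.le.trans
    (sup_le_sup_left (le_inf inf_le_right (inf_le_left.trans hA.Q_le_C)) _)⟩

theorem Rk1.comm_res_le (h : Rk1 p G) (hS : IsSylowIn p S G) (hV : G ≤ 𝐍 V) (h0 : G ≤ 𝐍 V₀) (ha : a ≤ S)
    (hQ : ¬ a ≤ 𝐐 G) (hc : ⁅V, a⁆ ≤ V₀) : ⁅V, 𝐄 G⁆ ≤ V₀ := by
  obtain ⟨x, hx, hx'⟩ := SetLike.not_le_iff_exists.1 hQ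
  exact commutator_le_of_le_cmod (h.res_le hS (le_normalizer_cmod hV h0) (ha hx) hx'
    (le_cmod (ha.trans (hS.le.trans h0)) hc hx))

theorem p1_p0 (h : P1 p C T) (hC : Rk1 p C) (hT : IsSylowIn p T C) : P0 p C T := by
  obtain ⟨a, h1, h2, h3, -⟩ := h
  refine ⟨a, h1, h2, hC.comm_res_le hT (le_normalizer_pCoreOf p C) (le_normalizer_Z p C)
    (le_sup_left.trans h2.le) (fun e => hC.ne hT (h2.ge.trans (sup_le e le_rfl))) ?_⟩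
  rw [comm_comm]
  exact ((commutator_mono le_rfl hT.pCoreOf_le).trans h3).trans
    (commutator_le_of_le_normalizer (hT.le.trans (le_normalizer_Z p C)))

theorem p1_res_inf (h : P1 p G T) (hG : Vx p G) (hT : IsSylowIn p T G) : 𝐄 G ⊓ 𝐐 G ≤ ⁅𝐙 G, 𝐄 G⁆ := by
  obtain ⟨_, -, -, h0⟩ := p1_p0 h hG.toRk1 hT
  obtain ⟨a, -, h2, h3, -⟩ := h
  exact (res_inf_le hT hT.pCoreOf_le (le_normalizer_pCoreOf p G) h2 (((comm_comm _ _).le.trans h3).trans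
    (((commutator_mono le_rfl hT.le).trans hG.comm_le_res).trans (commutator_mono hG.Z_le_Q le_rfl)))).trans
    (comm_res_le h0)

end H4.PV
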