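import Cfsg.Agent.H4.Der
import Cfsg.Agent.H4.Rk2

/-! The number of generators of a `p`-group of automorphisms of an abelian group (Patterson). -/

set_option autoImplicit false
set_option linter.unusedSectionVars false

namespace H4
open Subgroup
open scoped commutatorElement

variable {G : Type*} [Group G] [Finite G] {p : ℕ} [hp : Fact p.Prime]

theorem exists_chain (hG : IsPGroup p G) (n : ℕ) : ∀ (N : Subgroup G) [N.Normal], Nat.card N = p ^ n →
    ∃ A : ℕ → Subgroup G, (∀ i, (A i).Normal) ∧ Monotone A ∧ A 0 = ⊥ ∧ (∀ i, n ≤ i → A i = N) ∧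
      ∀ i, Nat.card (A (i + 1)) ≤ Nat.card (A i) * p := by
  have h0 : ∀ K : Subgroup G, Nat.card K ≤ Nat.card K * p := fun K => Nat.le_mul_of_pos_right _ hp.out.pos
  induction n with
  | zero =>
    exact fun N _ h => ⟨fun _ => N, fun _ => ‹_›, monotone_const, card_eq_one.1 h, fun _ _ => rfl, fun _ => h0 _⟩
  | succ n ih =>
    intro N _ h
    obtain ⟨K, _, h1, h2⟩ := exists_normal_card_pow hG (N := N) n (h ▸ Nat.pow_le_pow_right hp.out.pos n.le_succ)
    obtain ⟨A, a1, a2, a3, a4, a5⟩ := ih K h2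
    refine ⟨fun i => if i ≤ n then A i else N, fun i => by dsimp only; split_ifs; exacts [a1 i, inferInstance],
      monotone_nat_of_le_succ fun i => ?_, by simp [a3], fun i hi => if_neg (by omega), fun i => ?_⟩
    · split_ifs with e1 e2 e2
      exacts [a2 i.le_succ, ((a2 e1).trans (a4 n le_rfl).le).trans h1, by omega, le_rfl]
    · dsimp only
      split_ifs with e1 e2 e2
      exacts [a5 i, by omega, by rw [a4 i (by omega), h, h2, pow_succ], h0 _]

theorem card_closure_le {A : Subgroup G} (hA : Cfsg.IsElementaryAbelian p A) (S : Finset G) (h : (S : Set G) ⊆ A) :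
    Nat.card (closure (S : Set G)) ≤ p ^ S.card := by
  classical
  induction S using Finset.induction_on with
  | empty => simp
  | insert a S ha ih =>
    rw [Finset.coe_insert, Set.insert_subset_iff] at h
    have h1 : closure (S : Set G) ≤ A := (closure_le _).2 h.2
    have h2 : a ∈ normalizer (closure (S : Set G) : Set G) := centralizer_le_normalizer _
      fun x hx => isMulCommutative_iff.1 hA.1 x (h1 hx) a h.1
    rw [Finset.coe_insert, Set.insert_eq, Subgroup.closure_union, ← zpowers_eq_closure, sup_comm,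
      Finset.card_insert_of_notMem ha, pow_succ]
    by_cases e : a ∈ closure (S : Set G)
    · rw [sup_eq_left.2 (zpowers_le.2 e)]
      exact (ih h.2).trans (Nat.le_mul_of_pos_right _ hp.out.pos)
    · exact (card_sup_zpowers_prime hp.out h2 e (by simp [hA.2 a h.1])).trans_le
        (Nat.mul_le_mul_right _ (ih h.2))

/-- generators modulo the centralizer of an abelian normal subgroup of order `p ^ n` -/
theorem patterson (hG : IsPGroup p G) {N : Subgroup G} [N.Normal] (hN : IsMulCommutative N) {n : ℕ}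
    (hc : Nat.card N = p ^ n) (H : Subgroup G) : ∃ S : Finset G, S.card ≤ n ^ 2 / 4 ∧
      closure (S : Set G) ⊔ H ⊓ centralizer (N : Set G) = H := by
  classical
  obtain ⟨A, a1, a2, a3, a4, a5⟩ := exists_chain hG n N hc
  have aN : ∀ i, A i ≤ N := fun i => (a2 (le_max_left i n)).trans (a4 _ (le_max_right _ _)).le
  let St : ℕ → ℕ → G → Prop := fun i v g => g ∈ centralizer (A v : Set G) ∧ ∀ b ∈ A (v + 1), ⁅g, b⁆ ∈ A i
  have c1 : ∀ {v g b}, g ∈ centralizer (A v : Set G) → b ∈ A v → ⁅g, b⁆ = 1 := fun hg hb =>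
    commutatorElement_eq_one_iff_mul_comm.2 (hg _ hb).symm
  have act : ∀ {v} g {b}, b ∈ A (v + 1) → ⁅g, b⁆ ∈ A v := fun {v} g b hb => comm_symm_mem
    (commutator_le_of_card_mul hG (a2 v.le_succ) (a5 v) (commutator_mem_commutator hb (mem_top g)))
  have st : ∀ {i v g a}, g ∈ centralizer (A v : Set G) → a ∈ A (v + 1) → a ∉ A v → ⁅g, a⁆ ∈ A i →
      St i v g := fun {i v g a} hg ha ha' e => ⟨hg, fun b hb => by
    obtain ⟨m, hm⟩ := gen_of_card hG (a2 v.le_succ) (a5 v) ha ha' b hb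
    have : a ^ m * ((a ^ m)⁻¹ * b) ∈ cmt (A i) g := mul_mem (zpow_mem (cmt_symm (mem_cmt.2 e)) m)
      (cmt_symm (mem_cmt.2 (by rw [c1 hg hm]; exact one_mem _)))
    exact mem_cmt.1 (cmt_symm (by simpa using this))⟩
  have ex : ∀ {i v g}, g ∈ centralizer (A v : Set G) → ¬ St i v g →
      ∃ a ∈ A (v + 1), a ∉ A v ∧ ⁅g, a⁆ ∉ A i := fun {i v g} hg h => by
    by_contra hc
    push Not at hc
    exact h ⟨hg, fun b hb => by_cases (fun e : b ∈ A v => by rw [c1 hg e]; exact one_mem _) (hc b hb)⟩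
  have f1 : ∀ {i v g h}, St (i + 1) v g → ¬ St i v g → St (i + 1) v h → ∃ m : ℤ, St i v ((g ^ m)⁻¹ * h) :=
    fun {i v g h} hg hg' hh => by
      obtain ⟨a, ha, ha', e⟩ := ex hg.1 hg'
      obtain ⟨m, hm⟩ := gen_of_card hG (a2 i.le_succ) (a5 i) (hg.2 a ha) e _ (hh.2 a ha)
      have h1 : (g ^ m)⁻¹ ∈ centralizer (A v : Set G) := inv_mem (zpow_mem hg.1 m)
      refine ⟨m, st (mul_mem h1 hh.1) ha ha' ?_⟩
      rwa [commutator_mul_left_of_central (h1 _ (act h ha)).symm, ← zpow_neg,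
        commutator_zpow_left (hg.1 _ (act g ha)).symm, zpow_neg, (a1 i).mem_comm_iff]
  have f2 : ∀ {u v w g h}, St (u + 1) v g → ¬ St u v g → St (v + 1) w h → ¬ St v w h →
      St (u + 1) w ⁅g, h⁆ ∧ ¬ St u w ⁅g, h⁆ := fun {u v w g h} hg hg' hh hh' => by
    have key : ∀ b ∈ A (w + 1), ⁅⁅g, h⁆, h * g * b * (h * g)⁻¹⁆ = ⁅g, ⁅h, b⁆⁆ := fun b hb => by
      have e1 : h * ⁅g, b⁆ * h⁻¹ = ⁅g, b⁆ := mul_inv_eq_iff_eq_mul.2 (hh.1 _ (act g hb)).symm
      have e2 := isMulCommutative_iff.1 hN _ (aN _ (act g hb)) _ (aN _ (act h hb))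
      calc _ = g * ⁅h, b⁆ * g⁻¹ * (⁅g, b⁆ * ⁅h, b⁆⁻¹ * (h * ⁅g, b⁆ * h⁻¹)⁻¹) := by
            simp only [commutatorElement_def]; group
        _ = _ := by
          rw [e1, mul_assoc ⁅g, b⁆, ← mul_inv_rev, e2, mul_inv_rev, mul_inv_cancel_left,
            commutatorElement_def g ⁅h, b⁆]
    refine ⟨⟨comm_symm_mem (commutator_le_left _ ⊤ (commutator_mem_commutator hh.1 (mem_top g))), fun b hb => ?_⟩,
      fun e => ?_⟩
    · have := key _ ((a1 _).conj_mem' b hb (h * g))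
      rw [show h * g * ((h * g)⁻¹ * b * (h * g)) * (h * g)⁻¹ = b by group] at this
      exact this ▸ hg.2 _ (hh.2 _ ((a1 _).conj_mem' b hb _))
    · obtain ⟨b, hb, -, e1⟩ := ex hh.1 hh'
      exact hg' (st hg.1 (hh.2 b hb) e1 (key b hb ▸ e.2 _ ((a1 _).conj_mem b hb _)))
  let L : Subgroup G → ℕ → ℕ → Prop := fun K u v => ∃ g ∈ K, St (u + 1) v g ∧ ¬ St u v g
  let R : Fin n → Fin n → Prop := fun u v => u < v ∧ L H u v ∧ ¬ L ⁅H, H⁆ u v
  have tri : ∀ u v w, R u v → R v w → ¬ R u w := by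
    rintro u v w ⟨-, ⟨g, hg, g1, g2⟩, -⟩ ⟨-, ⟨h, hh, h1, h2⟩, -⟩ ⟨-, -, e⟩
    exact e ⟨_, commutator_mem_commutator hg hh, f2 g1 g2 h1 h2⟩
  have cf : (SimpleGraph.fromRel R).CliqueFree (2 + 1) := fun s hs => by
    obtain ⟨a, b, c, ⟨-, h1⟩, ⟨-, h2⟩, ⟨-, h3⟩, -⟩ := SimpleGraph.is3Clique_iff.1 hs
    rcases h1 with h1 | h1 <;> rcases h2 with h2 | h2 <;> rcases h3 with h3 | h3 <;>
      first | exact tri _ _ _ h1 h3 h2 | exact tri _ _ _ h2 h3 h1 | exact tri _ _ _ h2 h1 h3 |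
        exact tri _ _ _ h1 h2 h3 | exact tri _ _ _ h3 h2 h1 | exact tri _ _ _ h3 h1 h2 |
        exact absurd (h1.1.trans (h3.1.trans h2.1)) (lt_irrefl _) |
        exact absurd (h1.1.trans (h2.1.trans h3.1)) (lt_irrefl _)
  have ch : ∀ e : Sym2 (Fin n), ∃ g ∈ H, ∀ u v, R u v → e = s(u, v) → St (u + 1) v g ∧ ¬ St u v g := fun e => by
    by_cases h : ∃ u v, R u v ∧ e = s(u, v)
    · obtain ⟨u, v, h, rfl⟩ := h
      obtain ⟨g, hg, h1⟩ := h.2.1
      refine ⟨g, hg, fun u' v' h' e => ?_⟩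
      rcases Sym2.eq_iff.1 e with ⟨rfl, rfl⟩ | ⟨rfl, rfl⟩
      exacts [h1, absurd (h.1.trans h'.1) (lt_irrefl _)]
    · exact ⟨1, one_mem _, fun u v h1 h2 => absurd ⟨u, v, h1, h2⟩ h⟩
  choose γ γ1 γ2 using ch
  let S := (SimpleGraph.fromRel R).edgeFinset.image γ
  have hS : closure (S : Set G) ≤ H := (closure_le _).2 fun x hx => by
    obtain ⟨e, -, rfl⟩ := Finset.mem_image.1 hx; exact γ1 e
  refine ⟨S, Finset.card_image_le.trans (cf.card_edgeFinset_le.trans ?_),
    eq_of_sup_commutator (hG.to_subgroup H) (sup_le hS inf_le_left) ?_⟩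
  · rw [Fintype.card_fin, Nat.choose_eq_zero_of_lt (Nat.mod_lt _ two_pos)]
    exact Nat.div_le_div_right (by simp)
  have key : ∀ d v, v + d = n → ∀ h ∈ H, h ∈ centralizer (A v : Set G) →
      h ∈ closure (S : Set G) ⊔ H ⊓ centralizer (N : Set G) ⊔ ⁅H, H⁆ := fun d => by
    induction d with
    | zero => exact fun v e h h1 h2 => mem_sup_left (mem_sup_right ⟨h1, a4 v e.ge ▸ h2⟩)
    | succ d ih =>
      intro v e
      suffices ∀ i ≤ v, ∀ h ∈ H, St i v h → h ∈ closure (S : Set G) ⊔ H ⊓ centralizer (N : Set G) ⊔ ⁅H, H⁆ from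
        fun h h1 h2 => this v le_rfl h h1 ⟨h2, fun b => act h⟩
      intro i
      induction i with
      | zero =>
        exact fun _ h h1 h2 => ih (v + 1) (by omega) h h1 fun b hb =>
          (commutatorElement_eq_one_iff_mul_comm.1 (mem_bot.1 (a3 ▸ h2.2 b hb))).symm
      | succ i ih' =>
        intro hi h h1 h2
        by_cases h3 : St i v h
        · exact ih' (by omega) h h1 h3
        obtain ⟨g, g1, g2, g3⟩ : ∃ g ∈ H, g ∈ closure (S : Set G) ⊔ H ⊓ centralizer (N : Set G) ⊔ ⁅H, H⁆ ∧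
            St (i + 1) v g ∧ ¬ St i v g := by
          by_cases h4 : L ⁅H, H⁆ i v
          · obtain ⟨g, g1, g2⟩ := h4
            exact ⟨g, commutator_le_self _ g1, mem_sup_right g1, g2⟩
          · have r : R ⟨i, by omega⟩ ⟨v, by omega⟩ := ⟨show i < v by omega, ⟨h, h1, h2, h3⟩, h4⟩
            exact ⟨γ _, γ1 _, mem_sup_left (mem_sup_left (subset_closure (Finset.mem_image_of_mem γ
              (by simpa using ⟨show i ≠ v by omega, .inl r⟩)))), γ2 _ _ _ r rfl⟩
        obtain ⟨m, hm⟩ := f1 g3.1 g3.2 h2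
        simpa using mul_mem (zpow_mem g2 m) (ih' (by omega) _ (mul_mem (inv_mem (zpow_mem g1 m)) h1) hm)
  exact fun h hh => key n 0 (zero_add n) h hh (by simp [a3])

end H4
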