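import Cfsg.Agent.H4.QE9

/-! Groups with `C(Ω₁ Z(T)) = T` and solvable parabolics, IV: transfer. -/

set_option autoImplicit false
set_option linter.unusedVariables false
set_option linter.unusedSectionVars false
set_option linter.style.haveILetI false

namespace H4.QF
open H9 hiding zj
open Matrix hiding mul_inv_rev
open H29.PU hiding Rk1 Vx Crit crit Am Bad W5 T2 le_C_of_normal
open H4.Bm hiding Gd Gt GV Pa P2 DG St Ds Bt ext no_crit hull step1 phi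
open Cfsg Subgroup H28 H28.GC MatrixGroups H29 H29.BB H4.PV Equiv
open H4.OX (Od od_iff syl_sup syl_mem)
open H4.SC (Gd GV Pa P2 Tc Nm hull)
open scoped commutatorElement

universe u
variable {X : Type u} [Group X] [Finite X] {A B C D E F H J K K' L L₁ L₂ M₁ M₂ M N P Q R S T U V W Y : Subgroup X}
  {a b c d e f g h l m n s t u v w x y z : X}

/-- diagonal elements -/
def ph (t x : X) : X := x * (t * x * t⁻¹)

theorem ph_mul (h : t * a * t⁻¹ ∈ 𝐜 b) : ph t (a * b) = ph t a * ph t b := by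
  rw [ph, ph, ph, ← conj_mul, mul_assoc, mul_assoc a, ← mul_assoc b, ← mem_c.1 h, mul_assoc _ b]

theorem ph_c (e : t * t = 1) (h : t * x * t⁻¹ ∈ 𝐜 x) : ph t x ∈ 𝐜 t := mem_c'.2 (by
  rw [ph, ← conj_mul, ← mem_c.1 h, show t * (t * x * t⁻¹) * t⁻¹ = t * t * x * (t * t)⁻¹ by group, e]; simp)

namespace Tw
variable (q : Tw T R L₁ L₂ M₁ M₂ z y)
include q

local notation "𝐃" => (𝐖ᵥ L₁ ⊔ 𝐖ᵥ L₂ : Subgroup X)
local notation "𝐃'" => (𝐖ᵥ M₁ ⊔ 𝐖ᵥ M₂ : Subgroup X)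
local notation "𝐀" => (T ⊓ 𝐂 𝐃 ⊓ 𝐂 𝐃' : Subgroup X)
local notation "𝐘" => (zpowers z ⊔ zpowers y : Subgroup X)
local notation "𝐏" => (𝐂 (O² L₁) ⊓ 𝐂 (O² L₂) ⊔ zpowers z : Subgroup X)
local notation "𝐏'" => (𝐂 (O² M₁) ⊓ 𝐂 (O² M₂) ⊔ zpowers y : Subgroup X)

theorem toA (hb : b ∈ R) (e : b * b = 1) : ∃ g, g * b * g⁻¹ ∈ 𝐀 := by
  obtain ⟨g, w, hw, a, c⟩ := q.r.toC (q.eB.ge hb) e
  have m := mul_mem (q.DR hw) hb
  obtain ⟨h, v, hv, a', c'⟩ := q.s.toC (q.eB.ge m) (a ▸ conj_sq e)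
  refine ⟨h * g, ?_⟩
  rw [show h * g * b * (h * g)⁻¹ = h * (g * b * g⁻¹) * h⁻¹ by group, a, a']
  exact ⟨⟨q.RT (mul_mem (q.swap.DR hv) m), Subgroup.mul_mem _ (q.cD hv) c⟩, c'⟩

theorem Tle (ht : t ∈ T) (n : t ∉ R) (h1 : R ≤ H) (h2 : t ∈ H) : T ≤ H := fun x hx =>
  (em (x ∈ R)).elim (fun c => h1 c) fun c => (mul_mem_cancel_right h2).1 (h1 (q.two x hx t ht c n))

section
variable (ht : t ∈ T) (nt : t ∉ R)
include ht nt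

theorem phD (ha : a ∈ 𝐃) (hb : b ∈ 𝐃) : t * a * t⁻¹ ∈ 𝐜 b := cen_le_c hb (q.cD ((q.oD ht nt).le (conj_mem_cj ha)))
theorem phz : ph t z = z * y := by rw [ph, (q.out t ht nt).2.2]
theorem phT (e : t * t = 1) (ha : a ∈ 𝐃) : ph t a ∈ T ⊓ 𝐜 t :=
  ⟨mul_mem (q.r.DT ha) (conj_mem_of_mem_normalizer (le_normalizer ht) (q.r.DT ha)), ph_c e (q.phD ht nt ha ha)⟩

theorem key (e : t * t = 1) (l : cj g (T ⊓ 𝐜 t) ≤ T) (c : R ≤ 𝐜 (g * t * g⁻¹)) (hw : w ∈ 𝐖ᵥ L₁) :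
    g * ph t w * g⁻¹ ∈ R := by_contra fun k => by
  have m := q.phT ht nt e (mem_sup_left hw)
  have l' := q.Tle (l (conj_mem_cj m)) k c (conj_mem_c.2 m.2)
  obtain ⟨f, hf, rfl⟩ := q.r.tr' hw fun e => k (by simp [e, ph])
  have cE : ∀ a ∈ O² L₁, ∀ b ∈ O² L₁, t * a * t⁻¹ ∈ 𝐜 b := fun a ha b hb =>
    cen_le_c hb (q.c₁ ((q.out t ht nt).1.le (conj_mem_cj ha)))
  have zE := q.r.k₁.WE q.r.zW
  obtain ⟨v, hv, u, hu, vu⟩ := q.r.exvu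
  have vD := mul_mem (mem_sup_left hv : v ∈ 𝐃) (mem_sup_right hu)
  have p := l (conj_mem_cj (q.phT ht nt e vD))
  have p2 : g * ph t z * g⁻¹ ∈ R := by
    rw [← vu, comm_sq (q.r.w2 hv) (q.r.sym.w2 hu), ph_mul (q.phD ht nt vD vD), ← conj_mul]
    exact (em _).elim (fun c => mul_mem c c) fun c => q.two _ p _ p c c
  refine k (q.TJ l' (O2_c (conj_sq e) (conj_ne fun e => nt (e ▸ one_mem _))) (l (conj_mem_cj m)) ?_)
  have : ph t (f * z * f⁻¹) = ph t f * ph t z * (ph t f)⁻¹ := by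
    rw [eq_mul_inv_iff_mul_eq, ← ph_mul (cE _ (q.r.k₁.WE hw) _ hf), ← ph_mul (cE _ hf _ zE), inv_mul_cancel_right]
  rw [this, ← conj_mul, ← conj_mul, ← conj_inv]
  exact conj_mem_of_mem_normalizer (le_normalizer_JJ 2 _ (conj_mem_c.2 (ph_c e (cE _ hf _ hf))))
    (JJ_sylow_le (q.r.syl.mono l' le_top) (q.eJ.ge p2))

theorem noInv (e : t * t = 1) : False := by
  obtain ⟨C, hC, lC⟩ := exists_isSylowIn_ge (q.r.pg.to_le inf_le_left) (inf_le_right : T ⊓ 𝐜 t ≤ _)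
  obtain ⟨g, h1, h2⟩ := q.r.hb.tr q.r.syl q.nR ht (q.Tle ht nt le_sup_left (mem_sup_right (mem_zpowers t))) e hC.isPGroup
    hC.le (lC ⟨ht, self_mem_c t⟩)
  obtain ⟨h, hA⟩ := q.toA h2 (conj_sq e)
  obtain ⟨k, -, h3⟩ := hC.exists_conj_le (isPGroup_cj (h * g)⁻¹ (q.r.pg.to_le q.RT)) (le_cj_iff.1 (by
    rw [cj_c, show h * g * t * (h * g)⁻¹ = h * (g * t * g⁻¹) * h⁻¹ by group]; exact q.AC.trans (cen_le_c hA)))
  replace h3 := cj_mono g h3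
  rw [cj_cj, cj_cj] at h3
  rw [cj_eq_self (q.cjR (h3.trans h1))] at h3
  replace h3 := h3.trans ((cj_mono g hC.le).trans (cj_c g t).le)
  have l := (cj_mono g lC).trans h1
  obtain ⟨v, hv, u, hu, vu⟩ := q.r.exvu
  have vD : v ∈ 𝐃 := mem_sup_left hv
  have uD : u ∈ 𝐃 := mem_sup_right hu
  have i : ∀ a ∈ 𝐃, a * a = 1 → ph t a * ph t a = 1 := fun a ha e => by rw [← ph_mul (q.phD ht nt ha ha), e]; simp [ph]
  have m := q.cmR.le (commutator_mem_commutator (q.key ht nt e l h3 hv) (q.sym.key ht nt e l h3 hu))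
  rw [← conjugate_commutatorElement, comm_sq (i v vD (q.r.w2 hv)) (i u uD (q.r.sym.w2 hu)), ← ph_mul (q.phD ht nt vD uD),
    ← ph_mul (q.phD ht nt (mul_mem vD uD) (mul_mem vD uD)), ← comm_sq (q.r.w2 hv) (q.r.sym.w2 hu), vu, q.phz ht nt] at m
  have s := q.r.syl.conj_of_mem (mem_top g)
  have l' := (cj_mono g q.Tc).trans (cj_c _ _).le
  rcases q.memY m with d | d | d | d
  exacts [conj_ne q.zy1 d, q.nz s (d ▸ l'), q.swap.nz s (d ▸ l'), nt ((mem_normalizer_iff.1 (q.cy (mem_c''.2 d)) t).2 h2)]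

end

theorem nN : T ≤ 𝐍 (𝐃 ⊔ 𝐃' : Subgroup X) := fun t ht => by
  by_cases c : t ∈ R
  · exact le_normalizer_sup q.RD q.swap.RD c
  · rw [mem_normalizer_iff_cj, cj_sup, q.oD ht c, q.swap.oD ht c, sup_comm]

theorem decN (h : x ∈ 𝐃 ⊔ 𝐃') : ∃ d ∈ 𝐃, ∃ d' ∈ 𝐃', d * d' = x := (mem_sup_of_le_normalizer (q.DR.trans q.swap.RD)).1 h

theorem sqN (ht : t ∈ T) (n : t ∉ R) : t * t ∉ 𝐃 ⊔ 𝐃' := fun h => by
  obtain ⟨d, hd, d', hd', e⟩ := q.decN h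
  have a := mul_mem ht (inv_mem (q.s.DT hd'))
  have b : t * d'⁻¹ ∉ R := mt (mul_mem_cancel_right (inv_mem (q.swap.DR hd'))).1 n
  have c : t * d'⁻¹ * (t * d'⁻¹) ∈ 𝐃 := by
    rw [show t * d'⁻¹ * (t * d'⁻¹) = t * d'⁻¹ * t⁻¹ * (t * t) * d'⁻¹ by group, ← e, ← mul_assoc, mul_inv_cancel_right]
    exact mul_mem ((q.swap.oD ht n).le (conj_mem_cj (inv_mem hd'))) hd
  generalize t * d'⁻¹ = s at a b c
  have c' := q.cD ((q.oD a b).le (conj_mem_cj c))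
  rw [← mul_assoc, mul_inv_cancel_right] at c'
  rcases q.r.mz.1 (q.r.DC c c') with k | k
  · exact q.noInv a b k
  · exact b (q.inn a (mem_c_symm.1 (k ▸ mul_mem (self_mem_c s) (self_mem_c s))))

theorem NA (h : x ∈ 𝐃 ⊔ 𝐃') (c : x ∈ 𝐀) : x ∈ 𝐘 := by
  obtain ⟨d, hd, d', hd', rfl⟩ := q.decN h
  exact mul_mem (mem_sup_left (q.r.DC hd ((mul_mem_cancel_right (q.cD hd')).1 c.1.2)))
    (mem_sup_right (q.s.DC hd' ((mul_mem_cancel_left (q.swap.cD hd)).1 c.2)))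

theorem nA : 𝐍 R ≤ 𝐍 𝐀 := le_antisymm (fun x hx => q.memA hx.1 hx.2) (le_inf q.AR (le_centralizer_comm.1 q.AC)) ▸
  le_normalizer_inf le_rfl (normalizer_le_normalizer_centralizer R)

theorem memP : x ∈ 𝐏 ↔ x ∈ 𝐂 (O² L₁) ⊓ 𝐂 (O² L₂) ∨ x * z ∈ 𝐂 (O² L₁) ⊓ 𝐂 (O² L₂) :=
  H19.mem_sup_invol q.r.zz (centralizer_le_normalizer _ (le_c_iff.1 (inf_le_left.trans (cen_le_c (q.r.k₁.WE q.r.zW)))))

theorem twoP : Two 𝐀 𝐏 := fun a ha b hb c d => by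
  have k : ∀ a ∈ 𝐀, a ∉ 𝐏 → a ∈ 𝐂 (O² L₁) ∧ a * z ∈ 𝐂 (O² L₂) ∨ a * z ∈ 𝐂 (O² L₁) ∧ a ∈ 𝐂 (O² L₂) := fun a ha c => by
    have h1 := q.r.dec' ha.1.1 ha.1.2
    have h2 := q.r.sym.dec' ha.1.1 (sup_comm (𝐖ᵥ L₁) _ ▸ ha.1.2)
    rw [← mem_c.1 (q.Rz (q.AR ha))] at h1 h2
    rw [q.memP, mem_inf, mem_inf] at c
    tauto
  have e1 : a * z * (b * z) = a * b := by rw [mem_c.1 (q.Rz (q.AR hb)), ← mul_assoc, mul_assoc a, q.r.zz, mul_one]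
  have e2 : a * z * b = a * b * z := by rw [mul_assoc, mul_assoc, mem_c.1 (q.Rz (q.AR hb))]
  rw [q.memP]
  rcases k a ha c with ⟨h1, h2⟩ | ⟨h1, h2⟩ <;> rcases k b hb d with ⟨h3, h4⟩ | ⟨h3, h4⟩
  exacts [Or.inl ⟨mul_mem h1 h3, e1 ▸ mul_mem h2 h4⟩, Or.inr ⟨mul_assoc a b z ▸ mul_mem h1 h3, e2 ▸ mul_mem h2 h4⟩,
    Or.inr ⟨e2 ▸ mul_mem h1 h3, mul_assoc a b z ▸ mul_mem h2 h4⟩, Or.inl ⟨e1 ▸ mul_mem h1 h3, mul_mem h2 h4⟩]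

theorem yF : y ∈ 𝐂 (O² L₁) ⊓ 𝐂 (O² L₂) := ⟨q.yE, q.sym.yE⟩
theorem YP : 𝐘 ≤ 𝐏 := sup_le le_sup_right (zpowers_le.2 (mem_sup_left q.yF))
theorem YN : 𝐘 ≤ 𝐃 ⊔ 𝐃' :=
  sup_le_sup (zpowers_le.2 (mem_sup_left q.r.zW)) (zpowers_le.2 (mem_sup_left q.s.zW))

theorem PP (h : x ∈ T) (a : x ∈ 𝐏) (b : x ∈ 𝐏') : x ∈ 𝐘 := by
  have o : ∀ u ∈ 𝐘, x * u ∈ 𝐂 (O² L₁) ⊓ 𝐂 (O² L₂) → x * u ∈ 𝐂 (O² M₁) ⊓ 𝐂 (O² M₂) → x ∈ 𝐘 := fun u hu c d =>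
    (mul_mem_cancel_right hu).1 (mem_bot.1 (q.F0.le ⟨mul_mem h (sup_le q.r.DT q.s.DT (q.YN hu)), c, d⟩) ▸ one_mem _)
  have z1 : z ∈ 𝐘 := mem_sup_left (mem_zpowers z)
  have y1 : y ∈ 𝐘 := mem_sup_right (mem_zpowers y)
  rcases q.memP.1 a with a | a <;> rcases q.swap.memP.1 b with b | b
  exacts [o 1 (one_mem _) ((mul_one x).symm ▸ a) ((mul_one x).symm ▸ b), o y y1 (mul_mem a q.yF) b,
    o z z1 a (mul_mem b q.swap.yF), o _ (mul_mem z1 y1) (mul_assoc x z y ▸ mul_mem a q.yF)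
      (q.yz ▸ mul_assoc x y z ▸ mul_mem b q.swap.yF)]

theorem oP (ht : t ∈ T) (n : t ∉ R) (h : x ∈ 𝐏) : t * x * t⁻¹ ∈ 𝐏' := by
  obtain ⟨a, b, c⟩ := q.out t ht n
  rw [← a, ← b, ← c, ← cj_centralizer, ← cj_centralizer, ← cj_inf, ← cj_zpowers, ← cj_sup]
  exact conj_mem_cj h

theorem nP (ht : t ∈ T) (n : t ∉ R) (hm : m ∈ 𝐃 ⊔ 𝐃') (ha : a ∈ 𝐀) (e : t * t = m * a) : a ∉ 𝐏 := fun h => by
  have a1 := conj_mem_of_mem_normalizer (q.nA (q.nR ht)) ha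
  have a2 : t * a * t⁻¹ * a⁻¹ = (t * m * t⁻¹)⁻¹ * m := by
    rw [eq_inv_mul_iff_mul_eq, ← mul_assoc, conj_mul, ← e, eq_mul_inv_of_mul_eq e.symm]; group
  have a3 := q.YP (q.NA (a2 ▸ mul_mem (inv_mem (conj_mem_of_mem_normalizer (q.nN ht) hm)) hm) (mul_mem a1 (inv_mem ha)))
  exact q.sqN ht n (e ▸ mul_mem hm ((mem_normalizer_iff.1 (q.nN ht) a).2 (q.YN (q.PP a1.1.1
    ((mul_mem_cancel_right (inv_mem h)).1 a3) (q.oP ht n h)))))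

theorem false : False := by
  obtain ⟨t, ht, n⟩ := SetLike.not_le_iff_exists.1 q.ex
  obtain ⟨d, hd, d', hd', a, ha, e⟩ := q.decR (q.two t ht t ht n n)
  have hm : d * d' ∈ 𝐃 ⊔ 𝐃' := mul_mem_sup hd hd'
  rw [← mul_assoc] at e
  generalize d * d' = m at hm e
  have h1 := q.nP ht n hm ha e.symm
  have h2 : ∀ b ∈ 𝐀, b ∈ 𝐏 → b ∈ 𝐘 := fun b hb c => by
    have k := conj_mem_of_mem_normalizer' (q.nA (q.nR ht)) hb
    have k' := mul_mem ha (mul_mem k hb)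
    have := q.twoP a ha _ k' h1 (q.nP (mul_mem ht hb.1.1) (mt (mul_mem_cancel_right (q.AR hb)).1 n) hm k' (by
      rw [← mul_assoc m, e]; group))
    rw [← mul_assoc, q.A2 ha, one_mul, mul_mem_cancel_right c] at this
    exact q.PP hb.1.1 c (by simpa [mul_assoc] using q.oP ht n this)
  have t1 : t ∈ 𝐃 ⊔ 𝐃' ⊔ zpowers t := mem_sup_right (mem_zpowers t)
  obtain ⟨g, h3, h4⟩ := q.r.hb.tr q.r.syl q.nN ht (q.Tle ht n (q.Rle (le_sup_left.trans le_sup_left)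
    (le_sup_right.trans le_sup_left) fun b hb => (em (b ∈ 𝐏)).elim (fun c => mem_sup_left (q.YN (h2 b hb c))) fun c =>
      (mul_mem_cancel_left ((mul_mem_cancel_left (mem_sup_left hm)).1 (e ▸ mul_mem t1 t1))).1
        (mem_sup_left (q.YN (h2 _ (mul_mem ha hb) (q.twoP a ha b hb h1 c))))) t1) (q.A2 ha) (q.r.pg.to_le q.RT)
    (q.AC.trans (cen_le_c ha)) (q.AR ha)
  replace h3 := q.cjR h3
  exact h1 (q.YP ((mem_normalizer_iff.1 (q.nY h3) a).2 (q.NA h4 (conj_mem_of_mem_normalizer (q.nA h3) ha))))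

end Tw

end H4.QF
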