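import Cfsg.Agent.H4.QE10

/-! Groups with `C(Ω₁ Z(T)) = T` and solvable parabolics, V: the main theorem. -/

set_option autoImplicit false
set_option linter.unusedVariables false
set_option linter.unusedSectionVars false
set_option linter.style.haveILetI false

namespace H4.QF
open H9 hiding zj
open Matrix hiding mul_inv_rev
open H29.PU hiding Rk1 Vx Crit crit Am Bad W5 T2 le_C_of_normal
open H4.Bm hiding Gd Gt GV Pa P2 DG St Ds Bt ext no_crit hull step1 phi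
open Cfsg Subgroup H28 H28.GC MatrixGroups H29 H29.BB H4.PV Equiv
open H4.OX (Od od_iff syl_sup syl_mem)
open H4.SC (Gd GV Pa P2 Tc Nm hull)
open scoped commutatorElement

universe u
variable {X : Type u} [Group X] [Finite X] {A B C D E F H J K K' L L₁ L₂ M₁ M₂ M N P Q R S T U V W Y : Subgroup X}
  {a b c d e f g h l m n s t u v w x y z : X}

theorem three_chain (p : IsPGroup 3 C) (h0 : ⊥ < A) (h1 : A < B) (h2 : B < C) : 9 < # C := by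
  haveI := Fact.mk Nat.prime_three
  obtain ⟨i, hi⟩ := IsPGroup.iff_card.1 (p.to_le (h1.trans h2).le)
  obtain ⟨j, hj⟩ := IsPGroup.iff_card.1 (p.to_le h2.le)
  obtain ⟨k, hk⟩ := IsPGroup.iff_card.1 p
  have a := card_lt_of_lt h0
  have b := card_lt_of_lt h1
  have c := card_lt_of_lt h2
  rw [card_bot, hi, ← pow_zero 3] at a
  rw [hi, hj] at b
  rw [hj, hk] at c
  rw [Nat.pow_lt_pow_iff_right (by decide)] at a b c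
  rw [hk]
  exact (Nat.pow_lt_pow_iff_right (a := 3) (n := 2) (by decide)).2 (by omega)

namespace Cr
variable (r : Cr T L₁ L₂ z)
include r

theorem pu' (k : Gd ⊤ (bm 2 T) L) (n : 𝐖ᵥ L ≠ 𝐖ᵥ L₂) : 𝐖ᵥ L ≤ 𝐂 (𝐖ᵥ L₁) :=
  le_centralizer_comm.1 (r.k₁.WZ.trans ((not_not.1 (mt (r.pu k) n)).trans k.QW))

theorem cE (s : Cr T M₁ M₂ y) (l : T ≤ H) (h : O² L₁ ≤ H) (h' : O² M₁ ≤ H) (o : O₂ H ≠ ⊥) (n : 𝐖ᵥ M₁ ≠ 𝐖ᵥ L₁) :
    O² M₁ ≤ 𝐂 (O² L₁) := by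
  have zl := r.hb.zl r.syl l o
  have sy := r.syl.mono l le_top
  have ne : O² L₁ ≠ O² M₁ := fun e => n (by rw [← r.wOf_eq, e, s.wOf_eq])
  have c := ((zl.jc_pair sy r.jc h s.jc h').resolve_left ne).2
  refine commutator_eq_bot_iff'.1 (eq_bot_iff.2 ((le_inf ?_ ?_).trans
    (not_not.1 (mt (zl.jc_eq_of_inf sy r.jc h s.jc h') ne)).le))
  · exact (le_inf (commutator_le_of_le_normalizer (zl.jc_le_normalizer sy r.jc h s.jc h')) c).trans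
      ((inf_pCoreOf_le h).trans (r.O2E.trans r.wOf_eq.symm).le)
  · exact (le_inf (commutator_le_of_le_normalizer' (zl.jc_le_normalizer sy s.jc h' r.jc h)) c).trans
      ((inf_pCoreOf_le h').trans (s.O2E.trans s.wOf_eq.symm).le)

theorem ex3 : ∃ e ∈ O² L₁, e ^ 3 = 1 ∧ e ∉ 𝐂 (𝐖ᵥ L₁) :=
  let ⟨e, a, b, c⟩ := r.k3.exists_three
  ⟨e, a, b ▸ pow_orderOf_eq_one e, fun d => r.z1 (mem_bot.1 ((r.k3.wOf_inf_singleton a c).le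
    ⟨r.wOf_eq.ge r.zW, mem_c_symm.1 (cen_le_c r.zW d)⟩))⟩

theorem three {N₁ N₂ : Subgroup X} (s : Cr T M₁ M₂ y) (p : Cr T N₁ N₂ x) (l : T ≤ H) (h : O² L₁ ≤ H) (h' : O² M₁ ≤ H)
    (h'' : O² N₁ ≤ H) (o : O₂ H ≠ ⊥) (n₁ : 𝐖ᵥ M₁ ≠ 𝐖ᵥ L₁) (n₂ : 𝐖ᵥ N₁ ≠ 𝐖ᵥ L₁) : 𝐖ᵥ N₁ = 𝐖ᵥ M₁ := by_contra fun n₃ => by
  have c₁ := r.cE s l h h' o n₁
  have c₂ := r.cE p l h h'' o n₂
  have c₃ := s.cE p l h' h'' o n₃
  obtain ⟨a, a1, a2, a3⟩ := r.ex3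
  obtain ⟨b, b1, b2, b3⟩ := s.ex3
  obtain ⟨c, c1, c2, c3⟩ := p.ex3
  replace a1 := zpowers_le.2 a1
  replace b1 := zpowers_le.2 b1
  replace c1 := zpowers_le.2 c1
  have l1 := sup_le (c1.trans c₂) (b1.trans c₁)
  have e := ea_sup (ea_sup (abE_zpowers c2).ea (abE_zpowers b2).ea (c1.trans (c₃.trans (centralizer_anti b1))))
    (abE_zpowers a2).ea (l1.trans (centralizer_anti a1))
  exact (r.hb.rk o (sup_le (sup_le (c1.trans h'') (b1.trans h')) (a1.trans h)) e).not_gt (three_chain (ea_isPGroup e)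
    (bot_lt_iff_ne_bot.2 (zpowers_ne_bot.2 fun d : c = 1 => c3 (d ▸ one_mem _)))
    (left_lt_sup.2 fun d => b3 (s.CE (c₃ (c1 (d (mem_zpowers b))))))
    (left_lt_sup.2 fun d => a3 (r.CE (l1 (d (mem_zpowers a))))))

variable (ns : ∀ t ∈ T, cj t (𝐖ᵥ L₁) ≠ 𝐖ᵥ L₂)
include ns

theorem ns' : ∀ t ∈ T, cj t (𝐖ᵥ L₂) ≠ 𝐖ᵥ L₁ := fun t ht e => ns t⁻¹ (inv_mem ht) (by rw [← e, cj_inv_cj])

theorem c11 (ht : t ∈ T) : cj t (𝐖ᵥ L₁) ≤ 𝐂 (𝐖ᵥ L₁) := cj_W t L₁ ▸ r.pu' (r.cjT ht).k₁ (cj_W t L₁ ▸ ns t ht)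

omit ns in
theorem c12 (ht : t ∈ T) (n : t ∉ 𝐍 (𝐖ᵥ L₁)) : cj t (𝐖ᵥ L₁) ≤ 𝐂 (𝐖ᵥ L₂) :=
  cj_W t L₁ ▸ r.sym.pu' (r.cjT ht).k₁ (cj_W t L₁ ▸ mt mem_normalizer_iff_cj.2 n)

theorem exH : ∃ H, T ≤ H ∧ O² L₁ ≤ H ∧ O₂ H ≠ ⊥ :=
  have l : nclIn (𝐖ᵥ L₁) T ≤ T ⊓ 𝐂 (𝐖ᵥ L₁) := nclIn_le_iff.2 fun t ht => le_inf (cj_le_of_mem r.WT ht) (r.c11 ns ht)
  ⟨_, le_normalizer_nclIn _ T, H28.le_normalizer_of_commutator_le ((commutator_mono l le_rfl).trans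
    (r.RE.trans (le_nclIn _ T))) le_rfl, O2_ne (r.pg.to_le (l.trans inf_le_left)) fun e =>
      r.z1 (mem_bot.1 (e.le (le_nclIn _ T r.zW)))⟩

theorem cE' (ht : t ∈ T) (n : t ∉ 𝐍 (𝐖ᵥ L₁)) : O² (cj t L₁) ≤ 𝐂 (O² L₁) :=
  let ⟨_, a, b, c⟩ := r.exH ns
  r.cE (r.cjT ht) a b (cj_pResidualOf t L₁ ▸ cj_le_of_mem b (a ht)) c (cj_W t L₁ ▸ mt mem_normalizer_iff_cj.2 n)

theorem twoT : Two T (𝐍 (𝐖ᵥ L₁)) := fun a ha b hb c d => by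
  obtain ⟨H, l, h, o⟩ := r.exH ns
  have := r.three (r.cjT (inv_mem ha)) (r.cjT hb) l h (cj_pResidualOf _ L₁ ▸ cj_le_of_mem h (l (inv_mem ha)))
    (cj_pResidualOf _ L₁ ▸ cj_le_of_mem h (l hb)) o (cj_W _ L₁ ▸ mt mem_normalizer_iff_cj.2 (mt inv_mem_iff.1 c))
    (cj_W _ L₁ ▸ mt mem_normalizer_iff_cj.2 d)
  rw [mem_normalizer_iff_cj, ← cj_cj, cj_W b, this, ← cj_W, cj_cj_inv]

theorem caseB : T ≤ 𝐍 (𝐖ᵥ L₁) := fun t ht => by_contra fun n => by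
  have two := r.twoT ns
  have n' := mt (r.nn ht).2 n
  refine Tw.false ⟨r, r.cjT ht, rfl, Subgroup.ext fun x => and_congr_right fun hx => ?_, fun e => n (e ht).2,
    fun a ha b hb c d => ⟨mul_mem ha hb, two a ha b hb (fun e => c ⟨ha, e⟩) fun e => d ⟨hb, e⟩⟩, fun s hs c => ?_,
    r.cE' ns ht n, r.sym.cE' (r.ns' ns) ht n', ?_⟩
  · change x ∈ 𝐍 _ ↔ x ∈ 𝐍 _
    rw [← cj_W, ← cj_normalizer, mem_cj, mul_assoc]
    exact ⟨fun a => by_contra fun b => n (inv_mem_iff.1 ((mul_mem_cancel_right (two x hx t ht b n)).1 a)),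
      fun a => two _ (inv_mem ht) _ (mul_mem hx ht) (mt inv_mem_iff.1 n) (mt (mul_mem_cancel_left a).1 n)⟩
  · have a := mul_mem (inv_mem ht) hs
    have b := two _ (inv_mem ht) s hs (mt inv_mem_iff.1 n) fun e => c ⟨hs, e⟩
    rw [← mul_inv_cancel_left t s]
    generalize t⁻¹ * s = u at a b
    rw [← cj_cj, ← cj_cj, cj_eq_self (r.nE a b), cj_eq_self (r.sym.nE a ((r.nn a).1 b)), cj_pResidualOf, cj_pResidualOf]
    exact ⟨rfl, rfl, by rw [← mem_c''.1 (r.cz a b)]; nth_rewrite 1 [mem_c''.1 (r.cz a b)]; group⟩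
  · rw [centralizer_sup, ← cj_W, ← cj_W]
    exact sup_le (le_inf (r.c11 ns ht) (r.c12 ht n)) (le_inf (r.sym.c12 ht n') (r.sym.c11 (r.ns' ns) ht))

end Cr

theorem HB.main (hb : HB X) (hT : IsSylowIn 2 T ⊤) (h₁ : M₁ ∈ maxTwoLocalsContaining T)
    (h₂ : M₂ ∈ maxTwoLocalsContaining T) (ne : M₁ ≠ M₂) : ∃ z : X, orderOf z = 2 ∧ Nonempty (𝐜 z ≃* DihedralGroup 4) := by
  obtain ⟨S, L₁, L₂, H, z, p, l, h, o⟩ := hb.exists_pair hT h₁ h₂ ne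
  have r : Cr S L₁ L₂ z := ⟨p, hb⟩
  have a := r.WV l (r.k₁.EL.trans h) o
  exact ⟨z, orderOf_eq_prime (sq_pow r.zz) r.z1, r.caseA (r.caseB fun t ht e => r.nc' ((e.ge.trans (cj_le_of_mem_normalizer a
    (le_normalizer_VL H (l ht)))).trans ((ea_le_centralizer (ea_omegaOneCenter 2 _)).trans (centralizer_anti a))))⟩

end H4.QF
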