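import Cfsg.Agent.H4.SC7
import Cfsg.Agent.H28.ZN
import Cfsg.Agent.H28.ExtTr
import Cfsg.Prelude.Def_Quasithin

/-! Groups with `C(Ω₁ Z(T)) = T` and solvable parabolics, I: critical pairs. -/

set_option autoImplicit false
set_option linter.unusedVariables false
set_option linter.unusedSectionVars false
set_option linter.style.haveILetI false

namespace H4.QF
open H9 hiding zj
open Matrix hiding mul_inv_rev
open H29.PU hiding Rk1 Vx Crit crit Am Bad W5 T2 le_C_of_normal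
open H4.Bm hiding Gd Gt GV Pa P2 DG St Ds Bt ext no_crit hull step1 phi
open Cfsg Subgroup H28 H28.GC MatrixGroups H29 H29.BB H4.PV Equiv
open H4.OX (Od od_iff syl_sup syl_mem)
open H4.SC (Gd GV Pa P2 Tc Nm hull)
open scoped commutatorElement

universe u
variable {X : Type u} [Group X] [Finite X] {A B C D E F H J K K' L L₁ L₂ M₁ M₂ M N P Q R S T U V W Y : Subgroup X}
  {a b c d e f g h l m n s t u v w x y z : X}

theorem two_of_sol (k : Vx 2 L) (sy : IsSylowIn 2 B L) (s : Group.IsSolvable L) : Two B (O₂ L) :=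
  fun a ha b hb a1 b1 => by_contra fun ab => by
  obtain ⟨S', -, -, F, _, _, -, ⟨N⟩⟩ := k.ns' sy
  have c2 : (2 : F) = 0 := by
    obtain ⟨s, hs, e⟩ := N.up' 1
    have := (N.inj _ (pow_mem hs 2)).2 (k.toRk1.pow sy hs)
    rwa [N.π_pow (sy.le hs), e, x_pow, H13.SL2.x_eq_one, mul_one] at this
  obtain ⟨s, s0, es⟩ := N.up_ne ha a1
  obtain ⟨t, t0, et⟩ := N.up_ne hb b1
  have st : s ≠ t := fun e => ab ((N.inj _ (mul_mem ha hb)).1 (by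
    rw [N.π_mul _ (sy.le ha) _ (sy.le hb), es, et, e, ← H13.SL2.x_add, ← two_mul, c2, zero_mul, H13.SL2.x_zero]))
  have p := SL2.commutator_eq_top (div_ne_zero s0 t0) fun e => st (by
    rw [div_pow, div_eq_one_iff_eq (pow_ne_zero 2 t0)] at e
    have : (s - t) ^ 2 = 0 := by linear_combination e + (t ^ 2 - s * t) * c2
    exact sub_eq_zero.1 (pow_eq_zero_iff two_ne_zero |>.1 this))
  haveI := Group.isSolvable_of_surjective N.hom_surj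
  haveI : Nontrivial SL(2, F) := ⟨_, _, mt H13.SL2.x_eq_one.1 s0⟩
  exact (Group.IsSolvable.commutator_lt_top_of_nontrivial SL(2, F)).ne p

theorem k3 {G : Subgroup X} (k : Gd G B L) (c : L ⊓ 𝐂 (Z₂ L) ≤ O₂ L) : K3 (O² L) := by
  refine ⟨pResidualOf_pResidualOf 2 L, ?_⟩
  obtain ⟨S', -, -, F, _, _, hF, ⟨N⟩⟩ := k.vx.ns' k.syl
  have h1 := k.two.card_le k.QB
  rw [hF] at h1
  have h2 := Nat.le_of_mul_le_mul_right h1 Nat.card_pos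
  have h3 := Fintype.one_lt_card (α := F)
  obtain ⟨N, -⟩ := N.cast (F' := ZMod 2) one_pos (by rw [Nat.card_zmod]; omega)
  have e : (O₂ (O² L)).relIndex (O² L) = N.hom.ker.relIndex ((O² L).subgroupOf L) := by
    rw [← relIndex_subgroupOf k.EL, ← inf_relIndex_right, ← inf_relIndex_right N.hom.ker]
    congr 1
    ext x
    rw [pCoreOf_eq_inf_of_normal k.EL k.nE]
    exact ⟨fun h => ⟨(N.kerπ _ x.2).2 fun v hv => mem_bot.2 (mem_c_comm'.1 (cen_le_c hv (k.QC h.1.2))), h.2⟩,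
      fun h => ⟨⟨h.2, c ⟨x.2, le_c_iff.1 fun v hv => mem_c_comm.2 (mem_bot.1 ((N.kerπ _ x.2).1 h.1 v hv))⟩⟩, h.2⟩⟩
  rw [e, relIndex_ker, pResidualOf_subgroupOf, N.res_map, res_sl2, Nat.card_zpowers]
  exact orderOf_eq_prime (by decide) (by decide)

/-- the hypothesis -/
structure HB (X : Type u) [Group X] : Prop where
  cz : ∀ {S : Subgroup X}, IsSylowIn 2 S ⊤ → 𝐂 (Ω₂ S) ≤ S
  sol : ∀ {S H : Subgroup X}, IsSylowIn 2 S ⊤ → S ≤ H → O₂ H ≠ ⊥ → Group.IsSolvable H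
  cp : ∀ {S H : Subgroup X}, IsSylowIn 2 S ⊤ → S ≤ H → O₂ H ≠ ⊥ → IsCharP 2 H
  rk : ∀ {H E : Subgroup X}, O₂ H ≠ ⊥ → E ≤ H → IsElementaryAbelian 3 E → # E ≤ 9
  res : pResidual 2 X = ⊤

theorem O2_ne (p : IsPGroup 2 U) (n : U ≠ ⊥) : O₂ (𝐍 U) ≠ ⊥ := fun e =>
  n (eq_bot_iff.2 ((le_pCoreOf p le_normalizer le_rfl).trans e.le))

theorem O2_c (h : z * z = 1) (n : z ≠ 1) : O₂ (𝐜 z) ≠ ⊥ := fun e => n (mem_bot.1 (e.le (le_pCoreOf (pg_z h)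
  (zpowers_le.2 (self_mem_c z)) ((centralizer_zpowers z).ge.trans (centralizer_le_normalizer _)) (mem_zpowers z))))

theorem cj_J (hT : IsSylowIn 2 T ⊤) (h : cj g (JJ 2 T) ≤ T) : g ∈ 𝐍 (JJ 2 T) := by
  have := (hT.conj_of_mem (mem_top g)).JJ_eq hT.isPGroup le_top (cj_JJ g T ▸ h)
  rw [mem_normalizer_iff_cj, cj_JJ, this]

namespace HB
variable (hb : HB X)
include hb

theorem czj (hT : IsSylowIn 2 T ⊤) : 𝐂 (zj 2 T) = bm 2 T :=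
  le_antisymm (le_inf ((centralizer_anti (Ω_le_zj dvd_rfl)).trans (hb.cz hT)) le_rfl) inf_le_right

theorem nJ (hT : IsSylowIn 2 T ⊤) : 𝐍 (JJ 2 T) ≤ 𝐍 (bm 2 T) :=
  hb.czj hT ▸ le_normalizer_centralizer (normalizer_le_normalizer_omegaOneCenter 2 _)

theorem bm_eq (hT : IsSylowIn 2 T ⊤) (p : IsPGroup 2 R) (l : bm 2 T ≤ R) : bm 2 R = bm 2 T := by
  rw [bm, zj, hT.JJ_eq p le_top (JJ_le_bm.trans l), ← zj, hb.czj hT, inf_of_le_right l]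

theorem ΩB (hT : IsSylowIn 2 T ⊤) : Ω₂ T ≤ Ω₂ (bm 2 T) :=
  le_omegaOneCenter (le_inf (omegaOneCenter_le _ _) ((omegaOneCenter_le_centralizer _ _).trans (centralizer_anti zj_le)))
    ((omegaOneCenter_le_centralizer _ _).trans (centralizer_anti bm_le)) (ea_omegaOneCenter 2 T).2

theorem gd (hT : IsSylowIn 2 T ⊤) (v : Vx 2 L) (s : IsSylowIn 2 (bm 2 T) L) (o : Group.IsSolvable L) : Gd ⊤ (bm 2 T) L :=
  ⟨le_normalizer, le_top, v, s, fun _ _ p l _ _ => hb.bm_eq hT p l, fun a l => hb.bm_eq hT a.isPGroup l ▸ hb.ΩB a,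
    two_of_sol v s o, fun a => H19.sol_mono (H19.sol_of_nil (isNilpotent_of_isPGroup a.isPGroup)) (inf_le_right.trans (hb.cz a))⟩

theorem cZ (hT : IsSylowIn 2 T ⊤) (k : Gd ⊤ (bm 2 T) L) : L ⊓ 𝐂 (Z₂ L) ≤ O₂ L :=
  le_pCoreOf (hT.isPGroup.to_le (inf_le_right.trans ((centralizer_anti ((hb.ΩB hT).trans k.ΩZ)).trans (hb.cz hT))))
    inf_le_left (le_normalizer_inf le_normalizer (le_normalizer_centralizer k.nZ))

theorem ΩV (hT : IsSylowIn 2 T ⊤) (l : T ≤ H) (o : O₂ H ≠ ⊥) : Ω₂ T ≤ V₂ H :=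
  (hb.cp hT l o).omegaOneCenter_le (hT.mono l le_top)

theorem zl (hT : IsSylowIn 2 T ⊤) (l : T ≤ H) (o : O₂ H ≠ ⊥) : ZL H := ⟨hb.sol hT l o, fun S a =>
  have b := hT.of_sylow_le l le_top a
  inf_le_right.trans ((centralizer_anti (hb.ΩV b a.le o)).trans ((hb.cz b).trans le_normalizer))⟩

theorem tr (hT : IsSylowIn 2 T ⊤) (n : T ≤ 𝐍 N) (ht : t ∈ T) (h : T ≤ N ⊔ zpowers t) (hy : y * y = 1)
    (p : IsPGroup 2 C) (l : C ≤ 𝐜 y) (m : y ∈ C) : ∃ g, cj g C ≤ T ∧ g * y * g⁻¹ ∈ N := by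
  haveI : (N.subgroupOf T).Normal := normal_subgroupOf_of_le_normalizer n
  refine extremal_thompson hT ⟨(QuotientGroup.mk ⟨t, ht⟩ : T ⧸ N.subgroupOf T), fun x => ?_⟩ (sq_pow hy)
    (hb.res ▸ mem_top y) p l m
  obtain ⟨x, rfl⟩ := QuotientGroup.mk_surjective x
  obtain ⟨a, ⟨i, rfl⟩, b, hb, e⟩ := (mem_sup_of_le_normalizer (zpowers_le.2 (n ht))).1 (sup_comm N _ ▸ h x.2)
  refine ⟨i, ?_⟩
  simp only [← QuotientGroup.mk_zpow]
  refine QuotientGroup.eq.2 (mem_subgroupOf.2 ?_)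
  simpa [← e] using hb

theorem exists_pair (hT : IsSylowIn 2 T ⊤) (h₁ : M₁ ∈ maxTwoLocalsContaining T) (h₂ : M₂ ∈ maxTwoLocalsContaining T)
    (ne : M₁ ≠ M₂) : ∃ (S L₁ L₂ H : Subgroup X) (z : X), P2 ⊤ S (bm 2 S) L₁ L₂ z ∧ S ≤ H ∧ L₁ ≤ H ∧ O₂ H ≠ ⊥ := by
  by_contra hn
  let 𝓥 : Set (Subgroup X) := {L | ∃ S H, IsSylowIn 2 S ⊤ ∧ Gd ⊤ (bm 2 S) L ∧ S ≤ H ∧ L ≤ H ∧ O₂ H ≠ ⊥}
  have h1 : ∀ L ∈ 𝓥, GV ⊤ L := fun L ⟨_, _, _, k, _⟩ => ⟨_, k⟩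
  have h2 : ∀ L ∈ 𝓥, ∀ g, cj g L ∈ 𝓥 := fun L ⟨S, H, a, k, b, c, d⟩ g =>
    ⟨cj g S, cj g H, a.conj_of_mem (mem_top g), cj_bm (T := S) g ▸ k.conj g, cj_mono g b, cj_mono g c, by
      rwa [← cj_pCoreOf, Ne, cj_eq_bot]⟩
  have h3 : ∀ A ∈ 𝓥, ∀ C ∈ 𝓥, ∀ S, IsSylowIn 2 S A → IsSylowIn 2 S C → Z₂ A ≤ O₂ C :=
    fun A ⟨S, H, a, k, b, c, d⟩ C hC B sA sC => by_contra fun n => by
      obtain ⟨l, hl, rfl⟩ := k.syl.exists_conj sA
      obtain ⟨z, hz, z1⟩ := (k.conj' hl).exz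
      rw [cj_bm] at sA sC hz
      exact hn ⟨cj l S, A, C, cj l H, z, ⟨⟨a.conj_of_mem (mem_top l), bm_le, k.of_syl sA, (h1 C hC).gt sC, n⟩, hz, z1⟩,
        cj_mono l b, cj_eq_self_of_mem hl ▸ cj_mono l c, by rwa [← cj_pCoreOf, Ne, cj_eq_bot]⟩
  have o1 := IsTwoLocal.pCoreOf_ne_bot h₁.1.1
  obtain ⟨D, d0, d1, d2, d3⟩ : ∃ D, D ≠ ⊥ ∧ D ≤ bm 2 T ∧ 𝐍 (bm 2 T) ≤ 𝐍 D ∧
      ∀ L ∈ 𝓥, IsSylowIn 2 (bm 2 T) L → L ≤ 𝐍 D := by
    by_cases e : ∃ L ∈ 𝓥, IsSylowIn 2 (bm 2 T) L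
    · obtain ⟨L, hL, s⟩ := e
      obtain ⟨D, -, a, b, c⟩ := hull h1 h2 (fun A ⟨S, H, a, k, _⟩ _ _ _ => Or.inr (hb.cZ a k)) h3 hL s
      exact ⟨D, fun e => ((h1 L hL).gt s).vx.nz ((c L hL s).1.trans (e.le.trans bot_le)), a, b,
        fun L hL s => (c L hL s).2⟩
    · refine ⟨_, fun e => omegaOneCenter_ne_bot hT.isPGroup (fun e' => o1 (eq_bot_iff.2 ?_)) (eq_bot_iff.2 ?_), le_rfl,
        le_rfl, fun L hL s => (e ⟨L, hL, s⟩).elim⟩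
      · exact (hT.mono h₁.2 le_top).pCoreOf_le.trans e'.le
      · exact ((hb.ΩB hT).trans (omegaOneCenter_le _ _)).trans e.le
  have key : ∀ M ∈ maxTwoLocalsContaining T, 𝐍 D = M := fun M hM => by
    have o := IsTwoLocal.pCoreOf_ne_bot hM.1.1
    have s := hb.sol hT hM.2 o
    refine IsMaximalTwoLocal.eq_normalizer hM.1 (hT.isPGroup.to_le (d1.trans bm_le)) d0 (by_contra fun n => ?_)
    obtain ⟨L, a, v, sy, b⟩ := SC.exists_vx (T := Ω₂ T) (hT.mono hM.2 le_top) rfl (isPGroup_pCoreOf 2 M) (pCoreOf_le 2 M)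
      (le_normalizer_pCoreOf 2 M) (H19.sol_mono s inf_le_left) d1 (inf_le_right.trans d2) (by
        rw [JJ_eq_of_le JJ_le_bm bm_le]; exact inf_le_right.trans ((hb.nJ hT).trans d2))
      ((hb.ΩB hT).trans (omegaOneCenter_le _ _)) le_rfl ⟨⊥, bot_le, fun x hx => by simp [mem_bot.1 hx],
        le_top.trans H28.normalizer_bot.ge, by
        rw [sup_bot_eq]; exact inf_le_right.trans ((hb.cz hT).trans ((nrm_bm le_normalizer).trans d2))⟩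
      fun ⟨O, a, b, c, d⟩ => n (by
        rwa [(hb.cp hT hM.2 o).eq_bot_of_coprime a ((pCoreOf_le 2 M).trans c) b, sup_bot_eq] at d)
    exact b (d3 L ⟨T, M, hT, hb.gd hT v sy (H19.sol_mono s a), hM.2, a, o⟩ sy)
  exact ne ((key _ h₁).symm.trans (key _ h₂))

end HB

end H4.QF
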