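import Cfsg.Agent.H4.QE7
import Cfsg.Agent.H4.Dihedral

/-! Groups with `C(Ω₁ Z(T)) = T` and solvable parabolics, II: the structure of a critical pair. -/

set_option autoImplicit false
set_option linter.unusedVariables false
set_option linter.unusedSectionVars false
set_option linter.style.haveILetI false

namespace H4.QF
open H9 hiding zj
open Matrix hiding mul_inv_rev
open H29.PU hiding Rk1 Vx Crit crit Am Bad W5 T2 le_C_of_normal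
open H4.Bm hiding Gd Gt GV Pa P2 DG St Ds Bt ext no_crit hull step1 phi
open Cfsg Subgroup H28 H28.GC MatrixGroups H29 H29.BB H4.PV Equiv
open H4.OX (Od od_iff syl_sup syl_mem)
open H4.SC (Gd GV Pa P2 Tc Nm hull)
open scoped commutatorElement

universe u
variable {X : Type u} [Group X] [Finite X] {A B C D E F H J K K' L L₁ L₂ M₁ M₂ M N P Q R S T U V W Y : Subgroup X}
  {a b c d e f g h l m n s t u v w x y z : X}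

theorem cj_W (g : X) (L : Subgroup X) : cj g (𝐖ᵥ L) = 𝐖ᵥ (cj g L) := by rw [cj_commutator, cj_Z, cj_pResidualOf]

/-- critical pairs -/
structure Cr (T L₁ L₂ : Subgroup X) (z : X) : Prop extends P2 ⊤ T (bm 2 T) L₁ L₂ z where
  hb : HB X

namespace Cr
variable (r : Cr T L₁ L₂ z)
include r

local notation "𝐁" => bm 2 T
local notation "𝐃" => (𝐖ᵥ L₁ ⊔ 𝐖ᵥ L₂ : Subgroup X)

theorem sym : Cr T L₂ L₁ z := ⟨r.symm', r.hb⟩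
theorem cjT (ht : t ∈ T) : Cr T (cj t L₁) (cj t L₂) (t * z * t⁻¹) := ⟨by
  simpa only [cj_bm, cj_eq_self_of_mem ht] using r.conj' t, r.hb⟩
theorem base (hS : IsSylowIn 2 S ⊤) (l : 𝐁 ≤ S) : Cr S L₁ L₂ z :=
  ⟨(r.hb.bm_eq r.syl hS.isPGroup l).symm ▸ ⟨⟨hS, l, r.k₁, r.k₂, r.nc⟩, r.zY, r.z1⟩, r.hb⟩
theorem pg : IsPGroup 2 T := r.syl.isPGroup
theorem WB : 𝐖ᵥ L₁ ≤ 𝐁 := r.k₁.WZ.trans r.k₁.ZB
theorem WT : 𝐖ᵥ L₁ ≤ T := r.WB.trans bm_le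
theorem DB : 𝐃 ≤ 𝐁 := sup_le r.WB r.sym.WB
theorem DT : 𝐃 ≤ T := r.DB.trans bm_le
theorem WW : 𝐖ᵥ L₁ ≤ 𝐂 (𝐖ᵥ L₁) := (r.k₁.WZ.trans r.k₁.ZQ).trans r.k₁.QW
theorem w2 (h : w ∈ 𝐖ᵥ L₁) : w * w = 1 := sq_of_ea r.k₁.ea (r.k₁.WZ h)
theorem BN : 𝐁 ≤ T ⊓ 𝐍 (𝐖ᵥ L₁) := le_inf bm_le (r.k₁.le.trans r.k₁.nW)
theorem zT : z ∈ T := r.WT r.zW
theorem mz : x ∈ zpowers z ↔ x = 1 ∨ x = z := mem_z2 r.zz
theorem dg (hv : v ∈ 𝐖ᵥ L₁) (n : v ∉ zpowers z) : SC.DG ⊤ T z v := ⟨_, _, _, r.toP2, hv, n⟩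
theorem k3 : K3 (O² L₁) := QF.k3 r.k₁ (r.hb.cZ r.syl r.k₁)
theorem CE : 𝐂 (O² L₁) ≤ 𝐂 (𝐖ᵥ L₁) := centralizer_anti r.k₁.WE
theorem nn (h : x ∈ T) : x ∈ 𝐍 (𝐖ᵥ L₁) ↔ x ∈ 𝐍 (𝐖ᵥ L₂) := ⟨fun e => r.n₂ ⟨h, e⟩, fun e => r.sym.n₂ ⟨h, e⟩⟩

theorem O2E : O₂ (O² L₁) = 𝐖ᵥ L₁ := by
  rw [pCoreOf_eq_inf_of_normal r.k₁.EL r.k₁.nE]
  exact le_antisymm (p1_res_inf r.p1 r.k₁.vx r.k₁.syl) (le_inf r.k₁.WE (r.k₁.WZ.trans r.k₁.ZQ))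

theorem wOf_eq : wOf (O² L₁) = 𝐖ᵥ L₁ := by
  rw [wOf_def, r.O2E, le_antisymm (omegaOneCenter_le 2 _) (le_omegaOneCenter le_rfl r.WW fun a ha => sq_pow (r.w2 ha)),
    commutator_commutator_pResidualOf' (ea_isPGroup r.k₁.ea) r.k₁.nZ]

theorem jc : JC (JJ 2 T) (O² L₁) := by
  have e : JJ 2 𝐁 = JJ 2 T := JJ_eq_of_le JJ_le_bm bm_le
  refine ⟨r.k3, r.k3.commutator_eq (JJ_le_bm.trans (r.k₁.le.trans r.k₁.nE)) fun c => r.k₁.rk.not_le_normalizer r.k₁.syl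
    (r.k₁.EB.ge.trans (sup_le (H28.le_normalizer_of_commutator_le ((commutator_le_of_le_cmod' (r.k₁.supJ.ge.trans (sup_le
      (H29.le_cmod ((JJ_le _ _).trans (r.k₁.le.trans r.k₁.nQ)) (e ▸ c.trans (pCoreOf_le_of_normal r.k₁.EL r.k₁.nE)))
      (H29.le_cmod le_normalizer (commutator_le_of_le_normalizer' (r.k₁.EL.trans r.k₁.nQ)))))).trans r.k₁.QB) le_rfl)
      le_normalizer)), fun S a b => r.syl.JJ_eq a.isPGroup le_top b, ?_⟩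
  obtain ⟨v, hv, n⟩ := r.exW
  have c : # (zpowers z) = 2 := by rw [Nat.card_zpowers, orderOf_eq_prime (sq_pow r.zz) r.z1]
  have h1 := Two.card_le (fun v hv w hw a b => r.memW hv a hw b) (zpowers_le.2 r.zW)
  have h2 := card_lt_of_lt (lt_of_le_not_ge (zpowers_le.2 r.zW) fun e => n (e hv))
  have h3 := card_dvd_of_le (zpowers_le.2 r.zW)
  rw [c] at h1 h2 h3
  rw [r.wOf_eq]; omega

theorem nR : L₁ ≤ 𝐍 (T ⊓ 𝐂 (𝐖ᵥ L₁) : Subgroup X) := by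
  have : T ⊓ 𝐂 (𝐖ᵥ L₁) = 𝐂 (𝐖ᵥ L₁ ⊔ Ω₂ T : Subgroup X) := by
    rw [centralizer_sup]
    exact le_antisymm (le_inf inf_le_right (inf_le_left.trans (le_centralizer_omegaOneCenter 2 T)))
      (le_inf (inf_le_right.trans (r.hb.cz r.syl)) inf_le_left)
  exact this ▸ le_normalizer_centralizer (r.k₁.tcU r.syl r.BT).2.2

theorem RE : ⁅T ⊓ 𝐂 (𝐖ᵥ L₁), O² L₁⁆ ≤ 𝐖ᵥ L₁ := by
  rw [← commutator_commutator_pResidualOf' (r.pg.to_le inf_le_left) r.nR]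
  exact (commutator_mono (r.k₁.rk.comm_res_le r.k₁.syl r.nR r.k₁.nQ le_rfl (r.k₁.rk.ne r.k₁.syl) fun x hx => r.k₁.memQ'
    (commutator_le_of_le_normalizer' (inf_le_left.trans (nrm_bm le_normalizer)) hx)
    (commutator_le_of_le_normalizer (r.k₁.le.trans r.nR) hx).2) le_rfl).trans r.blk

theorem dec (h : x ∈ T) (c : x ∈ 𝐂 (𝐖ᵥ L₁)) : ∃ w ∈ 𝐖ᵥ L₁, w⁻¹ * x ∈ 𝐂 (O² L₁) := by
  have e := r.k3.commutator_sup_centralizer (r.pg.to_le inf_le_left) (r.k₁.EL.trans r.nR)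
    (r.O2E.le.trans (le_centralizer_comm.1 inf_le_right))
  obtain ⟨w, hw, f, hf, rfl⟩ := (mem_sup_of_le_normalizer' (le_normalizer_of_le_centralizer
    (inf_le_left.trans inf_le_right))).1 (sup_le_sup_right r.RE _ (e.ge ⟨h, c⟩))
  exact ⟨w, hw, by rw [inv_mul_cancel_left]; exact hf.2⟩

theorem W21 (h : x ∈ 𝐖ᵥ L₂) (c : x ∈ 𝐂 (𝐖ᵥ L₁)) : x ∈ zpowers z :=
  (r.symm'.WΩ' h).1 (r.symm.memΩ (r.k₂.WZ h) (r.k₁.memQ' (r.sym.WB h) c))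

theorem one (h : x ∈ zpowers z) (c : x ∈ 𝐂 (O² L₁)) : x = 1 := (r.mz.1 h).resolve_right fun e => r.zC (e ▸ c)

theorem FW (h : f ∈ T) (c : f ∈ 𝐂 (O² L₁)) : f ∈ 𝐂 (𝐖ᵥ L₂) := mem_cen_iff.2 fun w hw =>
  have a : ⁅w, f⁆ ∈ 𝐂 (O² L₁) := cm_mem' (A := L₁) r.k₁.nCE (r.k₁.le (r.sym.WB hw)) c
  r.one (r.W21 (cm_mem (B := 𝐍 _) le_rfl hw (r.n₂ ⟨h, centralizer_le_normalizer _ (r.CE c)⟩)) (r.CE a)) a

theorem FD (h : f ∈ T) (c : f ∈ 𝐂 (O² L₁)) : f ∈ 𝐂 𝐃 := by rw [centralizer_sup]; exact ⟨r.CE c, r.FW h c⟩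

theorem dec' (h : x ∈ T) (c : x ∈ 𝐂 𝐃) : x ∈ 𝐂 (O² L₁) ∨ z * x ∈ 𝐂 (O² L₁) := by
  rw [centralizer_sup] at c
  obtain ⟨w, hw, e⟩ := r.dec h c.1
  rcases r.mz.1 (r.sym.W21 hw (inv_mem_iff.1 ((mul_mem_cancel_right (mem_inf.1 c).2).1
    (r.FW (mul_mem (inv_mem (r.WT hw)) h) e)))) with rfl | rfl
  exacts [Or.inl (by simpa using e), Or.inr (inv_eq_of_mul_eq_one_right r.zz ▸ e)]

theorem cz (h : x ∈ T) (n : x ∈ 𝐍 (𝐖ᵥ L₁)) : x ∈ 𝐜 z := let ⟨_, a, b⟩ := r.exW; (r.dg a b).cz ((r.nL a b h).1 n)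

theorem cmW (h : x ∈ T) (n : x ∈ 𝐍 (𝐖ᵥ L₁)) (hw : w ∈ 𝐖ᵥ L₁) : ⁅w, x⁆ ∈ zpowers z := by
  by_cases c : w ∈ zpowers z
  · rw [mem_c_comm'.1 (zpowers_le.2 (mem_c_symm.1 (r.cz h n)) c)]; exact one_mem _
  · exact (mem_fm.1 ((r.nL hw c h).1 n)).2

theorem cmD : ⁅T ⊓ 𝐍 (𝐖ᵥ L₁), 𝐃⁆ ≤ zpowers z :=
  have n : 𝐃 ≤ 𝐍 (zpowers z) := le_normalizer_of_le_centralizer
    ((r.DB.trans r.BN).trans fun x hx => (centralizer_zpowers z).ge (r.cz hx.1 hx.2))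
  commutator_le_of_le_cmod (sup_le (H29.le_cmod' (le_sup_left.trans n) (commutator_le.2 fun w a x b => r.cmW b.1 b.2 a))
    (H29.le_cmod' (le_sup_right.trans n) (commutator_le.2 fun w a x b => r.sym.cmW b.1 (r.n₂ b) a)))

theorem two : Two (T ⊓ 𝐍 (𝐖ᵥ L₁)) (𝐂 (𝐖ᵥ L₁)) := fun a ha b hb c d => by
  obtain ⟨v, hv, n⟩ := r.exW
  have k := r.dg hv n
  rw [r.eC hv n] at c d ⊢
  exact ⟨k.mul_c (r.cz ha.1 ha.2) ((k.or ((r.nL hv n ha.1).1 ha.2)).resolve_left fun e => c ⟨e, r.cz ha.1 ha.2⟩)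
    ((k.or ((r.nL hv n hb.1).1 hb.2)).resolve_left fun e => d ⟨e, r.cz hb.1 hb.2⟩),
    mul_mem (r.cz ha.1 ha.2) (r.cz hb.1 hb.2)⟩

theorem dec0 (h : x ∈ T) (n : x ∈ 𝐍 (𝐖ᵥ L₁)) : ∃ d ∈ 𝐃, d⁻¹ * x ∈ 𝐂 (O² L₁) := by
  by_cases c : x ∈ 𝐂 (𝐖ᵥ L₁)
  · obtain ⟨w, hw, e⟩ := r.dec h c
    exact ⟨w, mem_sup_left hw, e⟩
  obtain ⟨u, hu, u1⟩ := SetLike.not_le_iff_exists.1 r.nc'
  obtain ⟨w, hw, e⟩ := r.dec (mul_mem (inv_mem (r.sym.WT hu)) h)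
    (r.two _ (inv_mem (r.BN (r.sym.WB hu))) x ⟨h, n⟩ (mt inv_mem_iff.1 u1) c)
  exact ⟨u * w, mul_mem (mem_sup_right hu) (mem_sup_left hw), by rwa [mul_inv_rev, mul_assoc]⟩

theorem nE (h : x ∈ T) (n : x ∈ 𝐍 (𝐖ᵥ L₁)) : x ∈ 𝐍 (O² L₁) :=
  let ⟨_, a, b⟩ := r.dec0 h n
  (mul_mem_cancel_left (inv_mem (r.k₁.nE (r.k₁.le (r.DB a))))).1 (centralizer_le_normalizer _ b)

theorem DC (h : x ∈ 𝐃) (c : x ∈ 𝐂 𝐃) : x ∈ zpowers z := by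
  rw [centralizer_sup] at c
  obtain ⟨a, ha, b, hb, rfl⟩ := (mem_sup_of_le_normalizer' ((r.sym.WB.trans r.BN).trans inf_le_right)).1 h
  have h1 := r.W21 hb ((mul_mem_cancel_left (r.WW ha)).1 c.1)
  exact mul_mem (r.sym.W21 ha ((mul_mem_cancel_right (r.sym.WW hb)).1 c.2)) h1

theorem exvu : ∃ v ∈ 𝐖ᵥ L₁, ∃ u ∈ 𝐖ᵥ L₂, ⁅v, u⁆ = z := by
  obtain ⟨u, hu, u1⟩ := SetLike.not_le_iff_exists.1 r.nc'
  obtain ⟨v, hv, v1⟩ := not_forall₂.1 (mt mem_cen_iff.2 u1)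
  exact ⟨v, hv, u, hu, (r.mz.1 (r.cmW (r.sym.WT hu) (r.BN (r.sym.WB hu)).2 hv)).resolve_left v1⟩

theorem tr (h : w ∈ 𝐖ᵥ L₁) : ∃ e ∈ O² L₁, e * w * e⁻¹ ∈ zpowers z := by
  obtain ⟨l, hl, e⟩ := r.k₁.toΩ (r.k₁.WZ h)
  obtain ⟨b, hb, f, hf, rfl⟩ := (mem_sup_of_le_normalizer (r.k₁.le.trans r.k₁.nE)).1 (sup_comm (O² L₁) _ ▸ r.k₁.EB.ge hl)
  refine ⟨f, hf, (r.WΩ' (conj_mem_of_mem_normalizer (r.k₁.nW (r.k₁.EL hf)) h)).1 ?_⟩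
  simpa [mul_assoc] using conj_mem_of_mem_normalizer' (le_normalizer_omegaOneCenter le_normalizer hb) e

theorem tr' (h : w ∈ 𝐖ᵥ L₁) (n : w ≠ 1) : ∃ e ∈ O² L₁, e * z * e⁻¹ = w :=
  let ⟨e, a, b⟩ := r.tr h
  ⟨e⁻¹, inv_mem a, by rw [← (r.mz.1 b).resolve_left (conj_ne n)]; group⟩

theorem toC (hb : b ∈ 𝐁) (e : b * b = 1) : ∃ g, ∃ w ∈ 𝐃, g * b * g⁻¹ = w * b ∧ w * b ∈ 𝐂 𝐃 := by
  have key : ∀ {L₁ L₂}, Cr T L₁ L₂ z → b ∈ O₂ L₁ → ∃ g, ∃ w ∈ 𝐖ᵥ L₁, g * b * g⁻¹ = w * b ∧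
      w * b ∈ 𝐂 (𝐖ᵥ L₁ ⊔ 𝐖ᵥ L₂ : Subgroup X) := fun r h => by
    obtain ⟨w, hw, c⟩ := r.dec (bm_le hb) (r.k₁.QW h)
    obtain ⟨g, hg, k⟩ := r.tr hw
    refine ⟨g, g * w * g⁻¹ * w⁻¹, mul_mem (zpowers_le.2 r.zW k) (inv_mem hw), ?_, ?_⟩
    · rw [mul_assoc _ w⁻¹, ← conj_eq_of_cen hg c]; group
    · rw [mul_assoc _ w⁻¹]
      exact mul_mem (zpowers_le.2 (le_c_iff.1 ((r.DB.trans r.BN).trans fun x hx => r.cz hx.1 hx.2)) k)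
        (r.FD (mul_mem (inv_mem (r.WT hw)) (bm_le hb)) c)
  rcases r.inv_or hb e with h | h
  · obtain ⟨g, w, a, c⟩ := key r h
    exact ⟨g, w, mem_sup_left a, c⟩
  · obtain ⟨g, w, a, c⟩ := key r.sym h
    exact ⟨g, w, mem_sup_right a, sup_comm (𝐖ᵥ L₂) _ ▸ c⟩

theorem WV (l : T ≤ H) (h : O² L₁ ≤ H) (o : O₂ H ≠ ⊥) : 𝐖ᵥ L₁ ≤ V₂ H := by
  obtain ⟨y, hy, y1⟩ := SetLike.not_le_iff_exists.1 fun c : Ω₂ T ≤ 𝐂 (O² L₁) =>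
    r.k3.not_le_of_isPGroup r.pg ((le_centralizer_comm.1 c).trans (r.hb.cz r.syl))
  have n := le_normalizer_VL H
  have i := r.jc.irr (D := wOf (O² L₁) ⊓ V₂ H) inf_le_left (le_normalizer_inf (le_normalizer_wOf _) (h.trans n))
  rw [r.wOf_eq] at i
  refine inf_eq_left.1 (i.resolve_left fun e => y1 (mem_cen_iff.2 fun x hx => ?_))
  rw [← commutatorElement_inv, mem_bot.1 (e.le ⟨commutator_mem_commutator (r.k₁.ΩZ (r.hb.ΩB r.syl hy)) hx,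
    cm_mem (h.trans n) (r.hb.ΩV r.syl l o hy) hx⟩), inv_one]

theorem nc₂ (l : T ≤ H) (h₁ : O² L₁ ≤ H) (h₂ : O² L₂ ≤ H) (o : O₂ H ≠ ⊥) : False :=
  r.nc' ((r.sym.WV l h₂ o).trans ((ea_le_centralizer (ea_omegaOneCenter 2 _)).trans (centralizer_anti (r.WV l h₁ o))))

theorem noF (l : F ≤ T) (n : T ≤ 𝐍 F) (h₁ : F ≤ 𝐂 (O² L₁)) (h₂ : F ≤ 𝐂 (O² L₂)) : F = ⊥ := by_contra fun e =>
  r.nc₂ n (le_normalizer_of_le_centralizer (le_centralizer_comm.1 h₁))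
    (le_normalizer_of_le_centralizer (le_centralizer_comm.1 h₂)) (O2_ne (r.pg.to_le l) e)

theorem caseA (n : T ≤ 𝐍 (𝐖ᵥ L₁)) : Nonempty (𝐜 z ≃* DihedralGroup 4) := by
  have n1 : T ≤ 𝐍 (O² L₁) := fun x hx => r.nE hx (n hx)
  have n' : T ≤ 𝐍 (𝐖ᵥ L₂) := fun x hx => r.n₂ ⟨hx, n hx⟩
  have n2 : T ≤ 𝐍 (O² L₂) := fun x hx => r.sym.nE hx (n' hx)
  have e := r.noF (F := T ⊓ 𝐂 (O² L₁) ⊓ 𝐂 (O² L₂)) (inf_le_left.trans inf_le_left) (le_normalizer_inf (le_normalizer_inf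
    le_normalizer (le_normalizer_centralizer n1)) (le_normalizer_centralizer n2)) (inf_le_left.trans inf_le_right) inf_le_right
  have o : ∀ f ∈ T, f ∈ 𝐂 (O² L₁) → f ≠ 1 → z * f ∈ 𝐂 (O² L₂) := fun f a b c =>
    (r.sym.dec' a (sup_comm (𝐖ᵥ L₁) _ ▸ r.FD a b)).resolve_left fun d => c (mem_bot.1 (e.le ⟨⟨a, b⟩, d⟩))
  have o2 : ∀ f ∈ T, f ∈ 𝐂 (O² L₁) → f ≠ 1 → ∀ g ∈ T, g ∈ 𝐂 (O² L₁) → g ≠ 1 → f * g = 1 := fun f a b c g a' b' c' =>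
    mem_bot.1 (e.le ⟨⟨mul_mem a a', mul_mem b b'⟩, by
      have := mul_mem (o f a b c) (o g a' b' c')
      rwa [← mem_c.1 (r.cz a (n a)), mul_assoc, ← mul_assoc z, r.zz, one_mul] at this⟩)
  obtain ⟨v, hv, u, hu, vu⟩ := r.exvu
  have e1 : ∀ f ∈ T, f ∈ 𝐂 (O² L₁) → f = 1 := fun f a b => by_contra fun c => by
    have f2 := o2 f a b c f a b c
    have l : T ≤ 𝐃 ⊔ zpowers f := fun x hx => by
      obtain ⟨d, hd, k⟩ := r.dec0 hx (n hx)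
      refine (mul_mem_cancel_left (mem_sup_left (inv_mem hd))).1 (mem_sup_right ((mem_z2 f2).2 (or_iff_not_imp_left.2 fun q =>
        (eq_inv_of_mul_eq_one_left (o2 _ (mul_mem (inv_mem (r.DT hd)) hx) k q f a b c)).trans ?_)))
      exact inv_eq_of_mul_eq_one_right f2
    have fc : T ≤ 𝐜 f := l.trans (sup_le (le_c_iff.2 (r.FD a b)) (zpowers_le.2 (self_mem_c f)))
    have nD := le_normalizer_sup n n'
    obtain ⟨g, h1, h2⟩ := r.hb.tr r.syl nD a l f2 r.pg fc a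
    replace h1 := mem_normalizer_of_cj_le h1
    have h3 : f ∈ ⁅T, T⁆ := (mem_normalizer_iff.1 (le_normalizer_commutator le_rfl le_rfl h1) f).2 (zpowers_le.2
      (vu ▸ commutator_mem_commutator (r.WT hv) (r.sym.WT hu)) (r.DC h2 (centralizer_anti r.DT
        (conj_mem_of_mem_normalizer (normalizer_le_normalizer_centralizer _ h1) (le_c_iff.1 fc)))))
    exact c (r.one (r.DC (commutator_le_of_le_cmod (l.trans (sup_le (H29.le_cmod le_normalizer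
      (commutator_le_of_le_normalizer' nD)) (zpowers_le.2 (inf_centralizer_le_cmod ⟨nD a, le_c_iff.1 fc⟩)))) h3) (r.FD a b)) b)
  have l : T ≤ 𝐃 := fun x hx => by
    obtain ⟨d, hd, k⟩ := r.dec0 hx (n hx)
    exact inv_mul_eq_one.1 (e1 _ (mul_mem (inv_mem (r.DT hd)) hx) k) ▸ hd
  have v2 := r.w2 hv
  have u2 := r.sym.w2 hu
  have sq : v * u * (v * u) = z := by rw [← comm_sq v2 u2, vu]
  have zm : z ∈ zpowers (v * u) ⊔ zpowers v := mem_sup_left (sq ▸ mul_mem (mem_zpowers _) (mem_zpowers _))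
  have vm : v ∈ zpowers (v * u) ⊔ zpowers v := mem_sup_right (mem_zpowers v)
  have nv : v ∉ 𝐜 u := fun c => r.z1 (vu ▸ mem_c_comm'.1 c)
  have e2 : 𝐜 z = zpowers (v * u) ⊔ zpowers v := le_antisymm (((centralizer_zpowers z).ge.trans ((centralizer_anti fun x hx =>
    r.DC (l (omegaOneCenter_le _ _ hx)) (centralizer_anti r.DT (omegaOneCenter_le_centralizer _ _ hx))).trans
      (r.hb.cz r.syl))).trans (l.trans (sup_le (r.Wle hv (fun c => nv (zpowers_le.2 (cen_le_c hu (r.sym.WW r.sym.zW)) c)) vm zm)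
        (r.sym.Wle hu (fun c => nv (mem_c_symm.1 (zpowers_le.2 (cen_le_c hv (r.WW r.zW)) c)))
          ((mul_mem_cancel_left vm).1 (mem_sup_left (mem_zpowers _))) zm))))
    ((sup_le (zpowers_le.2 (mul_mem (r.WT hv) (r.sym.WT hu))) (zpowers_le.2 (r.WT hv))).trans fun x hx => r.cz hx (n hx))
  rw [e2]
  refine nonempty_mulEquiv_dihedral_sup (orderOf_eq_prime_pow (p := 2) (n := 1) (by rw [pow_one, pow_two, sq]; exact r.z1)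
    (by rw [show 2 ^ (1 + 1) = 2 * 2 from rfl, pow_mul, pow_two, pow_two, sq, r.zz])) (sq_pow v2) ?_ fun c => nv ?_
  · rw [← mul_assoc, v2, one_mul, mul_inv_rev, inv_eq_of_mul_eq_one_right u2]
  · exact mem_c_symm.1 ((mul_mem_cancel_left (self_mem_c v)).1 (mem_c_symm.1 (zpowers_le.2 (self_mem_c _) c)))

end Cr

end H4.QF
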