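import Cfsg.Agent.H4.QE8

/-! Groups with `C(Ω₁ Z(T)) = T` and solvable parabolics, III: the wreathed case. -/

set_option autoImplicit false
set_option linter.unusedVariables false
set_option linter.unusedSectionVars false
set_option linter.style.haveILetI false

namespace H4.QF
open H9 hiding zj
open Matrix hiding mul_inv_rev
open H29.PU hiding Rk1 Vx Crit crit Am Bad W5 T2 le_C_of_normal
open H4.Bm hiding Gd Gt GV Pa P2 DG St Ds Bt ext no_crit hull step1 phi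
open Cfsg Subgroup H28 H28.GC MatrixGroups H29 H29.BB H4.PV Equiv
open H4.OX (Od od_iff syl_sup syl_mem)
open H4.SC (Gd GV Pa P2 Tc Nm hull)
open scoped commutatorElement

universe u
variable {X : Type u} [Group X] [Finite X] {A B C D E F H J K K' L L₁ L₂ M₁ M₂ M N P Q R S T U V W Y : Subgroup X}
  {a b c d e f g h l m n s t u v w x y z : X}

/-- two commuting critical pairs -/
structure Tw (T R L₁ L₂ M₁ M₂ : Subgroup X) (z y : X) : Prop where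
  r : Cr T L₁ L₂ z
  s : Cr T M₁ M₂ y
  e₁ : T ⊓ 𝐍 (𝐖ᵥ L₁) = R
  e₂ : T ⊓ 𝐍 (𝐖ᵥ M₁) = R
  ex : ¬ T ≤ R
  two : Two T R
  out : ∀ t ∈ T, t ∉ R → cj t (O² L₁) = O² M₁ ∧ cj t (O² L₂) = O² M₂ ∧ t * z * t⁻¹ = y
  c₁ : O² M₁ ≤ 𝐂 (O² L₁)
  c₂ : O² M₂ ≤ 𝐂 (O² L₂)
  cD : 𝐖ᵥ M₁ ⊔ 𝐖ᵥ M₂ ≤ 𝐂 (𝐖ᵥ L₁ ⊔ 𝐖ᵥ L₂ : Subgroup X)

theorem Cr.sqE (r : Cr T L₁ L₂ z) (h : x ∈ T) (c : x ∈ 𝐂 (𝐖ᵥ L₁ ⊔ 𝐖ᵥ L₂ : Subgroup X)) : x * x ∈ 𝐂 (O² L₁) :=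
  (r.dec' h c).elim (fun e => mul_mem e e) fun e => by
    have := mul_mem e e
    rwa [← mem_c.1 (cen_le_c (mem_sup_left r.zW) c), mul_assoc, mem_c.1 (cen_le_c (mem_sup_left r.zW) c), ← mul_assoc z, r.zz,
      one_mul] at this

namespace Tw
variable (q : Tw T R L₁ L₂ M₁ M₂ z y)
include q

local notation "𝐃" => (𝐖ᵥ L₁ ⊔ 𝐖ᵥ L₂ : Subgroup X)
local notation "𝐃'" => (𝐖ᵥ M₁ ⊔ 𝐖ᵥ M₂ : Subgroup X)
local notation "𝐀" => (T ⊓ 𝐂 𝐃 ⊓ 𝐂 𝐃' : Subgroup X)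
local notation "𝐘" => (zpowers z ⊔ zpowers y : Subgroup X)

theorem sym : Tw T R L₂ L₁ M₂ M₁ z y :=
  ⟨q.r.sym, q.s.sym, q.e₁ ▸ Subgroup.ext fun x => and_congr_right fun h => (q.r.nn h).symm,
    q.e₂ ▸ Subgroup.ext fun x => and_congr_right fun h => (q.s.nn h).symm, q.ex, q.two,
    fun t a b => let ⟨c, d, e⟩ := q.out t a b; ⟨d, c, e⟩, q.c₂, q.c₁, by rw [sup_comm, sup_comm (𝐖ᵥ L₂)]; exact q.cD⟩
theorem swap : Tw T R M₁ M₂ L₁ L₂ y z :=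
  ⟨q.s, q.r, q.e₂, q.e₁, q.ex, q.two, fun t a b => let ⟨c, d, e⟩ := q.out t⁻¹ (inv_mem a) (mt inv_mem_iff.1 b)
    ⟨by rw [← c, cj_cj_inv], by rw [← d, cj_cj_inv], by rw [← e]; group⟩, le_centralizer_comm.1 q.c₁,
    le_centralizer_comm.1 q.c₂, le_centralizer_comm.1 q.cD⟩
theorem RT : R ≤ T := q.e₁.ge.trans inf_le_left
theorem RN : R ≤ 𝐍 (𝐖ᵥ L₁) := q.e₁.ge.trans inf_le_right
theorem BR : bm 2 T ≤ R := q.r.BN.trans q.e₁.le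
theorem DR : 𝐃 ≤ R := q.r.DB.trans q.BR
theorem Rz : R ≤ 𝐜 z := fun x hx => q.r.cz (q.RT hx) (q.RN hx)
theorem RE : R ≤ 𝐍 (O² L₁) := fun x hx => q.r.nE (q.RT hx) (q.RN hx)
theorem yE : y ∈ 𝐂 (O² L₁) := q.c₁ (q.s.k₁.WE q.s.zW)
theorem zy : z ≠ y := fun e => q.r.zC (e ▸ q.yE)
theorem zR : z ∈ R := q.DR (mem_sup_left q.r.zW)
theorem inn (h : x ∈ T) (c : x ∈ 𝐜 z) : x ∈ R := by_contra fun n => q.zy ((mem_c''.1 c).symm.trans (q.out x h n).2.2)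
theorem AR : 𝐀 ≤ R := fun x hx => q.inn hx.1.1 (cen_le_c (mem_sup_left q.r.zW) hx.1.2)
theorem oW (h : t ∈ T) (n : t ∉ R) : cj t (𝐖ᵥ L₁) = 𝐖ᵥ M₁ := by
  rw [← q.r.wOf_eq, cj_wOf, (q.out t h n).1, q.s.wOf_eq]
theorem oD (h : t ∈ T) (n : t ∉ R) : cj t 𝐃 = 𝐃' := by rw [cj_sup, q.oW h n, q.sym.oW h n]
theorem RD : R ≤ 𝐍 𝐃 := le_normalizer_sup q.RN q.sym.RN
theorem cmD : ⁅R, 𝐃⁆ ≤ zpowers z := q.e₁ ▸ q.r.cmD

theorem decR (h : x ∈ R) : ∃ d ∈ 𝐃, ∃ d' ∈ 𝐃', ∃ a ∈ 𝐀, d * (d' * a) = x := by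
  obtain ⟨d, hd, c⟩ := q.r.dec0 (q.RT h) (q.RN h)
  have m := mul_mem (inv_mem (q.DR hd)) h
  obtain ⟨e, he, c'⟩ := q.s.dec0 (q.RT m) (q.swap.RN m)
  have m' := q.RT (mul_mem (inv_mem (q.swap.DR he)) m)
  exact ⟨d, hd, e, he, _, ⟨⟨m', Subgroup.mul_mem _ (inv_mem (q.cD he)) (q.r.FD (q.RT m) c)⟩, q.s.FD m' c'⟩, by group⟩

theorem Rle (h1 : 𝐃 ≤ H) (h2 : 𝐃' ≤ H) (h3 : 𝐀 ≤ H) : R ≤ H := fun x hx =>
  let ⟨_, a, _, b, _, c, e⟩ := q.decR hx; e ▸ mul_mem (h1 a) (mul_mem (h2 b) (h3 c))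

theorem F0 : T ⊓ (𝐂 (O² L₁) ⊓ 𝐂 (O² L₂) ⊓ (𝐂 (O² M₁) ⊓ 𝐂 (O² M₂))) = ⊥ := by
  refine q.r.noF inf_le_left (le_normalizer_inf le_normalizer (le_normalizer_of_cj_eq fun t ht => ?_))
    (inf_le_right.trans (inf_le_left.trans inf_le_left)) (inf_le_right.trans (inf_le_left.trans inf_le_right))
  simp only [cj_inf, cj_centralizer]
  by_cases c : t ∈ R
  · rw [cj_eq_self (q.RE c), cj_eq_self (q.sym.RE c), cj_eq_self (q.swap.RE c), cj_eq_self (q.swap.sym.RE c)]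
  · rw [(q.out t ht c).1, (q.out t ht c).2.1, (q.swap.out t ht c).1, (q.swap.out t ht c).2.1, inf_comm]

theorem A2 (h : a ∈ 𝐀) : a * a = 1 := mem_bot.1 (q.F0.le ⟨mul_mem h.1.1 h.1.1, ⟨q.r.sqE h.1.1 h.1.2, q.r.sym.sqE h.1.1
  (sup_comm (𝐖ᵥ L₁) _ ▸ h.1.2)⟩, q.s.sqE h.1.1 h.2, q.s.sym.sqE h.1.1 (sup_comm (𝐖ᵥ M₁) _ ▸ h.2)⟩)

theorem AC : R ≤ 𝐂 𝐀 := q.Rle (le_centralizer_comm.1 (inf_le_left.trans inf_le_right))
  (le_centralizer_comm.1 inf_le_right) (ea_le_centralizer (ea_of_sq fun _ => q.A2))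

theorem memA (h : x ∈ R) (c : x ∈ 𝐂 R) : x ∈ 𝐀 := ⟨⟨q.RT h, centralizer_anti q.DR c⟩, centralizer_anti q.swap.DR c⟩

theorem DJ : 𝐃 ≤ JJ 2 T := JJ_eq_of_le (JJ_le_bm (S := T)) bm_le ▸
  sup_le (q.r.k₁.WZ.trans q.r.k₁.ZJ) (q.r.k₂.WZ.trans q.r.k₂.ZJ)

theorem eJ : JJ 2 T = R := le_antisymm (JJ_le_bm.trans q.BR) (q.Rle q.DJ q.swap.DJ fun a ha =>
  mem_JJ_of_mem_centralizer ha.1.1 (sq_pow (q.A2 ha))
    (centralizer_anti (JJ_le_bm.trans q.BR) (le_centralizer_comm.1 q.AC ha)))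

theorem eB : bm 2 T = R := le_antisymm q.BR (q.eJ.ge.trans JJ_le_bm)
theorem nR : T ≤ 𝐍 R := q.eJ ▸ le_normalizer_JJ 2 T
theorem cjR (h : cj g R ≤ T) : g ∈ 𝐍 R := q.eJ ▸ cj_J q.r.syl (q.eJ.symm ▸ h)
theorem RY : R ≤ 𝐂 𝐘 := by rw [centralizer_sup, centralizer_zpowers, centralizer_zpowers]; exact le_inf q.Rz q.swap.Rz

theorem memY (h : x ∈ 𝐘) : x = 1 ∨ x = z ∨ x = y ∨ x = z * y := by
  obtain ⟨a, ha, b, hb, rfl⟩ := (mem_sup_of_le_normalizer (le_normalizer_of_le_centralizer (zpowers_le.2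
    ((centralizer_zpowers y).ge (q.swap.Rz q.zR))))).1 h
  rcases q.r.mz.1 ha with rfl | rfl <;> rcases q.s.mz.1 hb with rfl | rfl <;> simp

theorem cmR : ⁅R, R⁆ = 𝐘 := by
  have n := le_normalizer_of_le_centralizer q.RY
  refine le_antisymm (commutator_le_of_le_cmod (q.Rle (H29.le_cmod (q.DR.trans n) (q.cmD.trans le_sup_left))
    (H29.le_cmod (q.swap.DR.trans n) (q.swap.cmD.trans le_sup_right))
    (H29.le_cmod (q.AR.trans n) ((commutator_eq_bot_iff.2 q.AC).le.trans bot_le)))) (sup_le ?_ ?_)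
  · obtain ⟨v, a, u, b, e⟩ := q.r.exvu
    exact zpowers_le.2 (e ▸ commutator_mem_commutator (q.DR (mem_sup_left a)) (q.DR (mem_sup_right b)))
  · obtain ⟨v, a, u, b, e⟩ := q.s.exvu
    exact zpowers_le.2 (e ▸ commutator_mem_commutator (q.swap.DR (mem_sup_left a)) (q.swap.DR (mem_sup_right b)))

theorem nY : 𝐍 R ≤ 𝐍 𝐘 := q.cmR ▸ le_normalizer_commutator le_rfl le_rfl

/-- `z` is not 2-central -/
theorem nz (hS : IsSylowIn 2 S ⊤) (l : S ≤ 𝐜 z) : False := by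
  obtain ⟨P, a, b⟩ := exists_isSylowIn_ge (q.r.pg.to_le q.RT) q.Rz
  exact (q.s.base (hS.of_sylow_le l le_top a) (q.BR.trans b)).nc₂ a.le (le_c_iff.2 q.swap.yE) (le_c_iff.2 q.swap.sym.yE)
    (O2_c q.r.zz q.r.z1)

theorem jw1 (k : JC R K) (h : x ∈ wOf K) (n : x ∉ 𝐂 𝐃) : z ∈ wOf K := by
  obtain ⟨d, hd, d1⟩ := not_forall₂.1 (mt mem_cen_iff.2 n)
  have a : ⁅x, d⁆ = z := (q.r.mz.1 (q.cmD (commutator_mem_commutator (k.wOf_le_J (q.r.pg.to_le q.RT) h) hd))).resolve_left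
    fun e => d1 (by rw [← commutatorElement_inv, e, inv_one])
  exact a ▸ cm_mem (k.norm.trans (normalizer_le_normalizer_wOf K)) h (q.DR hd)

theorem jw (k : JC R K) : z ∈ wOf K ∧ y ∉ wOf K ∨ y ∈ wOf K ∧ z ∉ wOf K := by
  have p := q.r.pg.to_le q.RT
  have c := k.card_inf_centralizer p k.norm k.not_le_Cz
  have n : z ∈ wOf K → y ∉ wOf K := fun a b => by
    have := eq_of_le_of_card_le (zpowers_le.2 (mem_inf.2 ⟨a, le_c_iff.1 q.Rz⟩))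
      (by rw [c, Nat.card_zpowers, orderOf_eq_prime (sq_pow q.r.zz) q.r.z1])
    exact (q.r.mz.1 (this.ge ⟨b, le_c_iff.1 q.swap.Rz⟩)).elim q.s.z1 q.zy.symm
  obtain ⟨x, hx, x1⟩ := SetLike.not_le_iff_exists.1 fun e : wOf K ≤ 𝐂 R => by
    rw [inf_of_le_left e, k.card] at c; omega
  by_cases e : x ∈ 𝐂 𝐃
  · have := q.swap.jw1 k hx fun e' => x1 (le_centralizer_comm.1 q.AC ⟨⟨q.RT (k.wOf_le_J p hx), e⟩, e'⟩)
    exact Or.inr ⟨this, fun a => n a this⟩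
  · exact Or.inl ⟨q.jw1 k hx e, n (q.jw1 k hx e)⟩

theorem TJ (l : T ≤ H) (o : O₂ H ≠ ⊥) (h : x ∈ T) (m : x ∈ JJ 2 H) : x ∈ R := by_contra fun n => by
  have zl := q.r.hb.zl q.r.syl l o
  have sy := q.r.syl.mono l le_top
  refine n (q.eJ.le ((zl.JJ_eq sy).le.trans (sup_le (XX_le_iff.2 fun K k lK => False.elim ?_) le_rfl) m))
  have c := normalizer_le_normalizer_wOf K (zl.JJ_le_normalizer sy k lK m)
  rcases q.jw (q.eJ ▸ k) with ⟨a, b⟩ | ⟨a, b⟩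
  · exact b ((q.out x h n).2.2 ▸ conj_mem_of_mem_normalizer c a)
  · exact b ((q.swap.out x h n).2.2 ▸ conj_mem_of_mem_normalizer c a)

theorem yz : y * z = z * y := mem_c.1 (q.Rz q.swap.zR)

theorem Tc : T ≤ 𝐜 (z * y) := fun x hx => mem_c''.2 (by
  rw [← conj_mul]
  by_cases c : x ∈ R
  · rw [mem_c''.1 (q.Rz c), mem_c''.1 (q.swap.Rz c)]
  · rw [(q.out x hx c).2.2, (q.swap.out x hx c).2.2, q.yz])

theorem zy1 : z * y ≠ 1 := fun e => q.zy (mul_right_cancel (e.trans q.s.zz.symm))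

theorem O2y : O₂ (𝐜 (z * y)) ≠ ⊥ :=
  O2_c (by rw [mul_assoc, ← mul_assoc y, q.yz, mul_assoc, q.s.zz, mul_one, q.r.zz]) q.zy1

theorem noJ (k : JC R K) (l : K ≤ 𝐜 (z * y)) (a : z ∈ wOf K) (b : y ∉ wOf K) : False := by
  have p := q.r.pg.to_le q.RT
  have nW := k.norm.trans (normalizer_le_normalizer_wOf K)
  have h1 : 𝐃' ≤ R ⊓ 𝐂 (wOf K) := le_inf q.swap.DR (le_centralizer_comm.1 fun x hx => by_contra fun n => b (q.swap.jw1 k hx n))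
  have h2 : O₂ K ≤ R ⊓ 𝐂 (wOf K) := le_inf (fun x hx => q.inn ((q.r.syl.mono q.Tc le_top).pCoreOf_le
    ((q.r.hb.zl q.r.syl q.Tc q.O2y).jc_pCoreOf_le (q.r.syl.mono q.Tc le_top) (q.eJ.symm ▸ k) l hx))
    (cen_le_c a (pCoreOf_le_centralizer_wOf K hx))) (pCoreOf_le_centralizer_wOf K)
  have h3 : K ≤ 𝐍 (R ⊓ 𝐂 (wOf K) : Subgroup X) := H28.le_normalizer_of_commutator_le (W := R ⊓ 𝐂 (wOf K))
    (comm_comm K _ ▸ (le_Cz (A := R ⊓ 𝐂 (wOf K)).1 fun x hx => k.mem_Cz (k.norm hx.1) hx.2).2.trans h2) le_rfl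
  obtain ⟨x, hx, x3, x1⟩ := k.exists_three
  obtain ⟨v, hv, u, hu, e⟩ := q.s.exvu
  have c := mem_c''.1 (l hx)
  rw [← conj_mul] at c
  have nc : x ∉ 𝐜 z := fun c => q.r.z1 (mem_bot.1 ((k.wOf_inf_singleton hx x1).le ⟨a, mem_c_symm.1 c⟩))
  rcases q.memY (q.cmR.le (commutator_mono inf_le_left inf_le_left (conj_mem_of_mem_normalizer (le_normalizer_commutator h3 h3 hx)
    (e ▸ commutator_mem_commutator (h1 (mem_sup_left hv)) (h1 (mem_sup_right hu)))))) with d | d | d | d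
  · exact conj_ne q.s.z1 d
  · rw [d, ← q.yz] at c
    refine nc (mem_of_pow_mem_of_coprime (n := 2) (by rw [x3]; decide) (mem_c''.2 ?_))
    rw [pow_two, show x * x * z * (x * x)⁻¹ = x * (x * z * x⁻¹) * x⁻¹ by group, mul_right_cancel c, d]
  · rw [d] at c; exact nc (mem_c''.2 (mul_right_cancel c))
  · rw [d] at c; exact conj_ne q.r.z1 (mul_eq_right.1 c)

theorem cy : 𝐜 (z * y) ≤ 𝐍 R := (q.r.hb.zl q.r.syl q.Tc q.O2y).le_of_forall (q.r.syl.mono q.Tc le_top)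
  (q.eJ ▸ inf_le_right) fun K k l => False.elim (by
    rw [q.eJ] at k
    rcases q.jw k with ⟨a, b⟩ | ⟨a, b⟩
    exacts [q.noJ k l a b, q.swap.noJ k (q.yz ▸ l) a b])

end Tw

end H4.QF
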