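import Cfsg.Agent.H4.Rz5
import Cfsg.Agent.H4.Meta3
import Cfsg.Agent.H4.Res4
import Cfsg.Agent.H4.Rk2

/-!
# Metacyclic groups of supersoluble type
-/

set_option autoImplicit false

namespace H4

open Subgroup H25 H25.FS H10
open scoped commutatorElement

theorem AutSS.eq_one {G : Type*} [Group G] (h : AutSS 2 G) {α : MulAut G}
    (ha : (orderOf α).Coprime 2) : α = 1 := by
  simpa using (h (zpowers α) (by rwa [Nat.card_zpowers])).2 α (mem_zpowers α)

theorem MM.not_sup {Ω : Type*} [Group Ω] {S : Subgroup Ω} [Finite S] {n : ℕ} {e : ℤ} {x w : Ω}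
    (h : MM S n x e w) : ¬ ∀ F : Cfsg.FusionSystem S, F.IsSaturated 2 → SupS F := fun h1 => by
  have hS := h.mc.isPGroup
  obtain ⟨h2, h3⟩ := (supS_iff hS).1 h1
  obtain ⟨G, _, _, T, a, v, k, b1, b2, b3, b4, b5, -⟩ := h.full
  obtain ⟨N, θ, U, hU⟩ := exists_un S (m := Nat.card G) Nat.card_pos
  have k' := mc_im U.inj h.mc
  have a2 := (ex_out U.inj h.mc.mem h.mem).not.2 h.out
  obtain ⟨i, hi, -, c1, c2⟩ := (hU G dvd_rfl).mc k' (ex_mem_im θ le_rfl h.mem) a2 k b1 b2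
    ((ex_sq U.inj h.mem).trans b3.symm)
  have c3 := foc_map hi k.isPGroup b4
  have c4 := sat_ofSub (k.isPGroup.map i) (syl_map hi b4)
  rw [c2] at c3 c4
  obtain ⟨D, R, e⟩ := exists_pb U.inj (ofSub i.range (im θ S)) le_rfl rfl
  have c5 := eq_inner_of_nm c4 (e ▸ R.nm (h2 D (R.of_sat (e ▸ c4)))) fun α =>
    (h3.of_equiv (imEquiv U.inj le_rfl).symm).eq_one
  rw [c5, foc_inner c4.pg, ofSub_S, k'.commutator_eq] at c3
  exact a2 (zpowers_le.2 (zpow_mem_zpowers _ _) (c3.ge ⟨v, ⟨b1, b5.2 trivial⟩, c1⟩))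

variable {G : Type*} [Group G] [Finite G] {p : ℕ} [hp : Fact p.Prime]

theorem autSS_meta_two (hG : IsPGroup 2 G) (hm : Cfsg.IsMetacyclic G)
    (h1 : ¬ Nonempty (G ≃* QuaternionGroup 2)) (h2 : ∀ n, 0 < n →
      ¬ Nonempty (G ≃* Multiplicative (ZMod (2 ^ n)) × Multiplicative (ZMod (2 ^ n)))) :
    AutSS 2 G := fun H hH => by
  have h3 : ∀ α ∈ H, α = 1 := fun α ha => by_contra fun h4 => by
    obtain ⟨n, ⟨e⟩⟩ := (meta_odd hG hm (coprime_of_mem hH ha) h4).resolve_left h1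
    obtain _ | n := n
    · have : Subsingleton (Multiplicative (ZMod (2 ^ 0) × ZMod (2 ^ 0))) :=
        inferInstanceAs (Subsingleton (Multiplicative (ZMod 1 × ZMod 1)))
      exact h4 (MulEquiv.ext fun x => e.injective (Subsingleton.elim _ _))
    · exact h2 _ n.succ_pos ⟨e.trans (MulEquiv.prodMultiplicative _ _)⟩
  exact ⟨isMulCommutative_iff.2 fun a ha b hb => by rw [h3 a ha, h3 b hb], fun a ha => by simp [h3 a ha]⟩

theorem MetaP.autSS (h : MetaP p G) (h2 : ∀ n, 0 < n →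
    ¬ Nonempty (G ≃* Multiplicative (ZMod (p ^ n)) × Multiplicative (ZMod (p ^ n)))) : AutSS p G := by
  by_cases h1 : commutator G = ⊥
  · obtain ⟨x, y, a1, a2, -⟩ := h.exists_basis
    obtain ⟨e⟩ := equiv_prod_of a2 a1 fun b _ a _ => commutatorElement_eq_one_iff_mul_comm.1
      (mem_bot.1 (h1 ▸ commutator_mem_commutator (mem_top a) (mem_top b)))
    have a3 : ∀ x : G, ∃ a, Nonempty (zpowers x ≃* Multiplicative (ZMod (p ^ a))) := fun x => by
      obtain ⟨a, ha⟩ := exists_card_eq_pow h.pg (zpowers x)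
      exact ⟨a, ⟨ha ▸ (zmodCyclicMulEquiv inferInstance).symm⟩⟩
    obtain ⟨a, ⟨f⟩⟩ := a3 x
    obtain ⟨b, ⟨g⟩⟩ := a3 y
    have e' := topEquiv.symm.trans (e.trans (f.prodCongr g))
    by_cases h3 : a = b
    · subst h3
      obtain _ | a := a
      · have : Subsingleton (Multiplicative (ZMod (p ^ 0))) :=
          inferInstanceAs (Subsingleton (Multiplicative (ZMod 1)))
        have := e'.injective.subsingleton
        have : Subsingleton (MulAut G) := ⟨fun _ _ => MulEquiv.ext fun _ => Subsingleton.elim _ _⟩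
        exact fun H _ => ⟨⟨⟨fun _ _ => Subsingleton.elim _ _⟩⟩, fun _ _ => Subsingleton.elim _ _⟩
      · exact absurd ⟨e'⟩ (h2 _ a.succ_pos)
    · exact autSS_of_pi (a := ![a, b]) (fun i j => by fin_cases i <;> fin_cases j <;> simp [h3, Ne.symm h3])
        (e'.trans (MulEquiv.symm { piFinTwoEquiv _ with map_mul' := fun _ _ => rfl }))
  refine fun H hH => of_sp fun γ hγ => ?_
  obtain ⟨c, hc⟩ := (Subgroup.isCyclic_iff_exists_zpowers_eq_top _).1 (cyc_commutator h.mc)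
  let R := h.reg.omega h.pg 1
  have a0 := h.reg.omega_characteristic h.pg 1
  have a1 : Nat.card R ≤ p ^ 2 := by
    have b1 := (Cfsg.powerClosure p 1 (⊤ : Subgroup G)).card_mul_index
    rw [h.reg.card_powerClosure h.pg, ← R.index_mul_card] at b1
    exact Nat.eq_of_mul_eq_mul_left (Nat.pos_of_ne_zero index_ne_zero_of_finite) b1 ▸
      index_mho_le h.mc hp.out.pos 1
  obtain ⟨z, a2, -, a3⟩ := exists_mem_center_orderOf_eq h.pg h1
  have a4 : zpowers z ≤ R := zpowers_le.2 ((h.reg.mem_omega h.pg).2 (by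
    rw [pow_one, ← a3, pow_orderOf_eq_one]))
  obtain ⟨e, he⟩ : ∃ e, commutator G ⊔ zpowers e = commutator G ⊔ R := by
    by_cases b1 : R ≤ commutator G
    · exact ⟨1, by simp [b1]⟩
    obtain ⟨e, b2, b3⟩ := SetLike.not_le_iff_exists.1 b1
    exact ⟨e, by rw [← eq_sup_of_card (h.pg.to_subgroup R) a4 (by rwa [Nat.card_zpowers, a3, ← sq]) b2
      fun b => b3 (zpowers_le.2 a2 b), ← sup_assoc, sup_eq_left.2 (zpowers_le.2 a2)]⟩
  have a5 : Pch p H ⊥ (⊥ ⊔ zpowers c) := Pch.cyc h.pg (.refl inferInstance (.of_char inferInstance))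
    (by rw [bot_sup_eq, hc]; infer_instance) (by rw [bot_sup_eq, hc]; exact .of_char inferInstance)
  rw [bot_sup_eq, hc] at a5
  have a6 := a5.cyc (x := e) h.pg (by rw [he]; infer_instance) (by rw [he]; exact .of_char inferInstance)
  have a7 := coprime_of_mem hH hγ.mem
  exact mulAut_eq_one_of_fix_order_p h.odd h.pg a7 fun x hx => (inv_mul_eq_one.1 (a6.tr h.pg hγ a7 x
    (he ▸ mem_sup_right ((h.reg.mem_omega h.pg).2 (by rwa [pow_one]))))).symm

end H4
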