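import Cfsg.Agent.H8.FS0

/-! Strong closure for fixed point free operator groups: a bad local subgroup. -/

set_option autoImplicit false
set_option linter.unusedVariables false
set_option linter.unusedSectionVars false
set_option linter.style.haveILetI false

namespace H4.SC
open H9 hiding zj
open Matrix hiding mul_inv_rev
open H29.PU hiding Rk1 Vx Crit crit Am Bad W5 T2 le_C_of_normal
open H4.Bm hiding Gd Gt GV Pa P2 DG St Ds Bt ext no_crit hull step1 phi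
open Cfsg Subgroup H28 H28.GC MatrixGroups H29 H29.BB H4.PV Equiv
open H4.OX (Od od_iff syl_sup syl_mem)
open scoped commutatorElement

universe u
variable {X : Type u} [Group X] [Finite X] {A A' B B' C D E E' F G H I J K L L' L₀ L₁ L₂ B₀ M N O P Q R S S' T T' U V W Y : Subgroup X}
  {a b c d e f g h k l m n s t u v w x y z : X} {ν : Subgroup X → Subgroup X}

open H8.FS (HV)

theorem cj_zj (g : X) (S : Subgroup X) : cj g (zj 2 S) = zj 2 (cj g S) := by rw [zj, cj_omegaOneCenter, cj_JJ, zj]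

theorem hv_conj (h : HV G S V A) (g : X) : HV G (cj g S) (cj g V) (cj g A) := by
  have eG : cj g G = G := cj_eq_self (h.nG (mem_top g))
  have eC : G ⊓ 𝐂 (Ω₂ (cj g S)) = cj g (G ⊓ 𝐂 (Ω₂ S)) := by rw [cj_inf, eG, cj_centralizer, cj_omegaOneCenter]
  have sj : ∀ Y : Subgroup X, ∃ Y', cj g Y' = Y := fun Y => ⟨_, cj_cj_inv g Y⟩
  refine ⟨h.nG, h.syl.conj_of_mem_normalizer (h.nG (mem_top g)), cj_omegaOneCenter g S ▸ cj_mono g h.Ωle,
    cj_mono g h.le, ea_cj h.ea g, by simpa only [cj_normalizer] using cj_mono g h.nV, ?_, ?_, fun Y a b c => ?_,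
    fun R a b => ?_, fun x hx o f => ?_, cj_normalizer g S ▸ cj_mono g h.nA, by
      rw [← cj_centralizer, ← cj_inf, h.fpf, cj_bot]⟩
  · have := h.sol
    rw [eC]
    exact Group.isSolvable_of_surjective (f := (cjEquiv g (G ⊓ 𝐂 (Ω₂ S))).toMonoidHom) (cjEquiv g _).surjective
  · obtain ⟨O, a, b, c, d⟩ := h.cen
    rw [eC]
    exact ⟨cj g O, cj_mono g a, b.conj g, cj_normalizer g O ▸ cj_mono g c, by
      rw [← cj_sup, ← cj_normalizer]; exact cj_mono g d⟩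
  · obtain ⟨Y, rfl⟩ := sj Y
    rw [← cj_normalizer, ← cj_normalizer, cj_le_cj] at c
    rw [← cj_normalizer, ← cj_normalizer, ← eG, ← cj_inf]
    exact cj_mono g (h.loc Y (cj_le_cj.1 a) (cj_le_cj.1 b) c)
  · obtain ⟨R, rfl⟩ := sj R
    rw [← cj_zj]
    exact cj_mono g (h.ff R (cj_le_cj.1 a) (cj_le_cj.1 b))
  · obtain ⟨x, rfl⟩ : ∃ y, g * y * g⁻¹ = x := ⟨g⁻¹ * x * g, by group⟩
    rw [← cj_normalizer, ← eG, ← cj_inf, conj_mem_cj_iff] at hx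
    rw [← cj_zpowers, ← cj_commutator] at f
    rw [← cj_centralizer, conj_mem_cj_iff]
    refine h.sing x hx (by rwa [← MulAut.conj_apply, MulEquiv.orderOf_eq] at o) fun u hu w hw u1 w1 => ?_
    obtain ⟨_, ⟨y, hy, rfl⟩, e⟩ := f _ (conj_mem_cj hu) _ (conj_mem_cj hw) (conj_ne u1) (conj_ne w1)
    refine ⟨y, hy, (MulAut.conj g).injective ?_⟩
    rw [MulAut.conj_apply, MulAut.conj_apply, ← e]
    simp only [MulEquiv.coe_toMonoidHom, MulAut.conj_apply]; group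

/-- an equivariant choice of `V` -/
structure HH (G : Subgroup X) (ν : Subgroup X → Subgroup X) : Prop where
  nG : ⊤ ≤ 𝐍 G
  equi : ∀ g T, ν (cj g T) = cj g (ν T)
  hv : ∀ T, IsSylowIn 2 T G → ∃ A, HV G T (ν T) A

theorem exists_hh (h : HV G S V A) : ∃ ν, HH G ν ∧ ν S = V := by
  let ν : Subgroup X → Subgroup X := fun T => ⨆ g : {g // cj g S = T}, cj g.1 V
  have l := fun T => le_iSup (fun g : {g // cj g S = T} => cj g.1 V)
  have e : ν S = V := le_antisymm (iSup_le fun g => (cj_eq_self (h.nV (mem_normalizer_iff_cj.2 g.2))).le)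
    ((cj_one V).ge.trans (l S ⟨1, cj_one S⟩))
  have q : ∀ g T, cj g (ν T) ≤ ν (cj g T) := fun g T => by
    rw [cj_iSup]
    exact iSup_le fun k => (cj_cj _ _ _).le.trans (l _ ⟨g * k, by rw [← cj_cj, k.2]⟩)
  have q' : ∀ g T, ν (cj g T) = cj g (ν T) := fun g T => le_antisymm (le_cj_iff.2 (by
    simpa only [cj_inv_cj] using q g⁻¹ (cj g T))) (q g T)
  refine ⟨ν, ⟨h.nG, q', fun T hT => ?_⟩, e⟩
  obtain ⟨g, -, rfl⟩ := h.syl.exists_conj hT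
  exact ⟨_, by rw [q', e]; exact hv_conj h g⟩

/-- `2`-subgroups containing a conjugate of `Ω₁Z(S)` -/
def Tc (G U : Subgroup X) : Prop := IsPGroup 2 U ∧ U ≤ G ∧ ∃ S, IsSylowIn 2 S G ∧ Ω₂ S ≤ U

theorem Tc.mono (h : Tc G U) (p : IsPGroup 2 V) (l : U ≤ V) (l' : V ≤ G) : Tc G V :=
  let ⟨_, _, S, a, b⟩ := h; ⟨p, l', S, a, b.trans l⟩
theorem Tc.conj (h : Tc G U) (hg : g ∈ 𝐍 G) : Tc G (cj g U) :=
  let ⟨p, l, S, a, b⟩ := h
  ⟨isPGroup_cj g p, cj_le_of_mem_normalizer l hg, _, a.conj_of_mem_normalizer hg, cj_omegaOneCenter g S ▸ cj_mono g b⟩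

/-- `V` is normal modulo an odd normal subgroup -/
def Nm (V H : Subgroup X) : Prop := ∃ O ≤ H, Od O ∧ H ≤ 𝐍 O ∧ H ≤ 𝐍 (V ⊔ O : Subgroup X)

theorem Nm.le (h : Nm V H) (p : IsPGroup 2 V) (l : V ≤ H) (hg : g ∈ H) (h1 : D ≤ V) (p' : IsPGroup 2 P) (h2 : V ≤ 𝐍 P)
    (h3 : cj g D ≤ P) : cj g D ≤ V :=
  let ⟨O, a, b, c, d⟩ := h
  (le_inf h3 (cj_le_of_mem_normalizer (h1.trans le_sup_left) (d hg))).trans
    ((syl_sup (isSylowIn_self p) b (l.trans c)).le_of_le_normalizer' (p'.to_le inf_le_left) inf_le_right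
      (le_normalizer_inf h2 (le_normalizer_of_le le_sup_left)))

/-- bad local subgroups -/
structure Bd (G : Subgroup X) (ν : Subgroup X → Subgroup X) (T U : Subgroup X) : Prop where
  syl : IsSylowIn 2 T G
  tc : Tc G U
  sN : IsSylowIn 2 (T ⊓ 𝐍 U) (G ⊓ 𝐍 U)
  vN : ν T ≤ 𝐍 U
  nm : ¬ Nm (ν T) (G ⊓ 𝐍 U)

theorem ext_syl (p : IsPGroup 2 P) (l : P ≤ G) (n : P ≤ H) :
    ∃ T, IsSylowIn 2 T G ∧ P ≤ T ∧ IsSylowIn 2 (T ⊓ H) (G ⊓ H) := by
  obtain ⟨R, a, b⟩ := exists_isSylowIn_ge p (le_inf l n)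
  obtain ⟨T, c, d⟩ := exists_isSylowIn_ge a.isPGroup (a.le.trans inf_le_left)
  exact ⟨T, c, b.trans d, (a.max _ (c.isPGroup.to_le inf_le_left) (le_inf d (a.le.trans inf_le_right))
    (inf_le_inf_right _ c.le)).symm ▸ a⟩

theorem grow (p : IsPGroup 2 T) (h1 : P ≤ T) (h2 : V ≤ T) (h3 : T ≤ 𝐍 V) (n : ¬ V ≤ P) : ∃ v ∈ V, v ∈ 𝐍 P ∧ v ∉ P := by
  obtain ⟨w, ⟨a, b⟩, c⟩ := SetLike.exists_of_lt (lt_inf_normalizer (p.to_le (sup_le h1 h2)) (left_lt_sup.2 n))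
  obtain ⟨u, hu, v, hv, rfl⟩ := (mem_sup_of_le_normalizer (h1.trans h3)).1 a
  exact ⟨v, hv, (mul_mem_cancel_left (le_normalizer hu)).1 b, fun e => c (mul_mem hu e)⟩

namespace HH
variable (hh : HH G ν)
include hh

theorem cG (g : X) : cj g G = G := cj_eq_self (hh.nG (mem_top g))
theorem sy (hT : IsSylowIn 2 T G) (g : X) : IsSylowIn 2 (cj g T) G := hT.conj_of_mem_normalizer (hh.nG (mem_top g))
theorem le (hT : IsSylowIn 2 T G) : ν T ≤ T := let ⟨_, h⟩ := hh.hv T hT; h.le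
theorem pg (hT : IsSylowIn 2 T G) : IsPGroup 2 (ν T) := hT.isPGroup.to_le (hh.le hT)
theorem ea (hT : IsSylowIn 2 T G) : IsElementaryAbelian 2 (ν T) := let ⟨_, h⟩ := hh.hv T hT; h.ea
theorem Ωle (hT : IsSylowIn 2 T G) : Ω₂ T ≤ ν T := let ⟨_, h⟩ := hh.hv T hT; h.Ωle
theorem nV (hT : IsSylowIn 2 T G) : T ≤ 𝐍 (ν T) := let ⟨_, h⟩ := hh.hv T hT; le_normalizer.trans h.nV

end HH

/-- large subgroups are well placed -/
def Big (G : Subgroup X) (ν : Subgroup X → Subgroup X) (n : ℕ) : Prop :=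
  ∀ T T' D, IsSylowIn 2 T G → IsSylowIn 2 T' G → D ≤ ν T → D ≤ T' → n < # D → D ≤ ν T'

/-- extremal subgroups in which `ν` is not normal -/
structure Fm (G : Subgroup X) (ν : Subgroup X → Subgroup X) (n : ℕ) (T U : Subgroup X) : Prop where
  syl : IsSylowIn 2 T G
  le : U ≤ T
  sN : IsSylowIn 2 (T ⊓ 𝐍 U) (G ⊓ 𝐍 U)
  card : # ↥(U ⊓ ν T) = n
  nn : ¬ G ⊓ 𝐍 U ≤ 𝐍 (U ⊓ ν T : Subgroup X)

namespace Fm
variable {i : ℕ} (hh : HH G ν) (big : Big G ν i) (q : Fm G ν i T U)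
include hh big q

theorem lt (n1 : x ∉ U) : i < # ↥(U ⊓ ν T ⊔ zpowers x) :=
  q.card ▸ card_lt_of_lt (left_lt_sup.2 fun c => n1 (c (mem_zpowers x)).1)

theorem cen : ν T ⊓ 𝐂 U ≤ U := fun x hx => by_contra fun n1 => q.nn fun h hh' => by
  have lK : G ⊓ 𝐂 U ≤ G ⊓ 𝐍 U := inf_le_inf_left _ (centralizer_le_normalizer _)
  have nK : G ⊓ 𝐍 U ≤ 𝐍 (G ⊓ 𝐂 U : Subgroup X) :=
    le_normalizer_inf (le_top.trans hh.nG) (le_normalizer_centralizer inf_le_right)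
  obtain ⟨c, hc, k, hk, rfl⟩ := (q.sN.inf_normal' lK nK).frattini (nK hh')
  have k1 := (mul_mem_cancel_left (lK hc)).1 hh'
  have xT := hh.le q.syl hx.1
  have l1 : cj k (U ⊓ ν T) ≤ U := cj_le_of_mem_normalizer inf_le_left k1.2
  have := big _ T (cj k (U ⊓ ν T ⊔ zpowers x)) (hh.sy q.syl k) q.syl
    (hh.equi k T ▸ cj_mono k (sup_le inf_le_right (zpowers_le.2 hx.1))) (by
      rw [cj_sup, cj_zpowers]
      exact sup_le (l1.trans q.le) (zpowers_le.2 (conj_mem_of_mem_normalizer hk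
        ⟨⟨xT, centralizer_le_normalizer _ hx.2⟩, q.syl.le xT, hx.2⟩).1.1))
    ((card_cj k _).symm ▸ q.lt hh big n1)
  exact mul_mem (centralizer_le_normalizer _ (centralizer_anti inf_le_left hc.2))
    (mem_normalizer_of_cj_le (le_inf l1 ((cj_mono k le_sup_left).trans this)))

theorem key (hx : x ∈ ν T) (n1 : x ∉ U) (hT : IsSylowIn 2 T' G) (h1 : U ⊓ ν T ≤ W) (h2 : W ≤ U) (h3 : W ≤ T')
    (h4 : x ∈ T') : W ⊓ ν T' = U ⊓ ν T := by
  have l := le_inf h1 (le_sup_left.trans (big T T' _ q.syl hT (sup_le inf_le_right (zpowers_le.2 hx))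
    (sup_le (h1.trans h3) (zpowers_le.2 h4)) (q.lt hh big n1)))
  exact l.eq_or_lt.elim Eq.symm fun c => le_antisymm (le_inf (inf_le_left.trans h2) (big T' T _ hT q.syl inf_le_right
    ((inf_le_left.trans h2).trans q.le) (q.card ▸ card_lt_of_lt c))) l

theorem cnj (hx : x ∈ ν T ⊓ 𝐍 U) (n1 : x ∉ U) (hy : y ∈ ν T ⊓ 𝐍 U) (n2 : y ∉ U) (hh' : h ∈ G ⊓ 𝐍 U) :
    ∃ k ∈ zpowers x ⊔ zpowers (h * y * h⁻¹), cj k (cj h (U ⊓ ν T)) = U ⊓ ν T := by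
  have m : ∀ {x}, x ∈ ν T ⊓ 𝐍 U → x ∈ G ⊓ 𝐍 U := fun a => ⟨q.syl.le (hh.le q.syl a.1), a.2⟩
  have p : ∀ {x}, x ∈ ν T ⊓ 𝐍 U → IsPGroup 2 (zpowers x) := fun a => (hh.pg q.syl).to_le (zpowers_le.2 a.1)
  have l : zpowers x ⊔ zpowers (h * y * h⁻¹) ≤ G ⊓ 𝐍 U :=
    sup_le (zpowers_le.2 (m hx)) (zpowers_le.2 (mul_mem (mul_mem hh' (m hy)) (inv_mem hh')))
  obtain ⟨P, hP, lP⟩ := exists_isSylowIn_ge (p hx) (le_sup_left : _ ≤ zpowers x ⊔ zpowers (h * y * h⁻¹))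
  obtain ⟨k, hk, lk⟩ := hP.exists_conj_le (cj_zpowers h y ▸ isPGroup_cj h (p hy)) le_sup_right
  obtain ⟨S, hS, lS⟩ := exists_isSylowIn_ge (isPGroup_sup_of_le_normalizer' (q.syl.isPGroup.to_le q.le) hP.isPGroup
    (hP.le.trans (l.trans inf_le_right))) (sup_le (q.le.trans q.syl.le) (hP.le.trans (l.trans inf_le_left)))
  have n := (mul_mem (l hk) hh').2
  have e1 := q.key hh big hx.1 n1 hS inf_le_left le_rfl (le_sup_left.trans lS) (lS (mem_sup_right (lP (mem_zpowers x))))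
  have e2 := q.key hh big hy.1 n2 (hh.sy hS (k * h)⁻¹) inf_le_left le_rfl
    (cj_le_iff.1 ((cj_eq_self n).le.trans (le_sup_left.trans lS))) (zpowers_le.1 (cj_le_iff.1 (by
      rw [← cj_cj, cj_zpowers h]; exact lk.trans (le_sup_right.trans lS))))
  rw [hh.equi] at e2
  exact ⟨k, hk, by rw [cj_cj, ← e2, cj_inf, cj_cj_inv, cj_eq_self n, e2, e1]⟩

theorem nrm (hx : x ∈ ν T ⊓ 𝐍 U) (h1 : U ⊓ ν T ≤ W) (h2 : W ≤ U) : x ∈ 𝐍 W := mem_normalizer_of_cj_le (by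
  rintro _ ⟨w, hw, rfl⟩
  have := mul_mem (h1 ⟨cm_mem' (zpowers_le.2 hx.2) (mem_zpowers x) (h2 hw),
    cm_mem (q.le.trans (hh.nV q.syl)) hx.1 (h2 hw)⟩) hw
  simpa [commutatorElement_def] using this)

theorem vN (m : ∀ T' U', Fm G ν i T' U' → # U ≤ # U') : ν T ≤ 𝐍 U := by_contra fun c => by
  have lV := hh.le q.syl
  have pT := q.syl.isPGroup
  have eaV := hh.ea q.syl
  obtain ⟨x, x1, x2, x3⟩ := grow pT q.le lV (hh.nV q.syl) fun e => c (e.trans le_normalizer)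
  obtain ⟨h, h1, h2⟩ := SetLike.not_le_iff_exists.1 q.nn
  have AU : cj h (U ⊓ ν T) ≤ U := cj_le_of_mem_normalizer inf_le_left h1.2
  have l0 := sup_le (inf_le_left : U ⊓ ν T ≤ U) AU
  set D := U ⊓ ν T with eD
  have n1 := q.nrm hh big ⟨x1, x2⟩ le_sup_left l0
  have n2 : h * x * h⁻¹ ∈ 𝐍 (D ⊔ cj h D : Subgroup X) := by
    rw [← cj_cj_inv h (D ⊔ cj h D), ← cj_normalizer]
    exact conj_mem_cj (q.nrm hh big ⟨x1, x2⟩ (cj_le_iff.1 le_sup_right) (cj_le_of_mem_normalizer l0 (inv_mem h1.2)))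
  obtain ⟨k, hk, ek⟩ := q.cnj hh big ⟨x1, x2⟩ x3 ⟨x1, x2⟩ x3 h1
  have xG := q.syl.le (lV x1)
  obtain ⟨T', a1, a2, a3⟩ := ext_syl (isPGroup_sup_of_le_normalizer' (pT.to_le (l0.trans q.le))
    (pT.to_le (zpowers_le.2 (lV x1))) (zpowers_le.2 n1)) (sup_le (l0.trans (q.le.trans q.syl.le)) (zpowers_le.2 xG))
    (sup_le le_normalizer (zpowers_le.2 n1))
  have e1 := q.key hh big x1 x3 a1 le_sup_left l0 (le_sup_left.trans a2) (a2 (mem_sup_right (mem_zpowers x)))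
  have e2 := eq_of_le_of_card_le l0 (m T' _ ⟨a1, le_sup_left.trans a2, a3, e1.symm ▸ q.card, fun e => h2 (by
    have := e (sup_le (zpowers_le.2 (mem_inf.2 ⟨xG, n1⟩))
      (zpowers_le.2 (mem_inf.2 ⟨mul_mem (mul_mem h1.1 xG) (inv_mem h1.1), n2⟩)) hk)
    rw [e1] at this
    exact mem_normalizer_iff_cj.2 (cj_inj.1 (ek.trans (cj_eq_self this).symm)))⟩)
  have l1 : ν T ⊓ 𝐍 U ⊔ U ≤ 𝐍 U := sup_le inf_le_right le_normalizer
  obtain ⟨v, v1, v2, v3⟩ := grow pT (sup_le (inf_le_left.trans lV) q.le : ν T ⊓ 𝐍 U ⊔ U ≤ T) lV (hh.nV q.syl)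
    fun e => c (e.trans l1)
  refine v3 (mem_sup_left ⟨v1, mem_normalizer_of_cj_le ?_⟩)
  conv_lhs => rw [← e2, cj_sup]
  refine sup_le ((cj_eq_self (centralizer_le_normalizer _ (centralizer_anti inf_le_right
    (ea_le_centralizer eaV v1)))).le.trans inf_le_left) ?_
  rintro _ ⟨a, ha, rfl⟩
  have aV := hh.nV q.syl (q.le (AU ha))
  have c1 : ⁅v, a⁆ ∈ ν T := cm_mem (zpowers_le.2 aV) v1 (mem_zpowers a)
  suffices ⁅v, a⁆ ∈ U by simpa [commutatorElement_def] using mul_mem this (AU ha)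
  by_contra c2
  obtain ⟨k, hk, ek⟩ := q.cnj hh big ⟨c1, l1 (cm_mem' (zpowers_le.2 v2) (mem_zpowers v) (mem_sup_right (AU ha)))⟩ c2
    ⟨x1, x2⟩ x3 h1
  have eA := ea_cj eaV h
  have a1 := cj_mono h inf_le_right ha
  have : k ∈ 𝐜 a := sup_le (zpowers_le.2 (mem_c_symm.1 (mem_c''.2 (by
    have m := conj_mem_of_mem_normalizer aV v1
    have i := inv_eq_of_mul_eq_one_right (sq_of_ea eaV v1)
    rw [commutatorElement_def, i, show a * (v * a * v * a⁻¹) * a⁻¹ = a * v * a⁻¹ * (a * a * v * (a * a)⁻¹) by group,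
      sq_of_ea eA a1, one_mul, inv_one, mul_one, comm_of_ea eaV m v1]; group))))
    (zpowers_le.2 (cen_le_c a1 (ea_le_centralizer eA (conj_mem_cj x1)))) hk
  have aD : a ∈ D := ek.le (mem_c''.1 this ▸ conj_mem_cj ha)
  exact c2 (mem_c_comm'.1 (cen_le_c aD.2 (ea_le_centralizer eaV v1)) ▸ one_mem _)

theorem bd (h : ν T ≤ 𝐍 U) : Bd G ν T U :=
  have pU := q.syl.isPGroup.to_le q.le
  ⟨q.syl, ⟨pU, q.le.trans q.syl.le, T, q.syl, (le_inf (hh.Ωle q.syl) ((omegaOneCenter_le_centralizer _ _).trans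
    (centralizer_anti q.le))).trans (q.cen hh big)⟩, q.sN, h, fun c => q.nn fun g hg =>
    have l := cj_le_of_mem_normalizer inf_le_left hg.2
    mem_normalizer_of_cj_le (le_inf l (c.le (hh.pg q.syl) (le_inf ((hh.le q.syl).trans q.syl.le) h) hg inf_le_right pU h l))⟩

end Fm

theorem step0 (hh : HH G ν) (hT : IsSylowIn 2 T G) (hT' : IsSylowIn 2 T' G) (n : ¬ ν T ⊓ T' ≤ ν T') :
    ∃ T U, Bd G ν T U := by
  obtain ⟨⟨T, T'⟩, ⟨a1, a2, a3⟩, m⟩ := Set.exists_max_image {p : Subgroup X × Subgroup X | IsSylowIn 2 p.1 G ∧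
    IsSylowIn 2 p.2 G ∧ ¬ ν p.1 ⊓ p.2 ≤ ν p.2} (fun p => toLex (# ↥(ν p.1 ⊓ p.2), # ↥(p.1 ⊓ p.2))) (Set.toFinite _)
    ⟨(T, T'), hT, hT', n⟩
  dsimp only at a1 a2 a3 m
  simp only [Prod.Lex.toLex_le_toLex] at m
  have big : Big G ν (# ↥(ν T ⊓ T')) := fun S S' D b1 b2 b3 b4 b5 => by_contra fun c => by
    have := m (S, S') ⟨b1, b2, fun e => c ((le_inf b3 b4).trans e)⟩
    have := card_le_of_le' (le_inf b3 b4)
    dsimp only at *
    omega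
  have big2 : ∀ S S', IsSylowIn 2 S G → IsSylowIn 2 S' G → ν T ⊓ T' ≤ ν S ⊓ S' → ∀ P, T ⊓ T' < P → P ≤ S ⊓ S' →
      ν T ⊓ T' ≤ ν S' := fun S S' b1 b2 b3 P b4 b5 => by_contra fun c => by
    have := m (S, S') ⟨b1, b2, fun e => c (b3.trans e)⟩
    have := card_le_of_le' b3
    have := card_lt_of_lt (b4.trans_le b5)
    dsimp only at *
    omega
  have ne : T ≠ T' := fun e => a3 (e ▸ inf_le_left)
  have l1 := lt_inf_normalizer a1.isPGroup (inf_lt_left.2 fun e => ne (a1.max _ a2.isPGroup e a2.le).symm)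
  have l2 := lt_inf_normalizer a2.isPGroup (inf_lt_right.2 fun e => ne (a2.max _ a1.isPGroup e a1.le))
  have DI : ν T ⊓ T' ≤ T ⊓ T' := inf_le_inf_right _ (hh.le a1)
  generalize hI : T ⊓ T' = I at l1 l2 DI big2
  obtain ⟨S, s1, s2, s3⟩ := ext_syl (a1.isPGroup.to_le inf_le_left) (inf_le_left.trans a1.le)
    (inf_le_right : T ⊓ 𝐍 I ≤ _)
  obtain ⟨h, h1, h2⟩ := s3.exists_le_conj (a2.isPGroup.to_le inf_le_left) (inf_le_inf_right (𝐍 I) a2.le)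
  have IS := l1.le.trans s2
  have d1 := big2 T S a1 s1 (le_inf inf_le_left (DI.trans IS)) _ l1 (le_inf inf_le_left s2)
  have d2 : ¬ ν T ⊓ T' ≤ ν (cj h S) := fun e => a3 (big2 _ T' (hh.sy s1 h) a2 (le_inf e inf_le_right) _ l2
    (le_inf (h2.trans (cj_mono h inf_le_left)) inf_le_left))
  have d3 := le_inf DI d1
  have f0 : Fm G ν (# ↥(ν T ⊓ T')) S I := ⟨s1, IS, s3, le_antisymm (not_lt.1 fun e => d2 (d3.trans (big S _ _ s1
    (hh.sy s1 h) inf_le_right (inf_le_left.trans ((cj_eq_self h1.2).ge.trans (cj_mono h IS))) e))) (card_le_of_le' d3),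
    fun e => d2 (d3.trans ((cj_eq_self (e h1)).ge.trans (hh.equi h S ▸ cj_mono h inf_le_right)))⟩
  obtain ⟨⟨S, U⟩, f, m⟩ := Set.exists_min_image {p : Subgroup X × Subgroup X | Fm G ν (# ↥(ν T ⊓ T')) p.1 p.2}
    (fun p => # p.2) (Set.toFinite _) ⟨(S, I), f0⟩
  exact ⟨S, U, Fm.bd hh big f (Fm.vN hh big f fun a b c => m (a, b) c)⟩

end H4.SC
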