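import Cfsg.Agent.H4.SC1

/-! Local subgroups modulo their odd cores. -/

set_option autoImplicit false
set_option linter.unusedVariables false
set_option linter.unusedSectionVars false
set_option linter.style.haveILetI false

namespace H4.SC
open H9 hiding zj
open Matrix hiding mul_inv_rev
open H29.PU hiding Rk1 Vx Crit crit Am Bad W5 T2 le_C_of_normal
open H4.Bm hiding Gd Gt GV Pa P2 DG St Ds Bt ext no_crit hull step1 phi
open Cfsg Subgroup H28 H28.GC MatrixGroups H29 H29.BB H4.PV Equiv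
open H4.OX (Od od_iff syl_sup syl_mem)
open scoped commutatorElement

universe u
variable {X : Type u} [Group X] [Finite X] {A A' B B' C D E E' F G H I J K L L' L₀ L₁ L₂ B₀ M N O P Q R S S' T T' U V W Y : Subgroup X}
  {a b c d e f g h k l m n s t u v w x y z : X} {ν : Subgroup X → Subgroup X}

theorem cp_of (hO : ∀ N : Subgroup X, ⊤ ≤ 𝐍 N → Od N → N = ⊥) (n : ⊤ ≤ 𝐍 U) (hU : IsPGroup 2 U)
    (h : Group.IsSolvable (𝐂 U)) : IsCharP 2 (⊤ : Subgroup X) := by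
  have nC := le_normalizer_centralizer n
  have c : IsCharP 2 (𝐂 U) := by
    have := H18.cent_pcore_sub (p := 2) h (hO _ (nC.trans (H19.norm_le_norm_Oc _ _))
      (od_iff.2 (Nat.coprime_two_right.2 (H17.GS.og_iff.1 (H17.GS.O_og _)))))
    rwa [← H19.pCore_map_eq Nat.prime_two] at this
  have l := le_pCoreOf (isPGroup_pCoreOf 2 (𝐂 U)) le_top (nC.trans (normalizer_le_normalizer_pCoreOf 2 _))
  exact fun x hx => l (c ⟨centralizer_anti (le_pCoreOf hU le_top n) hx.2, centralizer_anti l hx.2⟩)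

theorem Nm.mono (h : Nm V K) (h1 : V ≤ H) (h2 : H ≤ K) : Nm V H :=
  let ⟨O, a, b, c, d⟩ := h
  ⟨O ⊓ H, inf_le_right, b.mono inf_le_left, le_normalizer_inf (h2.trans c) le_normalizer, by
    rw [← sup_inf_of_le_normalizer (.inl ((h1.trans h2).trans c)) h1]
    exact le_normalizer_inf (h2.trans d) le_normalizer⟩

section bar
variable {Z : Type u} [Group Z] [Finite Z] {φ : H →* Z} {Y₁ : Subgroup Z}

/-- a quotient of characteristic `2` by an odd subgroup -/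
structure Sec (φ : H →* Z) : Prop where
  sur : Function.Surjective φ
  od : Od φ.ker
  cp : IsCharP 2 (⊤ : Subgroup Z)

/-- image -/
def bar (φ : H →* Z) (A : Subgroup X) : Subgroup Z := (A.subgroupOf H).map φ
/-- preimage -/
def pre (φ : H →* Z) (Y : Subgroup Z) : Subgroup X := (Y.comap φ).map H.subtype

theorem pgs (h : IsPGroup 2 P) : IsPGroup 2 (P.subgroupOf H) := h.comap_subtype
theorem mem_bar (ha : a ∈ H) (h : a ∈ A) : φ ⟨a, ha⟩ ∈ bar φ A := ⟨_, h, rfl⟩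
theorem mem_pre (ha : a ∈ H) : a ∈ pre φ Y₁ ↔ φ ⟨a, ha⟩ ∈ Y₁ :=
  ⟨by rintro ⟨b, hb, rfl⟩; exact hb, fun h => ⟨⟨a, ha⟩, h, rfl⟩⟩
theorem pre_le : pre φ Y₁ ≤ H := map_subtype_le _
theorem le_pre (h : A ≤ H) : A ≤ pre φ Y₁ ↔ bar φ A ≤ Y₁ :=
  ⟨by rintro l _ ⟨a, ha, rfl⟩; exact (mem_pre a.2).1 (l ha), fun l a ha => (mem_pre (h ha)).2 (l (mem_bar _ ha))⟩
theorem bar_mono (h : A ≤ B) : bar φ A ≤ bar φ B := map_mono (comap_mono h)
theorem bar_inf : bar φ (H ⊓ A) = bar φ A := by rw [bar, inf_subgroupOf_left, bar]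
theorem bar_cj (hg : g ∈ H) : bar φ (cj g A) = cj (φ ⟨g, hg⟩) (bar φ A) := by
  rw [bar, bar, ← map_cj, cj_subgroupOf]
theorem bar_nrm (h : A ≤ 𝐍 B) : bar φ A ≤ 𝐍 (bar φ B) := by
  rintro _ ⟨a, ha, rfl⟩
  exact mem_normalizer_iff_cj.2 (by rw [← bar_cj a.2, cj_eq_self (g := a.1) (h ha)])
theorem bar_cen (h : A ≤ 𝐂 B) : bar φ A ≤ 𝐂 (bar φ B) := by
  rintro _ ⟨a, ha, rfl⟩
  refine mem_centralizer'.2 ?_
  rintro _ ⟨b, hb, rfl⟩
  rw [← map_mul, ← map_mul]; exact congrArg φ (Subtype.ext (mem_centralizer'.1 (h ha) b hb))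
theorem bar_sup (hA : A ≤ H) (hB : B ≤ H) : bar φ (A ⊔ B) = bar φ A ⊔ bar φ B := by
  rw [bar, sup_subgroupOf hA hB, Subgroup.map_sup]; rfl
theorem bar_res (hA : A ≤ H) : bar φ (O² A) = O² (bar φ A) := by
  rw [bar, pResidualOf_subgroupOf_of_le hA, map_pResidualOf]; rfl
theorem bar_pg (h : IsPGroup 2 A) : IsPGroup 2 (bar φ A) := h.comap_subtype.map φ
theorem bar_syl (h : IsSylowIn 2 R K) (l : K ≤ H) : IsSylowIn 2 (bar φ R) (bar φ K) := (h.subgroupOf l).map φ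
theorem bar_od (h : Od A) : Od (bar φ A) := OX.Od.map (fun x hx => by
  rw [← orderOf_injective H.subtype H.subtype_injective]; exact h _ hx) φ
theorem pre_nrm (h : A ≤ H) (n : bar φ A ≤ 𝐍 Y₁) : A ≤ 𝐍 (pre φ Y₁) := le_normalizer_of_cj_le fun g hg =>
  (le_pre (cj_le_of_mem pre_le (h hg))).2 (by
    rw [bar_cj (h hg)]; exact cj_le_of_mem_normalizer ((le_pre pre_le).1 le_rfl) (n (mem_bar _ hg)))
theorem le_sup_pre (hA : A ≤ H) (h : bar φ A ≤ bar φ B) : A ≤ B ⊔ pre φ ⊥ := fun a ha => by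
  obtain ⟨b, hb, e⟩ := h (mem_bar (hA ha) ha)
  rw [← mul_inv_cancel_left b.1 a]
  refine mul_mem_sup hb ((mem_pre (mul_mem (inv_mem b.2) (hA ha))).2 ?_)
  rw [mem_bot, show φ ⟨b.1⁻¹ * a, _⟩ = (φ b)⁻¹ * φ ⟨a, hA ha⟩ by rw [← map_inv, ← map_mul]; rfl, e, inv_mul_cancel]

namespace Sec
variable (q : Sec φ)
include q

theorem top : bar φ H = ⊤ := by rw [bar, subgroupOf_self, map_top_of_surjective _ q.sur]
theorem cop : (# φ.ker).Coprime 2 := od_iff.1 q.od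
theorem od' : Od (pre φ ⊥) := OX.Od.map q.od _
theorem nO : H ≤ 𝐍 (pre φ ⊥) := pre_nrm le_rfl (le_top.trans normalizer_bot.ge)
theorem ker (h : IsPGroup 2 P) : P.subgroupOf H ⊓ φ.ker = ⊥ := inf_ker_eq_bot q.cop h.comap_subtype
theorem nrm (h : H ≤ 𝐍 A) : ⊤ ≤ 𝐍 (bar φ A) := q.top ▸ bar_nrm h
theorem syl (h : IsSylowIn 2 R H) : IsSylowIn 2 (bar φ R) ⊤ := q.top ▸ bar_syl h le_rfl
theorem N_eq (h : IsPGroup 2 P) (l : P ≤ H) : 𝐍 (bar φ P) = bar φ (H ⊓ 𝐍 P) := by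
  rw [bar_inf, bar, bar, ← map_normalizer_of_coprime q.sur q.cop (pgs h), subgroupOf_normalizer_eq l]
theorem C_eq (h : IsPGroup 2 P) (l : P ≤ H) : 𝐂 (bar φ P) = bar φ (H ⊓ 𝐂 P) := by
  rw [bar_inf, bar, bar, ← map_centralizer_of_coprime q.sur q.cop (pgs h), centralizer_subgroupOf l]
theorem Ω_eq (h : IsPGroup 2 P) (l : P ≤ H) : bar φ (Ω₂ P) = Ω₂ (bar φ P) := by
  rw [bar, bar, omegaOneCenter_subgroupOf l, map_omegaOneCenter_of_inf_ker (q.ker h)]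
theorem J_eq (h : IsPGroup 2 P) (l : P ≤ H) : bar φ (JJ 2 P) = JJ 2 (bar φ P) := by
  rw [bar, bar, ← map_JJ_of_inf_ker (q.ker h)]
  congr 1
  exact map_injective H.subtype_injective (by
    rw [map_JJ H.subtype_injective, map_subtype_subgroupOf l, map_subtype_subgroupOf ((JJ_le 2 P).trans l)])
theorem bm_eq (h : IsPGroup 2 P) (l : P ≤ H) : bar φ (bm 2 P) = bm 2 (bar φ P) := by
  rw [bar, bar, ← OX.map_bm_ker (q.ker h)]
  congr 1
  exact map_injective H.subtype_injective (by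
    rw [map_bm H.subtype_injective, map_subtype_subgroupOf l, map_subtype_subgroupOf (bm_le.trans l)])
theorem nm (l : V ≤ H) (h : ⊤ ≤ 𝐍 (bar φ V)) : Nm V H :=
  ⟨_, pre_le, q.od', q.nO, le_normalizer_of_cj_le fun g hg => by
    rw [cj_sup, cj_eq_self (q.nO hg)]
    exact sup_le (le_sup_pre (cj_le_of_mem l hg) (by rw [bar_cj hg, cj_eq_self (h (mem_top _))])) le_sup_right⟩
theorem of_nm (h : Nm V K) (hR : IsSylowIn 2 R H) (h1 : R ≤ K) (h2 : K ≤ H) (h3 : V ≤ H) : bar φ K ≤ 𝐍 (bar φ V) := by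
  obtain ⟨O, a, b, c, d⟩ := h
  have := bar_nrm (φ := φ) d
  rwa [bar_sup h3 (a.trans h2), q.cp.eq_bot_of_coprime le_top ((q.syl hR).pCoreOf_le.trans (bar_nrm (h1.trans c)))
    (bar_od b), sup_bot_eq] at this

end Sec
end bar

theorem exists_sec (hU : IsPGroup 2 U) (l : U ≤ H) (n : H ≤ 𝐍 U) (s : Group.IsSolvable ↥(H ⊓ 𝐂 U)) :
    ∃ (Z : Type u) (_ : Group Z) (_ : Finite Z) (φ : H →* Z), Sec φ := by
  let φ := QuotientGroup.mk' (pPrimeCore 2 H)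
  have hφ : Function.Surjective φ := QuotientGroup.mk'_surjective _
  have hk : (# φ.ker).Coprime 2 := by rw [QuotientGroup.ker_mk']; exact H1.pPrimeCore_coprime
  refine ⟨_, inferInstance, inferInstance, φ, hφ, od_iff.2 hk, cp_of (U := bar φ U) (fun N a b => ?_) ?_ (bar_pg hU) ?_⟩
  · have := H1.le_pPrimeCore (normal_iff_top_le.2 a) (od_iff.1 b)
    rwa [H1.pPrimeCore_quotient _ H1.pPrimeCore_coprime, QuotientGroup.map_mk'_self, le_bot_iff] at this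
  · have := bar_nrm (φ := φ) n
    rwa [bar, subgroupOf_self, map_top_of_surjective _ hφ] at this
  · rw [bar, ← map_centralizer_of_coprime hφ hk (pgs hU), ← centralizer_subgroupOf l, ← inf_subgroupOf_left]
    have : Group.IsSolvable ((H ⊓ 𝐂 U).subgroupOf H) := Group.isSolvable_of_isSolvable_injective
      (f := (subgroupOfEquivOfLe (inf_le_left : H ⊓ 𝐂 U ≤ H)).toMonoidHom) (subgroupOfEquivOfLe _).injective
    exact Group.isSolvable_of_surjective (φ.subgroupMap_surjective _)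

theorem lift {Z : Type u} [Group Z] [Finite Z] {φ : X →* Z} (hφ : Function.Surjective φ) (o : Od φ.ker)
    (pB : IsPGroup 2 B) {L₁ : Subgroup Z} (v : PU.Vx 2 L₁) (s : IsSylowIn 2 (B.map φ) L₁) :
    ∃ L, Vx 2 L ∧ IsSylowIn 2 B L ∧ L.map φ = L₁ := by
  have ker : ∀ {P : Subgroup X}, IsPGroup 2 P → P ⊓ φ.ker = ⊥ := fun h => inf_ker_eq_bot (od_iff.1 o) h
  have BL : B ≤ L₁.comap φ := map_le_iff_le_comap.1 s.le
  have sB : IsSylowIn 2 B (L₁.comap φ) := ⟨BL, pB, fun P a b c => (eq_of_le_of_card_le b (by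
    rw [← card_map_of_inf_ker (ker a), s.max _ (a.map φ) (map_mono b) (map_le_iff_le_comap.2 c),
      card_map_of_inf_ker (ker pB)])).symm⟩
  set Q := B ⊓ (O₂ L₁).comap φ
  have nQ : L₁.comap φ ≤ 𝐍 ((O₂ L₁).comap φ) := le_normalizer_of_cj_le fun g hg => by
    rw [← map_le_iff_le_comap, map_cj]
    exact cj_le_of_mem_normalizer (map_comap_le _ _) (le_normalizer_pCoreOf 2 L₁ hg)
  have sQ := sB.inf_normal' (comap_mono (pCoreOf_le 2 L₁)) nQ
  have mQ : Q.map φ = O₂ L₁ := by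
    have := sQ.map φ
    rw [map_comap_eq_self_of_surjective hφ] at this
    exact (this.max _ (isPGroup_pCoreOf 2 L₁) this.le le_rfl).symm
  have BQ : B ≤ 𝐍 Q := le_normalizer_inf le_normalizer (BL.trans nQ)
  obtain ⟨L, ⟨l1, l2, l3⟩, m⟩ := Set.exists_min_image {L : Subgroup X | B ≤ L ∧ L ≤ 𝐍 Q ∧ L.map φ = L₁}
    (fun L => # L) (Set.toFinite _) ⟨L₁.comap φ ⊓ 𝐍 Q, le_inf BL BQ, inf_le_right, le_antisymm
      (map_le_iff_le_comap.2 inf_le_left) fun y hy => by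
        obtain ⟨y, rfl⟩ := hφ y
        obtain ⟨k, hk, n, hn, rfl⟩ := sQ.frattini (nQ hy)
        obtain ⟨q, hq, e⟩ := mQ.ge hk
        refine ⟨q * n, mem_inf.2 ⟨?_, mul_mem (le_normalizer hq) hn⟩, by rw [map_mul, map_mul, e]⟩
        rw [mem_comap, map_mul, e, ← map_mul]; exact hy⟩
  have sL := sB.mono l1 (map_le_iff_le_comap.1 l3.le)
  have mem : ∀ x ∈ L, φ x ∈ L₁ := fun x hx => l3.le ⟨x, hx, rfl⟩
  have eQ : O₂ L = Q := le_antisymm (le_inf sL.pCoreOf_le (map_le_iff_le_comap.1 (l3 ▸ map_pCoreOf_le φ L)))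
    (le_pCoreOf (pB.to_le inf_le_left) (inf_le_left.trans l1) l2)
  have mQ' : ∀ x ∈ B, φ x ∈ O₂ L₁ → x ∈ O₂ L := fun x a b => eQ ▸ ⟨a, b⟩
  obtain ⟨M, r⟩ := v.r1 s
  have mΩ := map_omegaOneCenter_of_inf_ker (e := 2) (ker pB)
  have r1 : R1 2 L B (L ⊓ M.comap φ) := by
    refine ⟨sL, ⟨le_inf l1 (map_le_iff_le_comap.1 r.um.le), inf_lt_left.2 fun c => r.um.not_le
      (l3.ge.trans (map_le_iff_le_comap.2 c)), fun K a b => le_inf b.le (map_le_iff_le_comap.1 (r.um.max _ (map_mono a)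
      (lt_of_le_of_ne (l3 ▸ map_mono b.le) fun e => (card_lt_of_lt b).not_ge (m K ⟨a, b.le.trans l2, e⟩))))⟩,
      commutator_le.2 fun x hx y hy => mQ' _ (cm_mem le_normalizer hx hy) ?_, fun x hx => mQ' _ (pow_mem hx 2) ?_,
      fun x hx g hg e => (r.ti _ ⟨x, hx, rfl⟩ _ (mem g hg) ?_).imp (mQ' x hx) fun c => ⟨hg, c⟩,
      fun c => r.ne (mQ ▸ map_mono (eQ ▸ c))⟩
    · rw [map_commutatorElement]; exact r.comm (commutator_mem_commutator ⟨x, hx, rfl⟩ ⟨y, hy, rfl⟩)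
    · rw [map_pow]; exact r.pow _ ⟨x, hx, rfl⟩
    · simpa using e.2
  refine ⟨L, ⟨⟨?_, _, _, r1⟩, fun c => v.nz ?_, fun S hS => ?_⟩, sL, l3⟩
  · rw [sL.Z_eq]
    refine nclIn_le (fun x hx => ?_) ((le_normalizer_pCoreOf 2 L).trans (normalizer_le_normalizer_omegaOneCenter 2 _))
    obtain ⟨a, b, c⟩ := mem_omegaOneCenter.1 hx
    exact mem_omegaOneCenter.2 ⟨mQ' x a (omegaOneCenter_le _ _ (v.cp.omegaOneCenter_le s (mΩ.le ⟨x, hx, rfl⟩))),
      centralizer_anti sL.pCoreOf_le b, c⟩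
  · rw [s.Z_eq, ← mΩ, ← l3, ← map_nclIn, ← sL.Z_eq]
    exact (map_mono c).trans (map_centralizer_le φ L)
  · obtain ⟨e, A, h1, h2, h3⟩ := v.off _ (l3 ▸ hS.map φ)
    have e1 : (S ⊓ A.comap φ).map φ = A := map_inf_comap_eq φ h2.le
    refine ⟨e, S ⊓ A.comap φ, h1, (maxAb_subgroupOf_iff le_rfl inf_le_left).1 (MaxAb.of_map
      (comp_subtype_injective (ker hS.isPGroup)) ?_), fun c => h3 (e1.ge.trans ((map_mono c).trans (eQ ▸ mQ.le)))⟩
    rwa [map_comp_subtype φ le_rfl, map_comp_subtype φ inf_le_left, e1]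

theorem exists_vx (hR : IsSylowIn 2 R H) (e : bm 2 R = B) (hU : IsPGroup 2 U) (l : U ≤ H) (nU : H ≤ 𝐍 U)
    (s : Group.IsSolvable ↥(H ⊓ 𝐂 U)) (VB : V ≤ B) (nB : H ⊓ 𝐍 B ≤ 𝐍 V) (nJ : H ⊓ 𝐍 (JJ 2 B) ≤ 𝐍 V) (t1 : T ≤ B)
    (t2 : T ≤ Ω₂ R) (t3 : Nm V (H ⊓ 𝐂 T)) (n : ¬ Nm V H) : ∃ L ≤ H, Vx 2 L ∧ IsSylowIn 2 B L ∧ ¬ L ≤ 𝐍 V := by
  obtain ⟨Z, _, _, φ, q⟩ := exists_sec hU l nU s
  have BR : B ≤ R := e ▸ bm_le
  have pB := hR.isPGroup.to_le BR
  have BH := BR.trans hR.le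
  have sR := q.syl hR
  have e' : bm 2 (bar φ R) = bar φ B := by rw [← q.bm_eq hR.isPGroup hR.le, e]
  have am : Amb 2 ⊤ (bar φ B) := ⟨q.cp, _, sR, e'⟩
  have n1 : 𝐍 (bar φ B) ≤ 𝐍 (bar φ V) := q.N_eq pB BH ▸ bar_nrm nB
  obtain ⟨L, nL, -, v, s⟩ := WM.exists_vx (M := 𝐍 (bar φ V)) ⟨am, n1, by
    rw [← q.J_eq pB BH, q.N_eq (pB.to_le (JJ_le 2 B)) ((JJ_le 2 B).trans BH)]; exact bar_nrm nJ, fun P p1 p2 _ => by
    obtain ⟨k, -, lk⟩ := sR.exists_le_conj p1 le_top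
    have : k ∈ 𝐍 (bar φ B) := mem_normalizer_iff_cj.2 (by
      rw [← e', cj_bm, e']; exact am.bm_eq (isPGroup_cj k sR.isPGroup) (p2.trans lk) le_top)
    have t4 : cj k (bar φ T) ≤ Ω₂ (cj k (bar φ R)) := by
      rw [← cj_omegaOneCenter, ← q.Ω_eq hR.isPGroup hR.le]; exact cj_mono k (bar_mono t2)
    refine (centralizer_anti (le_omegaOneCenter ((cj_le_of_mem_normalizer (bar_mono t1) this).trans p2) ((t4.trans
      (omegaOneCenter_le_centralizer _ _)).trans (centralizer_anti lk)) fun x hx => (mem_omegaOneCenter.1 (t4 hx)).2.2)).trans ?_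
    rw [← cj_centralizer, q.C_eq (pB.to_le t1) (t1.trans BH)]
    exact cj_le_of_mem (q.of_nm t3 hR (le_inf hR.le (le_centralizer_comm.1 (t2.trans
      (omegaOneCenter_le_centralizer _ _)))) inf_le_left (VB.trans BH)) (n1 this)⟩ fun c => n (q.nm (VB.trans BH) c)
  obtain ⟨L', v', s', e'⟩ := lift q.sur q.od pB.comap_subtype v s
  refine ⟨_, map_subtype_le L', OX.Vx.map' H.subtype_injective v', map_subtype_subgroupOf BH ▸ s'.map H.subtype,
    fun c => nL ?_⟩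
  have := bar_nrm (φ := φ) c
  rwa [bar, subgroupOf_map_subtype', e'] at this

theorem adapt0 (hR : IsSylowIn 2 R H) (RB : R ≤ 𝐍 B) (hU : IsPGroup 2 U) (l : U ≤ H) (nU : H ≤ 𝐍 U)
    (s : Group.IsSolvable ↥(H ⊓ 𝐂 U)) (eW : ∀ w ∈ W, w * w = 1) (WU : W ≤ U) (he : e ∈ L) (o : B ⊔ cj e B = L)
    (LH : L ≤ H) (sB : IsSylowIn 2 B L) (DR : D ≤ R) (DU : D ≤ 𝐂 U) (BD : B ≤ 𝐍 D)
    (key : ∀ N : Subgroup X, L ≤ 𝐍 N → ∀ b ∈ N, b ∈ B → b ∈ O² L → b ∈ W ∨ O² L ≤ N) (nc : ¬ O² L ≤ 𝐂 U) :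
    ∃ K : Subgroup X, (∀ n ∈ D, n * n ∈ K) ∧ (∀ n ∈ D, ∀ m ∈ D, ⁅n, m⁆ ∈ K) ∧ U ⊓ K ≤ 𝐂 (O² L) := by
  obtain ⟨Z, _, _, φ, q⟩ := exists_sec hU l nU s
  have EL := pResidualOf_le 2 L
  have EH := EL.trans LH
  have BH := sB.le.trans LH
  have DH := DR.trans hR.le
  have sR := q.syl hR
  have nE := le_normalizer_pResidualOf 2 (bar φ L)
  have gen : ∀ P ≤ bar φ R, bar φ L ≤ 𝐍 P → ⁅P, bar φ (O² L)⁆ ≤ bar φ W := fun P a b => by
    have p := sR.isPGroup.to_le a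
    have n1 := a.trans (bar_nrm RB)
    have n2 : P ≤ 𝐍 (bar φ L) := by
      conv_rhs => rw [← o, bar_sup BH (cj_le_of_mem BH (LH he)), bar_cj (LH he)]
      refine le_normalizer_sup n1 ?_
      rw [← cj_eq_self (b (mem_bar (LH he) he)), ← cj_normalizer]; exact cj_mono _ n1
    have n3 : bar φ L ≤ 𝐍 (P ⊓ bar φ (O² L) : Subgroup Z) := le_normalizer_inf b (by rwa [bar_res LH])
    have n4 : P ≤ 𝐍 (bar φ (O² L)) := by rw [bar_res LH]; exact le_normalizer_pResidualOf' n2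
    refine (le_inf (commutator_le_of_le_normalizer ((bar_mono EL).trans b))
      (commutator_le_of_le_normalizer' n4)).trans fun y hy => ?_
    obtain ⟨b, hb, rfl⟩ := (bar_syl sB LH).le_of_le_normalizer' (p.to_le inf_le_left) (inf_le_right.trans (bar_mono EL))
      ((bar_mono sB.le).trans n3) hy
    have bE : b.1 ∈ O² L := by
      obtain ⟨f, hf, k, hk, e⟩ := (mem_sup_of_le_normalizer (EH.trans q.nO)).1 (le_sup_pre (A := zpowers b.1)
        (zpowers_le.2 b.2) ((le_pre (zpowers_le.2 b.2)).1 (zpowers_le.2 ((mem_pre b.2).2 hy.2))) (mem_zpowers _))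
      exact e ▸ mul_mem hf (mem_pResidualOf ((mul_mem_cancel_left (EL hf)).1 (e ▸ sB.le hb)) (q.od' k hk))
    refine (key _ (pre_nrm LH n3) _ ((mem_pre b.2).2 hy) hb bE).elim (mem_bar b.2) fun c => (nc ?_).elim
    replace c := ((le_pre EH).1 c).trans inf_le_left
    refine le_trans ((le_pre EH).2 ?_) (q.od'.le_cen hU (pre_le.trans nU) (l.trans q.nO))
    rw [bar_res LH] at c ⊢
    exact pResidualOf_le_iff.2 fun x hx o => mem_bot.2 (eq_one_of_coprime_of_mem p o (c (mem_pResidualOf hx o)))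
  have nQ := le_normalizer_pCoreOf 2 (⊤ : Subgroup Z)
  have nU' := q.nrm nU
  have c1 := (gen _ sR.pCoreOf_le (le_top.trans nQ)).trans (bar_mono WU)
  have c2 : ⁅bar φ D, bar φ (O² L)⁆ ≤ O₂ ⊤ := le_trans (le_inf le_top (le_inf ((commutator_mono le_top
    (H29.le_cmod (le_top.trans nU') c1)).trans (commutator_le_of_le_normalizer' (le_normalizer_cmod nQ nU')))
    (le_inf (H29.le_cmod (le_top.trans nU') (commutator_le_of_le_normalizer (le_top.trans nU')))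
    ((commutator_mono (bar_cen DU) le_top).trans (commutator_le_of_le_normalizer (le_normalizer_centralizer nU'))))))
    (mc3 q.cp nU' nU')
  have c3 := (commutator_mono le_sup_left le_rfl).trans (gen (bar φ D ⊔ O₂ ⊤) (sup_le (bar_mono DR) sR.pCoreOf_le) (by
    rw [← sB.pResidualOf_sup, bar_sup EH BH]
    exact sup_le (le_normalizer_sup_of_comm (le_top.trans nQ) c2) (le_normalizer_sup (bar_nrm BD) (le_top.trans nQ))))
  have DW := bar_cen (φ := φ) (DU.trans (centralizer_anti WU))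
  refine ⟨pre φ (𝐂 (bar φ (O² L))), fun n hn => (mem_pre (DH (mul_mem hn hn))).2 ?_, fun n hn m hm =>
    (mem_pre (DH (cm_mem le_normalizer hn hm))).2 ?_, fun u hu => mem_cen_iff.2 fun f hf => ?_⟩
  · have := sq_cen DW (by rintro _ ⟨w, hw, rfl⟩; rw [← map_mul, show w * w = 1 from Subtype.ext (eW _ hw), map_one])
      c3 (mem_bar (DH hn) hn)
    rwa [← map_mul] at this
  · have h0 : ⁅⁅bar φ D, bar φ (O² L)⁆, bar φ D⁆ = ⊥ := commutator_eq_bot_iff.2 (c3.trans (le_centralizer_comm.1 DW))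
    have := commutator_eq_bot_iff.1 (three h0 (by rwa [comm_comm (bar φ (O² L))]))
      (commutator_mem_commutator (mem_bar (DH hn) hn) (mem_bar (DH hm) hm))
    rwa [← map_commutatorElement] at this
  · have m := cm_mem' (EH.trans nU) hf hu.1
    refine q.od'.one' hU ((mem_pre (l m)).2 ?_) m
    have := mem_cen_iff.1 ((mem_pre (l hu.1)).1 hu.2) _ (mem_bar (EH hf) hf)
    rwa [← map_commutatorElement] at this

end H4.SC
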