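import Cfsg.Agent.H4.SC2

/-! Existence of a good vertex. -/

set_option autoImplicit false
set_option linter.unusedVariables false
set_option linter.unusedSectionVars false
set_option linter.style.haveILetI false

namespace H4.SC
open H9 hiding zj
open Matrix hiding mul_inv_rev
open H29.PU hiding Rk1 Vx Crit crit Am Bad W5 T2 le_C_of_normal
open H4.Bm hiding Gd Gt GV Pa P2 DG St Ds Bt ext no_crit hull step1 phi
open Cfsg Subgroup H28 H28.GC MatrixGroups H29 H29.BB H4.PV Equiv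
open H4.OX (Od od_iff syl_sup syl_mem)
open scoped commutatorElement

universe u
variable {X : Type u} [Group X] [Finite X] {A A' B B' C D E E' F G H I J K L L' L₀ L₁ L₂ B₀ M N O P Q R S S' T T' U V W Y : Subgroup X}
  {a b c d e f g h k l m n s t u v w x y z : X} {ν : Subgroup X → Subgroup X}

theorem nΩ_of (v : Vx 2 L) (s : IsSylowIn 2 B L) {F : Type} [Field F] (N : NS 2 F L (Z₂ L) ⊥ B S') (hg : g ∈ L)
    (e : N.π g 1 0 = 0) : g ∈ 𝐍 (Ω₂ B) :=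
  mem_normalizer_of_cj_le (by
    rintro _ ⟨z, hz, rfl⟩
    have ΩZ := s.omegaOneCenter_le_Z
    refine (v.mem_Ω_iff s N (conj_mem_of_mem_normalizer (le_normalizer_Z 2 L hg) (ΩZ hz))).2 ?_
    rw [N.equi g hg z (ΩZ hz), ← smul_eq, smul1, e, (v.mem_Ω_iff s N (ΩZ hz)).1 hz]; simp)

theorem two_of (k : Vx 2 L) (sy : IsSylowIn 2 B L) (lΩ : V ≤ Ω₂ B) (nV : L ⊓ 𝐍 (Ω₂ B) ≤ 𝐍 V) (nc : ¬ V ≤ 𝐂 L)
    (sing : ∀ x ∈ L ⊓ 𝐍 V, (orderOf x).Coprime 2 → (∀ u ∈ ⁅V, zpowers x⁆, ∀ w ∈ ⁅V, zpowers x⁆, u ≠ 1 → w ≠ 1 →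
      ∃ y ∈ zpowers x, y * u * y⁻¹ = w) → x ∈ 𝐂 V) : Two B (O₂ L) := fun a ha b hb a1 b1 => by_contra fun ab => by
  obtain ⟨S', -, -, F, _, _, -, ⟨N⟩⟩ := k.ns' sy
  have c2 : (2 : F) = 0 := by
    obtain ⟨s, hs, e⟩ := N.up' 1
    have := (N.inj _ (pow_mem hs 2)).2 (k.toRk1.pow sy hs)
    rwa [N.π_pow (sy.le hs), e, x_pow, H13.SL2.x_eq_one, mul_one] at this
  obtain ⟨s, s0, es⟩ := N.up_ne ha a1
  obtain ⟨t, t0, et⟩ := N.up_ne hb b1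
  have st : s ≠ t := fun e => ab ((N.inj _ (mul_mem ha hb)).1 (by
    rw [N.π_mul _ (sy.le ha) _ (sy.le hb), es, et, e, ← H13.SL2.x_add, ← two_mul, c2, zero_mul, H13.SL2.x_zero]))
  obtain ⟨ν, hν⟩ := IsCyclic.exists_generator (α := Fˣ)
  obtain ⟨g, hg, e⟩ := N.π_surj (mk2 (ν : F) 0 0 (ν⁻¹ : Fˣ) (by simp))
  obtain ⟨j, o⟩ := exists_pow_coprime (p := 2) (isOfFinOrder_of_finite g)
  have bo : N.π g ∈ bor F := by rw [e, mem_bor]; rfl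
  have e0 : N.π (g ^ 2 ^ j) 0 0 = (ν ^ 2 ^ j : Fˣ) := by rw [N.π_pow hg, bor_pow bo, e]; simp
  have e1 : N.π (g ^ 2 ^ j) 1 0 = 0 := by rw [N.π_pow hg]; exact pow_mem bo _
  have od : (2 ^ j).Coprime (orderOf ν) := by
    rw [orderOf_eq_card_of_forall_mem_zpowers hν, Nat.card_units, Nat.card_eq_fintype_card]
    have := FiniteField.even_card_of_char_two (F := F) (CharP.ringChar_of_prime_eq_zero Nat.prime_two c2)
    have := Fintype.card_pos (α := F)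
    exact Nat.Coprime.pow_left _ ((Nat.coprime_two_left).2 (Nat.odd_iff.2 (by omega)))
  have hμ : ∀ u : Fˣ, u ∈ zpowers (ν ^ 2 ^ j) := fun u => zpowers_le.2 (mem_zpowers_pow_iff.2 od) (hν u)
  replace hg := pow_mem hg (2 ^ j)
  generalize g ^ 2 ^ j = g at hg o e0 e1
  generalize ν ^ 2 ^ j = μ at e0 hμ
  have nT := nV ⟨hg, nΩ_of k sy N hg e1⟩
  have lZ := lΩ.trans sy.omegaOneCenter_le_Z
  have act : ∀ v ∈ V, N.ψ (g * v * g⁻¹) 0 = μ * N.ψ v 0 := fun v hv => by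
    rw [N.equi g hg v (lZ hv), ← smul_eq, smul0, e0, (k.mem_Ω_iff sy N (lZ hv)).1 (lΩ hv), mul_zero, add_zero]
  have actp : ∀ v ∈ V, ∀ i : ℕ, N.ψ (g ^ i * v * (g ^ i)⁻¹) 0 = (μ ^ i : Fˣ) * N.ψ v 0 := fun v hv i => by
    induction i with
    | zero => simp
    | succ i ih =>
      rw [show g ^ (i + 1) * v * (g ^ (i + 1))⁻¹ = g * (g ^ i * v * (g ^ i)⁻¹) * g⁻¹ by group,
        act _ (conj_mem_of_mem_normalizer (pow_mem nT i) hv), ih, pow_succ', Units.val_mul, mul_assoc]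
  have z0 : ∀ v ∈ V, N.ψ v 0 = 0 → v ∈ 𝐂 L := fun v hv c => (N.mem_C_iff (lZ hv)).2
    (vec_eq_zero c ((k.mem_Ω_iff sy N (lZ hv)).1 (lΩ hv)))
  have eV := ea_of_le (ea_omegaOneCenter 2 B) lΩ
  have lW := commutator_le_of_le_normalizer (zpowers_le.2 nT)
  have bot := H19.ab_commg_inf_cent (le_centralizer_self_iff.1 (ea_le_centralizer eV)) (zpowers_le.2 nT) (by
    obtain ⟨i, hi⟩ := IsPGroup.iff_card.1 (ea_isPGroup eV)
    rw [hi, Nat.card_zpowers]; exact o.symm.pow_left i)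
  have one : ∀ w ∈ ⁅V, zpowers g⁆, N.ψ w 0 = 0 → w = 1 := fun w hw c =>
    mem_bot.1 (bot.le ⟨hw, centralizer_anti (zpowers_le.2 hg) (z0 w (lW hw) c)⟩)
  have cV := sing g ⟨hg, nT⟩ o fun u hu w hw u1 w1 => by
    have u0 := mt (one u hu) u1
    obtain ⟨i, hi⟩ := mem_powers_iff_mem_zpowers.2 (hμ (Units.mk0 _ (div_ne_zero (mt (one w hw) w1) u0)))
    have m := conj_mem_of_mem_normalizer (le_normalizer_commutator (zpowers_le.2 nT) le_normalizer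
      (pow_mem (mem_zpowers g) i)) hu
    refine ⟨_, pow_mem (mem_zpowers g) i, mul_inv_eq_one.1 (one _ (mul_mem m (inv_mem hw)) ?_)⟩
    rw [N.mul _ (lZ (lW m)) _ (lZ (lW (inv_mem hw))), N.inv (lZ (lW hw)), Pi.add_apply, Pi.neg_apply, actp u (lW hu),
      show μ ^ i = _ from hi, Units.val_mk0, div_mul_cancel₀ _ u0, add_neg_cancel]
  obtain ⟨v, hv, v1⟩ := SetLike.not_le_iff_exists.1 nc
  have := act v hv
  rw [mem_c''.1 (cen_le_c hv cV)] at this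
  have c := (mul_left_eq_self₀.1 this.symm).resolve_right (mt (z0 v hv) v1)
  have : ∀ u : Fˣ, u = 1 := fun u => by simpa [Units.val_eq_one.1 c] using hμ u
  exact st (by rw [← Units.val_mk0 s0, ← Units.val_mk0 t0, this (Units.mk0 s s0), this (Units.mk0 t t0)])

/-- good vertices -/
structure Gd (G B L : Subgroup X) : Prop where
  nG : ⊤ ≤ 𝐍 G
  LG : L ≤ G
  vx : Vx 2 L
  syl : IsSylowIn 2 B L
  amb : ∀ {U R : Subgroup X}, Tc G U → L ≤ 𝐍 U → IsPGroup 2 R → B ≤ R → R ≤ G → R ≤ 𝐍 U → bm 2 R = B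
  ΩΩ : ∀ {S : Subgroup X}, IsSylowIn 2 S G → B ≤ S → Ω₂ S ≤ Ω₂ B
  two : Two B (O₂ L)
  sol : ∀ {S : Subgroup X}, IsSylowIn 2 S G → Group.IsSolvable ↥(G ⊓ 𝐂 (Ω₂ S))

theorem Gd.conj (k : Gd G B L) (g : X) : Gd G (cj g B) (cj g L) :=
  have n := fun g => k.nG (mem_top g)
  ⟨k.nG, cj_le_of_mem_normalizer k.LG (n g), k.vx.conj g, k.syl.conj g, fun {U R} a b c d e f => by
    rw [← cj_cj_inv g R, ← cj_bm, k.amb (a.conj (n g⁻¹)) (cj_normalizer g⁻¹ U ▸ cj_le_iff.1 b) (isPGroup_cj _ c)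
      (cj_le_iff.1 d) (cj_le_of_mem_normalizer e (n _)) (cj_normalizer g⁻¹ U ▸ cj_mono _ f)], fun {S} a b => by
    rw [← cj_omegaOneCenter, le_cj_iff, cj_omegaOneCenter]
    exact k.ΩΩ (a.conj_of_mem_normalizer (n _)) (cj_le_iff.1 b), fun a ha b hb c d => by
    rw [← cj_pCoreOf, mem_cj] at c d ⊢
    simpa only [mul_assoc, mul_inv_cancel_left] using k.two _ (mem_cj.1 ha) _ (mem_cj.1 hb) c d, k.sol⟩

/-- the Thompson order -/
noncomputable def thw (P : Subgroup X) : ℕ ×ₗ ℕ ×ₗ ℕ :=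
  toLex (# (H9.exists_maxAb 2 P).choose, toLex (# (JJ 2 P), # (bm 2 P)))

theorem mu_key (h4 : thw S ≤ thw P) (l : bm 2 P ≤ S) : bm 2 S = bm 2 P := by
  have h1 := (H9.exists_maxAb 2 P).choose_spec
  have h2 := (H9.exists_maxAb 2 S).choose_spec
  have h3 := h2.card_le (h1.le_JJ.trans (JJ_le_bm.trans l)) h1.abE
  simp only [thw, Prod.Lex.toLex_le_toLex] at h4
  obtain ⟨h5, h4⟩ := h4.resolve_left h3.not_gt
  have h6 := JJ_mono_of_mem (JJ_le_bm.trans l) (h2.of_card_le (h1.le_JJ.trans (JJ_le_bm.trans l)) h1.abE h5.le)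
    h1.le_JJ
  rw [JJ_JJ] at h6
  obtain ⟨h7, h4⟩ := h4.resolve_left (card_le_of_le' h6).not_gt
  refine (eq_of_le_of_card_le (le_inf l ?_) h4).symm
  rw [zj, ← eq_of_le_of_card_le h6 h7.le]; exact inf_le_right

theorem step1 (hh : HH G ν) (b0 : Bd G ν T U) : ∃ B L : Subgroup X, Gd G B L ∧ ∀ S D : Subgroup X, IsSylowIn 2 S G →
    B ≤ S → Z₂ L ≤ D → D ≤ S → 𝐍 S ≤ 𝐍 D → ¬ L ≤ 𝐍 D := by
  obtain ⟨⟨T, U⟩, b, m⟩ := Set.exists_max_image {p : Subgroup X × Subgroup X | Bd G ν p.1 p.2}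
    (fun p => thw (p.1 ⊓ 𝐍 p.2)) (Set.toFinite _) ⟨(T, U), b0⟩
  replace b : Bd G ν T U := b
  dsimp only at m
  set R := T ⊓ 𝐍 U
  set B := bm 2 R with eB
  set V := ν T
  have key : ∀ T' U', Bd G ν T' U' → ∀ P, B ≤ P → P ≤ T' → P ≤ 𝐍 U' → bm 2 P = B := fun T' U' c P h1 h2 h3 => by
    have := mu_key (m (T', U') c) (h1.trans (le_inf h2 h3))
    exact (bm_eq_of_le (this.le.trans h1) (le_inf h2 h3)).trans this
  clear m
  have BT : B ≤ T := bm_le.trans inf_le_left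
  have pB := b.syl.isPGroup.to_le BT
  have pV := hh.pg b.syl
  have eZ : ∀ S, bm 2 S = B → zj 2 S = zj 2 R := fun S e => by
    rw [zj, zj, ← JJ_eq_of_le JJ_le_bm bm_le, e, JJ_eq_of_le JJ_le_bm bm_le]
  have Vz : V ≤ zj 2 R := let ⟨_, h⟩ := hh.hv T b.syl; h.ff R (le_inf h.le b.vN) inf_le_left
  have zB : zj 2 R ≤ B := (omegaOneCenter_le _ _).trans JJ_le_bm
  have zΩ : zj 2 R ≤ Ω₂ B := le_omegaOneCenter zB (le_centralizer_comm.1 inf_le_right)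
    fun x hx => (mem_omegaOneCenter.1 hx).2.2
  have VB := Vz.trans zB
  have bB : zj 2 B = zj 2 R := eZ B (bm_eq_of_le le_rfl bm_le)
  have bad : ∀ T' U', IsSylowIn 2 T' G → ν T' = V → IsSylowIn 2 (T' ⊓ 𝐍 U') (G ⊓ 𝐍 U') → V ≤ U' → U' ≤ T' →
      ¬ G ⊓ 𝐍 U' ≤ 𝐍 V → Bd G ν T' U' := fun T' U' a1 a2 a3 a4 a5 a6 =>
    have l := le_normalizer_of_le a4
    ⟨a1, ⟨a1.isPGroup.to_le a5, a5.trans a1.le, T', a1, (a2 ▸ hh.Ωle a1).trans a4⟩, a3, a2 ▸ l, a2 ▸ fun c => a6 fun g hg =>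
      mem_normalizer_of_cj_le (c.le pV (le_inf (VB.trans (BT.trans b.syl.le)) l) hg le_rfl (a1.isPGroup.to_le a5) l
        (cj_le_of_mem_normalizer a4 hg.2))⟩
  have uq : ∀ P T₁ T₂, B ≤ P → IsSylowIn 2 T₁ G → IsSylowIn 2 T₂ G → P ≤ T₁ → P ≤ T₂ → ν T₁ = V → ν T₂ ≠ V →
      bm 2 P = B ∧ ¬ G ⊓ 𝐍 B ≤ 𝐍 V := fun P T₁ T₂ l a1 a2 a3 a4 a5 a6 => by
    obtain ⟨⟨T₁, T₂⟩, ⟨a1, a2, a3, a5, a6⟩, m⟩ := Set.exists_max_image {p : Subgroup X × Subgroup X |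
      IsSylowIn 2 p.1 G ∧ IsSylowIn 2 p.2 G ∧ P ≤ p.1 ⊓ p.2 ∧ ν p.1 = V ∧ ν p.2 ≠ V} (fun p => # ↥(p.1 ⊓ p.2))
      (Set.toFinite _) ⟨(T₁, T₂), a1, a2, le_inf a3 a4, a5, a6⟩
    dsimp only at a1 a2 a3 a5 a6 m
    have gd : ∀ S S', IsSylowIn 2 S G → IsSylowIn 2 S' G → ν S = V → ∀ I, T₁ ⊓ T₂ < I → I ≤ S ⊓ S' → ν S' = V :=
      fun S S' b1 b2 b3 I b4 b5 => by_contra fun c =>
        (card_lt_of_lt (b4.trans_le b5)).not_ge (m (S, S') ⟨b1, b2, a3.trans (b4.le.trans b5), b3, c⟩)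
    have ne : T₁ ≠ T₂ := fun e => a6 (e ▸ a5)
    have l1 := lt_inf_normalizer a1.isPGroup (inf_lt_left.2 fun e => ne (a1.max _ a2.isPGroup e a2.le).symm)
    have l2 := lt_inf_normalizer a2.isPGroup (inf_lt_right.2 fun e => ne (a2.max _ a1.isPGroup e a1.le))
    generalize T₁ ⊓ T₂ = I at l1 l2 gd a3
    obtain ⟨S, s1, s2, s3⟩ := ext_syl (a1.isPGroup.to_le inf_le_left) (inf_le_left.trans a1.le)
      (inf_le_right : T₁ ⊓ 𝐍 I ≤ _)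
    obtain ⟨h, h1, h2⟩ := s3.exists_le_conj (a2.isPGroup.to_le inf_le_left) (inf_le_inf_right (𝐍 I) a2.le)
    have IS := l1.le.trans s2
    have n : ¬ G ⊓ 𝐍 I ≤ 𝐍 V := fun c => a6 (gd _ _ (hh.sy s1 h) a2 (by
      rw [hh.equi, gd _ _ a1 s1 a5 _ l1 (le_inf inf_le_left s2), cj_eq_self (c h1)]) _ l2
      (le_inf (h2.trans (cj_mono h inf_le_left)) inf_le_left))
    have c := key S I (bad S I s1 (gd _ _ a1 s1 a5 _ l1 (le_inf inf_le_left s2)) s3 (VB.trans (l.trans a3)) IS n)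
    exact ⟨c P l (a3.trans IS) (le_normalizer_of_le a3), fun e => n ((inf_le_inf_left _ ((nrm_bm le_rfl).trans_eq
      (congrArg (fun H : Subgroup X => 𝐍 H) (c I (l.trans a3) IS le_normalizer)))).trans e)⟩
  have top : ∀ S P : Subgroup X, IsPGroup 2 S → P = S ⊓ 𝐍 (zj 2 R) → bm 2 P = B → P = S := fun S P a e f =>
    eq_of_inf_normalizer_le a (e ▸ inf_le_left) (le_trans (inf_le_inf_left _ ((nrm_zj le_rfl).trans_eq
      (congrArg (fun H : Subgroup X => 𝐍 H) (eZ P f)))) e.ge)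
  have nz : G ⊓ 𝐍 (zj 2 R) ≤ 𝐍 V := by_contra fun c => by
    have l : B ≤ T ⊓ 𝐍 (zj 2 R) := le_inf BT (bB ▸ nrm_zj le_normalizer)
    obtain ⟨S, s1, s2, s3⟩ := ext_syl (b.syl.isPGroup.to_le inf_le_left) (inf_le_left.trans b.syl.le)
      (inf_le_right : T ⊓ 𝐍 (zj 2 R) ≤ _)
    by_cases e : ν S = V
    · have lS := zB.trans (l.trans s2)
      have e1 := key S _ (bad S _ s1 e s3 Vz lS c) _ (le_inf (l.trans s2) (l.trans inf_le_right)) inf_le_left inf_le_right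
      rw [top S _ s1.isPGroup rfl e1] at e1
      obtain ⟨_, h⟩ := hh.hv S s1
      exact c (e ▸ h.loc _ (e ▸ Vz) lS (eZ S e1 ▸ nrm_zj le_rfl))
    · rw [top T _ b.syl.isPGroup rfl (uq _ T S l b.syl s1 inf_le_left s2 rfl e).1] at s2
      exact e (by rw [b.syl.max S s1.isPGroup s2 s1.le])
  have nJ : G ⊓ 𝐍 (JJ 2 B) ≤ 𝐍 V := (inf_le_inf_left _ (bB ▸ normalizer_le_normalizer_omegaOneCenter 2 _)).trans nz
  have nB : G ⊓ 𝐍 B ≤ 𝐍 V := (inf_le_inf_left _ (normalizer_le_normalizer_JJ 2 B)).trans nJ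
  have un : ∀ S, IsSylowIn 2 S G → B ≤ S → ν S = V := fun S a l => by_contra fun c =>
    (uq B T S le_rfl b.syl a BT l rfl c).2 nB
  have sol : ∀ {S : Subgroup X}, IsSylowIn 2 S G → Group.IsSolvable ↥(G ⊓ 𝐂 (Ω₂ S)) := fun a =>
    let ⟨_, h⟩ := hh.hv _ a; h.sol
  obtain ⟨A, hv⟩ := hh.hv T b.syl
  obtain ⟨u1, u2, S₀, u3, u4⟩ := b.tc
  have VH : V ≤ G ⊓ 𝐍 U := le_inf (hv.le.trans b.syl.le) b.vN
  have cT := le_centralizer_omegaOneCenter 2 T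
  obtain ⟨L, l1, v, s, nL⟩ := exists_vx b.sN eB.symm u1 (le_inf u2 le_normalizer) inf_le_right
    (H19.sol_mono (sol u3) (inf_le_inf inf_le_left (centralizer_anti u4))) VB
    ((inf_le_inf_right _ inf_le_left).trans nB) ((inf_le_inf_right _ inf_le_left).trans nJ) (hv.Ωle.trans VB)
    (le_omegaOneCenter (hv.Ωle.trans (VB.trans bm_le)) (le_centralizer_comm.1 (inf_le_left.trans cT))
      fun x hx => (mem_omegaOneCenter.1 hx).2.2)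
    (Nm.mono hv.cen (le_inf VH (hv.le.trans cT)) (inf_le_inf_right _ inf_le_left)) b.nm
  have LG := l1.trans inf_le_left
  have VZ := (Vz.trans zΩ).trans s.omegaOneCenter_le_Z
  refine ⟨B, L, ⟨hh.nG, LG, v, s, fun {U R} a1 a2 a3 a4 a5 a6 => ?_, fun a l => (un _ a l ▸ hh.Ωle a).trans (Vz.trans zΩ),
    two_of v s (Vz.trans zΩ) (le_trans (inf_le_inf LG ?_) nz) (fun c => nL (le_normalizer_of_le_centralizer
      (le_centralizer_comm.1 c))) fun x hx => hv.sing x ⟨LG hx.1, hx.2⟩, sol⟩, fun S D a1 a2 a3 a4 a5 c => ?_⟩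
  · obtain ⟨S, s1, s2, s3⟩ := ext_syl a3 a5 a6
    have e := un S s1 (a4.trans s2)
    have VU := VB.trans (a4.trans a6)
    exact key S U ⟨s1, a1, s3, e ▸ VU, e ▸ fun c => nL fun g hg => mem_normalizer_of_cj_le (c.le pV
      (le_inf (VB.trans (s.le.trans LG)) VU) ⟨LG hg, a2 hg⟩ le_rfl (isPGroup_pCoreOf 2 L)
      (VB.trans (s.le.trans (le_normalizer_pCoreOf 2 L))) (cj_le_of_mem_normalizer (VZ.trans v.Z_le_Q)
        (le_normalizer_pCoreOf 2 L hg)))⟩ R a4 s2 a6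
  · rw [le_antisymm zΩ (bB ▸ Ω_le_zj dvd_rfl)]
  · obtain ⟨_, h⟩ := hh.hv S a1
    rw [un S a1 a2] at h
    exact nL ((le_inf LG c).trans (h.loc D (VZ.trans a3) a4 a5))

end H4.SC
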