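import Cfsg.Agent.H4.SC3

/-! Good vertices (adapted from `H4.OX`). -/

set_option autoImplicit false
set_option linter.unusedVariables false
set_option linter.unusedSectionVars false
set_option linter.style.haveILetI false

namespace H4.SC
open H9 hiding zj
open Matrix hiding mul_inv_rev
open H29.PU hiding Rk1 Vx Crit crit Am Bad W5 T2 le_C_of_normal
open H4.Bm hiding Gd Gt GV Pa P2 DG St Ds Bt ext no_crit hull step1 phi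
open Cfsg Subgroup H28 H28.GC MatrixGroups H29 H29.BB H4.PV Equiv
open H4.OX (Od od_iff syl_sup syl_mem)
open scoped commutatorElement

universe u
variable {X : Type u} [Group X] [Finite X] {A A' B B' C D E E' F G H I J K L L' L₀ L₁ L₂ B₀ M N O P Q R S S' T T' U V W Y : Subgroup X}
  {a b c d e f g h l m n s t u v w x y z : X} {ν : Subgroup X → Subgroup X}

export H9 (MaxAb exists_maxAb)

namespace Gd
variable (k : Gd G B L)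
include k

theorem rk : Rk1 2 L := k.vx.toRk1
theorem pg : IsPGroup 2 B := k.syl.isPGroup
theorem le : B ≤ L := k.syl.le
theorem QB : O₂ L ≤ B := k.syl.pCoreOf_le
theorem ZB : Z₂ L ≤ B := k.vx.Z_le_S k.syl
theorem ZQ : Z₂ L ≤ O₂ L := k.vx.Z_le_Q
theorem QC : O₂ L ≤ 𝐂 (Z₂ L) := k.vx.Q_le_C
theorem ZC : Z₂ L ≤ 𝐂 (O₂ L) := k.vx.Z_le_C
theorem ZZ : Z₂ L ≤ 𝐂 (Z₂ L) := k.vx.Z_comm
theorem ea : IsElementaryAbelian 2 (Z₂ L) := k.vx.ea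
theorem ΩZ : Ω₂ B ≤ Z₂ L := k.syl.omegaOneCenter_le_Z
theorem nZ : L ≤ 𝐍 (Z₂ L) := le_normalizer_Z 2 L
theorem nQ : L ≤ 𝐍 (O₂ L) := le_normalizer_pCoreOf 2 L
theorem nE : L ≤ 𝐍 (O² L) := le_normalizer_pResidualOf 2 L
theorem EL : O² L ≤ L := pResidualOf_le 2 L
theorem EB : O² L ⊔ B = L := k.syl.pResidualOf_sup
theorem nW : L ≤ 𝐍 (𝐖ᵥ L) := le_normalizer_commutator k.nZ k.nE
theorem WZ : 𝐖ᵥ L ≤ Z₂ L := commutator_le_of_le_normalizer (k.EL.trans k.nZ)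
theorem WE : 𝐖ᵥ L ≤ O² L := commutator_le_of_le_normalizer' ((Z_le 2 L).trans k.nE)
theorem ZL : ⁅Z₂ L, L⁆ ≤ 𝐖ᵥ L := k.vx.comm_le_res
theorem YW : ⁅Z₂ L, B⁆ ≤ 𝐖ᵥ L := (commutator_mono le_rfl k.le).trans k.ZL
theorem YΩ : ⁅Z₂ L, B⁆ ≤ Ω₂ B := k.vx.comm_le_Ω k.syl
theorem nCE : L ≤ 𝐍 (𝐂 (O² L)) := le_normalizer_centralizer k.nE
theorem cenE (hz : z ∈ Z₂ L) (h : z ∈ 𝐂 (O² L)) : z ∈ 𝐂 L := k.vx.cen_res ⟨hz, h⟩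
theorem CE : 𝐂 L ≤ 𝐂 (O² L) := centralizer_anti k.EL
theorem not_Y : ¬ ⁅Z₂ L, B⁆ ≤ 𝐂 (O² L) := fun h => k.vx.not_comm_le k.syl fun y hy => k.cenE (k.ΩZ (k.YΩ hy)) (h hy)
theorem memQ (hb : b ∈ B) (h : b ∈ 𝐂 (Z₂ L)) : b ∈ O₂ L := k.vx.mem_Q k.syl hb h
theorem leQ (h1 : A ≤ B) (h2 : A ≤ 𝐂 (Z₂ L)) : A ≤ O₂ L := k.vx.le_Q k.syl h1 h2
theorem BG : B ≤ G := k.le.trans k.LG
theorem tcZ : Tc G (Z₂ L) :=
  let ⟨S, a, b⟩ := exists_isSylowIn_ge k.pg k.BG; ⟨k.pg.to_le k.ZB, k.ZB.trans k.BG, S, a, (k.ΩΩ a b).trans k.ΩZ⟩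
theorem bm_eq : bm 2 B = B := k.amb k.tcZ k.nZ k.pg le_rfl k.BG (k.le.trans k.nZ)
theorem zj_eq : zj 2 B = Ω₂ B := le_antisymm (le_omegaOneCenter zj_le (le_centralizer_comm.1 (k.bm_eq.ge.trans inf_le_right))
  fun x hx => (mem_omegaOneCenter.1 hx).2.2) (Ω_le_zj dvd_rfl)

theorem off : ∃ A, MaxAb 2 B A ∧ ¬ A ≤ O₂ L := by
  by_contra! c
  have e := JJ_eq_of_le (JJ_le_iff.2 c) k.QB
  have : L ≤ 𝐍 (Ω₂ B) := by rw [← k.zj_eq, zj, ← e]; exact nrm_zj k.nQ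
  exact k.vx.not_Z_le_Ω k.syl (k.syl.Z_eq ▸ nclIn_le le_rfl this)

theorem sup (hA : MaxAb 2 B A) (n : ¬ A ≤ O₂ L) : A ⊔ O₂ L = B := (k.vx.max k.syl dvd_rfl hA n).1
theorem max (hA : MaxAb 2 B A) (n : ¬ A ≤ O₂ L) : MaxAb 2 B (A ⊓ O₂ L ⊔ Z₂ L) := (k.vx.max k.syl dvd_rfl hA n).2
theorem ZJ : Z₂ L ≤ JJ 2 B := let ⟨A, h, n⟩ := k.off; le_sup_right.trans (k.max h n).le_JJ
theorem Z_le_max (hA : MaxAb 2 B A) (h : A ≤ O₂ L) : Z₂ L ≤ A :=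
  hA.le_of_le_centralizer k.ZB (abE_iff_ea.2 k.ea) (k.ZC.trans (centralizer_anti h))
theorem comm_of_sup (h : A ⊔ O₂ L = B) : ⁅Z₂ L, B⁆ = ⁅Z₂ L, A⁆ := by
  conv_lhs => rw [← h]
  exact comm_sup_cen k.QC ((le_sup_left.trans h.le).trans (k.le.trans k.nZ))
theorem supJ : JJ 2 B ⊔ O₂ L = B := let ⟨A, h, n⟩ := k.off
  le_antisymm (sup_le (JJ_le 2 B) k.QB) ((k.sup h n).ge.trans (sup_le_sup_right h.le_JJ _))
theorem YJ : ⁅Z₂ L, B⁆ = ⁅Z₂ L, JJ 2 B⁆ := k.comm_of_sup k.supJ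

theorem V_le : V₂ L ≤ Z₂ L := fun u hu => by
  obtain ⟨A, hA, n⟩ := k.off
  obtain ⟨u1, u2, u3⟩ := mem_omegaOneCenter.1 hu
  have := (k.max hA n).mem_of_mem_centralizer (k.QB u1) u3 (centralizer_anti (sup_le inf_le_right k.ZQ) u2)
  obtain ⟨a, ha, z, hz, rfl⟩ := (mem_sup_of_le_normalizer (inf_le_right.trans ((k.QB.trans k.le).trans k.nZ))).1 this
  refine mul_mem (k.ΩZ (mem_omegaOneCenter.2 ⟨hA.le ha.1, ?_, (isElementaryAbelian_iff.1 hA.ea).2 a ha.1⟩)) hz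
  rw [← k.sup hA n, centralizer_sup]
  exact ⟨hA.comm ha.1, (mul_mem_cancel_right (k.ZC hz)).1 u2⟩

theorem mem_Z (hu : u ∈ B) (c : u ∈ 𝐂 (O₂ L)) (u2 : u * u = 1) : u ∈ Z₂ L :=
  k.V_le (mem_omegaOneCenter.2 ⟨k.memQ hu (centralizer_anti k.ZQ c), c, sq_pow u2⟩)

theorem tr (hx : x ∈ Z₂ L) (hy : y ∈ Z₂ L) (x1 : x ∉ 𝐂 L) (y1 : y ∉ 𝐂 L) : ∃ l ∈ L, l * x * l⁻¹ * y⁻¹ ∈ 𝐂 L := by
  obtain ⟨S', -, -, F, _, _, -, ⟨N⟩⟩ := k.vx.ns' k.syl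
  obtain ⟨g, -, e⟩ := BB.trans (mt (N.mem_C_iff hx).2 x1) (mt (N.mem_C_iff hy).2 y1)
  obtain ⟨l, hl, rfl⟩ := N.π_surj g
  have := conj_mem_of_mem_normalizer (k.nZ hl) hx
  exact ⟨l, hl, (N.mem_C_iff (mul_mem this (inv_mem hy))).2 (by
    rw [N.mul _ this _ (inv_mem hy), N.inv hy, N.equi l hl x hx, ← smul_eq, e, add_neg_cancel])⟩

theorem CΩ (hz : z ∈ Z₂ L) (h : z ∈ 𝐂 L) : z ∈ Ω₂ B := k.vx.C_le_Ω k.syl ⟨hz, h⟩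

theorem tr' (hx : x ∈ Z₂ L) (hy : y ∈ Ω₂ B) (x1 : x ∉ 𝐂 L) (y1 : y ∉ 𝐂 L) :
    ∃ l ∈ L, l * x * l⁻¹ ∈ Ω₂ B ∧ l * x * l⁻¹ * y⁻¹ ∈ 𝐂 L := by
  obtain ⟨l, hl, e⟩ := k.tr hx (k.ΩZ hy) x1 y1
  refine ⟨l, hl, ?_, e⟩
  simpa using mul_mem (k.CΩ (mul_mem (conj_mem_of_mem_normalizer (k.nZ hl) hx) (inv_mem (k.ΩZ hy))) e) hy

theorem toΩ (hu : u ∈ Z₂ L) : ∃ l ∈ L, l * u * l⁻¹ ∈ Ω₂ B := by
  by_cases c : u ∈ 𝐂 L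
  · exact ⟨1, one_mem _, by simpa using k.CΩ hu c⟩
  obtain ⟨y, hy, y1⟩ := SetLike.not_le_iff_exists.1 (k.vx.not_comm_le k.syl)
  exact let ⟨l, hl, e, _⟩ := k.tr' hu (k.YΩ hy) c y1; ⟨l, hl, e⟩

theorem decΩ (hu : u ∈ Ω₂ B) : ∃ y ∈ ⁅Z₂ L, B⁆, ∃ c ∈ Z₂ L ⊓ 𝐂 L, y * c = u :=
  (mem_sup_of_le_normalizer (le_normalizer_of_le_centralizer (((k.YΩ.trans k.ΩZ).trans k.ZZ).trans
    (centralizer_anti inf_le_left)))).1 (k.vx.Ω_le k.syl hu)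

theorem decZ (hu : u ∈ Z₂ L) : ∃ w ∈ 𝐖ᵥ L, ∃ c ∈ Z₂ L ⊓ 𝐂 L, w * c = u :=
  (mem_sup_of_le_normalizer (le_normalizer_of_le_centralizer ((k.WZ.trans k.ZZ).trans
    (centralizer_anti inf_le_left)))).1 (k.vx.Z_le hu)

theorem oppE : ∃ e ∈ O² L, B ⊔ cj e B = L := by
  obtain ⟨g, hg, e⟩ := k.rk.exists_opp k.syl
  rw [← k.EB] at hg
  obtain ⟨a, ha, b, hb, rfl⟩ := (mem_sup_of_le_normalizer' (k.le.trans k.nE)).1 hg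
  exact ⟨a, ha, by rwa [← cj_cj, cj_eq_self_of_mem hb] at e⟩

theorem conj' (hl : l ∈ L) : Gd G (cj l B) L := by simpa only [cj_eq_self_of_mem hl] using k.conj l
theorem conjN (hl : l ∈ 𝐍 B) : Gd G B (cj l L) := by simpa only [cj_eq_self hl] using k.conj l

theorem WΩ (hw : w ∈ 𝐖ᵥ L) (h : w ∈ Ω₂ B) : w ∈ ⁅Z₂ L, B⁆ := by
  obtain ⟨l, hl, o⟩ := k.oppE
  have k' := k.conj' (k.EL hl)
  have n : ∀ {B B' : Subgroup X}, Gd G B L → Gd G B' L → B ≤ 𝐍 (⁅Z₂ L, B⁆ ⊔ ⁅Z₂ L, B'⁆ : Subgroup X) := fun k k' =>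
    H28.le_normalizer_of_commutator_le ((commutator_mono (sup_le (k.YW.trans k.WZ) (k'.YW.trans k.WZ)) le_rfl).trans
      le_sup_left) le_rfl
  have : ⁅Z₂ L, B ⊔ cj l B⁆ ≤ ⁅Z₂ L, B⁆ ⊔ ⁅Z₂ L, cj l B⁆ :=
    commutator_sup_le' (n k k') (by rw [sup_comm]; exact n k' k) le_sup_left le_sup_right
  rw [o] at this
  obtain ⟨a, ha, b, hb, rfl⟩ := (mem_sup_of_le_normalizer (le_normalizer_of_le_centralizer
    (((k.YW.trans k.WZ).trans k.ZZ).trans (centralizer_anti (k'.YW.trans k.WZ))))).1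
    (((commutator_mono le_rfl k.EL).trans this) hw)
  have c := Ω_inf_le o ⟨(mul_mem_cancel_left (k.YΩ ha)).1 h, k'.YΩ hb⟩
  refine mul_mem ha ?_
  rw [← cj_eq_self (k.nZ (k.EL hl)), ← cj_commutator, mem_cj] at hb
  rwa [← conj_eq_of_cen (inv_mem (k.EL hl)) c, inv_inv]

theorem WC (hw : w ∈ 𝐖ᵥ L) (h : w ∈ 𝐂 L) : w ∈ ⁅Z₂ L, B⁆ := k.WΩ hw (k.CΩ (k.WZ hw) h)

theorem res_le (hN : L ≤ 𝐍 N) (hx : x ∈ B) (n : x ∉ O₂ L) (h : x ∈ N) : O² L ≤ N := k.rk.res_le k.syl hN hx n h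

theorem gen (hl : l ∈ L) (o : B ⊔ cj l B = L) (hx : x ∈ B) (n : x ∉ O₂ L) (h1 : cj l B ≤ H) (h2 : x ∈ H) : L ≤ H :=
  k.rk.gen (k.syl.conj_of_mem hl) k.syl (sup_comm B _ ▸ o) hx n h1 h2


theorem of_syl (s : IsSylowIn 2 S L) : Gd G S L := let ⟨l, hl, e⟩ := k.syl.exists_conj s; e ▸ k.conj' hl

theorem comm_max (hA : MaxAb 2 B A) : ⁅A ⊓ O₂ L ⊔ Z₂ L, A⁆ ≤ Z₂ L :=
  commutator_sup_le (inf_le_right.trans ((pCoreOf_le 2 L).trans k.nZ)) le_normalizer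
    ((commutator_eq_bot_iff.2 (inf_le_left.trans hA.comm)).le.trans bot_le)
    (commutator_le_of_le_normalizer ((hA.le.trans k.le).trans k.nZ))

theorem opp (blk : ⁅O₂ L, O² L⁆ ≤ Z₂ L) (s : IsSylowIn 2 B' L) : B ⊔ B' = L ∨ ∃ g ∈ L ⊓ 𝐂 (O₂ L), cj g B = B' := by
  obtain ⟨g, hg, rfl⟩ := k.syl.exists_conj s
  obtain ⟨M, r⟩ := k.rk.r1 k.syl
  refine or_iff_not_imp_left.2 fun c => ?_
  obtain ⟨S', -, -, F, _, _, -, ⟨N⟩⟩ := k.vx.ns' k.syl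
  have n := (N.mem_iff r hg).1 (by_contra fun e => c (r.sup_cj hg e))
  have lK : B ⊔ L ⊓ 𝐂 (Z₂ L) ≤ L := sup_le k.le inf_le_left
  have l : cj g B ≤ B ⊔ L ⊓ 𝐂 (Z₂ L) := by
    rintro _ ⟨b, hb, rfl⟩
    obtain ⟨t, e⟩ := N.up b hb
    obtain ⟨a, ha, e'⟩ := N.up' (N.π g 0 0 ^ 2 * t)
    have m := mul_mem (mul_mem hg (k.le hb)) (inv_mem hg)
    have m' := mul_mem (inv_mem (k.le ha)) m
    rw [MulEquiv.coe_toMonoidHom, MulAut.conj_apply, ← mul_inv_cancel_left a (g * b * g⁻¹)]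
    refine mul_mem_sup ha ⟨m', mem_cen_iff.2 fun v hv => ?_⟩
    rw [← commutatorElement_inv, mem_bot.1 ((N.kerπ _ m').1 ?_ v hv), inv_one]
    rw [N.π_mul _ (inv_mem (k.le ha)) _ m, N.π_mul _ (mul_mem hg (k.le hb)) _ (inv_mem hg), N.π_mul _ hg _ (k.le hb),
      N.π_inv hg, N.π_inv (k.le ha), e, bor_conj n, e', inv_mul_cancel]
  have sK := k.syl.mono le_sup_left lK
  obtain ⟨h, hh, e⟩ := sK.exists_conj (s.mono l lK)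
  obtain ⟨f, hf, x, hx, rfl⟩ := sK.exists_pResidualOf_mul hh
  exact ⟨f, ⟨lK (pResidualOf_le 2 _ hf), pResidualOf_le_centralizer_of_commutator_le (k.pg.to_le k.ZB)
    ((commutator_mono le_rfl (pResidualOf_mono lK)).trans blk) ((pResidualOf_sup_le k.pg (k.le.trans (le_normalizer_inf
    le_normalizer (le_normalizer_centralizer k.nZ)))).trans inf_le_right) hf⟩, by rw [← e, ← cj_cj, cj_eq_self_of_mem hx]⟩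

end Gd

end H4.SC
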