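import Cfsg.Agent.H4.SC5

/-! Critical pairs of small blocks (adapted from `H4.OX`). -/

set_option autoImplicit false
set_option linter.unusedVariables false
set_option linter.unusedSectionVars false
set_option linter.style.haveILetI false

namespace H4.SC
open H9 hiding zj
open Matrix hiding mul_inv_rev
open H29.PU hiding Rk1 Vx Crit crit Am Bad W5 T2 le_C_of_normal
open H4.Bm hiding Gd Gt GV Pa P2 DG St Ds Bt ext no_crit hull step1 phi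
open Cfsg Subgroup H28 H28.GC MatrixGroups H29 H29.BB H4.PV Equiv
open H4.OX (Od od_iff syl_sup syl_mem)
open scoped commutatorElement

universe u
variable {X : Type u} [Group X] [Finite X] {A A' B B' C D E E' F G H I J K L L' L₀ L₁ L₂ B₀ M N O P Q R S S' T T' U V W Y : Subgroup X}
  {a b c d e f g h l m n s t u v w x y z : X} {ν : Subgroup X → Subgroup X}

theorem Gd.cenW (k : Gd G B L) (hx : x ∈ L) (h : x ∈ 𝐂 (𝐖ᵥ L)) : x ∈ 𝐂 (Z₂ L) :=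
  centralizer_anti k.vx.Z_le (by
    rw [centralizer_sup]; exact ⟨h, centralizer_anti inf_le_right (le_centralizer_comm.1 le_rfl hx)⟩)

theorem Gd.memQ' (k : Gd G B L) (hx : x ∈ B) (h : x ∈ 𝐂 (𝐖ᵥ L)) : x ∈ O₂ L := k.memQ hx (k.cenW (k.le hx) h)

theorem Gd.QW (k : Gd G B L) : O₂ L ≤ 𝐂 (𝐖ᵥ L) := k.QC.trans (centralizer_anti k.WZ)

theorem Gd.fix (k : Gd G B L) (hs : s ∈ B) (hz : z ∈ Z₂ L) (h : ⁅s, z⁆ ∈ 𝐂 (O² L)) : s ∈ O₂ L ∨ z ∈ Ω₂ B :=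
  or_iff_not_imp_left.2 fun n => k.vx.fix k.syl hs n hz (k.cenE (cm_mem' (A := B) (k.le.trans k.nZ) hs hz) h)

theorem Gd.one (k : Gd G B L) (hs : s ∈ B) (hz : z ∈ Z₂ L) (h : ⁅s, z⁆ ∈ 𝐂 (O² L)) : ⁅s, z⁆ = 1 :=
  k.vx.comm_eq_one k.syl hs hz (k.cenE (cm_mem' (A := B) (k.le.trans k.nZ) hs hz) h)

theorem Gd.eYz (k : Gd G B L₁) (zY : z ∈ ⁅Z₂ L₁, B⁆) (z1 : z ≠ 1) : ⁅Z₂ L₁, B⁆ = zpowers z := by
  obtain ⟨u, hu, u1⟩ := SetLike.not_le_iff_exists.1 (k.vx.not_Z_le_Ω k.syl)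
  obtain ⟨b, hb, b1⟩ := SetLike.not_le_iff_exists.1 (k.rk.ne k.syl)
  have l : ⁅Z₂ L₁, B⁆ ≤ zpowers ⁅u, b⁆ := commutator_le.2 fun x hx y hy => by
    by_cases c : x ∈ Ω₂ B
    · rw [mem_c_comm'.1 (cen_le_c hy (mem_omegaOneCenter.1 c).2.1)]; exact one_mem _
    by_cases c' : y ∈ O₂ L₁
    · rw [mem_cen_iff.1 (k.QC c') x hx]; exact one_mem _
    have h1 := (k.vx.two k.syl k.two).2.1 x hx _ (inv_mem hu) c (mt inv_mem_iff.1 u1)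
    have h2 := k.two _ (inv_mem hb) y hy (mt inv_mem_iff.1 b1) c'
    rw [← inv_mul_cancel_right x u, comm_mul_left, mem_c_comm'.1 (cen_le_c hy (mem_omegaOneCenter.1 h1).2.1), mul_one,
      ← mul_inv_cancel_left b y, comm_mul_right, mem_cen_iff.1 (k.QC h2) u hu, mul_one, mul_inv_cancel, mul_one,
      conj_eq_of_cen (omegaOneCenter_le _ _ h1) (omegaOneCenter_le_centralizer _ _
        (k.YΩ (commutator_mem_commutator hu hb)))]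
    exact mem_zpowers _
  rw [← ((mem_z2 (sq_of_ea (ea_omegaOneCenter 2 B) (k.YΩ (commutator_mem_commutator hu hb)))).1
    (l zY)).resolve_left z1] at l
  exact le_antisymm l (zpowers_le.2 zY)

theorem Gd.exz (k : Gd G B L) : ∃ z ∈ ⁅Z₂ L, B⁆, z ≠ 1 :=
  let ⟨z, a, b⟩ := SetLike.not_le_iff_exists.1 k.not_Y; ⟨z, a, fun e => b (e ▸ one_mem _)⟩

theorem Gd.WB (k : Gd G B L) : ⁅𝐖ᵥ L, B⁆ = ⁅Z₂ L, B⁆ := le_antisymm (commutator_mono k.WZ le_rfl)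
  (commutator_le.2 fun u hu b hb => by
    obtain ⟨w, hw, c, hc, rfl⟩ := k.decZ hu
    rw [comm_mul_left, mem_c_comm'.1 (cen_le_c (k.le hb) hc.2), mul_one, mul_inv_cancel, one_mul]
    exact commutator_mem_commutator hw hb)

theorem Gd.eqY (k : Gd G B L) (k' : Gd G B' L') (e : Z₂ L = Z₂ L') : ⁅Z₂ L, B'⁆ ≤ 𝐖ᵥ L := by
  obtain ⟨y, hy, y1⟩ := k'.exz
  have e1 := k'.eYz hy y1
  have yΩ := k'.YΩ hy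
  obtain ⟨l, hl, h⟩ := k.toΩ (e ▸ k'.ΩZ yΩ)
  replace h : y ∈ Ω₂ (cj l⁻¹ B) := by rwa [← cj_omegaOneCenter, mem_cj, inv_inv]
  replace k := k.conj' (inv_mem hl)
  generalize cj l⁻¹ B = B at k h
  rw [← e] at e1
  have l1 : zpowers y ⊔ ⁅Z₂ L, B⁆ ≤ Ω₂ B := sup_le (zpowers_le.2 h) k.YΩ
  have l2 := l1.trans k.ΩZ
  have a1 : ⁅Z₂ L, B⁆ ≤ zpowers y ⊔ ⁅Z₂ L, B⁆ := le_sup_right
  have a2 : ⁅Z₂ L, B'⁆ ≤ zpowers y ⊔ ⁅Z₂ L, B⁆ := e1.le.trans le_sup_left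
  have c0 : B ⊔ B' ≤ 𝐂 (zpowers y) := le_centralizer_comm.1 (zpowers_le.2 (by
    rw [centralizer_sup]; exact ⟨(mem_omegaOneCenter.1 h).2.1, (mem_omegaOneCenter.1 yΩ).2.1⟩))
  have r := pResidualOf_le 2 (B ⊔ B')
  have c1 : O² (B ⊔ B') ≤ 𝐂 (zpowers y ⊔ ⁅Z₂ L, B⁆ : Subgroup X) :=
    pResidualOf_le_centralizer_of_commutator_le (isPGroup_zpowers (p2' k'.pg (omegaOneCenter_le _ _ yΩ)).choose_spec)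
      (commutator_le_of_le_cmod (r.trans (sup_le (H29.le_cmod (le_normalizer_of_le_centralizer (le_sup_left.trans c0))
        ((commutator_eq_bot_iff.2 (l1.trans (omegaOneCenter_le_centralizer _ _))).le.trans bot_le))
        (H29.le_cmod (le_normalizer_of_le_centralizer (le_sup_right.trans c0)) ((commutator_mono l2 le_rfl).trans e1.le)))))
      (r.trans c0)
  have c2 : O² (B ⊔ B') ≤ 𝐂 (Z₂ L) := pResidualOf_le_centralizer_of_commutator_le (k.pg.to_le (l2.trans k.ZB))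
    (commutator_le_of_le_cmod (r.trans (sup_le (H29.le_cmod (H28.le_normalizer_of_commutator_le a1 l2) a1)
      (H29.le_cmod (H28.le_normalizer_of_commutator_le a2 l2) a2)))) c1
  have n : B ⊔ B' ≤ 𝐍 (Z₂ L) := sup_le (k.le.trans k.nZ) (e ▸ k'.le.trans k'.nZ)
  obtain ⟨R, hR, lR⟩ := exists_isSylowIn_ge k.pg (le_sup_left : B ≤ B ⊔ B')
  obtain ⟨g, hg, lg⟩ := hR.exists_le_conj k'.pg le_sup_right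
  obtain ⟨f, hf, x, hx, rfl⟩ := hR.exists_pResidualOf_mul hg
  rw [← cj_cj, cj_eq_self_of_mem hx] at lg
  have lG := sup_le k.BG k'.BG
  have e2 := k'.amb k'.tcZ k'.nZ (isPGroup_cj f hR.isPGroup) lg ((cj_le_of_mem hR.le (r hf)).trans lG)
    (e ▸ (cj_le_of_mem hR.le (r hf)).trans n)
  rw [← cj_bm, k.amb k.tcZ k.nZ hR.isPGroup lR (hR.le.trans lG) (hR.le.trans n)] at e2
  rw [← e2, ← cj_eq_self (n (r hf)), ← cj_commutator, cj_eq_self (centralizer_le_normalizer _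
    (centralizer_anti (k.YW.trans k.WZ) (c2 hf))), cj_eq_self (n (r hf))]
  exact k.YW

theorem Gd.eqW (k : Gd G B L) (k' : Gd G B' L') (e : Z₂ L = Z₂ L') : 𝐖ᵥ L = 𝐖ᵥ L' := by
  have key : ∀ {B B' L L' : Subgroup X}, Gd G B L → Gd G B' L' → Z₂ L = Z₂ L' → 𝐖ᵥ L' ≤ 𝐖ᵥ L := fun {B B' L L'} k k' e => by
    obtain ⟨l, hl, o⟩ := k'.oppE
    have a1 := k.eqY k' e
    have a2 := k.eqY (k'.conj' (k'.EL hl)) e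
    rw [← e]
    exact commutator_le_of_le_cmod (k'.EL.trans (o.ge.trans (sup_le (H29.le_cmod (H28.le_normalizer_of_commutator_le a1 k.WZ) a1)
      (H29.le_cmod (H28.le_normalizer_of_commutator_le a2 k.WZ) a2))))
  exact le_antisymm (key k' k e.symm) (key k k' e)

theorem Gd.eq_of_Q (k : Gd G B L) (k' : Gd G B L') (e : O₂ L = O₂ L') : 𝐖ᵥ L = 𝐖ᵥ L' :=
  k.eqW k' (le_antisymm (fun z hz => k'.mem_Z (k.ZB hz) (e ▸ k.ZC hz) (sq_of_ea k.ea hz))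
    fun z hz => k.mem_Z (k'.ZB hz) (e ▸ k'.ZC hz) (sq_of_ea k'.ea hz))

theorem Gd.tcU (k : Gd G B L) (hT : IsSylowIn 2 T G) (l : B ≤ T) : Tc G (𝐖ᵥ L ⊔ Ω₂ T) ∧ 𝐖ᵥ L ⊔ Ω₂ T ≤ Z₂ L ∧
    L ≤ 𝐍 (𝐖ᵥ L ⊔ Ω₂ T : Subgroup X) :=
  have l1 := sup_le k.WZ ((k.ΩΩ hT l).trans k.ΩZ)
  ⟨⟨k.pg.to_le (l1.trans k.ZB), l1.trans (k.ZB.trans k.BG), T, hT, le_sup_right⟩, l1, H28.le_normalizer_of_commutator_le
    ((commutator_mono l1 le_rfl).trans (k.ZL.trans le_sup_left)) le_rfl⟩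

theorem Gd.bmN (k : Gd G B L) (hT : IsSylowIn 2 T G) (h1 : B ≤ R) (hR : R ≤ T) (h : R ≤ 𝐍 (𝐖ᵥ L)) : bm 2 R = B :=
  let ⟨a, _, c⟩ := k.tcU hT (h1.trans hR)
  k.amb a c (hT.isPGroup.to_le hR) h1 (hR.trans hT.le) (le_normalizer_sup h ((le_normalizer_of_le hR).trans
    (normalizer_le_normalizer_omegaOneCenter 2 T)))

theorem Gd.nrmB (k : Gd G B L) (hT : IsSylowIn 2 T G) (l : B ≤ T) : T ⊓ 𝐍 (𝐖ᵥ L) ≤ 𝐍 B := by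
  conv_rhs => rw [← k.bmN hT (le_inf l (k.le.trans k.nW)) inf_le_left inf_le_right]
  exact nrm_bm le_normalizer

/-- pairs -/
structure Pa (G T B L₁ L₂ : Subgroup X) : Prop where
  syl : IsSylowIn 2 T G
  BT : B ≤ T
  k₁ : Gd G B L₁
  k₂ : Gd G B L₂
  nc : ¬ Z₂ L₁ ≤ O₂ L₂

namespace Pa
variable (r : Pa G T B L₁ L₂)
include r

theorem cr : Crit 2 L₁ B L₂ B := crit r.k₁.vx r.k₂.vx r.k₁.syl r.k₂.syl r.k₁.ZB r.k₂.ZB r.nc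
theorem symm : Pa G T B L₂ L₁ := ⟨r.syl, r.BT, r.k₂, r.k₁, r.cr.not_le r.k₁.vx r.k₁.syl⟩
theorem conj (g : X) : Pa G (cj g T) (cj g B) (cj g L₁) (cj g L₂) :=
  ⟨r.syl.conj_of_mem_normalizer (r.k₁.nG (mem_top g)), cj_mono g r.BT, r.k₁.conj g, r.k₂.conj g, by rw [← cj_Z, ← cj_pCoreOf, cj_le_cj]; exact r.nc⟩
theorem p1 : P1 2 L₁ B := r.cr.symm.p1 r.k₂.vx r.k₁.vx r.k₂.syl r.k₁.syl
theorem blk : ⁅O₂ L₁, O² L₁⁆ ≤ 𝐖ᵥ L₁ := let ⟨_, _, _, h⟩ := p1_p0 r.p1 r.k₁.rk r.k₁.syl; comm_res_le h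
theorem sqC (h : a ∈ O₂ L₁) : a * a ∈ 𝐂 (O² L₁) := sq_cen r.k₁.QW (fun w hw => sq_of_ea r.k₁.ea (r.k₁.WZ hw)) r.blk h
theorem RR (h1 : a ∈ O₂ L₁) (h2 : b ∈ O₂ L₁) : ⁅a, b⁆ ∈ 𝐂 (O² L₁) := by
  have h : ⁅⁅O₂ L₁, O² L₁⁆, O₂ L₁⁆ = ⊥ := commutator_eq_bot_iff.2 (r.blk.trans (le_centralizer_comm.1 r.k₁.QW))
  exact commutator_eq_bot_iff.1 (three h (by rwa [comm_comm (O² L₁)])) (commutator_mem_commutator h1 h2)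
theorem eY : ⁅Z₂ L₁, B⁆ = ⁅Z₂ L₂, B⁆ := r.cr.comm_eq r.k₁.vx r.k₂.vx r.k₁.syl r.k₂.syl
theorem eY' : ⁅Z₂ L₁, B⁆ = ⁅Z₂ L₁, Z₂ L₂⁆ := r.cr.comm r.k₁.vx r.k₁.syl
theorem memΩ (h1 : z ∈ Z₂ L₁) (h2 : z ∈ O₂ L₂) : z ∈ Ω₂ B := r.cr.inf.le ⟨h1, h2⟩
theorem ΩQ : Ω₂ B ≤ O₂ L₁ := r.k₁.ΩZ.trans r.k₁.ZQ
theorem supW : 𝐖ᵥ L₂ ⊔ O₂ L₁ = B := le_antisymm (sup_le (r.k₂.WZ.trans r.k₂.ZB) r.k₁.QB) (r.cr.sup.ge.trans (sup_le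
  (r.k₂.vx.Z_le.trans (sup_le_sup_left ((r.k₂.vx.C_le_Ω r.k₂.syl).trans r.ΩQ) _)) le_sup_right))
theorem WQ : ¬ 𝐖ᵥ L₂ ≤ O₂ L₁ := fun e => r.k₁.rk.ne r.k₁.syl (r.supW.ge.trans (sup_le e le_rfl))
theorem nc' : ¬ 𝐖ᵥ L₂ ≤ 𝐂 (𝐖ᵥ L₁) := fun e => r.WQ fun x hx => r.k₁.memQ' (r.k₂.ZB (r.k₂.WZ hx)) (e hx)
theorem decB (hb : b ∈ B) : ∃ w ∈ 𝐖ᵥ L₂, ∃ q ∈ O₂ L₁, w * q = b :=
  (mem_sup_of_le_normalizer ((r.k₂.WZ.trans r.k₂.ZB).trans (r.k₁.le.trans r.k₁.nQ))).1 (r.supW.ge hb)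
theorem decB' (hb : b ∈ B) : ∃ w₂ ∈ 𝐖ᵥ L₂, ∃ w₁ ∈ 𝐖ᵥ L₁, ∃ q ∈ O₂ L₁ ⊓ O₂ L₂, w₂ * (w₁ * q) = b := by
  obtain ⟨w, hw, q, hq, rfl⟩ := r.decB hb
  obtain ⟨w', hw', q', hq', rfl⟩ := r.symm.decB (r.k₁.QB hq)
  exact ⟨w, hw, w', hw', q', ⟨(mul_mem_cancel_left (r.k₁.ZQ (r.k₁.WZ hw'))).1 hq, hq'⟩, rfl⟩

theorem inv3 (h2 : a ∈ 𝐖ᵥ L₂) (h1 : b ∈ 𝐖ᵥ L₁) (h : c ∈ O₂ L₁) (h' : c ∈ 𝐂 (𝐖ᵥ L₂))
    (e : a * (b * c) * (a * (b * c)) = 1) : a * (b * c) ∈ 𝐂 (𝐖ᵥ L₁) ∨ a * (b * c) ∈ 𝐂 (𝐖ᵥ L₂) := by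
  rw [sq3 (sq_of_ea r.k₂.ea (r.k₂.WZ h2)) (sq_of_ea r.k₁.ea (r.k₁.WZ h1)) (mem_centralizer'.1 h' a h2)
    (mem_centralizer'.1 (r.k₁.QW h) b h1)] at e
  exact (r.k₁.fix (r.k₂.ZB (r.k₂.WZ h2)) (r.k₁.WZ h1) ((mul_mem_cancel_right (r.sqC h)).1 (e ▸ one_mem _))).imp
    (fun k => mul_mem (r.k₁.QW k) (mul_mem (r.k₁.QW (r.k₁.ZQ (r.k₁.WZ h1))) (r.k₁.QW h)))
    fun k => mul_mem (r.k₂.QW (r.k₂.ZQ (r.k₂.WZ h2))) (mul_mem (r.k₂.QW (r.symm.ΩQ k)) h')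

theorem inv_or (hb : b ∈ B) (e : b * b = 1) : b ∈ O₂ L₁ ∨ b ∈ O₂ L₂ := by
  obtain ⟨a, h2, w, h1, c, hc, rfl⟩ := r.decB' hb
  exact (r.inv3 h2 h1 hc.1 (r.k₂.QW hc.2) e).imp (r.k₁.memQ' hb) (r.k₂.memQ' hb)

theorem ea_or (hA : IsElementaryAbelian 2 A) (h : A ≤ B) : A ≤ O₂ L₁ ∨ A ≤ O₂ L₂ :=
  le_of_two fun a ha => r.inv_or (h ha) (sq_of_ea hA ha)

theorem max_or (hA : MaxAb 2 B A) : Z₂ L₁ ≤ A ∨ Z₂ L₂ ≤ A :=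
  (r.ea_or hA.ea hA.le).imp (r.k₁.Z_le_max hA) (r.k₂.Z_le_max hA)

theorem pu1 (k₀ : Gd G B L₀) (n : ¬ Z₂ L₁ ≤ O₂ L₀) :
    ¬ Z₂ L₀ ≤ O₂ L₁ ∧ O₂ L₂ ≤ O₂ L₀ := by
  have c := crit r.k₁.vx k₀.vx r.k₁.syl k₀.syl r.k₁.ZB k₀.ZB n
  have n' := c.not_le r.k₁.vx r.k₁.syl
  have z := (r.ea_or k₀.ea k₀.ZB).resolve_left n'
  refine ⟨n', fun u hu => k₀.memQ (r.k₂.QB hu) (mem_cen_iff.2 fun x hx => ?_)⟩
  have h1 := r.symm.RR (z hx) hu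
  obtain ⟨w, hw, q, hq, rfl⟩ := (mem_sup_of_le_normalizer (r.k₁.ZB.trans (k₀.le.trans k₀.nQ))).1 (c.sup'.ge (r.k₂.QB hu))
  rw [comm_mul_right, mem_cen_iff.1 (k₀.QC hq) x hx, mul_one, mul_inv_cancel, mul_one] at h1 ⊢
  obtain ⟨a, ha, b, hb, rfl⟩ := r.decB (k₀.ZB hx)
  rw [comm_mul_left, ← commutatorElement_inv w b, mem_cen_iff.1 (r.k₁.QC hb) w hw, inv_one, mul_one, mul_inv_cancel,
    one_mul, ← commutatorElement_inv] at h1 ⊢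
  rw [r.k₂.one (r.k₁.ZB hw) (r.k₂.WZ ha) (inv_mem_iff.1 h1), inv_one]

theorem pu (k₀ : Gd G B L₀) (n : ¬ Z₂ L₁ ≤ O₂ L₀) : 𝐖ᵥ L₀ = 𝐖ᵥ L₂ :=
  k₀.eq_of_Q r.k₂ (le_antisymm (Pa.pu1 ⟨r.syl, r.BT, r.k₁, k₀, n⟩ r.k₂ r.nc).2 (r.pu1 k₀ n).2)

theorem n₂ : T ⊓ 𝐍 (𝐖ᵥ L₁) ≤ 𝐍 (𝐖ᵥ L₂) := fun n hn => by
  refine mem_normalizer_iff_cj.2 ?_
  rw [cj_commutator, cj_Z, cj_pResidualOf]
  refine r.pu (r.k₂.conjN (r.k₁.nrmB r.syl r.BT hn)) fun c => r.symm.WQ ?_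
  rw [← cj_le_cj (g := n), cj_eq_self hn.2, cj_pCoreOf]; exact r.k₁.WZ.trans c

theorem adapt : ∃ K : Subgroup X, (∀ n ∈ T ⊓ 𝐂 (𝐖ᵥ L₁), n * n ∈ K) ∧
    (∀ n ∈ T ⊓ 𝐂 (𝐖ᵥ L₁), ∀ m ∈ T ⊓ 𝐂 (𝐖ᵥ L₁), ⁅n, m⁆ ∈ K) ∧ ¬ ⁅Z₂ L₁, B⁆ ≤ K := by
  have k := r.k₁
  obtain ⟨u1, u2, u3⟩ := k.tcU r.syl r.BT
  have TC : T ≤ 𝐂 (Ω₂ T) := le_centralizer_omegaOneCenter 2 T
  have DU : T ⊓ 𝐂 (𝐖ᵥ L₁) ≤ 𝐂 (𝐖ᵥ L₁ ⊔ Ω₂ T : Subgroup X) := by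
    rw [centralizer_sup]; exact le_inf inf_le_right (inf_le_left.trans TC)
  have s := H19.sol_mono (k.sol r.syl) (inf_le_inf inf_le_left (centralizer_anti le_sup_right) :
    G ⊓ 𝐍 (𝐖ᵥ L₁ ⊔ Ω₂ T : Subgroup X) ⊓ 𝐂 (𝐖ᵥ L₁ ⊔ Ω₂ T : Subgroup X) ≤ _)
  have WU : 𝐖ᵥ L₁ ≤ 𝐖ᵥ L₁ ⊔ Ω₂ T := le_sup_left
  generalize 𝐖ᵥ L₁ ⊔ Ω₂ T = U at u1 u2 u3 DU s WU
  obtain ⟨R, hR, lR⟩ := exists_isSylowIn_ge (r.syl.isPGroup.to_le inf_le_left) (inf_le_inf_right (𝐍 U) r.syl.le)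
  have e := k.amb u1 u3 hR.isPGroup ((le_inf r.BT (k.le.trans u3)).trans lR) (hR.le.trans inf_le_left)
    (hR.le.trans inf_le_right)
  obtain ⟨f, hf, o⟩ := k.oppE
  obtain ⟨K, a, b, c⟩ := adapt0 hR (e ▸ nrm_bm le_normalizer) u1.1 (le_inf u1.2.1 le_normalizer) inf_le_right s
    (fun w hw => sq_of_ea k.ea (k.WZ hw)) WU (k.EL hf) o (le_inf k.LG u3) k.syl
    ((le_inf inf_le_left (DU.trans (centralizer_le_normalizer _))).trans lR) DU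
    (le_normalizer_inf (le_normalizer_of_le r.BT) (le_normalizer_centralizer (k.le.trans k.nW)))
    (fun N h1 b h2 h3 h4 => (em (b ∈ O₂ L₁)).imp (fun c => p1_res_inf r.p1 k.vx k.syl ⟨h4, c⟩)
      fun c => k.res_le h1 h3 c h2)
    fun c => k.not_Y ((k.YW.trans WU).trans (le_centralizer_comm.1 c))
  exact ⟨K, a, b, fun d => k.not_Y ((le_inf (k.YW.trans WU) d).trans c)⟩

end Pa

end H4.SC
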