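import Cfsg.Agent.H4.SC7

/-! Strong closure of `V`. -/

set_option autoImplicit false
set_option linter.unusedVariables false
set_option linter.unusedSectionVars false
set_option linter.style.haveILetI false

namespace H4.SC
open H9 hiding zj
open Matrix hiding mul_inv_rev
open H29.PU hiding Rk1 Vx Crit crit Am Bad W5 T2 le_C_of_normal
open H4.Bm hiding Gd Gt GV Pa P2 DG St Ds Bt ext no_crit hull step1 phi
open Cfsg Subgroup H28 H28.GC MatrixGroups H29 H29.BB H4.PV Equiv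
open H4.OX (Od od_iff syl_sup syl_mem)
open scoped commutatorElement

universe u
variable {X : Type u} [Group X] [Finite X] {A A' B B' C D E E' F G H I J K L L' L₀ L₁ L₂ B₀ M N O P Q R S S' T T' U V W Y : Subgroup X}
  {a b c d e f g h l m n t u v w x y z : X} {ν : Subgroup X → Subgroup X}
variable {ρ ρ' μ l' a' z' : X}

namespace Ds
variable (s : Ds G T z l a ρ)
include s

theorem eq (k : DG G T z u) : u = a * (a * u) := by rw [← mul_assoc, s.da.vv, one_mul]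
theorem reb' (k : DG G T z u) : Ds G T z l u ρ := by
  have := s.all u k
  refine ⟨s.eq k ▸ s.reb this, s.eq k ▸ (fm_mul s.aN this).symm ▸ s.nz, fun w h => ?_⟩
  simpa [s.da.vi, k.vi, mul_assoc, ← mul_assoc a a, s.da.vv] using mul_mem (inv_mem this) (s.all w h)
theorem conj' (g : X) : Ds G (cj g T) (g * z * g⁻¹) (g * l * g⁻¹) (g * a * g⁻¹) (g * ρ * g⁻¹) :=
  ⟨s.conj g, by rw [← cj_c, ← cj_inf, ← cj_zpowers, ← cj_fm]; exact cj_mono g s.nz, fun u k => by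
    have := k.conj g⁻¹
    simp only [cj_inv_cj, inv_inv, mul_assoc, inv_mul_cancel_left, inv_mul_cancel, mul_one] at this
    rw [← cj_zpowers, mem_cj]; simpa only [mul_assoc, inv_mul_cancel_left] using s.all _ this⟩
theorem conjT' (h : g ∈ T) : Ds G T (g * z * g⁻¹) (g * l * g⁻¹) (g * a * g⁻¹) (g * ρ * g⁻¹) := by
  simpa only [cj_eq_self_of_mem h] using s.conj' g
theorem nl' : T ⊓ 𝐜 z ≤ 𝐍 (zpowers l) := fun _ h => (mem_fm.1 (s.nz h)).1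
theorem cen₁ (h : g ∈ T ⊓ 𝐜 z) (g2 : g * g = 1) (c : g ∈ 𝐜 ρ) : g ∈ 𝐜 a := s.cen ⟨h.1, s.nz h⟩ g2 c
theorem idx (h : A ≤ T ⊓ 𝐜 z) : (𝐜 ρ).relIndex A ≤ 2 := (idx_mono (h.trans s.nl')).trans (two_idx s.two)

theorem mx (hA : MaxAb 2 S A) (h : S ≤ T ⊓ 𝐜 z) (ha : a ∈ S) : ∃ A', MaxAb 2 S A' ∧ a ∈ A' ∧ A ⊓ 𝐜 ρ ≤ A' := by
  by_cases c : a ∈ A
  · exact ⟨A, hA, c, inf_le_left⟩
  have l : 𝐜 ρ ⊓ A ≤ 𝐂 (zpowers a) := fun x hx => centralizer_zpowers a ▸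
    s.cen₁ (h (hA.le hx.2)) (sq_of_ea hA.ea hx.2) hx.1
  exact ⟨_, maxAb_sup_zpowers hA ha (sq_pow s.da.vv) c ((idx_le_of l).trans (s.idx (hA.le.trans h))),
    mem_sup_right (mem_zpowers a), le_sup_of_le_left fun x hx => ⟨hx.1, l ⟨hx.2, hx.1⟩⟩⟩

theorem memJ (k : DG G T z u) : u ∈ JJ 2 (T ⊓ 𝐜 z) :=
  let ⟨_, h⟩ := exists_maxAb 2 (T ⊓ 𝐜 z); let ⟨_, a, b, _⟩ := (s.reb' k).mx h le_rfl ⟨k.vT, k.vz⟩; a.le_JJ b

theorem lJ : zpowers l ≤ JJ 2 (T ⊓ 𝐜 z) := fun μ h => (mul_mem_cancel_left (s.memJ s.da)).1 (s.memJ (s.dg μ h))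

theorem nz' (s' : St G T z' l' a' ρ') (n : z ≠ z') : z ∉ zpowers l' := fun h =>
  ((mem_z2 s'.da.zz).1 (s'.c1 h s.da.zz)).elim s.da.z1 n

theorem comm2 (s' : Ds G T z' l' a' ρ') (n : z ≠ z') (h1 : a' ∈ 𝐜 z) (h2 : ρ ∈ 𝐜 z') : a' ∈ 𝐜 a :=
  s.cen₁ ⟨s'.da.vT, h1⟩ s'.da.vv ((s.c4 (s.nl' ⟨s'.da.vT, h1⟩)).resolve_right fun e => s.nz' s'.toSt n
    (e ▸ commutatorElement_mem_comm.1 (mem_fm.1 (s'.nz ⟨s.lT s.hρ, h2⟩)).2))

theorem far (hx : x ∈ T ⊓ 𝐍 (JJ 2 (T ⊓ 𝐜 z))) (n : x ∉ 𝐜 z) (k : DG G T z u) (k' : DG G T z v) :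
    x * u * x⁻¹ ∈ 𝐜 v := by
  have l := (JJ_le 2 (T ⊓ 𝐜 z)).trans inf_le_right
  exact (s.reb' k').comm2 ((s.reb' k).conjT' hx.1) (fun e => n (mem_c''.2 e.symm))
    (l (conj_mem_of_mem_normalizer hx.2 (s.memJ k))) (cj_c x z ▸ (cj_eq_self hx.2).ge.trans (cj_mono x l) (s.lJ s.hρ))

theorem JT : JJ 2 T = JJ 2 (T ⊓ 𝐜 z) := JJ_of s.da.pg inf_le_left fun A hA q =>
  le_inf (hA.le.trans inf_le_left) fun x hx => by_contra fun n => by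
  have AT := hA.le.trans inf_le_left
  have far := fun {x u v} hx => s.far (x := x) (u := u) (v := v) (hA.le hx)
  have farl : ∀ {x v}, x ∈ A → x ∉ 𝐜 z → DG G T z v → ∀ μ ∈ zpowers l, x * μ * x⁻¹ ∈ 𝐜 v := fun {x v} hx n k μ hμ =>
    (mul_mem_cancel_left (far hx n s.da k)).1 (by rw [conj_mul]; exact far hx n (s.dg μ hμ) k)
  have zJ : z ∈ zj 2 (T ⊓ 𝐜 z) := Ω_le_zj dvd_rfl (mem_omegaOneCenter.2 ⟨⟨s.da.zT, self_mem_c z⟩,
    le_c_iff.1 inf_le_right, sq_pow s.da.zz⟩)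
  have i1 : (𝐜 z).relIndex A ≤ 2 := by
    obtain ⟨H, h1, h2, -⟩ := s.da.f0
    refine two_idx (two_q zJ q h1 fun y hy n => ?_)
    rw [← s.ρρ, ← conj_mul]
    have := farl hy n s.da ρ s.hρ
    exact h2 _ ⟨conj_mem_of_mem_normalizer (le_normalizer (AT hy)) (s.lT s.hρ), this, (JJ_le 2 _).trans inf_le_right
      (conj_mem_of_mem_normalizer (hA.le hy).2 (s.lJ s.hρ))⟩
  have nx : ∀ {u}, DG G T z u → u ∉ 𝐜 x := fun k c => s.ncen k (s.nz ⟨k.vT, k.vz⟩) (mem_c_symm.1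
    ((mul_mem_cancel_left (mem_c_symm.1 (mem_c'.1 c ▸ far hx n k s.da))).1
      (mem_c_symm.1 (mem_c'.1 c ▸ far hx n k (s.dg ρ s.hρ)))))
  have x2 := sq_of_ea hA.ea hx
  have key : ∀ {a}, Ds G T z l a ρ → (𝐜 z ⊓ A ≤ 𝐜 ρ ∨ ¬ 𝐜 z ⊓ A ≤ 𝐜 a) → False := fun {a} s h => by
    have k := s.da
    have s' := s.conjT' (AT hx)
    have k' := s'.da
    have c1 := far hx n k k
    have c2 := farl hx n k z s.zl
    have c3 := (JJ_le 2 _).trans inf_le_right (conj_mem_of_mem_normalizer (hA.le hx).2 (s.memJ k))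
    have c4 := (JJ_le 2 _).trans inf_le_right (conj_mem_of_mem_normalizer (hA.le hx).2 (s.lJ s.zl))
    let U := closure {a, z, x * a * x⁻¹, x * z * x⁻¹}
    have m : ∀ y, y ∈ 𝐜 a → y ∈ 𝐜 z → y ∈ 𝐜 (x * a * x⁻¹) → y ∈ 𝐜 (x * z * x⁻¹) → y ∈ 𝐂 U := fun y a b c d =>
      le_c_iff.1 ((closure_le _).2 (by
        rintro _ (rfl | rfl | rfl | rfl) <;> exact mem_c_symm.1 ‹_›))
    have UJ : U ≤ JJ 2 (T ⊓ 𝐜 z) := (closure_le _).2 (by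
      rintro _ (rfl | rfl | rfl | rfl)
      exacts [s.memJ k, s.lJ s.zl, conj_mem_of_mem_normalizer (hA.le hx).2 (s.memJ k),
        conj_mem_of_mem_normalizer (hA.le hx).2 (s.lJ s.zl)])
    have UU : U ≤ 𝐂 U := (closure_le _).2 (by
      rintro _ (rfl | rfl | rfl | rfl)
      exacts [m _ (self_mem_c _) k.vz (mem_c_symm.1 c1) (mem_c_symm.1 c2), m _ (mem_c_symm.1 k.vz) (self_mem_c _)
        (mem_c_symm.1 c3) (mem_c_symm.1 c4), m _ c1 c3 (self_mem_c _) k'.vz, m _ c2 c4 (mem_c_symm.1 k'.vz)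
        (self_mem_c _)])
    have o := off_idx hA (UJ.trans (le_inf ((JJ_le 2 _).trans inf_le_left) le_normalizer)) (ea_closure
      (fun a ha b hb => mem_centralizer'.1 (UU (subset_closure hb)) a (subset_closure ha)) (by
        rintro _ (rfl | rfl | rfl | rfl)
        exacts [sq_pow k.vv, sq_pow k.zz, sq_pow k'.vv, sq_pow k'.zz]))
    have cx : ∀ y ∈ A, ∀ {w}, y ∈ 𝐜 w → y ∈ 𝐜 (x * w * x⁻¹) := fun y hy w c =>
      conj_eq_of_cen hx (hA.comm hy) ▸ conj_mem_c.2 c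
    have l0 : 𝐜 ρ ⊓ (𝐜 z ⊓ A) ≤ 𝐂 U := fun y hy =>
      have := s.cen₁ ⟨AT hy.2.2, hy.2.1⟩ (sq_of_ea hA.ea hy.2.2) hy.1
      m y this hy.2.1 (cx y hy.2.2 this) (cx y hy.2.2 hy.2.1)
    have i2 := (BB.relIndex_le_mul (𝐂 U) (𝐜 z) A).trans (Nat.mul_le_mul (idx_le_of l0) i1)
    have u1 : a ∈ U := subset_closure (by simp)
    have u2 : x * a * x⁻¹ ∈ U := subset_closure (by simp)
    have i3 : 3 ≤ (𝐜 x).relIndex U := three_le u1 (subset_closure (by simp)) (nx k) (mt mem_c_symm.1 n)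
      (k.vi.symm ▸ nx (k.mulz (mem_zpowers z)))
    have l1 : A ⊓ U ≤ 𝐜 x := inf_le_left.trans (hA.comm.trans (cen_le_c hx))
    rcases h with h | h
    · have := idx_le_of l1
      rw [relIndex_eq_one.2 h] at i2
      omega
    have i4 := s.idx (A := 𝐜 z ⊓ A) (le_inf (inf_le_right.trans AT) inf_le_left)
    have i5 := idx_mul l1 (Y' := zpowers (a * (x * a * x⁻¹))) (zpowers_le.2 ⟨mem_c'.2 (by
      rw [← conj_mul, show x * (x * a * x⁻¹) * x⁻¹ = x * x * a * (x * x)⁻¹ by group, x2, one_mul, inv_one, mul_one,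
        mem_c.1 c1]), mul_mem u1 u2⟩)
    have i6 : 2 ≤ A.relIndex (zpowers (a * (x * a * x⁻¹))) := two_le fun e => h fun b hb => by
      have e1 := conj_eq_of_cen hb.2 (hA.comm (e (mem_zpowers _)))
      rw [← conj_mul, conj_eq_comm k.vv, conj_eq_comm k'.vv, mul_assoc, mul_left_cancel_iff, ← mul_assoc,
        ← eq_mul_inv_iff_mul_eq, ← eq_mul_inv_iff_mul_eq] at e1
      have e2 : ⁅a, b⁆ ∈ zpowers (x * l * x⁻¹) := e1 ▸ conj_mem_of_mem_normalizer s'.aN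
        (inv_mem (mem_fm.1 (s'.nz ⟨AT hb.2, cx b hb.2 hb.1⟩)).2)
      refine mem_c_comm.2 (((mem_z2 k.zz).1 (s.c1' (mem_fm.1 (s.nz ⟨AT hb.2, hb.1⟩)).2 ?_)).resolve_right
        fun e => s.nz' s'.toSt (fun e => n (mem_c''.2 e.symm)) (e ▸ e2))
      rw [← cj_zpowers] at e2
      obtain ⟨y, hy, e⟩ := e2
      exact e ▸ farl hx n k y hy
    nlinarith
  by_cases c : 𝐜 z ⊓ A ≤ 𝐜 a
  · exact key (s.reb' (s.dg ρ s.hρ)) (or_iff_not_imp_right.2 fun e y hy => mem_c_symm.1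
      ((mul_mem_cancel_left (mem_c_symm.1 (c hy))).1 (mem_c_symm.1 (not_not.1 e hy))))
  · exact key s (.inr c)

end Ds

theorem orb (hY : Y ≤ 𝐂 Y) (nY : A ≤ 𝐍 Y) (hz : z ∈ Y) (h1 : z ∉ H) (h2 : ∀ g ∈ A, g * z * g⁻¹ ≠ z → g * z * g⁻¹ ∈ H) :
    Y ⊓ 𝐂 A ≠ ⊥ := fun e => by
  classical
  have := le_centralizer_self_iff.1 hY
  letI : CommGroup Y := { mul_comm := fun a b => Subtype.ext (mem_centralizer'.1 (hY b.2) a a.2) }
  have := Fintype.ofFinite Y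
  let s : Finset Y := Finset.univ.filter fun y => ∃ g ∈ A, g * z * g⁻¹ = y
  have m : (⟨z, hz⟩ : Y) ∈ s := Finset.mem_filter.2 ⟨Finset.mem_univ _, 1, one_mem _, by simp⟩
  have p : (∏ y ∈ s, y) = 1 := Subtype.ext (mem_bot.1 (e.le ⟨(∏ y ∈ s, y).2, mem_centralizer'.2 fun g hg => by
    let σ := Y.normalizerMonoidHom ⟨g, nY hg⟩
    have : σ (∏ y ∈ s, y) = ∏ y ∈ s, y := by
      rw [map_prod]
      refine Finset.prod_equiv σ.toEquiv (fun y => ?_) fun _ _ => rfl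
      simp only [s, Finset.mem_filter, Finset.mem_univ, true_and]
      refine ⟨fun ⟨a, ha, e⟩ => ⟨g * a, mul_mem hg ha, ?_⟩, fun ⟨a, ha, e⟩ => ⟨g⁻¹ * a, mul_mem (inv_mem hg) ha, ?_⟩⟩
      · change _ = g * y * g⁻¹
        rw [← e]; group
      · change _ = g * y * g⁻¹ at e
        rw [show g⁻¹ * a * z * (g⁻¹ * a)⁻¹ = g⁻¹ * (a * z * a⁻¹) * g by group, e]; group
    exact mul_inv_eq_iff_eq_mul.1 (congrArg Subtype.val this)⟩))
  rw [← Finset.mul_prod_erase s _ m, mul_eq_one_iff_eq_inv] at p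
  refine h1 (show (⟨z, hz⟩ : Y) ∈ H.subgroupOf Y from p ▸ inv_mem (Subgroup.prod_mem _ fun y hy => ?_))
  obtain ⟨n, -, g, hg, e⟩ := by simpa only [s, Finset.mem_erase, Finset.mem_filter] using hy
  exact mem_subgroupOf.2 (e ▸ h2 g hg fun c => n (Subtype.ext (e.symm.trans c)))

theorem DG.false (k : DG G T z v) (nT : A ≤ 𝐍 T) (f : T ⊓ 𝐂 A = ⊥) : False := by
  obtain ⟨l, ρ, s⟩ := k.ds
  obtain ⟨H, h1, h2, -⟩ := k.f0
  have cj' : ∀ g ∈ A, Ds G T (g * z * g⁻¹) (g * l * g⁻¹) (g * v * g⁻¹) (g * ρ * g⁻¹) := fun g hg => by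
    simpa only [cj_eq_self (nT hg)] using s.conj' g
  have j : ∀ {z l a ρ z' l' a' ρ'}, Ds G T z l a ρ → Ds G T z' l' a' ρ' → JJ 2 (T ⊓ 𝐜 z') ≤ 𝐜 z := fun s s' =>
    s'.JT ▸ s.JT.le.trans ((JJ_le 2 _).trans inf_le_right)
  have l1 : nclIn (zpowers z) A ≤ T := nclIn_le (zpowers_le.2 k.zT) nT
  refine orb (Y := nclIn (zpowers z) A) (nclIn_le_iff.2 fun g hg => le_centralizer_comm.1 (nclIn_le_iff.2 fun a ha => ?_))
    (le_normalizer_nclIn _ _) (le_nclIn _ _ (mem_zpowers z)) h1 (fun g hg n => ?_)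
    (le_bot_iff.1 ((inf_le_inf_right _ l1).trans f.le))
  · rw [cj_zpowers, cj_zpowers, centralizer_zpowers, zpowers_le]
    exact j (cj' g hg) (cj' a ha) ((cj' a ha).lJ (cj' a ha).zl)
  · have s' := cj' g hg
    have c : ∀ {u}, DG G T (g * z * g⁻¹) u → u ∈ 𝐜 v := fun d =>
      s.comm2 (s'.reb' d) n.symm (j s s' (s'.memJ d)) (j s' s (s.lJ s.hρ))
    rw [← s'.ρρ]
    exact h2 _ ⟨s'.lT s'.hρ, (mul_mem_cancel_left (c s'.da)).1 (c (s'.dg _ s'.hρ)), j s s' (s'.lJ s'.hρ)⟩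

theorem sc : H8.FS.SC.{u} := fun X _ _ G S V A h t ht g hg h1 => by_contra fun h2 => by
  obtain ⟨ν, hh, rfl⟩ := exists_hh h
  obtain ⟨T, U, b⟩ := step0 hh (hh.sy h.syl g) h.syl fun c => h2 (c ⟨hh.equi g S ▸ conj_mem_cj ht, h1⟩)
  obtain ⟨B, L, k, nD⟩ := step1 hh b
  obtain ⟨L', k', n⟩ := k.partner nD
  obtain ⟨T, hT, l⟩ := exists_isSylowIn_ge k.pg k.BG
  obtain ⟨z, a, b⟩ := k'.exz
  have r : P2 G T B L' L z := ⟨⟨hT, l, k', k, n⟩, a, b⟩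
  obtain ⟨v, c, d⟩ := r.exW
  obtain ⟨A, hA⟩ := hh.hv T hT
  exact DG.false ⟨_, _, _, r, c, d⟩ hA.nA hA.fpf

end H4.SC
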