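import Cfsg.Agent.H4.SuzB

/-! Suzuki 2-groups, II: field coordinates on invariant sections, commutator pairings, squaring
maps, invariant abelian subgroups. -/

set_option autoImplicit false

namespace H4
open Subgroup Module
open scoped commutatorElement

variable {P : Type*} [Group P] {k : MulAut P} {A B U V W X D : Subgroup P}
  {F : Type*} [Field F] {c : P → F} {m l : F}

/-- `c` identifies `U / W` with the additive group of `F`, and `k` acts as multiplication by the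
generator `m` -/
structure Coord (k : MulAut P) (U W : Subgroup P) (c : P → F) (m : F) : Prop where
  le : W ≤ U
  inv : Inv k U
  add : ∀ x ∈ U, ∀ y ∈ U, c (x * y) = c x + c y
  ker : ∀ x ∈ U, c x = 0 ↔ x ∈ W
  surj : ∀ e, ∃ x ∈ U, c x = e
  equi : ∀ x ∈ U, c (k x) = m * c x
  gen : Gen m

namespace Coord
variable (h : Coord k U W c m)
include h

theorem one : c 1 = 0 := (h.ker 1 U.one_mem).2 W.one_mem
theorem zero {x : P} (hx : x ∈ W) : c x = 0 := (h.ker x (h.le hx)).2 hx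

theorem neg {x : P} (hx : x ∈ U) : c x⁻¹ = -c x := by
  have := h.add x hx x⁻¹ (U.inv_mem hx)
  rw [mul_inv_cancel, h.one] at this
  exact (neg_eq_of_add_eq_zero_right this.symm).symm

theorem inv' [CharP F 2] {x : P} (hx : x ∈ U) : c x⁻¹ = c x := by rw [h.neg hx, CharTwo.neg_eq]

theorem eq_iff {x y : P} (hx : x ∈ U) (hy : y ∈ U) : c x = c y ↔ x * y⁻¹ ∈ W := by
  rw [← h.ker _ (U.mul_mem hx (U.inv_mem hy)), h.add _ hx _ (U.inv_mem hy), h.neg hy,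
    ← sub_eq_add_neg, sub_eq_zero]

theorem exists_notMem : ∃ x ∈ U, x ∉ W := by
  obtain ⟨x, hx, e⟩ := h.surj 1
  exact ⟨x, hx, fun hw => one_ne_zero (e.symm.trans (h.zero hw))⟩

theorem conj (hc : ∀ d ∈ U, ∀ g, ⁅d, g⁆ ∈ W) {d : P} (hd : d ∈ U) (g : P) :
    g * d * g⁻¹ ∈ U ∧ c (g * d * g⁻¹) = c d := by
  have e : g * d * g⁻¹ = d * ⁅d⁻¹, g⁆ := by simp only [commutatorElement_def]; group
  have h1 := hc _ (U.inv_mem hd) g
  rw [e, h.add _ hd _ (h.le h1), h.zero h1, add_zero]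
  exact ⟨U.mul_mem hd (h.le h1), rfl⟩

theorem comm_left (hc : ∀ d ∈ U, ∀ g, ⁅d, g⁆ ∈ W) {x x' y : P} (h1 : ⁅x, y⁆ ∈ U)
    (h2 : ⁅x', y⁆ ∈ U) : c ⁅x * x', y⁆ = c ⁅x, y⁆ + c ⁅x', y⁆ := by
  have e : ⁅x * x', y⁆ = x * ⁅x', y⁆ * x⁻¹ * ⁅x, y⁆ := by simp only [commutatorElement_def]; group
  rw [e, h.add _ (h.conj hc h2 x).1 _ h1, (h.conj hc h2 x).2, add_comm]

theorem comm_right (hc : ∀ d ∈ U, ∀ g, ⁅d, g⁆ ∈ W) {x y y' : P} (h1 : ⁅x, y⁆ ∈ U)
    (h2 : ⁅x, y'⁆ ∈ U) : c ⁅x, y * y'⁆ = c ⁅x, y⁆ + c ⁅x, y'⁆ := by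
  have e : ⁅x, y * y'⁆ = ⁅x, y⁆ * (y * ⁅x, y'⁆ * y⁻¹) := by simp only [commutatorElement_def]; group
  rw [e, h.add _ h1 _ (h.conj hc h2 y).1, (h.conj hc h2 y).2]

theorem comm_symm [CharP F 2] {x y : P} (h1 : ⁅x, y⁆ ∈ U) : c ⁅y, x⁆ = c ⁅x, y⁆ := by
  rw [← commutatorElement_inv, h.inv' h1]

theorem lift {g : P → F} (hg : ∀ x ∈ U, ∀ w ∈ W, g (w * x) = g x) :
    ∃ G : F → F, ∀ x ∈ U, G (c x) = g x := by
  choose s hs1 hs2 using h.surj
  refine ⟨fun e => g (s e), fun x hx => ?_⟩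
  have := hg x hx _ ((h.eq_iff (hs1 _) hx).1 (hs2 _))
  simpa using this

theorem map (σ : F ≃+* F) : Coord k U W (fun x => σ (c x)) (σ m) where
  le := h.le
  inv := h.inv
  add x hx y hy := by rw [h.add x hx y hy, map_add]
  ker x hx := by rw [map_eq_zero, h.ker x hx]
  surj e := by
    obtain ⟨x, hx, e1⟩ := h.surj (σ.symm e)
    exact ⟨x, hx, by simp [e1]⟩
  equi x hx := by rw [h.equi x hx, map_mul]
  gen := h.gen.map σ

theorem smul {t : F} (ht : t ≠ 0) : Coord k U W (fun x => t * c x) m where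
  le := h.le
  inv := h.inv
  add x hx y hy := by rw [h.add x hx y hy, mul_add]
  ker x hx := by rw [mul_eq_zero, h.ker x hx]; simp [ht]
  surj e := by
    obtain ⟨x, hx, e1⟩ := h.surj (t⁻¹ * e)
    exact ⟨x, hx, by simp [e1, ht]⟩
  equi x hx := by rw [h.equi x hx]; ring
  gen := h.gen

/-- restriction to an invariant supplement -/
theorem restrict [W.Normal] (hB : Inv k B) (hle : B ≤ U) (hs : W ⊔ B = U) :
    Coord k B (W ⊓ B) c m where
  le := inf_le_right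
  inv := hB
  add x hx y hy := h.add x (hle hx) y (hle hy)
  ker x hx := by rw [h.ker x (hle hx), mem_inf]; simp [hx]
  surj e := by
    obtain ⟨x, hx, rfl⟩ := h.surj e
    obtain ⟨w, hw, b, hb, rfl⟩ := mem_sup_of_normal_left.1 (hs ▸ hx)
    exact ⟨b, hb, by rw [h.add _ (h.le hw) _ (hle hb), h.zero hw, zero_add]⟩
  equi x hx := h.equi x (hle hx)
  gen := h.gen

theorem relIndex_eq : W.relIndex U = Nat.card F := by
  let f : U →* Multiplicative F :=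
    { toFun := fun x => Multiplicative.ofAdd (c x)
      map_one' := congrArg Multiplicative.ofAdd h.one
      map_mul' := fun x y => congrArg Multiplicative.ofAdd (h.add x x.2 y y.2) }
  have hk : W.subgroupOf U = f.ker := by
    ext x
    rw [mem_subgroupOf, MonoidHom.mem_ker, ← h.ker x x.2]
    rfl
  have hs : f.range = ⊤ := MonoidHom.range_eq_top.2 fun e => by
    obtain ⟨x, hx, e1⟩ := h.surj (Multiplicative.toAdd e)
    exact ⟨⟨x, hx⟩, congrArg Multiplicative.ofAdd e1⟩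
  rw [relIndex, hk, index_ker, hs, card_top]
  rfl

end Coord

/-- the commutator pairing of two sections -/
theorem comm_pairing {U₁ W₁ U₂ W₂ : Subgroup P} {c₁ c₂ : P → F} {m₁ m₂ : F}
    (h₁ : Coord k U₁ W₁ c₁ m₁) (h₂ : Coord k U₂ W₂ c₂ m₂) (h : Coord k D W c l)
    (ha : ∀ x ∈ U₁, ∀ y ∈ U₂, ⁅x, y⁆ ∈ D) (hc : ∀ d ∈ D, ∀ g, ⁅d, g⁆ ∈ W)
    (z₁ : ∀ x ∈ W₁, ∀ y ∈ U₂, ⁅x, y⁆ ∈ W) (z₂ : ∀ x ∈ U₁, ∀ y ∈ W₂, ⁅x, y⁆ ∈ W) :
    ∃ T : F →+ F →+ F, (∀ x ∈ U₁, ∀ y ∈ U₂, T (c₁ x) (c₂ y) = c ⁅x, y⁆) ∧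
      ∀ a u, T (m₁ * a) (m₂ * u) = l * T a u := by
  choose s₁ hs₁ hs₁' using h₁.surj
  choose s₂ hs₂ hs₂' using h₂.surj
  have k₁ : ∀ x ∈ U₁, ∀ y ∈ U₂, c ⁅s₁ (c₁ x), y⁆ = c ⁅x, y⁆ := fun x hx y hy => by
    have hw := (h₁.eq_iff (hs₁ _) hx).1 (hs₁' _)
    have := h.comm_left hc (ha _ (h₁.le hw) y hy) (ha x hx y hy)
    rwa [inv_mul_cancel_right, h.zero (z₁ _ hw y hy), zero_add] at this
  have k₂ : ∀ x ∈ U₁, ∀ y ∈ U₂, c ⁅x, s₂ (c₂ y)⁆ = c ⁅x, y⁆ := fun x hx y hy => by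
    have hw := (h₂.eq_iff (hs₂ _) hy).1 (hs₂' _)
    have := h.comm_right hc (ha x hx _ (h₂.le hw)) (ha x hx y hy)
    rwa [inv_mul_cancel_right, h.zero (z₂ x hx _ hw), zero_add] at this
  have key : ∀ x ∈ U₁, ∀ y ∈ U₂, c ⁅s₁ (c₁ x), s₂ (c₂ y)⁆ = c ⁅x, y⁆ := fun x hx y hy => by
    rw [k₁ x hx _ (hs₂ _), k₂ x hx y hy]
  refine ⟨AddMonoidHom.mk' (fun a => AddMonoidHom.mk' (fun u => c ⁅s₁ a, s₂ u⁆) fun u v => ?_)
    fun a b => AddMonoidHom.ext fun u => ?_, key, fun a u => ?_⟩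
  · have := k₂ _ (hs₁ a) _ (U₂.mul_mem (hs₂ u) (hs₂ v))
    rwa [h₂.add _ (hs₂ u) _ (hs₂ v), hs₂', hs₂', h.comm_right hc (ha _ (hs₁ a) _ (hs₂ u))
      (ha _ (hs₁ a) _ (hs₂ v))] at this
  · have := k₁ _ (U₁.mul_mem (hs₁ a) (hs₁ b)) _ (hs₂ u)
    rwa [h₁.add _ (hs₁ a) _ (hs₁ b), hs₁', hs₁', h.comm_left hc (ha _ (hs₁ a) _ (hs₂ u))
      (ha _ (hs₁ b) _ (hs₂ u))] at this
  · have := key _ (h₁.inv _ (hs₁ a)) _ (h₂.inv _ (hs₂ u))
    rwa [h₁.equi _ (hs₁ a), h₂.equi _ (hs₂ u), hs₁', hs₂', ← map_commutatorElement,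
      h.equi _ (ha _ (hs₁ a) _ (hs₂ u))] at this

/-- the squaring map of a section -/
theorem sq_map [CharP F 2] {W' : Subgroup P} {c' : P → F} (h : Coord k U W c m)
    (h' : Coord k D W' c' l) (hs : ∀ x ∈ U, x * x ∈ D) (hc : ∀ d ∈ D, ∀ g, ⁅d, g⁆ ∈ W')
    (z₀ : ∀ x ∈ W, x * x ∈ W') (z : ∀ x ∈ W, ∀ y ∈ U, ⁅x, y⁆ ∈ W') :
    ∃ (Q : F → F) (B : F →+ F →+ F), (∀ x ∈ U, Q (c x) = c' (x * x)) ∧
      (∀ x ∈ U, ∀ y ∈ U, B (c x) (c y) = c' ⁅x, y⁆) ∧ (∀ x y, Q (x + y) = Q x + Q y + B x y) ∧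
      ∀ x, Q (m * x) = l * Q x := by
  have ha : ∀ x ∈ U, ∀ y ∈ U, ⁅x, y⁆ ∈ D := fun x hx y hy => comm_mem_of_sq hs hx hy
  obtain ⟨B, hB, -⟩ := comm_pairing h h h' ha hc z fun x hx y hy => by
    rw [← commutatorElement_inv]; exact W'.inv_mem (z y hy x hx)
  have key : ∀ x ∈ U, ∀ y ∈ U, c' (x * y * (x * y)) = c' (x * x) + c' (y * y) + c' ⁅x, y⁆ :=
    fun x hx y hy => by
      have e : x * y * (x * y) = x * ⁅y, x⁆ * x⁻¹ * (x * x) * (y * y) := by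
        simp only [commutatorElement_def]; group
      have h1 := h'.conj hc (ha y hy x hx) x
      rw [e, h'.add _ (D.mul_mem h1.1 (hs x hx)) _ (hs y hy), h'.add _ h1.1 _ (hs x hx), h1.2,
        h'.comm_symm (ha x hx y hy)]
      ring
  obtain ⟨Q, hQ⟩ := h.lift (g := fun x => c' (x * x)) fun x hx w hw => by
    simp only [key w (h.le hw) x hx, h'.zero (z₀ w hw), h'.zero (z w hw x hx), zero_add, add_zero]
  refine ⟨Q, B, hQ, hB, fun a b => ?_, fun a => ?_⟩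
  · obtain ⟨x, hx, rfl⟩ := h.surj a
    obtain ⟨y, hy, rfl⟩ := h.surj b
    rw [← h.add x hx y hy, hQ _ (U.mul_mem hx hy), hQ x hx, hQ y hy, hB x hx y hy, key x hx y hy]
  · obtain ⟨x, hx, rfl⟩ := h.surj a
    rw [← h.equi x hx, hQ _ (h.inv x hx), hQ x hx, ← map_mul, h'.equi _ (hs x hx)]

theorem quad_eq' [Finite F] [CharP F 2] {Q : F → F} (B : F →+ F →+ F)
    (hQ : ∀ x y, Q (x + y) = Q x + Q y + B x y) (hm : Gen m) (h : ∀ x, Q (m * x) = l * Q x)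
    {x : F} (h0 : Q x ≠ 0) :
    Q 1 ≠ 0 ∧ ∃ σ τ : F ≃+* F, σ m * τ m = l ∧ ∀ x, Q x = Q 1 * σ x * τ x := by
  have h1 : Q 1 ≠ 0 := fun e => by
    obtain ⟨j, rfl⟩ := hm.2 x fun e => h0 (by simpa [e] using hQ 0 0)
    exact h0 (by simpa [e] using equiv_pow h j 1)
  exact ⟨h1, quad_eq B hQ hm h h1⟩

namespace Suz
variable [Finite P] (h : Suz k)
include h

theorem exists_coord' (hlt : W < U) (hU : Inv k U) (hW : Inv k W) (hsq : ∀ x ∈ U, x * x ∈ W)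
    (hirr : ∀ X, Inv k X → W ≤ X → X ≤ U → X = W ∨ X = U) :
    ∃ (F : Type) (_ : Field F) (_ : Fintype F) (_ : CharP F 2) (c : P → F) (m : F),
      Nat.card F = Nat.card (Om P) ∧ Coord k U W c m := by
  obtain ⟨E, _, _, π, ρ, T, hs, hT⟩ := exists_secT hlt.le hU hW hsq
  have := hs.finite
  obtain ⟨u, hu, huW⟩ := SetLike.exists_of_lt hlt
  have hirr' : ∀ S : Submodule (ZMod 2) E, (∀ a ∈ ({T} : Set (End (ZMod 2) E)), ∀ v ∈ S, a v ∈ S) →
      S = ⊥ ∨ S = ⊤ := fun S hS => by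
    refine (hirr (hs.grp S) (fun x hx => ⟨hU x hx.1, ?_⟩) (hs.le_grp S) (hs.grp_le S)).imp
      (fun e => hs.grp_inj (e.trans hs.grp_bot.symm)) fun e => hs.grp_inj (e.trans hs.grp_top.symm)
    rw [hT x hx.1]; exact hS T rfl _ hx.2
  obtain ⟨F, _, _, _, f, hf1, hf⟩ := H0.exists_field_model {T} (by rintro _ rfl _ rfl; rfl) hirr'
    (v₀ := π u) (fun e => huW ((hs.ker u hu).1 e))
  have h2 : CharP F 2 := charP_of_injective_algebraMap (algebraMap (ZMod 2) F).injective 2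
  set μ := f (T (π u))
  have e1 : ∀ x ∈ U, f (π (k x)) = μ * f (π x) := fun x hx => by rw [hT x hx, hf T rfl]
  have e2 : ∀ j : ℕ, f (π ((k ^ j) u)) = μ ^ j := fun j => by
    induction j with
    | zero => exact hf1.trans (pow_zero _).symm
    | succ j ih => rw [pow_succ', pow_succ', MulAut.mul_apply, e1 _ (hU.pow j u hu), ih]
  have ho : orderOf μ = orderOf k := by
    refine orderOf_eq_orderOf_iff.2 fun j => ⟨fun e => ?_, fun e => by rw [← e2, e]; exact hf1⟩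
    rw [← e2, ← hf1, f.injective.eq_iff, hs.eq_iff (hU.pow j u hu) hu] at e
    exact h.free_mod hlt hW huW e
  obtain ⟨n, hn, hq⟩ := h.exists_card
  have hq1 : orderOf k + 1 = 2 ^ n := by
    rw [h.orderOf_eq, hq, Nat.sub_add_cancel Nat.one_le_two_pow]
  have hμ : μ ^ 2 ^ n = μ := by rw [← hq1, ← ho, pow_succ, pow_orderOf_eq_one, one_mul]
  let S : AddSubgroup E :=
    { carrier := {v | f v ^ 2 ^ n = f v}
      zero_mem' := by simp
      add_mem' := fun {a b} ha hb => by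
        simp only [Set.mem_ofPred_eq, map_add, add_pow_char_pow] at *
        rw [ha, hb]
      neg_mem' := fun {a} ha => by simpa only [Set.mem_ofPred_eq, map_neg, CharTwo.neg_eq] using ha }
  have hS : ∀ x : F, x ^ 2 ^ n = x := fun x => by
    rcases hirr' (AddSubgroup.toZModSubmodule 2 S) (by
      rintro _ rfl v (hv : f v ^ 2 ^ n = f v)
      show f (_) ^ 2 ^ n = f _
      rw [hf _ rfl, mul_pow, hμ, hv]) with e | e
    · have : π u ∈ AddSubgroup.toZModSubmodule 2 S := show f _ ^ _ = f _ by rw [hf1, one_pow]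
      rw [e] at this
      exact absurd ((hs.ker u hu).1 this) huW
    · have : f.symm x ∈ AddSubgroup.toZModSubmodule 2 S := e ▸ Submodule.mem_top
      simpa using (show f (f.symm x) ^ _ = f (f.symm x) from this)
  have : NeZero (orderOf μ) := ⟨by rw [ho]; exact (orderOf_pos k).ne'⟩
  have hg : ∀ x : F, x ≠ 0 → ∃ i < orderOf μ, μ ^ i = x := fun x hx =>
    (IsPrimitiveRoot.orderOf μ).eq_pow_of_pow_eq_one (by
      have := hS x
      rw [← hq1, pow_succ, ← ho] at this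
      exact (mul_eq_right₀ hx).1 this)
  have hc : Coord k U W (fun x => f (π x)) μ :=
    ⟨hlt.le, hU, fun x hx y hy => by rw [hs.add x hx y hy, map_add],
      fun x hx => by rw [map_eq_zero_iff f f.injective, hs.ker x hx],
      fun e => by
        obtain ⟨x, hx, e1⟩ := hs.surj (f.symm e)
        exact ⟨x, hx, by simp [e1]⟩, e1,
      (IsPrimitiveRoot.orderOf μ).ne_zero (NeZero.ne _),
      fun x hx => let ⟨i, _, e⟩ := hg x hx; ⟨i, e.symm⟩⟩
  refine ⟨F, inferInstance, inferInstance, h2, _, μ, le_antisymm ?_ ?_, hc⟩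
  · classical
    rw [hq, ← hq1, ← ho, Nat.card_eq_fintype_card, ← Finset.card_univ]
    have : (Finset.univ : Finset F) ⊆ insert 0 ((Finset.range (orderOf μ)).image (μ ^ ·)) :=
      fun x _ => by
        by_cases hx : x = 0
        · simp [hx]
        · simpa [hx] using hg x hx
    refine (Finset.card_le_card this).trans ((Finset.card_insert_le _ _).trans ?_)
    simpa using Finset.card_image_le (s := Finset.range (orderOf μ)) (f := (μ ^ ·))
  · rw [← hc.relIndex_eq]; exact h.le_relIndex hlt hU hW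

theorem exists_coord [Finite F] (hF : Nat.card F = Nat.card (Om P)) (hlt : W < U) (hU : Inv k U)
    (hW : Inv k W) (hsq : ∀ x ∈ U, x * x ∈ W)
    (hirr : ∀ X, Inv k X → W ≤ X → X ≤ U → X = W ∨ X = U) :
    ∃ (c : P → F) (m : F), Coord k U W c m := by
  obtain ⟨F', _, _, _, c, m, hF', hc⟩ := h.exists_coord' hlt hU hW hsq hirr
  have := Fintype.ofFinite F
  let σ : F' ≃+* F := FiniteField.ringEquivOfCardEq (by
    rw [← Nat.card_eq_fintype_card, ← Nat.card_eq_fintype_card, hF, hF'])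
  refine ⟨fun x => σ (c x), σ m, hc.le, hc.inv, fun x hx y hy => by rw [hc.add x hx y hy, map_add],
    fun x hx => by rw [map_eq_zero, hc.ker x hx], fun e => ?_,
    fun x hx => by rw [hc.equi x hx, map_mul], by simpa using hc.gen.1, fun x hx => ?_⟩
  · obtain ⟨x, hx, e1⟩ := hc.surj (σ.symm e)
    exact ⟨x, hx, by simp [e1]⟩
  · obtain ⟨j, hj⟩ := hc.gen.2 (σ.symm x) (by simpa using hx)
    exact ⟨j, by rw [← map_pow, ← hj]; simp⟩

theorem exists_coord_Om : ∃ (F : Type) (_ : Field F) (_ : Fintype F) (_ : CharP F 2) (c : P → F)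
    (l : F), Nat.card F = Nat.card (Om P) ∧ Coord k (Om P) ⊥ c l :=
  h.exists_coord' (bot_lt_iff_ne_bot.2 h.Om_ne_bot) inv_Om inv_bot (fun _ hx => h.mem_Om.1 hx)
    fun _ hX _ h2 => (eq_or_ne _ _).imp id fun e => le_antisymm h2 (h.Om_le_of hX e)

theorem exists_sq_ne [Finite F] (hF : Nat.card F = Nat.card (Om P)) : ∃ x : F, x * x ≠ x := by
  by_contra hn
  push Not at hn
  have h4 := h.four_le
  have : (Set.univ : Set F) ⊆ {0, 1} := fun x _ => by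
    by_cases hx : x = 0
    · simp [hx]
    · simp [(mul_eq_left₀ hx).1 (hn x)]
  have h2 := (Set.ncard_le_ncard this).trans (Set.ncard_insert_le _ _)
  rw [Set.ncard_univ, Set.ncard_singleton] at h2
  omega

/-! ### invariant abelian subgroups -/

theorem mem_mho_of_sq (hA : Cm A) (hi : Inv k A) (h1 : Mho A ≠ ⊥) {a : P} (ha : a ∈ A)
    (h2 : a * a ∈ Mho (Mho A)) : a ∈ Mho A := by
  obtain ⟨b, hb, e⟩ := hA.mho.mem_mho.1 h2
  have : a * b⁻¹ ∈ Mho A := h.Om_le_of hi.mho h1 (h.mem_Om.2 (by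
    rw [mul_assoc, ← mul_assoc b⁻¹, hA _ (A.inv_mem (mho_le hb)) a ha, mul_assoc, ← mul_assoc, e]
    group))
  simpa using mul_mem this hb

theorem coord_sq (hA : Cm A) (hi : Inv k A) (hc : Coord k (Mho A) (Mho (Mho A)) c l) :
    Coord k A (Mho A) (fun a => c (a * a)) l where
  le := mho_le
  inv := hi
  add x hx y hy := by
    rw [← hc.add _ (sq_mem_mho hx) _ (sq_mem_mho hy), mul_assoc, mul_assoc, ← mul_assoc y x,
      ← mul_assoc x y, hA x hx y hy]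
  ker x hx := by
    obtain ⟨y, hy, hy'⟩ := hc.exists_notMem
    rw [hc.ker _ (sq_mem_mho hx)]
    exact ⟨h.mem_mho_of_sq hA hi (fun e => hy' (by rw [e] at hy; exact hy ▸ one_mem _)) hx,
      sq_mem_mho⟩
  surj e := by
    obtain ⟨x, hx, rfl⟩ := hc.surj e
    obtain ⟨a, ha, rfl⟩ := hA.mem_mho.1 hx
    exact ⟨a, ha, rfl⟩
  equi x hx := by rw [← map_mul, hc.equi _ (sq_mem_mho hx)]
  gen := hc.gen

theorem mho_lt (hA : Cm A) (h1 : A ≠ ⊥) : Mho A < A := by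
  refine lt_of_le_of_ne mho_le fun e => h1 (eq_bot_iff.2 fun x hx => ?_)
  have : ∀ i : ℕ, ∃ a ∈ A, x = a ^ 2 ^ i := fun i => by
    induction i with
    | zero => exact ⟨x, hx, by simp⟩
    | succ i ih =>
      obtain ⟨a, ha, rfl⟩ := ih
      obtain ⟨b, hb, rfl⟩ := hA.mem_mho.1 (e.ge ha)
      exact ⟨b, hb, by rw [← sq, ← pow_mul, pow_succ']⟩
  obtain ⟨n, hn⟩ := h.pg.exists_card_eq
  obtain ⟨a, -, rfl⟩ := this n
  rw [← hn, pow_card_eq_one']; exact one_mem _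

theorem exists_coord_ab (hZ : Coord k (Om P) ⊥ c l) (hA : Cm A) (hi : Inv k A) (h1 : A ≠ ⊥) :
    ∃ c' : P → F, Coord k A (Mho A) c' l := by
  induction A using WellFoundedLT.induction with | ind A ih =>
  by_cases h2 : Mho A = ⊥
  · rw [h2, h.eq_Om hi h1 h2]; exact ⟨c, hZ⟩
  · obtain ⟨c', hc'⟩ := ih _ (h.mho_lt hA h1) hA.mho hi.mho h2
    exact ⟨_, h.coord_sq hA hi hc'⟩

theorem relIndex_mho (hA : Cm A) (hi : Inv k A) (h1 : A ≠ ⊥) :
    (Mho A).relIndex A = Nat.card (Om P) := by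
  obtain ⟨F, _, _, _, c, l, hF, hZ⟩ := h.exists_coord_Om
  obtain ⟨c', hc'⟩ := h.exists_coord_ab hZ hA hi h1
  rw [hc'.relIndex_eq, hF]

theorem comm_mem_mho [A.Normal] (hA : Cm A) (hi : Inv k A) {a : P} (ha : a ∈ A) (g : P) :
    ⁅a, g⁆ ∈ Mho A := by
  by_cases h1 : A = ⊥
  · subst h1; simp [mem_bot.1 ha]
  rcases h.irr hi hi.mho (h.relIndex_mho hA hi h1) (hi.inf hi.mho.cmod) (le_inf mho_le le_cmod)
    inf_le_left with e | e
  · exact absurd e.le (exists_mem_cmod h.pg (h.mho_lt hA h1).not_ge)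
  · exact (e.ge ha).2.2 g

/-- Higman's Lemma 2 -/
theorem mem_of_sq (hA : Cm A) (hi : Inv k A) (h1 : A ≠ ⊥) {u : P} (hu : u * u ∈ Mho A)
    (hc : ∀ a ∈ A, ⁅a, u⁆ ∈ Mho (Mho A)) : u ∈ A := by
  have key : ∀ i : ℕ, ∃ b ∈ A, ∃ a ∈ A, b * u * (b * u) = a ^ (2 ^ i * 2) := fun i => by
    induction i with
    | zero =>
      obtain ⟨a, ha, e⟩ := hA.mem_mho.1 hu
      exact ⟨1, A.one_mem, a, ha, by simpa [sq] using e⟩
    | succ i ih =>
      obtain ⟨b, hb, a, ha, e⟩ := ih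
      obtain ⟨d', hd', e1⟩ := hA.mho.mem_mho.1 (hc a ha)
      obtain ⟨d, hd, rfl⟩ := hA.mem_mho.1 hd'
      refine ⟨a⁻¹ ^ 2 ^ i * b, A.mul_mem (A.pow_mem (A.inv_mem ha) _) hb, d, hd, ?_⟩
      have hm : a⁻¹ * d ^ 4 ∈ A := A.mul_mem (A.inv_mem ha) (A.pow_mem hd _)
      have e2 : b * u * a⁻¹ * (b * u)⁻¹ = a⁻¹ * d ^ 4 := by
        have : u * a⁻¹ * u⁻¹ = a⁻¹ * d ^ 4 := by
          rw [show d ^ 4 = d * d * (d * d) by simp only [pow_succ, pow_zero, one_mul, mul_assoc],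
            ← e1, commutatorElement_def]; group
        calc _ = b * (u * a⁻¹ * u⁻¹) * b⁻¹ := by group
          _ = _ := by rw [this, hA b hb _ hm, mul_inv_cancel_right]
      have c1 : Commute a⁻¹ (d ^ 4) := hA _ (A.inv_mem ha) _ (A.pow_mem hd _)
      calc _ = a⁻¹ ^ 2 ^ i * (b * u * a⁻¹ * (b * u)⁻¹) ^ 2 ^ i * (b * u * (b * u)) := by
            rw [conj_pow]; group
        _ = a⁻¹ ^ 2 ^ i * a⁻¹ ^ 2 ^ i * ((d ^ 4) ^ 2 ^ i * a ^ (2 ^ i * 2)) := by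
            rw [e2, e, c1.mul_pow]; group
        _ = _ := by
            rw [hA _ (A.pow_mem (A.pow_mem hd _) _) _ (A.pow_mem ha _)]; group
  obtain ⟨n, hn⟩ := h.pg.exists_card_eq
  obtain ⟨b, hb, a, -, e⟩ := key n
  rw [pow_mul, ← hn, pow_card_eq_one', one_pow] at e
  simpa using A.mul_mem (A.inv_mem hb) (h.Om_le_of hi h1 (h.mem_Om.2 e))

end Suz

end H4
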